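import Cfsg.Agent.Lib.OEightThree.RGroup

/-
Interfaces for the centralisers of the axes `c_i` in `C(t)`: the wanted inclusion `CentH`, the exceptional
configuration `NineData` (centraliser of an axis modulo it is the symmetric group of degree nine), and the data of
the possible extra subgroup in the centraliser of `t, c₁, c₂`.
-/

set_option autoImplicit false
set_option maxRecDepth 20000

namespace Cfsg.Agent.OEightThree

open Equiv

/-- The exchange of `c₁` and `c₂`. -/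
def fS (x : V4) : V4 := fB2 (fB2 (fU (fB2 x)))

theorem fS_facts : (∀ x : V4, fS x = ![x 0, x 2, x 1, x 3]) ∧ fS av = av ∧ (∀ x : V4, fS (fT x) = fT (fS x)) ∧
    (∀ x : V4, fS (fS x) = x) ∧ (∀ x : V4, fS (fD x) = fD (fS x)) ∧
    (∀ x : V4, fS (sgC 2 x) = sgC 2 (fS x)) := by decide +kernel

/-- The vector of `e = c₁ c₂`. -/
def ev : V4 := ![0, 1, 1, 0]

/-- The three-cycle on `0, 1, 2`. -/
def cycA : Perm (Fin 9) := swap 0 1 * swap 1 2

/-- The three-cycle on `3, 4, 5`. -/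
def cycB : Perm (Fin 9) := swap 3 4 * swap 4 5

/-- The three-cycle on `6, 7, 8`. -/
def cycC : Perm (Fin 9) := swap 6 7 * swap 7 8

namespace FrameData

variable {G : Type*} [Group G] [Finite G] (F : FrameData G)

theorem exists_D_exchange (h2 : F.HasTwo) : ∃ d, F.InD d ∧ d * d = 1 ∧ F.Act d fS := by
  obtain ⟨u, hu, -, hua⟩ := F.exists_D_swap h2
  obtain ⟨c, hc, hc3, hca⟩ := F.exists_D_cycle
  have hd := F.inD_mul hc (F.inD_mul hc (F.inD_mul hu hc))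
  have ha : F.Act (c * (c * (u * c))) fS := fun x => F.act_mul hca (F.act_mul hca (F.act_mul hua hca)) x
  refine ⟨_, hd, F.inD_unique (F.inD_mul hd hd) F.inD_one (f := id) (fun x => ?_) F.act_one, ha⟩
  rw [F.act_mul ha ha x]; exact congrArg F.v (fS_facts.2.2.2.1 x)

/-- The centralisers of the axes in `C(t)` lie in the normaliser of `J`. -/
def CentH : Prop := ∀ (i : Fin 3) (g : G), Commute g F.U.t → Commute g (F.v (cv i)) → g ∈ F.N

/-- The exceptional centraliser of `c₁`. -/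
structure NineData where
  ψ : G → Perm (Fin 9)
  mul : ∀ g h, Commute g (F.v (cv 0)) → Commute h (F.v (cv 0)) → ψ (g * h) = ψ g * ψ h
  surj : ∀ p, ∃ g, Commute g (F.v (cv 0)) ∧ ψ g = p
  ker : ∀ g, Commute g (F.v (cv 0)) → (ψ g = 1 ↔ g ∈ Subgroup.zpowers (F.v (cv 0)))
  ψa : ψ (F.v av) = cycA
  ψb : ψ (F.v (cv 1)) = cycB
  ψc : ψ (F.v (cv 2)) = cycC
  ψt : ψ F.U.t = swap 0 1

/-- A possible extra subgroup in the centraliser of `t, c₁, c₂`. -/
structure RcData where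
  Rc : Subgroup G
  card : Nat.card Rc = 2 ∨ (Nat.card Rc = 8 ∧ F.HasTwo)
  t_mem : F.U.t ∈ Rc
  comm : ∀ u ∈ Rc, Commute u F.U.t ∧ Commute u (F.v (cv 0)) ∧ Commute u (F.v (cv 1)) ∧
    u * u ∈ Subgroup.zpowers F.U.t
  c3 : ∀ u ∈ Rc, F.v (cv 2) * u * (F.v (cv 2))⁻¹ ∈ Rc ∧
    u * (F.v (cv 2) * u * (F.v (cv 2))⁻¹) * (F.v (cv 2) ^ 2 * u * (F.v (cv 2) ^ 2)⁻¹) ∈ Subgroup.zpowers F.U.t
  sgn : ∀ d, F.InD d → F.Act d (sgC 2) → ∀ u ∈ Rc, d * u * d⁻¹ ∈ Rc
  exch : ∀ d, F.InD d → F.Act d fS → ∀ u ∈ Rc, d * u * d⁻¹ ∈ Rc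
  cent : ∀ g, Commute g F.U.t → Commute g (F.v (cv 0)) → Commute g (F.v (cv 1)) →
    ∃ u ∈ Rc, ∃ (x : V4) (d : G) (k : Fin 2), x 0 = 0 ∧ F.InD d ∧ F.Act d ((sgC 2)^[k.val]) ∧
      ∃ n : ℕ, g = u * (F.v x * (d * F.U.t ^ n))

end FrameData

end Cfsg.Agent.OEightThree
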