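import Cfsg.Agent.Lib.OEightThree.Fused

/-
A symplectic basis `a₁, b₁, a₂, b₂` of `Q` adapted to an element `s` of order three commuting with `t`,
with `y = a₁ a₂` the centre of the second extraspecial group.
-/

set_option autoImplicit false
set_option maxRecDepth 10000

namespace Cfsg.Agent.OEightThree

open scoped commutatorElement

variable {G : Type*} [Group G] [Finite G]

/-- The basis. -/
structure Base (G : Type*) [Group G] [Finite G] where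
  U : Setup G
  L : Link U
  s : G
  s_C : U.InC s
  s_t : Commute s U.t
  s_eps : U.ε s = 1
  s_pi : U.π s = U.π L.d
  s_cube : (U.π s) ^ 3 = 1
  s_d : ∀ x ∈ U.Q, ⁅x, s⁆⁻¹ * ⁅x, L.d⁆ ∈ U.Zs
  a1 : G
  b1 : G
  a2 : G
  b2 : G
  p1 : U.IsPair U.Q1 s a1 b1
  a2_mem : a2 ∈ U.Q2
  b2_mem : b2 ∈ U.Q2
  step2 : ⁅b2, s⁆ * a2 ∈ U.Zs
  fixed2 : ⁅a2, s⁆ ∈ U.Zs
  f1 : U.f b1 a1 = 1
  f2 : U.f b2 a2 = 1
  y_eq : a1 * a2 ∈ L.V.Zs
  y_not : a1 * a2 ∉ U.Zs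

namespace Setup

variable (U : Setup G)

/-- The same setup with `z` inverted. -/
def neg : Setup G :=
  { U with
    z := U.z⁻¹
    z_ne := inv_ne_one.2 U.z_ne
    z_mem := inv_mem U.z_mem
    centre := fun q hq h => by rw [Subgroup.zpowers_inv]; exact U.centre q hq h
    z_comm := fun q hq => (Commute.inv_right (U.z_comm q hq : Commute q U.z)).eq
    comm := fun q hq r hr => by rw [Subgroup.zpowers_inv]; exact U.comm q hq r hr
    normal := fun g hg => U.normal g (by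
      have h : Commute g U.z⁻¹ := hg
      exact Commute.inv_right_iff.1 h)
    π_mul := fun g h hg hh => U.π_mul g h (Commute.inv_right_iff.1 (hg : Commute g U.z⁻¹))
      (Commute.inv_right_iff.1 (hh : Commute h U.z⁻¹))
    ε_mul := fun g h hg hh => U.ε_mul g h (Commute.inv_right_iff.1 (hg : Commute g U.z⁻¹))
      (Commute.inv_right_iff.1 (hh : Commute h U.z⁻¹))
    ker := fun g hg => U.ker g (Commute.inv_right_iff.1 (hg : Commute g U.z⁻¹))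
    surj := fun A => by
      obtain ⟨g, hg, h⟩ := U.surj A
      exact ⟨g, (Commute.inv_right (hg : Commute g U.z)).eq, h⟩
    fused := by
      obtain ⟨x, hx, hx'⟩ := U.fused
      refine ⟨x, ?_, fun h => hx' ?_⟩
      · rw [← conj_inv]; exact inv_mem hx
      · rw [← conj_inv, Subgroup.zpowers_inv, inv_mem_iff] at h; exact h
    t_C := (Commute.inv_right (U.t_C : Commute U.t U.z)).eq }

theorem neg_Zs : U.neg.Zs = U.Zs := Subgroup.zpowers_inv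

theorem neg_inC {g : G} : U.neg.InC g ↔ U.InC g :=
  show Commute g U.z⁻¹ ↔ Commute g U.z from Commute.inv_right_iff

theorem neg_f {a b : G} (ha : a ∈ U.Q) (hb : b ∈ U.Q) : U.neg.f a b = -U.f a b := by
  refine U.neg.f_eq ha hb ?_
  rw [U.f_spec ha hb]
  show U.z ^ (U.f a b).val = (U.z⁻¹) ^ (-U.f a b).val
  rw [inv_pow, eq_inv_iff_mul_eq_one, ← pow_add, U.zpow_mod]
  simp

theorem exists_coord {W : Subgroup G} (hW : W ≤ U.Q) (h27 : Nat.card W = 27) (hZW : U.Zs ≤ W)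
    (hna : ∀ a ∈ W, (∀ r ∈ W, U.f a r = 0) → a ∈ U.Zs) {a b : G} (ha : a ∈ W) (hb : b ∈ W)
    (hne : U.f b a ≠ 0) {x : G} (hx : x ∈ W) : ∃ i j : ℕ, (a ^ i * b ^ j)⁻¹ * x ∈ U.Zs := by
  set i := (U.f b x) * (U.f b a) with hi
  have hx' : (a ^ i.val)⁻¹ * x ∈ W := mul_mem (inv_mem (pow_mem ha _)) hx
  have h0 : U.f b ((a ^ i.val)⁻¹ * x) = 0 := by
    rw [U.f_mul_right (hW hb) (inv_mem (pow_mem (hW ha) _)) (hW hx), U.f_inv_right (hW hb) (pow_mem (hW ha) _),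
      U.f_pow_right (hW hb) (hW ha), ZMod.natCast_zmod_val, hi]
    exact (show ∀ u v : ZMod 3, v ≠ 0 → -(u * v * v) + u = 0 by decide) _ _ hne
  have hbz : b ∉ U.Zs := fun h => hne (U.f_Zs_left h (hW ha))
  obtain ⟨j, hj⟩ := U.centralizer_in_factor hW h27 hZW hna hb hbz hx' h0
  exact ⟨i.val, j, by rwa [mul_inv_rev, mul_assoc]⟩

theorem f_expand {W : Subgroup G} (hW : W ≤ U.Q) (h27 : Nat.card W = 27) (hZW : U.Zs ≤ W)
    (hna : ∀ a ∈ W, (∀ r ∈ W, U.f a r = 0) → a ∈ U.Zs) {a b : G} (ha : a ∈ W) (hb : b ∈ W)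
    (hne : U.f b a ≠ 0) {u v : G} (hu : u ∈ W) (hv : v ∈ U.Q) :
    U.f u v * U.f b a = U.f u a * U.f b v - U.f u b * U.f a v := by
  obtain ⟨i, j, h⟩ := U.exists_coord hW h27 hZW hna ha hb hne hu
  have haQ := hW ha
  have hbQ := hW hb
  have hp : a ^ i * b ^ j ∈ U.Q := mul_mem (pow_mem haQ i) (pow_mem hbQ j)
  have key : ∀ c ∈ U.Q, U.f u c = i * U.f a c + j * U.f b c := fun c hc => by
    rw [U.f_congr_left hp hc h, U.f_mul_left (pow_mem haQ i) (pow_mem hbQ j) hc, U.f_pow_left haQ hc,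
      U.f_pow_left hbQ hc]
  rw [key v hv, key a haQ, key b hbQ, U.f_self haQ, U.f_self hbQ, U.f_swap hbQ haQ]
  ring

/-- The pairing of `x` with `y` through two pairs. -/
theorem f_expand_Q {a1 b1 a2 b2 : G} (ha1 : a1 ∈ U.Q1) (hb1 : b1 ∈ U.Q1) (ha2 : a2 ∈ U.Q2) (hb2 : b2 ∈ U.Q2)
    (h1 : U.f b1 a1 ≠ 0) (h2 : U.f b2 a2 ≠ 0) {x v : G} (hx : x ∈ U.Q) (hv : v ∈ U.Q) :
    U.f x v = U.f b1 a1 * (U.f x a1 * U.f b1 v - U.f x b1 * U.f a1 v) +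
      U.f b2 a2 * (U.f x a2 * U.f b2 v - U.f x b2 * U.f a2 v) := by
  obtain ⟨u, hu, w, hw, rfl⟩ := U.exists_split hx
  obtain ⟨hQ1, c1, z1, n1⟩ := U.factor_Q1
  obtain ⟨hQ2, c2, z2, n2⟩ := U.factor_Q2
  have e1 := U.f_expand hQ1 c1 z1 n1 ha1 hb1 h1 hu hv
  have e2 := U.f_expand hQ2 c2 z2 n2 ha2 hb2 h2 hw hv
  have o : ∀ p ∈ U.Q1, ∀ q ∈ U.Q2, U.f p q = 0 ∧ U.f q p = 0 := fun p hp q hq => by
    have := (U.mem_Q1.1 hp).2 q hq
    exact ⟨this, by rw [U.f_swap hp.1 hq.1, this, neg_zero]⟩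
  rw [U.f_mul_left hu.1 hw.1 hv, U.f_mul_left hu.1 hw.1 ha1.1, U.f_mul_left hu.1 hw.1 hb1.1,
    U.f_mul_left hu.1 hw.1 ha2.1, U.f_mul_left hu.1 hw.1 hb2.1, (o a1 ha1 w hw).2, (o b1 hb1 w hw).2,
    (o u hu a2 ha2).1, (o u hu b2 hb2).1, add_zero, add_zero, zero_add, zero_add, ← e1, ← e2]
  exact (show ∀ p q c d : ZMod 3, c ≠ 0 → d ≠ 0 → p + q = c * (p * c) + d * (q * d) by decide) _ _ _ _ h1 h2

theorem mem_Zs_of_four {a1 b1 a2 b2 : G} (ha1 : a1 ∈ U.Q1) (hb1 : b1 ∈ U.Q1) (ha2 : a2 ∈ U.Q2) (hb2 : b2 ∈ U.Q2)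
    (h1 : U.f b1 a1 ≠ 0) (h2 : U.f b2 a2 ≠ 0) {x : G} (hx : x ∈ U.Q)
    (e1 : U.f x a1 = 0) (e2 : U.f x b1 = 0) (e3 : U.f x a2 = 0) (e4 : U.f x b2 = 0) : x ∈ U.Zs :=
  U.mem_Zs_of_f hx fun v hv => by
    rw [U.f_expand_Q ha1 hb1 ha2 hb2 h1 h2 hx hv, e1, e2, e3, e4]
    ring

theorem f_comm_right {s x y c : G} (hs : U.InC s) (hc : c ∈ U.Q) (hx : x ∈ U.Q) (hy : y ∈ U.Q) :
    U.f c ⁅x * y, s⁆ = U.f c ⁅x, s⁆ + U.f c ⁅y, s⁆ := by
  rw [← U.f_mul_right hc (U.commutator_mem hs hx) (U.commutator_mem hs hy)]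
  exact U.f_congr_right hc (mul_mem (U.commutator_mem hs hx) (U.commutator_mem hs hy))
    (U.commutator_mul_mod hs hx hy)

end Setup

set_option synthInstance.maxSize 4000 in
theorem final_dets : ∀ u1 u2 c1 c2 W1 W2 : ZMod 3, c1 ≠ 0 → c2 ≠ 0 → (u1 ≠ 0 ∨ u2 ≠ 0) →
    (u1 = 0 → W2 = 0) → (W1 ≠ 0 ∨ W2 ≠ 0) →
    c1 * (W1 * u1) + c2 * (W2 * u2) = 0 →
    c1 * (W1 * (u2 * c1)) + c2 * (W2 * (-u1 * c2)) = 0 → u1 ≠ 0 ∧ u2 ≠ 0 ∧ c2 = -c1 := by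
  decide +kernel

/-- From a pair of links to the basis, with a normalised generator. -/
theorem exists_base_aux (U : Setup G) (L : Link U) (s : G) (hsC : U.InC s) (hst : Commute s U.t)
    (hε : U.ε s = 1) (hπ : U.π s = U.π L.d) (h3 : (U.π s) ^ 3 = 1) (hπ1 : U.π s ≠ 1)
    (hsd : ∀ x ∈ U.Q, ⁅x, s⁆⁻¹ * ⁅x, L.d⁆ ∈ U.Zs) (a1 b1 : G) (p1 : U.IsPair U.Q1 s a1 b1)
    (hc : U.f b1 a1 = 1) : Nonempty (Base G) := by
  have hs3 : s ^ 3 ∈ U.Q := by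
    rw [← U.ker _ (U.inC_pow hsC 3), U.π_pow hsC, U.ε_pow hsC, h3, hε, one_pow]
    exact ⟨rfl, rfl⟩
  obtain ⟨hQ1, c1, z1, n1⟩ := U.factor_Q1
  obtain ⟨hQ2, c2, z2, n2⟩ := U.factor_Q2
  have o : ∀ p ∈ U.Q1, ∀ q ∈ U.Q2, U.f p q = 0 ∧ U.f q p = 0 := fun p hp q hq => by
    have := (U.mem_Q1.1 hp).2 q hq
    exact ⟨this, by rw [U.f_swap hp.1 hq.1, this, neg_zero]⟩
  have hc0 : U.f b1 a1 ≠ 0 := by rw [hc]; decide
  have hs1 : ∀ u ∈ U.Q1, ⁅u, s⁆ ∈ U.Q1 := fun u hu => by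
    rw [show ⁅u, s⁆ = u * (s * u⁻¹ * s⁻¹) by simp only [commutatorElement_def]; group]
    exact mul_mem hu (U.Q1_normal hsC (inv_mem hu))
  have hs2 : ∀ u ∈ U.Q2, ⁅u, s⁆ ∈ U.Q2 := fun u hu => by
    rw [show ⁅u, s⁆ = u * (s * u⁻¹ * s⁻¹) by simp only [commutatorElement_def]; group]
    exact mul_mem hu (U.Q2_normal hsC (inv_mem hu))
  -- formulas on the whole of `Q`
  have F1 : ∀ x ∈ U.Q, U.f b1 ⁅x, s⁆ = U.f x a1 ∧ U.f a1 ⁅x, s⁆ = 0 := by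
    intro x hx
    obtain ⟨u, hu, v, hv, rfl⟩ := U.exists_split hx
    obtain ⟨k1, k2⟩ := U.pair_formula hQ1 c1 z1 n1 hsC p1 hu
    rw [U.f_comm_right hsC p1.mem_b.1 hu.1 hv.1, U.f_comm_right hsC p1.mem_a.1 hu.1 hv.1,
      U.f_mul_left hu.1 hv.1 p1.mem_a.1, k1, k2, (o _ p1.mem_b _ (hs2 v hv)).1, (o _ p1.mem_a _ (hs2 v hv)).1,
      (o _ p1.mem_a _ hv).2]
    simp
  -- the conjugate `y`
  set y := L.V.z with hy
  have hyd : ∀ u ∈ U.Q ⊓ L.V.Q, ⁅u, L.d⁆ ∈ L.V.Zs := fun u hu => L.V.comm u hu.2 _ L.d_mem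
  obtain ⟨w, hw, hwd⟩ : ∃ w ∈ U.Q ⊓ L.V.Q, ⁅w, L.d⁆ ≠ 1 := by
    by_contra h
    push Not at h
    -- the centraliser of `z` in the second group would be abelian
    set P := (U.Q ⊓ L.V.Q) ⊔ Subgroup.zpowers L.d
    have hP : P ≤ L.V.Q := sup_le inf_le_right (Subgroup.zpowers_le.2 L.d_mem)
    have hcl : ((U.Q ⊓ L.V.Q : Subgroup G) : Set G) ∪ {L.d} ⊆ P := by
      rintro u (hu | rfl)
      exacts [Subgroup.mem_sup_left hu, Subgroup.mem_sup_right (Subgroup.mem_zpowers _)]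
    have hPc : P ≤ Subgroup.centralizer (P : Set G) := by
      have heq : P = Subgroup.closure (((U.Q ⊓ L.V.Q : Subgroup G) : Set G) ∪ {L.d}) := by
        rw [Subgroup.closure_union, Subgroup.closure_eq, ← Subgroup.zpowers_eq_closure]
      rw [heq, Subgroup.centralizer_closure]
      refine (Subgroup.closure_le _).2 ?_
      rintro u hu
      rw [SetLike.mem_coe, Subgroup.mem_centralizer_iff]
      rintro v hv
      rcases hu with hu | rfl <;> rcases hv with hv | rfl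
      · exact L.inter_comm v hv u hu
      · exact (commutatorElement_eq_one_iff_mul_comm.1 (h u hu)).symm
      · exact commutatorElement_eq_one_iff_mul_comm.1 (h v hv)
      · rfl
    have hle := L.V.card_abelian hP fun u hu v hv => (Subgroup.mem_centralizer_iff.1 (hPc hu) v hv).symm
    have hd : L.d ∉ U.Q ⊓ L.V.Q := fun hd => L.d_π ((U.ker _ L.d_C).2 hd.1).1
    have hlt : U.Q ⊓ L.V.Q < P := lt_of_le_not_ge le_sup_left fun h' =>
      hd (h' (Subgroup.mem_sup_right (Subgroup.mem_zpowers _)))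
    have hne := fun he => hlt.ne (Subgroup.eq_of_le_of_card_ge hlt.le he)
    rw [L.inter_card] at hne
    exact hne hle
  -- pairings with `[x,s]` and `[x,d]` agree
  have hfd : ∀ c ∈ U.Q, ∀ x ∈ U.Q, U.f c ⁅x, L.d⁆ = U.f c ⁅x, s⁆ := fun c hc x hx =>
    U.f_congr_right hc (U.commutator_mem hsC hx) (hsd x hx)
  obtain ⟨k, hk⟩ := L.V.exists_exp (hyd w hw)
  have hk0 : k ≠ 0 := fun h0 => hwd (by rw [hk, h0]; simp)
  have hyk : ∀ c ∈ U.Q, U.f c ⁅w, s⁆ = k * U.f c y := fun c hc => by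
    rw [← hfd c hc w hw.1, hk, U.f_pow_right hc L.y_mem, ZMod.natCast_zmod_val]
  have hzy : (⁅w, L.d⁆ : G) ∉ U.Zs := by
    intro h
    rw [hk] at h
    apply L.y_not
    rcases zmod3_val _ hk0 with e | e <;> rw [e] at h
    · simpa using h
    · have h3 := L.V.exp _ L.V.z_mem
      have := pow_mem h 2
      rwa [← pow_mul, show 2 * 2 = 3 + 1 by norm_num, pow_add, h3, one_mul, pow_one] at this
  have hv1 : U.f a1 y = 0 := by
    have h := hyk a1 p1.mem_a.1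
    rw [(F1 w hw.1).2] at h
    exact (mul_eq_zero.1 h.symm).resolve_left hk0
  -- `s` is a transvection on the second factor
  rcases U.exists_pair_or_triv hQ2 c2 z2 n2 hsC hs3 (fun x hx => U.Q2_normal hsC hx) with htriv | ⟨a2, b2, p2⟩
  · exfalso
    have F2 : ∀ r ∈ U.Q2, ∀ x ∈ U.Q, U.f r ⁅x, s⁆ = 0 := by
      intro r hr x hx
      obtain ⟨u, hu, v, hv, rfl⟩ := U.exists_split hx
      rw [U.f_comm_right hsC hr.1 hu.1 hv.1, (o _ (hs1 u hu) r hr).2, U.f_Zs_right hr.1 (htriv v hv), add_zero]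
    have hv2 : ∀ r ∈ U.Q2, U.f r y = 0 := fun r hr => by
      have h := hyk r hr.1
      rw [F2 r hr w hw.1] at h
      exact (mul_eq_zero.1 h.symm).resolve_left hk0
    obtain ⟨u, hu, v, hv, hwuv⟩ := U.exists_split hw.1
    have e := U.f_expand hQ1 c1 z1 n1 p1.mem_a p1.mem_b hc0 hu L.y_mem
    have h0 : U.f w y = 0 := (U.f_zero hw.1 L.y_mem).2 (L.V.z_comm w hw.2)
    rw [hwuv, U.f_mul_left hu.1 hv.1 L.y_mem, hv2 v hv, add_zero] at h0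
    rw [h0, hv1, hc] at e
    have hb1y : U.f b1 y ≠ 0 := by
      intro hb
      refine L.y_not (U.mem_Zs_of_f L.y_mem fun q hq => ?_)
      obtain ⟨p, hp, r, hr, rfl⟩ := U.exists_split hq
      rw [U.f_swap (mul_mem hp.1 hr.1) L.y_mem, U.f_mul_left hp.1 hr.1 L.y_mem, hv2 r hr, add_zero]
      have e' := U.f_expand hQ1 c1 z1 n1 p1.mem_a p1.mem_b hc0 hp L.y_mem
      rw [hb, hv1, hc] at e'
      simpa using e'
    have hua : U.f u a1 = 0 := by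
      simp only [mul_zero, sub_zero, zero_mul] at e
      exact (mul_eq_zero.1 e.symm).resolve_right hb1y
    have h1 := (F1 w hw.1).1
    rw [hyk b1 p1.mem_b.1, hwuv, U.f_mul_left hu.1 hv.1 p1.mem_a.1, hua, (o _ p1.mem_a _ hv).2, add_zero] at h1
    exact (mul_ne_zero hk0 hb1y) h1
  -- both factors
  have F2 : ∀ x ∈ U.Q, U.f b2 ⁅x, s⁆ = U.f x a2 ∧ U.f a2 ⁅x, s⁆ = 0 := by
    intro x hx
    obtain ⟨u, hu, v, hv, rfl⟩ := U.exists_split hx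
    obtain ⟨k1, k2⟩ := U.pair_formula hQ2 c2 z2 n2 hsC p2 hv
    rw [U.f_comm_right hsC p2.mem_b.1 hu.1 hv.1, U.f_comm_right hsC p2.mem_a.1 hu.1 hv.1,
      U.f_mul_left hu.1 hv.1 p2.mem_a.1, k1, k2, (o _ (hs1 u hu) _ p2.mem_b).2, (o _ (hs1 u hu) _ p2.mem_a).2,
      (o _ hu _ p2.mem_a).1]
    simp
  have hv2 : U.f a2 y = 0 := by
    have h := hyk a2 p2.mem_a.1
    rw [(F2 w hw.1).2] at h
    exact (mul_eq_zero.1 h.symm).resolve_left hk0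
  set u1 := U.f b1 y with hu1
  set u2 := U.f b2 y with hu2
  set C1 := U.f b1 a1 with hC1
  set C2 := U.f b2 a2 with hC2
  set W1 := U.f w a1 with hW1
  set W2 := U.f w a2 with hW2
  have exp := fun {x v : G} (hx : x ∈ U.Q) (hv : v ∈ U.Q) =>
    U.f_expand_Q p1.mem_a p1.mem_b p2.mem_a p2.mem_b hc0 p2.ne hx hv
  have hu12 : u1 ≠ 0 ∨ u2 ≠ 0 := by
    by_contra h
    push Not at h
    refine L.y_not (U.mem_Zs_of_f L.y_mem fun q hq => ?_)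
    rw [U.f_swap hq L.y_mem, exp hq L.y_mem, ← hu1, ← hu2, h.1, h.2, hv1, hv2]
    ring
  have hW1k : W1 = k * u1 := by rw [hW1, ← (F1 w hw.1).1, hyk b1 p1.mem_b.1]
  have hW2k : W2 = k * u2 := by rw [hW2, ← (F2 w hw.1).1, hyk b2 p2.mem_b.1]
  have hW12 : W1 ≠ 0 ∨ W2 ≠ 0 := hu12.imp (fun h => by rw [hW1k]; exact mul_ne_zero hk0 h)
    (fun h => by rw [hW2k]; exact mul_ne_zero hk0 h)
  have hwy : C1 * (W1 * u1) + C2 * (W2 * u2) = 0 := by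
    have h0 := (U.f_zero hw.1 L.y_mem).2 (L.V.z_comm w hw.2)
    rw [exp hw.1 L.y_mem, hv1, hv2] at h0
    simpa using h0
  have hwe : C1 * (W1 * (u2 * C1)) + C2 * (W2 * (-u1 * C2)) = 0 := by
    set x := b1 ^ u2.val * b2 ^ (-u1).val with hx
    have hxQ : x ∈ U.Q := mul_mem (pow_mem p1.mem_b.1 _) (pow_mem p2.mem_b.1 _)
    have hxy : U.f x y = 0 := by
      rw [hx, U.f_mul_left (pow_mem p1.mem_b.1 _) (pow_mem p2.mem_b.1 _) L.y_mem, U.f_pow_left p1.mem_b.1 L.y_mem,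
        U.f_pow_left p2.mem_b.1 L.y_mem, ZMod.natCast_zmod_val, ZMod.natCast_zmod_val, ← hu1, ← hu2]
      ring
    have hxC : L.V.InC x := (U.f_zero hxQ L.y_mem).1 hxy
    have heD : ⁅x, L.d⁆ ∈ U.Q ⊓ L.V.Q := by
      refine ⟨U.commutator_mem L.d_C hxQ, ?_⟩
      show ⁅x, L.d⁆ ∈ L.V.Q
      rw [commutatorElement_def]
      exact mul_mem (L.V.normal x hxC _ L.d_mem) (inv_mem L.d_mem)
    have hwe := (U.f_zero hw.1 heD.1).2 (L.inter_comm w hw _ heD)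
    have hxa1 : U.f x a1 = u2 * C1 := by
      rw [hx, U.f_mul_left (pow_mem p1.mem_b.1 _) (pow_mem p2.mem_b.1 _) p1.mem_a.1,
        U.f_pow_left p1.mem_b.1 p1.mem_a.1, U.f_pow_left p2.mem_b.1 p1.mem_a.1, (o _ p1.mem_a _ p2.mem_b).2,
        ZMod.natCast_zmod_val, ← hC1]
      ring
    have hxa2 : U.f x a2 = -u1 * C2 := by
      rw [hx, U.f_mul_left (pow_mem p1.mem_b.1 _) (pow_mem p2.mem_b.1 _) p2.mem_a.1,
        U.f_pow_left p1.mem_b.1 p2.mem_a.1, U.f_pow_left p2.mem_b.1 p2.mem_a.1, (o _ p1.mem_b _ p2.mem_a).1,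
        ZMod.natCast_zmod_val, ZMod.natCast_zmod_val, ← hC2]
      ring
    rw [hfd w hw.1 x hxQ, exp hw.1 (U.commutator_mem hsC hxQ), (F1 x hxQ).1, (F1 x hxQ).2, (F2 x hxQ).1,
      (F2 x hxQ).2, hxa1, hxa2] at hwe
    simpa using hwe
  obtain ⟨h1n, h2n, hsign⟩ := final_dets u1 u2 C1 C2 W1 W2 hc0 p2.ne hu12
    (fun h => by
      have hW10 : W1 = 0 := by rw [hW1k, h, mul_zero]
      by_contra hne
      have hu2' : u2 ≠ 0 := hu12.resolve_left fun h' => h' h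
      rw [hW10, zero_mul, mul_zero, zero_add] at hwy
      exact (mul_ne_zero p2.ne (mul_ne_zero hne hu2')) hwy) hW12 hwy hwe
  -- normalise the second pair
  obtain ⟨b, hb, hbstep, hbf⟩ : ∃ b, (b = b2 ∨ b = b2⁻¹) ∧ (∃ a, (a = a2⁻¹ ∨ a = a2) ∧
      ⁅b, s⁆ * a ∈ U.Zs ∧ U.f b a = 1 ∧ U.f b y = u1) ∧ True := by
    have hstep' : ⁅b2, s⁆ * a2⁻¹ ∈ U.Zs := by
      have := U.Zs_central (inv_mem p2.step) p2.mem_a.1
      rw [show ⁅b2, s⁆ * a2⁻¹ = a2 * ((⁅b2, s⁆⁻¹ * a2)⁻¹) * a2⁻¹ by group, this]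
      rw [mul_inv_cancel_right]
      exact inv_mem p2.step
    have hCval : -C2 = 1 := by rw [hsign, hc, neg_neg]
    rcases (show ∀ u v : ZMod 3, u ≠ 0 → v ≠ 0 → v = u ∨ v = -u by decide) u1 u2 h1n h2n with e | e
    · refine ⟨b2, Or.inl rfl, ⟨a2⁻¹, Or.inl rfl, hstep', ?_, e⟩, trivial⟩
      rw [U.f_inv_right p2.mem_b.1 p2.mem_a.1]
      exact hCval
    · refine ⟨b2⁻¹, Or.inr rfl, ⟨a2, Or.inr rfl, ?_, ?_, ?_⟩, trivial⟩
      · have h := U.commutator_mul_mod hsC (inv_mem p2.mem_b.1) p2.mem_b.1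
        rw [inv_mul_cancel, commutatorElement_one_left, mul_one, mul_inv_rev] at h
        rw [show ⁅b2⁻¹, s⁆ * a2 = (⁅b2, s⁆⁻¹ * ⁅b2⁻¹, s⁆⁻¹)⁻¹ * (⁅b2, s⁆⁻¹ * a2) by group]
        exact mul_mem (inv_mem h) p2.step
      · rw [U.f_inv_left p2.mem_b.1 p2.mem_a.1]
        exact hCval
      · rw [U.f_inv_left p2.mem_b.1 L.y_mem, ← hu2, e, neg_neg]
  obtain ⟨a, ha, hstep, hfa, hfy⟩ := hbstep
  have haQ2 : a ∈ U.Q2 := by rcases ha with rfl | rfl; exacts [inv_mem p2.mem_a, p2.mem_a]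
  have hbQ2 : b ∈ U.Q2 := by rcases hb with rfl | rfl; exacts [p2.mem_b, inv_mem p2.mem_b]
  have hay : U.f a y = 0 := by
    rcases ha with rfl | rfl
    · rw [U.f_inv_left p2.mem_a.1 L.y_mem, hv2, neg_zero]
    · exact hv2
  have hfix : ⁅a, s⁆ ∈ U.Zs := by
    rcases ha with rfl | rfl
    · have h := U.commutator_mul_mod hsC (inv_mem p2.mem_a.1) p2.mem_a.1
      rw [inv_mul_cancel, commutatorElement_one_left, mul_one, mul_inv_rev] at h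
      have h' := inv_mem (mul_mem p2.fixed h)
      rwa [mul_inv_cancel_left, inv_inv] at h'
    · exact p2.fixed
  -- the exact second element
  set y0 := y ^ u1.val with hy0
  set a' := a1⁻¹ * y0 with ha'
  have hy0Q : y0 ∈ U.Q := pow_mem L.y_mem _
  have ha'Q : a' ∈ U.Q := mul_mem (inv_mem p1.mem_a.1) hy0Q
  have hz : a⁻¹ * a' ∈ U.Zs := by
    refine U.mem_Zs_of_four p1.mem_a p1.mem_b haQ2 hbQ2 hc0 (by rw [hfa]; decide)
      (mul_mem (inv_mem haQ2.1) ha'Q) ?_ ?_ ?_ ?_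
    all_goals
      first | rw [U.f_swap p1.mem_a.1 (mul_mem (inv_mem haQ2.1) ha'Q)] | skip
      first | rw [U.f_swap p1.mem_b.1 (mul_mem (inv_mem haQ2.1) ha'Q)] | skip
      first | rw [U.f_swap haQ2.1 (mul_mem (inv_mem haQ2.1) ha'Q)] | skip
      first | rw [U.f_swap hbQ2.1 (mul_mem (inv_mem haQ2.1) ha'Q)] | skip
    · rw [U.f_mul_right p1.mem_a.1 (inv_mem haQ2.1) ha'Q, ha', U.f_mul_right p1.mem_a.1 (inv_mem p1.mem_a.1) hy0Q,
        U.f_inv_right p1.mem_a.1 haQ2.1, U.f_inv_right p1.mem_a.1 p1.mem_a.1, hy0,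
        U.f_pow_right p1.mem_a.1 L.y_mem, hv1, (o _ p1.mem_a _ haQ2).1, U.f_self p1.mem_a.1]
      simp
    · rw [U.f_mul_right p1.mem_b.1 (inv_mem haQ2.1) ha'Q, ha', U.f_mul_right p1.mem_b.1 (inv_mem p1.mem_a.1) hy0Q,
        U.f_inv_right p1.mem_b.1 haQ2.1, U.f_inv_right p1.mem_b.1 p1.mem_a.1, hy0,
        U.f_pow_right p1.mem_b.1 L.y_mem, (o _ p1.mem_b _ haQ2).1, ← hu1, ← hC1, hc, ZMod.natCast_zmod_val]
      exact (show ∀ u : ZMod 3, u ≠ 0 → -(-0 + (-1 + u * u)) = 0 by decide) _ h1n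
    · rw [U.f_mul_right haQ2.1 (inv_mem haQ2.1) ha'Q, ha', U.f_mul_right haQ2.1 (inv_mem p1.mem_a.1) hy0Q,
        U.f_inv_right haQ2.1 haQ2.1, U.f_inv_right haQ2.1 p1.mem_a.1, hy0,
        U.f_pow_right haQ2.1 L.y_mem, hay, (o _ p1.mem_a _ haQ2).2, U.f_self haQ2.1]
      simp
    · rw [U.f_mul_right hbQ2.1 (inv_mem haQ2.1) ha'Q, ha', U.f_mul_right hbQ2.1 (inv_mem p1.mem_a.1) hy0Q,
        U.f_inv_right hbQ2.1 haQ2.1, U.f_inv_right hbQ2.1 p1.mem_a.1, hy0,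
        U.f_pow_right hbQ2.1 L.y_mem, hfy, (o _ p1.mem_a _ hbQ2).2, hfa, ZMod.natCast_zmod_val]
      exact (show ∀ u : ZMod 3, u ≠ 0 → -(-1 + (-0 + u * u)) = 0 by decide) _ h1n
  have ha'2 : a' ∈ U.Q2 := by
    have := mul_mem haQ2 (U.Zs_le_Q2 hz)
    rwa [mul_inv_cancel_left] at this
  have hfix' : ⁅a', s⁆ ∈ U.Zs := by
    have h := U.Zs_C hz hsC
    have e : ⁅a', s⁆ = ⁅a, s⁆ := by
      rw [show a' = a * (a⁻¹ * a') by group]
      simp only [commutatorElement_def]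
      calc a * (a⁻¹ * a') * s * (a * (a⁻¹ * a'))⁻¹ * s⁻¹ = a * ((a⁻¹ * a') * s) * (a⁻¹ * a')⁻¹ * a⁻¹ * s⁻¹ := by group
        _ = _ := by rw [← h]; group
    rw [e]; exact hfix
  refine ⟨⟨U, L, s, hsC, hst, hε, hπ, h3, hsd, a1, b1, a', b, p1, ha'2, hbQ2, ?_, hfix', hc, ?_, ?_, ?_⟩⟩
  · have := mul_mem hstep hz
    rwa [mul_assoc, mul_inv_cancel_left] at this
  · rw [U.f_congr_right hbQ2.1 haQ2.1 hz, hfa]
  · rw [ha', mul_inv_cancel_left, hy0]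
    exact pow_mem (Subgroup.mem_zpowers _) _
  · rw [ha', mul_inv_cancel_left, hy0]
    intro h
    apply L.y_not
    rcases zmod3_val _ h1n with e | e <;> rw [e] at h
    · simpa using h
    · have h3' := L.V.exp _ L.V.z_mem
      have := pow_mem h 2
      rwa [← pow_mul, show 2 * 2 = 3 + 1 by norm_num, pow_add, h3', one_mul, pow_one] at this

theorem Setup.exists_base (U : Setup G) : Nonempty (Base G) := by
  obtain ⟨L⟩ := U.exists_link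
  obtain ⟨q, hq, hqt⟩ := U.exists_commute_t L.d_C
  have hqC := U.inC_Q hq
  set s := q * L.d with hs
  have hsC : U.InC s := U.inC_mul hqC L.d_C
  have hdε : U.ε L.d = 1 := U.eps_of_three (n := 1) L.d_C (by simpa using L.V.exp _ L.d_mem)
  have hπ : U.π s = U.π L.d := by rw [hs, U.π_mul _ _ hqC L.d_C, ((U.ker q hqC).2 hq).1, one_mul]
  have hε : U.ε s = 1 := by rw [hs, U.ε_mul _ _ hqC L.d_C, ((U.ker q hqC).2 hq).2, one_mul, hdε]
  have h3 : (U.π s) ^ 3 = 1 := by rw [hπ, ← U.π_pow L.d_C, L.V.exp _ L.d_mem, U.π_one]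
  have hsd : ∀ x ∈ U.Q, ⁅x, s⁆⁻¹ * ⁅x, L.d⁆ ∈ U.Zs := fun x hx => by
    have hxd := U.commutator_mem L.d_C hx
    have hc : (⁅x, q⁆ * ⁅q, ⁅x, L.d⁆⁆)⁻¹ ∈ U.Zs := inv_mem (mul_mem (U.comm x hx q hq) (U.comm q hq _ hxd))
    rw [hs, show ⁅x, q * L.d⁆ = ⁅x, q⁆ * ⁅q, ⁅x, L.d⁆⁆ * ⁅x, L.d⁆ by simp only [commutatorElement_def]; group,
      mul_inv_rev, U.Zs_central hc (inv_mem hxd), inv_mul_cancel_right]
    exact hc
  obtain ⟨a1, b1, p1⟩ := U.exists_pair_Q1 hsC hε h3 (hπ ▸ L.d_π)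
  rcases (show ∀ c : ZMod 3, c ≠ 0 → c = 1 ∨ c = -1 by decide) _ p1.ne with h | h
  · exact exists_base_aux U L s hsC hqt hε hπ h3 (hπ ▸ L.d_π) hsd a1 b1 p1 h
  · let L' : Link U.neg :=
      { V := L.V
        conj := by
          obtain ⟨x, hx | hx⟩ := L.conj
          · exact ⟨x, Or.inr (by show L.V.z = x * U.z⁻¹⁻¹ * x⁻¹; rw [inv_inv, hx])⟩
          · exact ⟨x, Or.inl hx⟩
        y_mem := L.y_mem
        y_not := by rw [U.neg_Zs]; exact L.y_not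
        z_mem' := inv_mem L.z_mem'
        z_not := fun h => L.z_not ((inv_mem_iff (x := U.z)).1 h)
        inter_comm := L.inter_comm
        inter_card := L.inter_card
        d := L.d
        d_mem := L.d_mem
        d_C := U.neg_inC.2 L.d_C
        d_π := L.d_π }
    refine exists_base_aux U.neg L' s (U.neg_inC.2 hsC) hqt hε hπ h3 (hπ ▸ L.d_π)
      (fun x hx => by rw [U.neg_Zs]; exact hsd x hx) a1 b1 ⟨p1.mem_a, p1.mem_b, ?_, ?_, ?_⟩ ?_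
    · rw [U.neg_Zs]; exact p1.step
    · rw [U.neg_Zs]; exact p1.fixed
    · rw [U.neg_f p1.mem_b.1 p1.mem_a.1]; exact neg_ne_zero.2 p1.ne
    · rw [U.neg_f p1.mem_b.1 p1.mem_a.1, h, neg_neg]

end Cfsg.Agent.OEightThree
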