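/-
Codes for the isometries of `x₀y₀ + x₁y₁ + x₂y₂ + x₃y₃` over `ZMod 3`.

A vector is a natural number with eight digits in base 64, a matrix a list of eight such rows.
Products reduce the digits modulo 3, so canonical codes have all digits below 3.
-/
import Mathlib
import Cfsg.Agent.EqLemmas
import Cfsg.Agent.Lib.Orth.Models

set_option autoImplicit false

namespace Cfsg.Agent.OEightThree

/-- A digit. -/
def dg (x j : ℕ) : ℕ := x / 64 ^ j % 64

/-- Eight digits. -/
def pack (a b c d e f g h : ℕ) : ℕ :=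
  a + 64 * (b + 64 * (c + 64 * (d + 64 * (e + 64 * (f + 64 * (g + 64 * h))))))

/-- The digits reduced modulo 3. -/
def norm (x : ℕ) : ℕ :=
  pack (dg x 0 % 3) (dg x 1 % 3) (dg x 2 % 3) (dg x 3 % 3) (dg x 4 % 3) (dg x 5 % 3) (dg x 6 % 3) (dg x 7 % 3)

/-- A row times a matrix. -/
def rowMul (r : ℕ) (b : List ℕ) : ℕ :=
  norm (dg r 0 * b.getD 0 0 + dg r 1 * b.getD 1 0 + dg r 2 * b.getD 2 0 + dg r 3 * b.getD 3 0 +
    dg r 4 * b.getD 4 0 + dg r 5 * b.getD 5 0 + dg r 6 * b.getD 6 0 + dg r 7 * b.getD 7 0)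

/-- A product of matrices. -/
def mul (a b : List ℕ) : List ℕ :=
  [rowMul (a.getD 0 0) b, rowMul (a.getD 1 0) b, rowMul (a.getD 2 0) b, rowMul (a.getD 3 0) b,
    rowMul (a.getD 4 0) b, rowMul (a.getD 5 0) b, rowMul (a.getD 6 0) b, rowMul (a.getD 7 0) b]

/-- The identity. -/
def one : List ℕ := [1, 64, 4096, 262144, 16777216, 1073741824, 68719476736, 4398046511104]

/-- Canonical codes. -/
def okMat (a : List ℕ) : Bool := a.length == 8 && a.all fun r => norm r == r

theorem dg_pack {a b c d e f g h : ℕ} (ha : a < 64) (hb : b < 64) (hc : c < 64) (hd : d < 64)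
    (he : e < 64) (hf : f < 64) (hg : g < 64) (hh : h < 64) {j : ℕ} (hj : j < 8) :
    dg (pack a b c d e f g h) j = [a, b, c, d, e, f, g, h].getD j 0 := by
  interval_cases j <;> simp [dg, pack] <;> omega

theorem dg_lt (x j : ℕ) : dg x j < 64 := Nat.mod_lt _ (by norm_num)

theorem dg_norm (x : ℕ) {j : ℕ} (hj : j < 8) : dg (norm x) j = dg x j % 3 := by
  have h : ∀ k, dg x k % 3 < 64 := fun k => (Nat.mod_lt _ (by norm_num)).trans (by norm_num)
  rw [norm, dg_pack (h 0) (h 1) (h 2) (h 3) (h 4) (h 5) (h 6) (h 7) hj]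
  interval_cases j <;> rfl

theorem norm_norm (x : ℕ) : norm (norm x) = norm x := by
  conv_lhs => rw [norm.eq_1 (norm x)]
  rw [dg_norm x (by norm_num), dg_norm x (by norm_num), dg_norm x (by norm_num),
    dg_norm x (by norm_num), dg_norm x (by norm_num), dg_norm x (by norm_num),
    dg_norm x (by norm_num), dg_norm x (by norm_num)]
  simp only [Nat.mod_mod]
  rfl

theorem eq_pack_of_norm {x : ℕ} (h : norm x = x) : x =
    pack (dg x 0) (dg x 1) (dg x 2) (dg x 3) (dg x 4) (dg x 5) (dg x 6) (dg x 7) := by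
  have hd : ∀ j < 8, dg x j = dg x j % 3 := fun j hj => by
    conv_lhs => rw [← h, dg_norm x hj]
  conv_lhs => rw [← h]
  rw [norm, ← hd 0 (by norm_num), ← hd 1 (by norm_num), ← hd 2 (by norm_num), ← hd 3 (by norm_num),
    ← hd 4 (by norm_num), ← hd 5 (by norm_num), ← hd 6 (by norm_num), ← hd 7 (by norm_num)]

theorem dg_le_two {x : ℕ} (h : norm x = x) {j : ℕ} (hj : j < 8) : dg x j ≤ 2 := by
  rw [← h, dg_norm x hj]
  omega

theorem getD_ok {a : List ℕ} (ha : okMat a = true) {k : ℕ} (hk : k < 8) :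
    norm (a.getD k 0) = a.getD k 0 := by
  simp only [okMat, Bool.and_eq_true, beq_iff_eq, List.all_eq_true] at ha
  exact ha.2 _ (by rw [List.getD_eq_getElem _ _ (by omega)]; exact List.getElem_mem _)

theorem dg_rowMul {r : ℕ} {b : List ℕ} (hr : norm r = r) (hb : okMat b = true) {j : ℕ}
    (hj : j < 8) : dg (rowMul r b) j =
      (dg r 0 * dg (b.getD 0 0) j + dg r 1 * dg (b.getD 1 0) j + dg r 2 * dg (b.getD 2 0) j +
        dg r 3 * dg (b.getD 3 0) j + dg r 4 * dg (b.getD 4 0) j + dg r 5 * dg (b.getD 5 0) j +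
        dg r 6 * dg (b.getD 6 0) j + dg r 7 * dg (b.getD 7 0) j) % 3 := by
  rw [rowMul, dg_norm _ hj]
  set S : ℕ → ℕ := fun j => dg r 0 * dg (b.getD 0 0) j + dg r 1 * dg (b.getD 1 0) j +
    dg r 2 * dg (b.getD 2 0) j + dg r 3 * dg (b.getD 3 0) j + dg r 4 * dg (b.getD 4 0) j +
    dg r 5 * dg (b.getD 5 0) j + dg r 6 * dg (b.getD 6 0) j + dg r 7 * dg (b.getD 7 0) j with hS
  have hlt : ∀ j < 8, S j < 64 := fun j hj => by
    have hbound : ∀ k < 8, dg r k * dg (b.getD k 0) j ≤ 4 := fun k hk =>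
      Nat.mul_le_mul (dg_le_two hr hk) (dg_le_two (getD_ok hb hk) hj)
    have := hbound 0 (by norm_num); have := hbound 1 (by norm_num); have := hbound 2 (by norm_num)
    have := hbound 3 (by norm_num); have := hbound 4 (by norm_num); have := hbound 5 (by norm_num)
    have := hbound 6 (by norm_num); have := hbound 7 (by norm_num)
    rw [hS]
    dsimp only
    omega
  have hsum : dg r 0 * b.getD 0 0 + dg r 1 * b.getD 1 0 + dg r 2 * b.getD 2 0 +
      dg r 3 * b.getD 3 0 + dg r 4 * b.getD 4 0 + dg r 5 * b.getD 5 0 + dg r 6 * b.getD 6 0 + dg r 7 * b.getD 7 0 =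
      pack (S 0) (S 1) (S 2) (S 3) (S 4) (S 5) (S 6) (S 7) := by
    conv_lhs =>
      rw [eq_pack_of_norm (getD_ok hb (k := 0) (by norm_num)),
        eq_pack_of_norm (getD_ok hb (k := 1) (by norm_num)),
        eq_pack_of_norm (getD_ok hb (k := 2) (by norm_num)),
        eq_pack_of_norm (getD_ok hb (k := 3) (by norm_num)),
        eq_pack_of_norm (getD_ok hb (k := 4) (by norm_num)),
        eq_pack_of_norm (getD_ok hb (k := 5) (by norm_num)),
        eq_pack_of_norm (getD_ok hb (k := 6) (by norm_num)),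
        eq_pack_of_norm (getD_ok hb (k := 7) (by norm_num))]
    simp only [hS, pack]
    ring
  rw [hsum, dg_pack (hlt 0 (by norm_num)) (hlt 1 (by norm_num)) (hlt 2 (by norm_num))
    (hlt 3 (by norm_num)) (hlt 4 (by norm_num)) (hlt 5 (by norm_num)) (hlt 6 (by norm_num)) (hlt 7 (by norm_num)) hj]
  interval_cases j <;> rfl

theorem okMat_mul (a b : List ℕ) : okMat (mul a b) = true := by
  simp [okMat, mul, rowMul, norm_norm]

theorem okMat_one : okMat one = true := by decide +kernel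

/-- The coordinates. -/
abbrev Idx : Type := Fin 4 ⊕ Fin 4

/-- The position of a coordinate. -/
def pos : Idx → ℕ
  | .inl i => i
  | .inr i => 4 + i

theorem pos_lt : ∀ i : Idx, pos i < 8 := by decide

/-- The matrix of a code. -/
def toMat (a : List ℕ) : Matrix Idx Idx (ZMod 3) :=
  Matrix.of fun i j => (dg (a.getD (pos i) 0) (pos j) : ZMod 3)

/-- The vector of a code. -/
def toVec (v : ℕ) : Idx → ZMod 3 := fun i => (dg v (pos i) : ZMod 3)

theorem sum_idx (f : Idx → ZMod 3) : ∑ i, f i = f (.inl 0) + f (.inl 1) +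
    f (.inl 2) + f (.inl 3) + f (.inr 0) + f (.inr 1) + f (.inr 2) + f (.inr 3) := by
  simp [Fintype.sum_sum_type, Fin.sum_univ_four]
  abel

theorem toMat_mul {a b : List ℕ} (ha : okMat a = true) (hb : okMat b = true) :
    toMat (mul a b) = toMat a * toMat b := by
  ext i j
  have hrow : (mul a b).getD (pos i) 0 = rowMul (a.getD (pos i) 0) b := by
    have := pos_lt i
    generalize pos i = k at this
    interval_cases k <;> rfl
  rw [Matrix.mul_apply, toMat, Matrix.of_apply, hrow, dg_rowMul (getD_ok ha (pos_lt i)) hb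
    (pos_lt j), ZMod.natCast_mod, sum_idx]
  simp [toMat, pos]

theorem toMat_one : toMat one = 1 := by decide +kernel

theorem dg_eq_of_cast {x y : ℕ} (hx : x < 3) (hy : y < 3) (h : (x : ZMod 3) = y) : x = y := by
  have h2 := congrArg ZMod.val h
  rwa [ZMod.val_natCast, ZMod.val_natCast, Nat.mod_eq_of_lt hx, Nat.mod_eq_of_lt hy] at h2

theorem norm_ext {x y : ℕ} (hx : norm x = x) (hy : norm y = y)
    (h : ∀ j < 8, (dg x j : ZMod 3) = dg y j) : x = y := by
  have hd : ∀ j < 8, dg x j = dg y j := fun j hj =>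
    dg_eq_of_cast (Nat.lt_succ_of_le (dg_le_two hx hj)) (Nat.lt_succ_of_le (dg_le_two hy hj))
      (h j hj)
  rw [eq_pack_of_norm hx, eq_pack_of_norm hy, hd 0 (by norm_num), hd 1 (by norm_num),
    hd 2 (by norm_num), hd 3 (by norm_num), hd 4 (by norm_num), hd 5 (by norm_num),
    hd 6 (by norm_num), hd 7 (by norm_num)]

theorem exists_pos : ∀ j < 8, ∃ i : Idx, pos i = j := by decide

theorem toMat_injective {a b : List ℕ} (ha : okMat a = true) (hb : okMat b = true)
    (h : toMat a = toMat b) : a = b := by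
  have hla : a.length = 8 := by simp [okMat] at ha; exact ha.1
  have hlb : b.length = 8 := by simp [okMat] at hb; exact hb.1
  refine List.ext_getElem (hla.trans hlb.symm) fun k hk hk' => ?_
  rw [← List.getD_eq_getElem a 0 hk, ← List.getD_eq_getElem b 0 hk']
  refine norm_ext (getD_ok ha (hla ▸ hk)) (getD_ok hb (hlb ▸ hk')) fun j hj => ?_
  obtain ⟨i, rfl⟩ := exists_pos k (hla ▸ hk)
  obtain ⟨l, rfl⟩ := exists_pos j hj
  exact congrFun (congrFun h i) l

/-- A matrix applied to a vector. -/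
def app (a : List ℕ) (v : ℕ) : ℕ :=
  pack (dotDg (a.getD 0 0) v) (dotDg (a.getD 1 0) v) (dotDg (a.getD 2 0) v)
    (dotDg (a.getD 3 0) v) (dotDg (a.getD 4 0) v) (dotDg (a.getD 5 0) v) (dotDg (a.getD 6 0) v) (dotDg (a.getD 7 0) v)
where
  dotDg (r v : ℕ) : ℕ := (dg r 0 * dg v 0 + dg r 1 * dg v 1 + dg r 2 * dg v 2 + dg r 3 * dg v 3 +
    dg r 4 * dg v 4 + dg r 5 * dg v 5 + dg r 6 * dg v 6 + dg r 7 * dg v 7) % 3

theorem dotDg_lt (r v : ℕ) : app.dotDg r v < 3 := Nat.mod_lt _ (by norm_num)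

theorem dg_app (a : List ℕ) (v : ℕ) {j : ℕ} (hj : j < 8) :
    dg (app a v) j = app.dotDg (a.getD j 0) v := by
  have h : ∀ k, app.dotDg (a.getD k 0) v < 64 := fun k => (dotDg_lt _ _).trans (by norm_num)
  rw [app, dg_pack (h 0) (h 1) (h 2) (h 3) (h 4) (h 5) (h 6) (h 7) hj]
  interval_cases j <;> rfl

theorem norm_app (a : List ℕ) (v : ℕ) : norm (app a v) = app a v := by
  have h : ∀ k, app.dotDg (a.getD k 0) v % 3 = app.dotDg (a.getD k 0) v := fun k =>
    Nat.mod_eq_of_lt (dotDg_lt _ _)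
  rw [norm, dg_app a v (by norm_num), dg_app a v (by norm_num), dg_app a v (by norm_num),
    dg_app a v (by norm_num), dg_app a v (by norm_num), dg_app a v (by norm_num),
    dg_app a v (by norm_num), dg_app a v (by norm_num), h, h, h, h, h, h, h, h]
  rfl

theorem toVec_app (a : List ℕ) (v : ℕ) : toVec (app a v) = Matrix.mulVec (toMat a) (toVec v) := by
  funext i
  rw [toVec, dg_app a v (pos_lt i), app.dotDg, ZMod.natCast_mod, Matrix.mulVec, dotProduct, sum_idx]
  simp [toMat, toVec, pos]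

theorem toVec_injective {v w : ℕ} (hv : norm v = v) (hw : norm w = w) (h : toVec v = toVec w) :
    v = w :=
  norm_ext hv hw fun j hj => by
    obtain ⟨i, rfl⟩ := exists_pos j hj
    exact congrFun h i

theorem exists_code (x : Idx → ZMod 3) : ∃ v, norm v = v ∧ toVec v = x := by
  have hb : ∀ i, (x i).val < 3 := fun i => ZMod.val_lt _
  have hb' : ∀ i, (x i).val < 64 := fun i => (hb i).trans (by norm_num)
  refine ⟨pack (x (.inl 0)).val (x (.inl 1)).val (x (.inl 2)).val (x (.inl 3)).val (x (.inr 0)).val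
    (x (.inr 1)).val (x (.inr 2)).val (x (.inr 3)).val, ?_, ?_⟩
  · unfold norm
    simp only [dg_pack (hb' _) (hb' _) (hb' _) (hb' _) (hb' _) (hb' _) (hb' _) (hb' _), Nat.ofNat_pos,
      Nat.one_lt_ofNat, Nat.reduceLT, List.getD_cons_zero, List.getD_cons_succ, Nat.mod_eq_of_lt (hb _)]
  · funext i
    rw [toVec, dg_pack (hb' _) (hb' _) (hb' _) (hb' _) (hb' _) (hb' _) (hb' _) (hb' _) (pos_lt i)]
    rcases i with j | j <;> fin_cases j <;> simp [pos]

/-- A product of codes. -/
def mulList : List (List ℕ) → List ℕ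
  | [] => one
  | a :: l => mul a (mulList l)

theorem okMat_mulList (l : List (List ℕ)) : okMat (mulList l) = true := by
  cases l
  · exact okMat_one
  · exact okMat_mul _ _

end Cfsg.Agent.OEightThree
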