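/-
Isometries of the eight-dimensional form over `ZMod 3` from their codes.

Main results: `elt`, `mat_elt`, `eval`, `code_eval`, `eval_eq_of_code`, `code_eq_of_eval`,
`mem_omega_of_cube` (elements of order dividing three lie in `Ω`).
-/
import Cfsg.Agent.Lib.OEightThree.Code
import Cfsg.Agent.Lib.Orth.Spinor
import Cfsg.Agent.Lib.Triality.Group

set_option autoImplicit false
open Cfsg
open QuadraticMap (polar)

namespace Cfsg.Agent.OEightThree

/-- The form. -/
noncomputable abbrev Q8 : QuadraticForm (ZMod 3) (Idx → ZMod 3) := Triality.Q4 (ZMod 3)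

/-- The isometry group. -/
abbrev O8 : Type := Orth.IsoGrp Q8

theorem two_ne_zero_three : (2 : ZMod 3) ≠ 0 := by decide

theorem good8 : Orth.Good Q8 := Orth.Good.of_card Triality.base4.nd (.inr (by simp))

/-- The form on codes. -/
def qCode (v : ℕ) : ℕ := (dg v 0 * dg v 4 + dg v 1 * dg v 5 + dg v 2 * dg v 6 + dg v 3 * dg v 7) % 3

/-- The polar form on codes. -/
def bCode (u v : ℕ) : ℕ :=
  (dg u 0 * dg v 4 + dg v 0 * dg u 4 + dg u 1 * dg v 5 + dg v 1 * dg u 5 + dg u 2 * dg v 6 +
    dg v 2 * dg u 6 + dg u 3 * dg v 7 + dg v 3 * dg u 7) % 3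

theorem qCode_spec (v : ℕ) : Q8 (toVec v) = (qCode v : ZMod 3) := by
  rw [qCode, ZMod.natCast_mod]
  show quadFormPlus 4 (ZMod 3) (toVec v) = _
  simp [quadFormPlus, toVec, pos, Fin.sum_univ_four]

theorem bCode_spec (u v : ℕ) : polar ⇑Q8 (toVec u) (toVec v) = (bCode u v : ZMod 3) := by
  rw [bCode, ZMod.natCast_mod]
  show polar (quadFormPlus 4 (ZMod 3)) (toVec u) (toVec v) = _
  rw [Orth.polar_quadPlus]
  simp [toVec, pos, Fin.sum_univ_four]
  ring

theorem bCode_eq_iff (u v u' v' : ℕ) : bCode u v = bCode u' v' ↔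
    polar ⇑Q8 (toVec u) (toVec v) = polar ⇑Q8 (toVec u') (toVec v') := by
  rw [bCode_spec, bCode_spec]
  exact ⟨fun h => by rw [h], dg_eq_of_cast (Nat.mod_lt _ (by norm_num)) (Nat.mod_lt _ (by norm_num))⟩

/-- The unit vectors. -/
def unitVec (j : ℕ) : ℕ := 64 ^ j

theorem toVec_unitVec : ∀ i : Idx, toVec (unitVec (pos i)) = Pi.single i 1 := by decide +kernel

/-- The check that a code with inverse code gives an isometry. -/
def okElt (a ai : List ℕ) : Bool :=
  okMat a && okMat ai && mul a ai == one && mul ai a == one &&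
    (List.range 8).all fun j => (List.range 8).all fun k =>
      bCode (app a (unitVec j)) (app a (unitVec k)) == bCode (unitVec j) (unitVec k)

theorem two_mul_Q (x : Idx → ZMod 3) : polar ⇑Q8 x x = 2 * Q8 x := Orth.pl_self Q8 x

theorem preserves_of_okElt {a ai : List ℕ} (h : okElt a ai = true) (x : Idx → ZMod 3) :
    Q8 ((toMat a).mulVec x) = Q8 x := by
  simp only [okElt, Bool.and_eq_true, beq_iff_eq, List.all_eq_true, List.mem_range] at h
  have hb : (Q8.polarBilin).compl₁₂ (toMat a).mulVecLin (toMat a).mulVecLin = Q8.polarBilin := by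
    refine (Pi.basisFun (ZMod 3) Idx).ext fun i => (Pi.basisFun (ZMod 3) Idx).ext fun j => ?_
    simp only [LinearMap.compl₁₂_apply, Matrix.mulVecLin_apply, Pi.basisFun_apply,
      QuadraticMap.polarBilin_apply_apply, ← toVec_unitVec, ← toVec_app]
    exact (bCode_eq_iff _ _ _ _).mp (h.2 _ (pos_lt i) _ (pos_lt j))
  have h1 := LinearMap.congr_fun (LinearMap.congr_fun hb x) x
  simp only [LinearMap.compl₁₂_apply, Matrix.mulVecLin_apply,
    QuadraticMap.polarBilin_apply_apply, two_mul_Q] at h1
  exact mul_left_cancel₀ two_ne_zero_three h1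

/-- The isometry of a checked code. -/
def mkElt (a ai : List ℕ) (h : okElt a ai = true) : O8 :=
  ⟨⟨toMat a, toMat ai, by
      simp only [okElt, Bool.and_eq_true, beq_iff_eq] at h
      rw [← toMat_mul h.1.1.1.1 h.1.1.1.2, h.1.1.2, toMat_one],
    by
      simp only [okElt, Bool.and_eq_true, beq_iff_eq] at h
      rw [← toMat_mul h.1.1.1.2 h.1.1.1.1, h.1.2, toMat_one]⟩,
    fun x _ => preserves_of_okElt h x⟩

open scoped Classical in
/-- The isometry of a code with its inverse. -/
noncomputable def elt (p : List ℕ × List ℕ) : O8 :=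
  if h : okElt p.1 p.2 = true then mkElt p.1 p.2 h else 1

/-- The matrix of an isometry. -/
abbrev mat (g : O8) : Matrix Idx Idx (ZMod 3) := ((g : GL Idx (ZMod 3)) : Matrix Idx Idx (ZMod 3))

theorem mat_elt {p : List ℕ × List ℕ} (h : okElt p.1 p.2 = true) : mat (elt p) = toMat p.1 := by
  rw [elt, dif_pos h]
  rfl

theorem mat_injective {g h : O8} (e : mat g = mat h) : g = h := Subtype.ext (Units.ext e)

theorem ap_toVec {g : O8} {a : List ℕ} (h : mat g = toMat a) (v : ℕ) :
    Orth.ap g (toVec v) = toVec (app a v) := by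
  rw [Orth.ap_apply, toVec_app, ← h]

theorem mem_omega_of_cube {g : O8} (h : g ^ 3 = 1) : g ∈ Omega (ZMod 3) ⇑Q8 := by
  rw [Orth.omega_eq_ker good8, MonoidHom.mem_ker]
  have h3 : Orth.signHom good8 g ^ 3 = 1 := by rw [← map_pow, h, map_one]
  generalize Orth.signHom good8 g = s at h3
  obtain ⟨a, b⟩ := s
  have key : ∀ u : ℤˣ, u ^ 3 = 1 → u = 1 := by decide
  simp only [Prod.ext_iff, Prod.pow_fst, Prod.pow_snd, Prod.fst_one, Prod.snd_one] at h3 ⊢
  exact ⟨key a h3.1, key b h3.2⟩

section words

variable (A : List (List ℕ × List ℕ))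

/-- The code of a generator. -/
def genCode (i : ℕ) : List ℕ := (A.getD i (one, one)).1

/-- The code of a word. -/
def code (w : List ℕ) : List ℕ := mulList (w.map (genCode A))

/-- The generator. -/
noncomputable def gen (i : ℕ) : O8 := elt (A.getD i (one, one))

/-- The element of a word. -/
noncomputable def eval (w : List ℕ) : O8 := (w.map (gen A)).prod

variable {A}

/-- All the codes pass the check. -/
def okAlphabet (A : List (List ℕ × List ℕ)) : Bool := A.all fun p => okElt p.1 p.2

theorem okElt_one : okElt one one = true := by decide +kernel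

theorem okElt_getD (hA : okAlphabet A = true) (i : ℕ) :
    okElt (A.getD i (one, one)).1 (A.getD i (one, one)).2 = true := by
  rcases lt_or_ge i A.length with h | h
  · rw [List.getD_eq_getElem _ _ h]
    exact List.all_eq_true.mp hA _ (List.getElem_mem h)
  · rw [List.getD_eq_default _ _ h]
    exact okElt_one

theorem okMat_genCode (hA : okAlphabet A = true) (i : ℕ) : okMat (genCode A i) = true := by
  have h := okElt_getD hA i
  simp only [okElt, Bool.and_eq_true] at h
  exact h.1.1.1.1

theorem mat_gen (hA : okAlphabet A = true) (i : ℕ) : mat (gen A i) = toMat (genCode A i) :=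
  mat_elt (okElt_getD hA i)

theorem okMat_code (w : List ℕ) : okMat (code A w) = true := okMat_mulList _

theorem mat_eval (hA : okAlphabet A = true) : ∀ w : List ℕ, mat (eval A w) = toMat (code A w)
  | [] => toMat_one.symm
  | i :: w => by
    show mat (gen A i * eval A w) = toMat (mul (genCode A i) (code A w))
    rw [toMat_mul (okMat_genCode hA i) (okMat_code w), ← mat_gen hA, ← mat_eval hA w]
    exact Orth.coe_mul_mat _ _

theorem eval_eq_of_code (hA : okAlphabet A = true) {w w' : List ℕ} (h : code A w = code A w') :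
    eval A w = eval A w' :=
  mat_injective (by rw [mat_eval hA, mat_eval hA, h])

theorem code_eq_of_eval (hA : okAlphabet A = true) {w w' : List ℕ} (h : eval A w = eval A w') :
    code A w = code A w' :=
  toMat_injective (okMat_code _) (okMat_code _) (by rw [← mat_eval hA, ← mat_eval hA, h])

theorem eval_append (w w' : List ℕ) : eval A (w ++ w') = eval A w * eval A w' := by
  simp [eval]

theorem eval_cons (i : ℕ) (w : List ℕ) : eval A (i :: w) = gen A i * eval A w := by
  simp [eval]

theorem eval_mem {S : Subgroup O8} {w : List ℕ} (h : ∀ i ∈ w, gen A i ∈ S) : eval A w ∈ S := by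
  refine S.list_prod_mem fun x hx => ?_
  obtain ⟨i, hi, rfl⟩ := List.mem_map.mp hx
  exact h i hi

end words

end Cfsg.Agent.OEightThree
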