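/-
A chain in a unipotent group of `O₈⁺(3)` and the classes of its elements from certificates.

Main results: `natCard_chain`, `exists_conj_of_levels`.
-/
import Cfsg.Agent.Lib.OEightThree.Elements

set_option autoImplicit false
open Cfsg

namespace Cfsg.Agent.OEightThree

variable (A : List (List ℕ × List ℕ))

/-- The word of a number: the digits in base 64, each lowered by one. -/
def wd : ℕ → ℕ → List ℕ
  | 0, _ => []
  | f + 1, x => if x == 0 then [] else (x % 64 - 1) :: wd f (x / 64)

/-- The word of a number. -/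
def word (x : ℕ) : List ℕ := wd 256 x

/-- The subgroup of the generators from `k` to `11`. -/
noncomputable def chain (k : ℕ) : Subgroup O8 :=
  Subgroup.closure {g | ∃ i, k ≤ i ∧ i < 12 ∧ gen A i = g}

/-- All generators have order dividing three. -/
def checkCubes (n : ℕ) : Bool := (List.range n).all fun i => code A [i, i, i] == one

/-- Conjugates of later generators are words in later generators. -/
def checkNormal (W : List (List ℕ)) : Bool :=
  (List.range 12).all fun j => (List.range 12).all fun i =>
    (word ((W.getD j []).getD i 0)).all (fun l => Nat.ble i l && Nat.blt l 12) &&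
      code A [j, i] == code A (word ((W.getD j []).getD i 0) ++ [j])

/-- Vectors separating each generator from the later ones. -/
def checkOrbits (D : List (ℕ × List ℕ)) : Bool :=
  (List.range 12).all fun k =>
    (D.getD k (0, [])).2.contains (D.getD k (0, [])).1 &&
      norm (D.getD k (0, [])).1 == (D.getD k (0, [])).1 &&
      !(D.getD k (0, [])).2.contains (app (genCode A k) (D.getD k (0, [])).1) &&
      (D.getD k (0, [])).2.all (fun v => norm v == v &&
        (List.range 12).all fun i => Nat.ble i k ||
          (D.getD k (0, [])).2.contains (app (genCode A i) v))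

/-- The letters `12` to `23` are squares of the generators. -/
def checkSquares : Bool := (List.range 12).all fun i => code A [12 + i] == code A [i, i]

/-- An entry of the certificate: a conjugate of `r·gᵏⁱ` among the parts `C`. -/
def checkEntry (k : ℕ) (C : List (List (List ℕ))) (r : List ℕ) (i : ℕ) (e : ℕ × ℕ × ℕ) : Bool :=
  let P := C.getD (e.1 / 16) []
  let ri := if i == 0 then r else if i == 1 then mul r (genCode A k) else
    mul r (mul (genCode A k) (genCode A k))
  Nat.blt (e.1 % 16) P.length && (word e.2.1).all (fun l => Nat.blt l 24) &&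
    (word e.2.2).all (fun l => Nat.blt k (l % 12) && Nat.blt l 24) &&
    mul (code A (word e.2.1)) ri ==
      mul (P.getD (e.1 % 16) []) (code A (word e.2.2 ++ word e.2.1))

/-- A part of a level of the certificate of classes: three entries for each representative. -/
def checkPart (k : ℕ) (C : List (List (List ℕ))) : List (List ℕ) → List (ℕ × ℕ × ℕ) → Bool
  | [], _ => true
  | r :: rs, e₀ :: e₁ :: e₂ :: es =>
    checkEntry A k C r 0 e₀ && checkEntry A k C r 1 e₁ && checkEntry A k C r 2 e₂ &&
      checkPart k C rs es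
  | _ :: _, _ => false

/-- What a level of the certificate gives. -/
def LevelOK (k : ℕ) (R R' : List (List ℕ)) : Prop :=
  (∀ r ∈ R', okMat r = true) ∧ ∀ r ∈ R, ∀ i < 3, ∃ c m : List ℕ, ∃ r' ∈ R',
    (∀ l ∈ c, l < 24) ∧ (∀ l ∈ m, k < l % 12 ∧ l < 24) ∧
    mul (code A c) (if i == 0 then r else if i == 1 then mul r (genCode A k) else
      mul r (mul (genCode A k) (genCode A k))) = mul r' (code A (m ++ c))

theorem entry_spec {k : ℕ} {C : List (List (List ℕ))} {r : List ℕ} {i : ℕ} {e : ℕ × ℕ × ℕ}
    (h : checkEntry A k C r i e = true) : ∃ c m : List ℕ, ∃ r' ∈ C.flatten,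
    (∀ l ∈ c, l < 24) ∧ (∀ l ∈ m, k < l % 12 ∧ l < 24) ∧
    mul (code A c) (if i == 0 then r else if i == 1 then mul r (genCode A k) else
      mul r (mul (genCode A k) (genCode A k))) = mul r' (code A (m ++ c)) := by
  simp only [checkEntry, List.all_eq_true, Bool.and_eq_true, Nat.blt_eq, beq_iff_eq] at h
  obtain ⟨⟨⟨hlen, hc⟩, hm⟩, he⟩ := h
  refine ⟨_, _, (C.getD (e.1 / 16) []).getD (e.1 % 16) [], ?_, hc, hm, by simpa only [beq_iff_eq] using he⟩
  rcases lt_or_ge (e.1 / 16) C.length with hC | hC
  · rw [List.getD_eq_getElem C _ hC] at hlen ⊢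
    rw [List.getD_eq_getElem _ _ hlen]
    exact List.mem_flatten.mpr ⟨_, List.getElem_mem hC, List.getElem_mem hlen⟩
  · rw [List.getD_eq_default _ _ hC] at hlen
    simp at hlen

theorem part_spec {k : ℕ} {C : List (List (List ℕ))} : ∀ (rs : List (List ℕ))
    (es : List (ℕ × ℕ × ℕ)), checkPart A k C rs es = true → ∀ r ∈ rs, ∀ i < 3,
    ∃ c m : List ℕ, ∃ r' ∈ C.flatten, (∀ l ∈ c, l < 24) ∧ (∀ l ∈ m, k < l % 12 ∧ l < 24) ∧
    mul (code A c) (if i == 0 then r else if i == 1 then mul r (genCode A k) else
      mul r (mul (genCode A k) (genCode A k))) = mul r' (code A (m ++ c))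
  | [], _, _, r, hr => absurd hr List.not_mem_nil
  | _ :: _, [], h, _, _ => by simp [checkPart] at h
  | _ :: _, [_], h, _, _ => by simp [checkPart] at h
  | _ :: _, [_, _], h, _, _ => by simp [checkPart] at h
  | r₀ :: rs, e₀ :: e₁ :: e₂ :: es, h, r, hr => by
    simp only [checkPart, Bool.and_eq_true] at h
    rcases List.mem_cons.mp hr with rfl | hr
    · intro i hi
      interval_cases i
      · exact entry_spec A h.1.1.1
      · exact entry_spec A h.1.1.2
      · exact entry_spec A h.1.2
    · exact part_spec rs es h.2 r hr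

theorem levelOK_of_parts {k : ℕ} {R : List (List ℕ)} {L : List (ℕ × ℕ × ℕ)}
    {C : List (List (List ℕ))} {n P : ℕ} (hn : R.length ≤ n * P)
    (hok : C.all (fun p => p.all okMat) = true)
    (h : ∀ i < P, checkPart A k C ((R.drop (n * i)).take n) ((L.drop (3 * (n * i))).take (3 * n)) = true) :
    LevelOK A k R C.flatten := by
  refine ⟨fun r hr => ?_, fun r hr => ?_⟩
  · obtain ⟨p, hp, hrp⟩ := List.mem_flatten.mp hr
    exact List.all_eq_true.mp (List.all_eq_true.mp hok p hp) r hrp
  · obtain ⟨a, ha, rfl⟩ := List.mem_iff_getElem.mp hr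
    have hn0 : 0 < n := Nat.pos_of_ne_zero fun h0 => by subst h0; omega
    have hi : a / n < P := Nat.div_lt_of_lt_mul (lt_of_lt_of_le ha hn)
    refine part_spec A _ _ (h _ hi) _ (List.mem_iff_getElem.mpr ?_)
    have hmod := Nat.mod_lt a hn0
    have hda := Nat.div_add_mod a n
    refine ⟨a % n, ?_, ?_⟩
    · rw [List.length_take, List.length_drop]; omega
    · rw [List.getElem_take, List.getElem_drop]
      congr 1

variable {A}

theorem gen_mem_chain {k i : ℕ} (hk : k ≤ i) (hi : i < 12) : gen A i ∈ chain A k :=
  Subgroup.subset_closure ⟨i, hk, hi, rfl⟩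

theorem chain_anti {k l : ℕ} (h : k ≤ l) : chain A l ≤ chain A k :=
  Subgroup.closure_mono fun _ ⟨i, hi, hi12, e⟩ => ⟨i, h.trans hi, hi12, e⟩

theorem chain_twelve : chain A 12 = ⊥ := by
  refine (Subgroup.closure_eq_bot_iff).mpr ?_
  rintro _ ⟨i, hi, hi12, -⟩
  omega

variable (hA : okAlphabet A = true) {n : ℕ} (hcubes : checkCubes A n = true) (hn : 12 ≤ n)

include hA hcubes in
theorem gen_cube {i : ℕ} (hi : i < n) : gen A i ^ 3 = 1 := by
  have h := List.all_eq_true.mp hcubes i (List.mem_range.mpr hi)
  have := eval_eq_of_code hA (w := [i, i, i]) (w' := []) (by simpa [code, mulList] using h)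
  simpa [eval, pow_succ, mul_assoc] using this

include hA hcubes hn in
theorem conj_mem_chain {W : List (List ℕ)} (hW : checkNormal A W = true) {k : ℕ} {u : O8}
    (hu : u ∈ chain A 0) : ∀ x ∈ chain A k, u * x * u⁻¹ ∈ chain A k ∧ u⁻¹ * x * u ∈ chain A k := by
  simp only [checkNormal, List.all_eq_true, List.mem_range, Bool.and_eq_true, Nat.ble_eq,
    Nat.blt_eq, beq_iff_eq] at hW
  induction hu using Subgroup.closure_induction with
  | mem g hg =>
    obtain ⟨j, -, hj, rfl⟩ := hg
    have hone : ∀ x ∈ chain A k, gen A j * x * (gen A j)⁻¹ ∈ chain A k := by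
      intro x hx
      induction hx using Subgroup.closure_induction with
      | mem y hy =>
        obtain ⟨i, hki, hi, rfl⟩ := hy
        obtain ⟨hw, he⟩ := hW j hj i hi
        have he' := eval_eq_of_code hA he
        simp only [eval_cons, eval_append] at he'
        simp only [eval, List.map_nil, List.prod_nil, mul_one] at he'
        rw [he', mul_inv_cancel_right]
        exact eval_mem fun l hl => gen_mem_chain (hki.trans (hw l hl).1) (hw l hl).2
      | one => simp
      | mul x y _ _ hx hy => simpa [mul_assoc] using mul_mem hx hy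
      | inv x _ hx => simpa [mul_assoc] using inv_mem hx
    intro x hx
    refine ⟨hone x hx, ?_⟩
    have h3 := gen_cube hA hcubes (lt_of_lt_of_le hj hn)
    have hinv : (gen A j)⁻¹ = gen A j * gen A j := inv_eq_of_mul_eq_one_right (by
      rw [← h3, pow_three])
    have h2 := hone _ (hone x hx)
    have e : (gen A j)⁻¹ * (gen A j)⁻¹ = gen A j := by rw [← mul_inv_rev, ← hinv, inv_inv]
    have e' : gen A j * (gen A j * x * (gen A j)⁻¹) * (gen A j)⁻¹ =
        gen A j * gen A j * x * ((gen A j)⁻¹ * (gen A j)⁻¹) := by group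
    rw [e', e] at h2
    rw [hinv]
    exact h2
  | one => intro x hx; simpa using hx
  | mul u v _ _ hu hv =>
    intro x hx
    exact ⟨by simpa [mul_assoc] using (hu _ (hv x hx).1).1,
      by simpa [mul_assoc] using (hv _ (hu x hx).2).2⟩
  | inv u _ hu =>
    intro x hx
    exact ⟨by simpa using (hu x hx).2, by simpa using (hu x hx).1⟩

include hA hcubes hn in
theorem exists_decomp {W : List (List ℕ)} (hW : checkNormal A W = true) {k : ℕ} (hk : k < 12)
    {x : O8} (hx : x ∈ chain A k) : ∃ i < 3, ∃ y ∈ chain A (k + 1), x = gen A k ^ i * y := by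
  have h3 := gen_cube hA hcubes (lt_of_lt_of_le hk hn)
  have hnorm : ∀ (i : ℕ), ∀ y ∈ chain A (k + 1),
      (gen A k ^ i)⁻¹ * y * gen A k ^ i ∈ chain A (k + 1) := fun i y hy =>
    (conj_mem_chain hA hcubes hn hW
      (pow_mem (gen_mem_chain (Nat.zero_le k) hk) i) y hy).2
  have hmod : ∀ (i : ℕ) (y : O8), y ∈ chain A (k + 1) →
      ∃ j < 3, ∃ z ∈ chain A (k + 1), gen A k ^ i * y = gen A k ^ j * z := fun i y hy =>
    ⟨i % 3, Nat.mod_lt _ (by norm_num), y, hy, by rw [← pow_eq_pow_mod i h3]⟩
  induction hx using Subgroup.closure_induction with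
  | mem g hg =>
    obtain ⟨i, hki, hi, rfl⟩ := hg
    rcases eq_or_lt_of_le hki with rfl | hlt
    · exact ⟨1, by norm_num, 1, one_mem _, by simp⟩
    · exact ⟨0, by norm_num, _, gen_mem_chain hlt hi, by simp⟩
  | one => exact ⟨0, by norm_num, 1, one_mem _, by simp⟩
  | mul u v _ _ hu hv =>
    obtain ⟨i, -, y, hy, rfl⟩ := hu
    obtain ⟨j, -, z, hz, rfl⟩ := hv
    obtain ⟨l, hl, w, hw, he⟩ := hmod (i + j) _ (mul_mem (hnorm j y hy) hz)
    exact ⟨l, hl, w, hw, by rw [← he, pow_add]; group⟩
  | inv u _ hu =>
    obtain ⟨i, hi, y, hy, rfl⟩ := hu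
    refine ⟨(3 - i) % 3, Nat.mod_lt _ (by norm_num), _,
      hnorm (3 - i) _ (inv_mem hy), ?_⟩
    rw [← pow_eq_pow_mod _ h3]
    have e : gen A k ^ (3 - i) = (gen A k ^ i)⁻¹ :=
      eq_inv_of_mul_eq_one_left (by rw [← pow_add, Nat.sub_add_cancel hi.le, h3])
    rw [e]
    group

include hA hcubes hn in
theorem natCard_chain {W : List (List ℕ)} (hW : checkNormal A W = true)
    {D : List (ℕ × List ℕ)} (hD : checkOrbits A D = true) :
    Nat.card (chain A 0) = 3 ^ 12 := by
  suffices ∀ j, j ≤ 12 → Nat.card (chain A (12 - j)) = 3 ^ j by simpa using this 12 le_rfl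
  intro j
  induction j with
  | zero => intro _; simp [chain_twelve]
  | succ j ih =>
    intro hj
    set k := 12 - (j + 1) with hk
    have hk12 : k < 12 := by omega
    have hk1 : k + 1 = 12 - j := by omega
    have ih' := ih (by omega)
    rw [← hk1] at ih'
    simp only [checkOrbits, List.all_eq_true, List.mem_range, Bool.and_eq_true, beq_iff_eq,
      Bool.not_eq_true', Bool.or_eq_true, Nat.ble_eq, List.contains_iff_mem] at hD
    obtain ⟨⟨⟨hv, hvn⟩, hgv⟩, hO⟩ := hD k hk12
    set v := (D.getD k (0, [])).1
    set O := (D.getD k (0, [])).2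
    have hnot : gen A k ∉ chain A (k + 1) := by
      intro hmem
      have key : ∀ x ∈ chain A (k + 1), ∀ u ∈ O, ∃ w ∈ O, Orth.ap x (toVec u) = toVec w := by
        intro x hx
        induction hx using Subgroup.closure_induction with
        | mem g hg =>
          obtain ⟨i, hki, hi, rfl⟩ := hg
          intro u hu
          refine ⟨_, ((hO u hu).2 i hi).resolve_left (by omega), ?_⟩
          exact ap_toVec (mat_gen hA i) u
        | one => intro u hu; exact ⟨u, hu, Orth.ap_one _⟩
        | mul x y _ _ hx hy =>
          intro u hu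
          obtain ⟨w, hw, hw'⟩ := hy u hu
          obtain ⟨z, hz, hz'⟩ := hx w hw
          exact ⟨z, hz, by rw [Orth.ap_mul, hw', hz']⟩
        | inv x _ hx =>
          intro u hu
          -- an injective self-map of the finite set is surjective
          classical
          choose f hf hf' using hx
          have hinj : Function.Injective (fun a : {a // a ∈ O.toFinset} =>
              (⟨f a.1 (List.mem_toFinset.mp a.2), List.mem_toFinset.mpr (hf _ _)⟩ :
                {a // a ∈ O.toFinset})) := by
            intro a b hab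
            have h1 := hf' a.1 (List.mem_toFinset.mp a.2)
            have h2 := hf' b.1 (List.mem_toFinset.mp b.2)
            have hab' := congrArg Subtype.val hab
            simp only at hab'
            rw [hab', ← h2] at h1
            exact Subtype.ext (toVec_injective (hO _ (List.mem_toFinset.mp a.2)).1
              (hO _ (List.mem_toFinset.mp b.2)).1 (Orth.ap_inj x h1))
          obtain ⟨a, ha⟩ := (Finite.surjective_of_injective hinj) ⟨u, List.mem_toFinset.mpr hu⟩
          refine ⟨a.1, List.mem_toFinset.mp a.2, ?_⟩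
          have h1 := hf' a.1 (List.mem_toFinset.mp a.2)
          rw [show f a.1 (List.mem_toFinset.mp a.2) = u from congrArg Subtype.val ha] at h1
          rw [← h1, Orth.ap_inv_ap]
      obtain ⟨w, hw, he⟩ := key _ hmem v hv
      rw [ap_toVec (mat_gen hA k) v] at he
      exact Bool.false_ne_true (hgv.symm.trans (List.contains_iff_mem.mpr
        (toVec_injective (norm_app _ _) (hO w hw).1 he ▸ hw)))
    have h3 := gen_cube hA hcubes (lt_of_lt_of_le hk12 hn)
    have hle : chain A (k + 1) ≤ chain A k := chain_anti (Nat.le_succ k)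
    let f : Fin 3 × chain A (k + 1) → chain A k := fun p =>
      ⟨gen A k ^ p.1.1 * p.2.1, mul_mem (pow_mem (gen_mem_chain le_rfl hk12) _) (hle p.2.2)⟩
    have hne : ∀ i : ℕ, 0 < i → i < 3 → gen A k ^ i ∉ chain A (k + 1) := by
      intro i hi0 hi3 h
      refine hnot ?_
      interval_cases i
      · simpa using h
      · have := mul_mem h h
        rwa [← pow_add, pow_succ, h3, one_mul] at this
    have hf : Function.Bijective f := by
      constructor
      · rintro ⟨i, y⟩ ⟨j, z⟩ h
        have h' : gen A k ^ i.1 * y.1 = gen A k ^ j.1 * z.1 := congrArg Subtype.val h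
        have key : ∀ (a b : Fin 3) (y z : chain A (k + 1)), a.1 ≤ b.1 →
            gen A k ^ a.1 * y.1 = gen A k ^ b.1 * z.1 → a = b := by
          intro a b y z hab h
          by_contra hne'
          refine hne (b.1 - a.1) (by
            have := Fin.val_ne_of_ne hne'
            omega) (by omega) ?_
          rw [show b.1 = a.1 + (b.1 - a.1) by omega, pow_add, mul_assoc, mul_right_inj] at h
          rw [eq_mul_inv_of_mul_eq h.symm]
          exact mul_mem y.2 (inv_mem z.2)
        have hij : i = j := by
          rcases le_total i.1 j.1 with hle' | hle'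
          · exact key i j y z hle' h'
          · exact (key j i z y hle' h'.symm).symm
        subst hij
        exact Prod.ext rfl (Subtype.ext (mul_left_cancel h'))
      · rintro ⟨x, hx⟩
        obtain ⟨i, hi, y, hy, rfl⟩ := exists_decomp hA hcubes hn hW hk12 hx
        exact ⟨(⟨i, hi⟩, ⟨y, hy⟩), rfl⟩
    rw [← Nat.card_congr (Equiv.ofBijective f hf), Nat.card_prod, ih', Nat.card_fin, pow_succ']

include hA in
theorem letter_mem_chain (hsq : checkSquares A = true) {k l : ℕ} (hl : l < 24) (hk : k ≤ l % 12) :
    gen A l ∈ chain A k := by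
  rcases lt_or_ge l 12 with h | h
  · exact gen_mem_chain (by rwa [Nat.mod_eq_of_lt h] at hk) h
  · obtain ⟨i, rfl⟩ : ∃ i, l = 12 + i := ⟨l - 12, by omega⟩
    have hi : i < 12 := by omega
    have hk' : k ≤ i := by omega
    have he := eval_eq_of_code hA (List.all_eq_true.mp hsq i (List.mem_range.mpr hi) |> beq_iff_eq.mp)
    simp only [eval, List.map_cons, List.map_nil, List.prod_cons, List.prod_nil, mul_one] at he
    rw [he]
    exact mul_mem (gen_mem_chain hk' hi) (gen_mem_chain hk' hi)

include hA hcubes hn in
theorem exists_conj_of_levels {W : List (List ℕ)} (hW : checkNormal A W = true)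
    (hsq : checkSquares A = true) (R : ℕ → List (List ℕ))
    (hR0 : R 0 = [one])
    (hL : ∀ k < 12, LevelOK A k (R k) (R (k + 1))) {u : O8} (hu : u ∈ chain A 0) :
    ∃ r ∈ R 12, okMat r = true ∧ ∃ v ∈ chain A 0, mat (v * u * v⁻¹) = toMat r := by
  suffices ∀ k ≤ 12, ∃ r ∈ R k, okMat r = true ∧ ∃ v ∈ chain A 0, ∃ s : O8, ∃ y ∈ chain A k,
      mat s = toMat r ∧ v * u * v⁻¹ = s * y by
    obtain ⟨r, hr, hok, v, hv, s, y, hy, hs, he⟩ := this 12 le_rfl
    rw [chain_twelve, Subgroup.mem_bot] at hy
    exact ⟨r, hr, hok, v, hv, by rw [he, hy, mul_one, hs]⟩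
  intro k
  induction k with
  | zero => exact fun _ => ⟨one, by simp [hR0], okMat_one, 1, one_mem _, 1, u, hu,
      Orth.coe_one_mat.trans toMat_one.symm, by simp⟩
  | succ k ih =>
    intro hk
    obtain ⟨r, hr, hrok, v, hv, s, y, hy, hs, he⟩ := ih (by omega)
    obtain ⟨i, hi, z, hz, rfl⟩ := exists_decomp hA hcubes hn hW (by omega) hy
    obtain ⟨hok', h⟩ := hL k (by omega)
    obtain ⟨c, m, r', hr'mem, hc, hm, hcode⟩ := h r hr i hi
    have hr'ok := hok' _ hr'mem
    set cE := eval A c
    set mE := eval A m
    have hce : cE ∈ chain A 0 := eval_mem fun l hl => letter_mem_chain hA hsq (hc l hl) (Nat.zero_le _)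
    have hme : mE ∈ chain A (k + 1) :=
      eval_mem fun l hl => letter_mem_chain hA hsq (hm l hl).2 (hm l hl).1
    refine ⟨r', hr'mem, hr'ok, cE * v, mul_mem hce hv, cE * (s * gen A k ^ i) * (mE * cE)⁻¹,
      mE * (cE * z * cE⁻¹), mul_mem hme (conj_mem_chain hA hcubes hn hW hce z hz).1, ?_, ?_⟩
    · have hg := okMat_genCode hA k
      have hmm : ∀ {g h : O8} {p q : List ℕ}, okMat p = true → okMat q = true → mat g = toMat p →
          mat h = toMat q → mat (g * h) = toMat (mul p q) := fun hp hq eg eh => by
        rw [toMat_mul hp hq, ← eg, ← eh]; exact Orth.coe_mul_mat _ _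
      have hri : mat (cE * (s * gen A k ^ i)) =
          toMat (mul r' (code A (m ++ c))) := by
        rw [← hcode]
        have hce' : mat cE = toMat (code A c) := mat_eval hA _
        interval_cases i
        · simp only [beq_self_eq_true, if_true, pow_zero, mul_one]
          exact hmm (okMat_code _) hrok hce' hs
        · simp only [show ((1 : ℕ) == 0) = false from rfl, beq_self_eq_true, if_true, Bool.false_eq_true,
            if_false, pow_one]
          exact hmm (okMat_code _) (okMat_mul _ _) hce' (hmm hrok hg hs (mat_gen hA k))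
        · simp only [show ((2 : ℕ) == 0) = false from rfl, show ((2 : ℕ) == 1) = false from rfl,
            Bool.false_eq_true, if_false, pow_two]
          exact hmm (okMat_code _) (okMat_mul _ _) hce'
            (hmm hrok (okMat_mul _ _) hs (hmm hg hg (mat_gen hA k) (mat_gen hA k)))
      set w' := eval A (m ++ c)
      have hw' : mE * cE = w' := (eval_append _ _).symm
      rw [hw']
      have h2 : mat (cE * (s * gen A k ^ i) * w'⁻¹) * mat w' = toMat r' * mat w' := by
        rw [← Orth.coe_mul_mat, inv_mul_cancel_right]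
        show mat (cE * (s * gen A k ^ i)) = _
        rw [hri, toMat_mul hr'ok (okMat_code _), mat_eval hA]
      exact (Units.isUnit _).mul_right_cancel h2
    · calc cE * v * u * (cE * v)⁻¹ = cE * (v * u * v⁻¹) * cE⁻¹ := by group
        _ = _ := by rw [he]; group

end Cfsg.Agent.OEightThree
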