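import Cfsg.Agent.Lib.OEightThree.Pre
import Mathlib.Algebra.Module.ZMod
import Mathlib.Tactic.Abel

/-
A chain with one non-trivial factor: the non-trivial factor has order 9 and an involution `t` over the central
involution of `SL(2,3)` centralises a subgroup of order 27 of `Q`.
-/

set_option autoImplicit false
set_option maxRecDepth 10000

namespace Cfsg.Agent.OEightThree

open scoped commutatorElement

/-- An irreducible configuration of `SL(2,3)` with central element `-1` has order 9. -/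
theorem irr_nine {M : Type*} [AddCommGroup M] (h3 : ∀ m : M, m + m + m = 0) (I J S : M →+ M)
    (hI : ∀ m, I (I m) = -m) (hJ : ∀ m, J (J m) = -m) (hIJ : ∀ m, I (J m) = -J (I m))
    (hSI : ∀ m, S (I m) = J (S m)) (hSJ : ∀ m, S (J m) = I (J (S m))) (hS : ∀ m, S (S (S m)) = m)
    (hirr : ∀ W : AddSubgroup M, (∀ w ∈ W, I w ∈ W ∧ J w ∈ W ∧ S w ∈ W) → W = ⊥ ∨ W = ⊤)
    (hne : ∃ m : M, m ≠ 0) : Nat.card M = 9 := by
  have hc : ∀ m : M, m + m = -m := fun m => eq_neg_of_add_eq_zero_left (h3 m)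
  -- a fixed point of `S`
  obtain ⟨v0, hv0, hSv0⟩ : ∃ v, v ≠ 0 ∧ S v = v := by
    obtain ⟨m, hm⟩ := hne
    by_cases h1 : S m = m
    · exact ⟨m, hm, h1⟩
    set n := S m - m with hn
    by_cases h2 : S n = n
    · exact ⟨n, sub_ne_zero.2 h1, h2⟩
    refine ⟨S n - n, sub_ne_zero.2 h2, ?_⟩
    rw [← sub_eq_zero]
    have e1 : S (S n - n) - (S n - n) = (m + m + m) + (S m + S m + S m) - (S (S m) + S (S m) + S (S m))
        - (m + m + m) := by
      rw [hn]
      simp only [map_sub, hS]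
      abel
    rw [e1, h3, h3, h3]
    simp
  -- the operator `T` with square zero
  set T : M → M := fun m => I m + J m + I (J m) with hT
  obtain ⟨v, hv, hSv, hTv⟩ : ∃ v, v ≠ 0 ∧ S v = v ∧ T v = 0 := by
    by_cases h : T v0 = 0
    · exact ⟨v0, hv0, hSv0, h⟩
    refine ⟨T v0, h, ?_, ?_⟩
    · simp only [hT, map_add, hSI, hSJ, hSv0]
      have : J (I (J v0)) = I v0 := by
        have := hIJ (J v0)
        rw [hJ, map_neg] at this
        exact (neg_injective this).symm
      rw [this]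
      abel
    · simp only [hT, map_add, hI, hJ, hIJ, map_neg, neg_neg]
      linear_combination (norm := abel) -(h3 v0)
  set w := I v with hw
  have hIw : I w = -v := hI v
  have hJv : J v = v + w := by
    have e : I (T v) = 0 := by rw [hTv, map_zero]
    have h' : T v = 0 := hTv
    simp only [hT, map_add, hI] at e h'
    have : J v + J v = -(v + w) := by
      rw [hw]
      linear_combination (norm := abel) h' - e
    rw [hc] at this
    exact neg_injective this
  have hJw : J w = v - w := by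
    have : I (J v) = -J w := hIJ v
    rw [hJv, map_add, hIw] at this
    rw [← neg_inj, ← this, hw]
    abel
  have hSw : S w = v + w := by rw [hw, hSI, hSv, hJv]
  -- the subgroup of nine elements
  let f : ZMod 3 × ZMod 3 →+ M :=
    (ZMod.lift 3 ⟨zmultiplesHom M v, by
      show (3 : ℤ) • v = 0
      rw [show (3 : ℤ) = 1 + 1 + 1 by norm_num, add_zsmul, add_zsmul, one_zsmul, h3]⟩).coprod
    (ZMod.lift 3 ⟨zmultiplesHom M w, by
      show (3 : ℤ) • w = 0
      rw [show (3 : ℤ) = 1 + 1 + 1 by norm_num, add_zsmul, add_zsmul, one_zsmul, h3]⟩)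
  have hf : ∀ a b : ℤ, f ((a : ZMod 3), (b : ZMod 3)) = a • v + b • w := fun a b => by
    simp [f, AddMonoidHom.coprod_apply, ZMod.lift_coe]
  have hmemv : v ∈ f.range := ⟨((1 : ℤ), (0 : ℤ)), by rw [hf]; simp⟩
  have hmemw : w ∈ f.range := ⟨((0 : ℤ), (1 : ℤ)), by rw [hf]; simp⟩
  have hstab : ∀ x ∈ f.range, I x ∈ f.range ∧ J x ∈ f.range ∧ S x ∈ f.range := by
    rintro _ ⟨⟨a, b⟩, rfl⟩
    obtain ⟨a, rfl⟩ := ZMod.intCast_surjective a
    obtain ⟨b, rfl⟩ := ZMod.intCast_surjective b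
    simp only [hf, map_add, map_zsmul, hIw, hJv, hJw, hSv, hSw, ← hw]
    refine ⟨?_, ?_, ?_⟩ <;>
      first
        | exact add_mem (zsmul_mem hmemw _) (zsmul_mem (neg_mem hmemv) _)
        | exact add_mem (zsmul_mem (add_mem hmemv hmemw) _) (zsmul_mem (sub_mem hmemv hmemw) _)
        | exact add_mem (zsmul_mem hmemv _) (zsmul_mem (add_mem hmemv hmemw) _)
  rcases hirr f.range hstab with h | h
  · rw [h] at hmemv
    exact absurd (AddSubgroup.mem_bot.1 hmemv) hv
  · have hinj : Function.Injective f := by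
      rw [injective_iff_map_eq_zero]
      rintro ⟨a, b⟩ hab
      obtain ⟨a, rfl⟩ := ZMod.intCast_surjective a
      obtain ⟨b, rfl⟩ := ZMod.intCast_surjective b
      rw [hf] at hab
      have hab' := congrArg I hab
      simp only [map_add, map_zsmul, map_zero, ← hw, hIw] at hab'
      -- `(a ^ 2 + b ^ 2) • v = 0`
      have e : (a * a + b * b) • v = 0 := by
        have : (a * a + b * b) • v = a • (a • v + b • w) - b • (a • w + b • -v) := by
          simp only [smul_add, smul_smul, smul_neg, add_smul, mul_comm b a]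
          abel
        rw [this, hab, hab']
        simp
      have e3 : ((a * a + b * b : ℤ) : ZMod 3) = 0 := by
        by_contra hne
        have hd : ¬ (3 : ℤ) ∣ a * a + b * b := fun hd => hne ((ZMod.intCast_zmod_eq_zero_iff_dvd _ 3).2 hd)
        obtain ⟨p, q, hpq⟩ := (Int.prime_three.coprime_iff_not_dvd.2 hd)
        apply hv
        calc v = (p * 3 + q * (a * a + b * b)) • v := by rw [hpq, one_zsmul]
          _ = p • ((3 : ℤ) • v) + q • ((a * a + b * b) • v) := by rw [add_smul, mul_smul, mul_smul]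
          _ = 0 := by
              rw [e, show (3 : ℤ) = 1 + 1 + 1 by norm_num, add_zsmul, add_zsmul, one_zsmul, h3]
              simp
      push_cast at e3
      have key : ∀ x y : ZMod 3, x * x + y * y = 0 → x = 0 ∧ y = 0 := by decide
      obtain ⟨ha, hb⟩ := key _ _ e3
      rw [ha, hb]
      rfl
    have := Nat.card_congr (AddMonoidHom.ofInjective hinj).toEquiv
    rw [h, Nat.card_congr AddSubgroup.topEquiv.toEquiv, Nat.card_prod, Nat.card_zmod] at this
    exact this.symm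

variable {G : Type*} [Group G]

/-- An involution normalising a subgroup of exponent three moves a fixed coset to a fixed element. -/
theorem exists_fixed_of_coset {t m : G} {N : Subgroup G} (hN : ∀ n ∈ N, n ^ 3 = 1)
    (ht : t * t = 1) (hm : m⁻¹ * (t * m * t) ∈ N) :
    ∃ n ∈ N, t * (m * n) * t = m * n := by
  set c := m⁻¹ * (t * m * t) with hc
  refine ⟨c⁻¹, inv_mem hm, ?_⟩
  have htc : t * c * t = c⁻¹ := by
    calc t * c * t = t * m⁻¹ * t * m * (t * t) := by rw [hc]; group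
      _ = t⁻¹ * m⁻¹ * t⁻¹ * m := by rw [ht, mul_one, inv_eq_of_mul_eq_one_right ht]
      _ = c⁻¹ := by rw [hc]; group
  have h1 : t * c⁻¹ * t = c := by
    have := congrArg (·⁻¹) htc
    simpa [inv_eq_of_mul_eq_one_right ht, mul_assoc] using this
  calc t * (m * c⁻¹) * t = t * m * (t * t) * c⁻¹ * t := by rw [ht]; group
    _ = (t * m * t) * (t * c⁻¹ * t) := by group
    _ = m * c * c := by rw [h1, hc]; group
    _ = m * c⁻¹ := by
      rw [mul_assoc]
      congr 1
      refine eq_inv_of_mul_eq_one_left ?_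
      rw [← hN c hm, pow_three, mul_assoc]

/-- The involutions of a coset of a subgroup of exponent three are conjugate. -/
theorem exists_conj_invol {t n : G} {N : Subgroup G} (hN : ∀ n ∈ N, n ^ 3 = 1) (hn : n ∈ N)
    (ht : t * t = 1) (htn : (t * n) * (t * n) = 1) : ∃ e ∈ N, e * t * e⁻¹ = t * n := by
  refine ⟨n, hn, ?_⟩
  have h1 : n * t = t * n⁻¹ := by
    have : n * t * n = t := by
      calc n * t * n = t⁻¹ * ((t * n) * (t * n)) := by group
        _ = t := by rw [htn, mul_one, inv_eq_of_mul_eq_one_right ht]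
    calc n * t = n * t * n * n⁻¹ := by group
      _ = _ := by rw [this]
  rw [h1, mul_assoc]
  congr 1
  calc n⁻¹ * n⁻¹ = n ^ 3 * (n⁻¹ * n⁻¹) := by rw [hN n hn, one_mul]
    _ = n := by group

namespace Pre

variable (P : Pre G)

/-- The centraliser of `z` as a predicate. -/
def InC (g : G) : Prop := g * P.z = P.z * g

theorem inC_mul {g h : G} (hg : P.InC g) (hh : P.InC h) : P.InC (g * h) :=
  (Commute.mul_left hg hh).eq

theorem inC_inv {g : G} (hg : P.InC g) : P.InC g⁻¹ := (Commute.inv_left hg).eq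

theorem inC_Q {q : G} (hq : q ∈ P.Q) : P.InC q := P.z_comm q hq

theorem inC_one : P.InC 1 := (Commute.one_left _).eq

theorem inC_pow {g : G} (hg : P.InC g) (n : ℕ) : P.InC (g ^ n) := (Commute.pow_left hg n).eq

theorem π_one : P.π 1 = 1 := ((P.ker 1 P.inC_one).2 (one_mem _)).1

theorem ε_one : P.ε 1 = 1 := ((P.ker 1 P.inC_one).2 (one_mem _)).2

theorem π_inv {g : G} (hg : P.InC g) : P.π g⁻¹ = (P.π g)⁻¹ :=
  eq_inv_of_mul_eq_one_left (by rw [← P.π_mul _ _ (P.inC_inv hg) hg, inv_mul_cancel, P.π_one])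

theorem ε_inv {g : G} (hg : P.InC g) : P.ε g⁻¹ = (P.ε g)⁻¹ :=
  eq_inv_of_mul_eq_one_left (by rw [← P.ε_mul _ _ (P.inC_inv hg) hg, inv_mul_cancel, P.ε_one])

theorem π_pow {g : G} (hg : P.InC g) (n : ℕ) : P.π (g ^ n) = P.π g ^ n := by
  induction n with
  | zero => simpa using P.π_one
  | succ n ih => rw [pow_succ, pow_succ, P.π_mul _ _ (P.inC_pow hg n) hg, ih]

theorem ε_pow {g : G} (hg : P.InC g) (n : ℕ) : P.ε (g ^ n) = P.ε g ^ n := by
  induction n with
  | zero => simpa using P.ε_one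
  | succ n ih => rw [pow_succ, pow_succ, P.ε_mul _ _ (P.inC_pow hg n) hg, ih]

theorem mem_of_eq {g h : G} (hg : P.InC g) (hh : P.InC h) (e1 : P.π g = P.π h) (e2 : P.ε g = P.ε h) :
    g⁻¹ * h ∈ P.Q := by
  rw [← P.ker _ (P.inC_mul (P.inC_inv hg) hh), P.π_mul _ _ (P.inC_inv hg) hh,
    P.ε_mul _ _ (P.inC_inv hg) hh, P.π_inv hg, P.ε_inv hg, e1, e2]
  simp

/-- An involution over the central involution of `SL(2,3)`. -/
theorem exists_t : ∃ t : G, P.InC t ∧ t * t = 1 ∧ P.π t = negI ∧ P.ε t = 1 := by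
  obtain ⟨c, hc, hπ, hε⟩ := P.surj negI
  refine ⟨c ^ 3, P.inC_pow hc 3, ?_, ?_, ?_⟩
  · have h2 : c ^ 2 ∈ P.Q := by
      rw [← P.ker _ (P.inC_pow hc 2), P.π_pow hc, P.ε_pow hc, hπ, hε, one_pow, pow_two, sl23_facts.2.2.2.2.2.2.1]
      exact ⟨rfl, rfl⟩
    rw [← pow_add, show 3 + 3 = 2 * 3 by norm_num, pow_mul, P.exp _ h2]
  · rw [P.π_pow hc, hπ, pow_three, sl23_facts.2.2.2.2.2.2.1, mul_one]
  · rw [P.ε_pow hc, hε, one_pow]

end Pre

namespace Chain

variable {P : Pre G} (c : Chain P)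

/-- Lower end of a step. -/
abbrev lo (i : Fin c.r) : Subgroup G := c.A i.castSucc

/-- Upper end of a step. -/
abbrev hi (i : Fin c.r) : Subgroup G := c.A i.succ

theorem mono' : Monotone c.A := (Fin.strictMono_iff_lt_succ.2 c.mono).monotone

theorem le_Q (i : Fin (c.r + 1)) : c.A i ≤ P.Q := (c.mono' (Fin.le_last i)).trans c.last.le

theorem z_le (i : Fin (c.r + 1)) : Subgroup.zpowers P.z ≤ c.A i := c.first.ge.trans (c.mono' (Fin.zero_le i))

theorem comm_mem (i : Fin (c.r + 1)) {a b : G} (ha : a ∈ P.Q) (hb : b ∈ P.Q) : ⁅a, b⁆ ∈ c.A i :=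
  c.z_le i (P.comm a ha b hb)

instance lo_normal (i : Fin c.r) : ((c.lo i).subgroupOf (c.hi i)).Normal := ⟨fun n hn g => by
  rw [Subgroup.mem_subgroupOf] at hn ⊢
  have h := c.comm_mem i.castSucc (c.le_Q _ g.2) (c.le_Q _ (n.2 : (n : G) ∈ c.hi i))
  have : ((g * n * g⁻¹ : c.hi i) : G) = ⁅(g : G), (n : G)⁆ * n := by
    simp [commutatorElement_def]
  rw [this]
  exact mul_mem h hn⟩

/-- The factor. -/
abbrev Fac (i : Fin c.r) : Type _ := ↥(c.hi i) ⧸ (c.lo i).subgroupOf (c.hi i)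

theorem fac_comm (i : Fin c.r) (x y : c.Fac i) : x * y = y * x := by
  obtain ⟨x, rfl⟩ := QuotientGroup.mk_surjective x
  obtain ⟨y, rfl⟩ := QuotientGroup.mk_surjective y
  rw [← commutatorElement_eq_one_iff_mul_comm]
  refine (QuotientGroup.eq_one_iff _).2 ?_
  rw [Subgroup.mem_subgroupOf]
  exact c.comm_mem i.castSucc (c.le_Q _ x.2) (c.le_Q _ y.2)

instance facComm (i : Fin c.r) : CommGroup (c.Fac i) :=
  { (inferInstance : Group (c.Fac i)) with mul_comm := c.fac_comm i }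

theorem fac_cube (i : Fin c.r) (x : c.Fac i) : x * x * x = 1 := by
  obtain ⟨x, rfl⟩ := QuotientGroup.mk_surjective x
  rw [← QuotientGroup.mk_mul, ← QuotientGroup.mk_mul]
  refine (QuotientGroup.eq_one_iff _).2 ?_
  rw [Subgroup.mem_subgroupOf]
  simp only [Subgroup.coe_mul]
  rw [mul_assoc, ← pow_three, P.exp _ (c.le_Q _ x.2)]
  exact one_mem _

/-- Elements acting on the factors. -/
abbrev Op (P : Pre G) : Type _ := {k : G // P.InC k ∧ P.ε k = 1}

/-- Conjugation on the upper end. -/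
def conjHom (i : Fin (c.r + 1)) (k : Op P) : ↥(c.A i) →* ↥(c.A i) :=
  MonoidHom.mk' (fun a => ⟨k.1 * a * k.1⁻¹, c.inv i k.1 k.2.1 k.2.2 a a.2⟩) fun a b => Subtype.ext (by
    simp [mul_assoc])

/-- The action on the factor. -/
def act (i : Fin c.r) (k : Op P) : c.Fac i →* c.Fac i :=
  QuotientGroup.map _ _ (c.conjHom i.succ k) fun a ha => by
    rw [Subgroup.mem_comap, Subgroup.mem_subgroupOf]
    rw [Subgroup.mem_subgroupOf] at ha
    exact c.inv i.castSucc k.1 k.2.1 k.2.2 a ha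

theorem act_mk (i : Fin c.r) (k : Op P) (a : c.hi i) :
    c.act i k (QuotientGroup.mk a) = QuotientGroup.mk (c.conjHom i.succ k a) := rfl

/-- Product of two operators. -/
def omul (k l : Op P) : Op P := ⟨k.1 * l.1, P.inC_mul k.2.1 l.2.1, by
  rw [P.ε_mul _ _ k.2.1 l.2.1, k.2.2, l.2.2, mul_one]⟩

theorem act_omul (i : Fin c.r) (k l : Op P) (x : c.Fac i) :
    c.act i (omul k l) x = c.act i k (c.act i l x) := by
  obtain ⟨x, rfl⟩ := QuotientGroup.mk_surjective x
  simp only [act_mk]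
  refine congrArg _ (Subtype.ext ?_)
  simp [conjHom, omul, mul_assoc]

theorem act_of_mem_Q (i : Fin c.r) (k : Op P) (hk : k.1 ∈ P.Q) (x : c.Fac i) : c.act i k x = x := by
  obtain ⟨x, rfl⟩ := QuotientGroup.mk_surjective x
  rw [act_mk, QuotientGroup.eq, Subgroup.mem_subgroupOf]
  simp only [conjHom, MonoidHom.mk'_apply, Subgroup.coe_mul, Subgroup.coe_inv]
  have : (k.1 * (x : G) * k.1⁻¹)⁻¹ * x = ⁅k.1, (x : G)⁻¹⁆ := by simp [commutatorElement_def, mul_assoc]
  rw [this]
  exact c.comm_mem _ hk (inv_mem (c.le_Q _ x.2))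

theorem act_congr (i : Fin c.r) {k l : Op P} (h : P.π k.1 = P.π l.1) (x : c.Fac i) :
    c.act i k x = c.act i l x := by
  let d : Op P := ⟨k.1⁻¹ * l.1, P.inC_mul (P.inC_inv k.2.1) l.2.1, by
    rw [P.ε_mul _ _ (P.inC_inv k.2.1) l.2.1, P.ε_inv k.2.1, k.2.2, l.2.2]; simp⟩
  have hd : omul k d = l := Subtype.ext (by simp [omul, d])
  rw [← hd, act_omul, act_of_mem_Q c i d (P.mem_of_eq k.2.1 l.2.1 h (k.2.2.trans l.2.2.symm))]

/-- A subgroup of the factor stable under all operators is trivial. -/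
theorem fac_irr (i : Fin c.r) (W : Subgroup (c.Fac i)) (hW : ∀ k : Op P, ∀ w ∈ W, c.act i k w ∈ W) :
    W = ⊥ ∨ W = ⊤ := by
  by_contra hcon
  push Not at hcon
  set B := (W.comap (QuotientGroup.mk' _)).map (c.hi i).subtype with hB
  have hlo : c.lo i ≤ B := fun a ha => ⟨⟨a, (c.mono i).le ha⟩, by
    rw [SetLike.mem_coe, Subgroup.mem_comap, QuotientGroup.mk'_apply,
      (QuotientGroup.eq_one_iff _).2 (Subgroup.mem_subgroupOf.2 ha)]
    exact one_mem _, rfl⟩
  have hhi : B ≤ c.hi i := Subgroup.map_subtype_le _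
  have hne : ¬ B ≤ c.lo i := fun h => hcon.1 ((Subgroup.eq_bot_iff_forall W).2 fun w hw => by
    obtain ⟨a, rfl⟩ := QuotientGroup.mk_surjective w
    exact (QuotientGroup.eq_one_iff _).2 (Subgroup.mem_subgroupOf.2 (h ⟨a, hw, rfl⟩)))
  have hne' : ¬ c.hi i ≤ B := fun h => hcon.2 ((Subgroup.eq_top_iff' W).2 fun w => by
    obtain ⟨a, rfl⟩ := QuotientGroup.mk_surjective w
    obtain ⟨b, hb, hba⟩ := h a.2
    exact (Subtype.ext hba : b = a) ▸ hb)
  obtain ⟨k, hk, hke, b, hb, hkb⟩ := c.maxi i B (lt_of_le_not_ge hlo hne) (lt_of_le_not_ge hhi hne')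
  obtain ⟨a, ha, rfl⟩ := hb
  exact hkb ⟨c.conjHom i.succ ⟨k, hk, hke⟩ a, hW ⟨k, hk, hke⟩ _ ha, rfl⟩

theorem exists_ne (i : Fin c.r) : ∃ x : c.Fac i, x ≠ 1 := by
  obtain ⟨a, ha, hna⟩ := SetLike.exists_of_lt (c.mono i)
  exact ⟨QuotientGroup.mk ⟨a, ha⟩, fun h => hna (Subgroup.mem_subgroupOf.1 ((QuotientGroup.eq_one_iff _).1 h))⟩

theorem card_triv {i : Fin c.r} (h : i ≠ c.i0) : Nat.card (c.Fac i) = 3 := by
  obtain ⟨x, hx⟩ := c.exists_ne i
  have htriv : ∀ k : Op P, ∀ w, c.act i k w = w := fun k w => by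
    obtain ⟨a, rfl⟩ := QuotientGroup.mk_surjective w
    rw [act_mk, eq_comm, QuotientGroup.eq, Subgroup.mem_subgroupOf]
    simp only [conjHom, MonoidHom.mk'_apply, Subgroup.coe_mul, Subgroup.coe_inv]
    have h1 := c.triv i h k.1 k.2.1 k.2.2 a a.2
    have := Subgroup.Normal.mem_comm (c.lo_normal i) (a := ⟨k.1 * a * k.1⁻¹, c.inv i.succ _ k.2.1 k.2.2 a a.2⟩)
      (b := a⁻¹) (by rw [Subgroup.mem_subgroupOf]; exact h1)
    exact Subgroup.mem_subgroupOf.1 this
  rcases c.fac_irr i (Subgroup.zpowers x) (fun k w hw => by rwa [htriv]) with h' | h'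
  · exact absurd (Subgroup.zpowers_eq_bot.1 h') hx
  · rw [← (Nat.card_congr (Subgroup.topEquiv (G := c.Fac i)).toEquiv), ← h', Nat.card_zpowers]
    exact orderOf_eq_prime (hp := ⟨Nat.prime_three⟩) (by rw [pow_three, ← mul_assoc, c.fac_cube i x]) hx

theorem card_nontriv [Finite G] {t : G} (htC : P.InC t) (htπ : P.π t = negI) (htε : P.ε t = 1) :
    (∀ x : c.Fac c.i0, c.act c.i0 ⟨t, htC, htε⟩ x = x) ∨
      Nat.card (c.Fac c.i0) = 9 ∧ ∀ x, c.act c.i0 ⟨t, htC, htε⟩ x = x⁻¹ := by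
  set i := c.i0
  let W : Subgroup (c.Fac i) := (c.act i ⟨t, htC, htε⟩).eqLocus (MonoidHom.id _)
  have hcomm : ∀ k : Op P, ∀ x, c.act i k (c.act i ⟨t, htC, htε⟩ x) = c.act i ⟨t, htC, htε⟩ (c.act i k x) := by
    intro k x
    rw [← act_omul, ← act_omul]
    refine c.act_congr i ?_ x
    simp only [omul]
    rw [P.π_mul _ _ k.2.1 htC, P.π_mul _ _ htC k.2.1, htπ, negI_central]
  have hirr := c.fac_irr i
  rcases hirr W (fun k w (hw : c.act i _ w = w) => by
    show c.act i _ (c.act i k w) = c.act i k w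
    rw [← hcomm, hw]) with hW | hW
  swap
  · exact Or.inl fun x => (Subgroup.eq_top_iff' W).1 hW x
  right
  have hinv : ∀ x, c.act i ⟨t, htC, htε⟩ x = x⁻¹ := by
    intro x
    have h1 : c.act i ⟨t, htC, htε⟩ (c.act i ⟨t, htC, htε⟩ x) = x := by
      rw [← act_omul]
      refine c.act_of_mem_Q i _ ?_ x
      simp only [omul]
      rw [← P.ker _ (P.inC_mul htC htC), P.π_mul _ _ htC htC, P.ε_mul _ _ htC htC, htπ, htε,
        sl23_facts.2.2.2.2.2.2.1, mul_one]
      exact ⟨rfl, rfl⟩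
    have h2 : x * c.act i ⟨t, htC, htε⟩ x ∈ W := by
      show c.act i _ _ = _
      rw [map_mul, h1]
      exact c.fac_comm i _ _
    rw [hW, Subgroup.mem_bot] at h2
    exact eq_inv_of_mul_eq_one_right h2
  refine ⟨?_, hinv⟩
  obtain ⟨kI, hI1, hI2, hI3⟩ := P.surj quI
  obtain ⟨kJ, hJ1, hJ2, hJ3⟩ := P.surj quJ
  obtain ⟨kS, hS1, hS2, hS3⟩ := P.surj upU
  set I : Op P := ⟨kI, hI1, hI3⟩
  set J : Op P := ⟨kJ, hJ1, hJ3⟩
  set S : Op P := ⟨kS, hS1, hS3⟩
  set T : Op P := ⟨t, htC, htε⟩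
  have hπ : ∀ k l : Op P, P.π (omul k l).1 = P.π k.1 * P.π l.1 := fun k l => P.π_mul _ _ k.2.1 l.2.1
  obtain ⟨f1, f2, f3, f4, f5, f6, -, -⟩ := sl23_facts
  have h := irr_nine (M := Additive (c.Fac i))
    (fun m => c.fac_cube i m.toMul)
    (MonoidHom.toAdditive (c.act i I)) (MonoidHom.toAdditive (c.act i J)) (MonoidHom.toAdditive (c.act i S))
    (fun m => (c.act_omul i I I m.toMul).symm.trans ((c.act_congr i (by rw [hπ]; simp [I, T, hI2, htπ, f1]) _).trans
      (hinv _)))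
    (fun m => (c.act_omul i J J m.toMul).symm.trans ((c.act_congr i (by rw [hπ]; simp [J, T, hJ2, htπ, f2]) _).trans
      (hinv _)))
    (fun m => (c.act_omul i I J m.toMul).symm.trans ((c.act_congr i (l := omul T (omul J I)) (by
      rw [hπ, hπ, hπ]; simp [I, J, T, hI2, hJ2, htπ, f3]) _).trans (by
      rw [act_omul, act_omul, hinv]; rfl)))
    (fun m => (c.act_omul i S I m.toMul).symm.trans ((c.act_congr i (by
      rw [hπ, hπ]; simp [S, I, J, hS2, hI2, hJ2, f4]) _).trans (c.act_omul i J S m.toMul)))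
    (fun m => (c.act_omul i S J m.toMul).symm.trans ((c.act_congr i (l := omul I (omul J S)) (by
      rw [hπ, hπ, hπ]; simp [S, I, J, hS2, hI2, hJ2, f5, mul_assoc]) _).trans (by
      rw [act_omul, act_omul]; rfl)))
    (fun m => by
      show c.act i S (c.act i S (c.act i S m.toMul)) = m.toMul
      rw [← act_omul, ← act_omul]
      refine c.act_of_mem_Q i _ ?_ _
      have h3 : (omul (omul S S) S).1 = kS ^ 3 := by simp [omul, S, pow_three, mul_assoc]
      rw [h3, ← P.ker _ (P.inC_pow hS1 3), P.π_pow hS1, P.ε_pow hS1, hS2, hS3, one_pow, f6]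
      exact ⟨rfl, rfl⟩)
    ?_ (by obtain ⟨x, hx⟩ := c.exists_ne i; exact ⟨Additive.ofMul x, hx⟩)
  · rw [← h]; exact Nat.card_congr Additive.ofMul
  intro U hU
  let U' : Subgroup (c.Fac i) := AddSubgroup.toSubgroup' U
  have hU' : ∀ k : Op P, ∀ w ∈ U', c.act i k w ∈ U' := by
    intro k w hw
    obtain ⟨a, b, d, hk⟩ := sl23_gen (P.π k.1)
    have hpow : ∀ (n : ℕ) (l : Op P), (∀ w ∈ U', c.act i l w ∈ U') →
        ∃ m : Op P, P.π m.1 = P.π l.1 ^ n ∧ ∀ w ∈ U', c.act i m w ∈ U' := by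
      intro n l hl
      induction n with
      | zero => exact ⟨⟨1, P.inC_one, P.ε_one⟩, by simp [P.π_one], fun w hw => by
          rwa [c.act_of_mem_Q i _ (one_mem _)]⟩
      | succ n ih =>
        obtain ⟨m, hm, hm'⟩ := ih
        exact ⟨omul m l, by rw [hπ, hm, pow_succ], fun w hw => by rw [act_omul]; exact hm' _ (hl w hw)⟩
    obtain ⟨mI, hmI, hmI'⟩ := hpow a I fun w hw => (hU _ hw).1
    obtain ⟨mJ, hmJ, hmJ'⟩ := hpow b J fun w hw => (hU _ hw).2.1
    obtain ⟨mS, hmS, hmS'⟩ := hpow d S fun w hw => (hU _ hw).2.2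
    rw [c.act_congr i (l := omul (omul mI mJ) mS) (by
      rw [hπ, hπ, hmI, hmJ, hmS, hk]; simp [I, J, S, hI2, hJ2, hS2]), act_omul, act_omul]
    exact hmI' _ (hmJ' _ (hmS' _ hw))
  rcases hirr U' hU' with e | e
  · exact Or.inl ((AddSubgroup.eq_bot_iff_forall U).2 fun x hx =>
      (Subgroup.eq_bot_iff_forall U').1 e x.toMul hx)
  · exact Or.inr ((AddSubgroup.eq_top_iff' U).2 fun x => (Subgroup.eq_top_iff' U').1 e x.toMul)

/-- The fixed points of `t` in a member of the chain. -/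
abbrev Fix (t : G) (i : Fin (c.r + 1)) : Subgroup G := c.A i ⊓ Subgroup.centralizer ({t} : Set G)

theorem card_step (i : Fin c.r) : Nat.card (c.hi i) = Nat.card (c.Fac i) * Nat.card (c.lo i) := by
  rw [Subgroup.card_eq_card_quotient_mul_card_subgroup ((c.lo i).subgroupOf (c.hi i)),
    Nat.card_congr (Subgroup.subgroupOfEquivOfLe (c.mono i).le).toEquiv]

theorem fixed_act {t : G} (htC : P.InC t) (htε : P.ε t = 1) {i : Fin c.r} {a : G}
    (ha : a ∈ c.Fix t i.succ) : c.act i ⟨t, htC, htε⟩ (QuotientGroup.mk ⟨a, ha.1⟩) = QuotientGroup.mk ⟨a, ha.1⟩ := by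
  rw [act_mk]
  refine congrArg _ (Subtype.ext ?_)
  simp only [conjHom, MonoidHom.mk'_apply]
  rw [← Subgroup.mem_centralizer_singleton_iff.1 ha.2, mul_inv_cancel_right]

theorem fix_triv [Finite G] {t : G} (htC : P.InC t) (htε : P.ε t = 1) (ht : t * t = 1) (i : Fin c.r)
    (h : ∀ x, c.act i ⟨t, htC, htε⟩ x = x) :
    Nat.card (c.Fix t i.succ) = Nat.card (c.Fac i) * Nat.card (c.Fix t i.castSucc) := by
  let φ : ↥(c.Fix t i.succ) →* c.Fac i :=
    (QuotientGroup.mk' _).comp (Subgroup.inclusion (inf_le_left : c.Fix t i.succ ≤ c.hi i))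
  have hsurj : Function.Surjective φ := by
    intro x
    obtain ⟨a, rfl⟩ := QuotientGroup.mk_surjective x
    have h1 := h (QuotientGroup.mk a)
    rw [act_mk, eq_comm, QuotientGroup.eq, Subgroup.mem_subgroupOf] at h1
    simp only [conjHom, MonoidHom.mk'_apply, Subgroup.coe_mul, Subgroup.coe_inv,
      inv_eq_of_mul_eq_one_right ht] at h1
    obtain ⟨n, hn, hfix⟩ := exists_fixed_of_coset (fun n hn => P.exp n (c.le_Q i.castSucc hn)) ht h1
    refine ⟨⟨a * n, mul_mem a.2 ((c.mono i).le hn), Subgroup.mem_centralizer_singleton_iff.2 ?_⟩, ?_⟩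
    · calc (a : G) * n * t = t * (a * n) * t * t := by rw [hfix]
        _ = t * (a * n) * (t * t) := by group
        _ = t * (a * n) := by rw [ht, mul_one]
    · show QuotientGroup.mk _ = QuotientGroup.mk a
      rw [eq_comm, QuotientGroup.eq, Subgroup.mem_subgroupOf]
      simpa [mul_assoc] using hn
  have hker : φ.ker = (c.Fix t i.castSucc).subgroupOf (c.Fix t i.succ) := by
    ext x
    rw [MonoidHom.mem_ker, Subgroup.mem_subgroupOf]
    show QuotientGroup.mk _ = 1 ↔ _
    rw [QuotientGroup.eq_one_iff, Subgroup.mem_subgroupOf]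
    exact ⟨fun hx => ⟨hx, x.2.2⟩, fun hx => hx.1⟩
  rw [Subgroup.card_eq_card_quotient_mul_card_subgroup φ.ker,
    Nat.card_congr (QuotientGroup.quotientKerEquivOfSurjective φ hsurj).toEquiv, hker,
    Nat.card_congr (Subgroup.subgroupOfEquivOfLe (inf_le_inf_right _ (c.mono i).le)).toEquiv]

theorem fix_inv {t : G} (htC : P.InC t) (htε : P.ε t = 1) (i : Fin c.r)
    (h : ∀ x, c.act i ⟨t, htC, htε⟩ x = x⁻¹) : c.Fix t i.succ = c.Fix t i.castSucc := by
  refine le_antisymm (fun a ha => ⟨?_, ha.2⟩) (inf_le_inf_right _ (c.mono i).le)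
  have h1 := (c.fixed_act htC htε ha).symm.trans (h _)
  have h2 := c.fac_cube i (QuotientGroup.mk ⟨a, ha.1⟩)
  rw [eq_inv_iff_mul_eq_one] at h1
  rw [h1, one_mul, QuotientGroup.eq_one_iff, Subgroup.mem_subgroupOf] at h2
  exact h2

theorem act_triv {t : G} (htC : P.InC t) (htε : P.ε t = 1) {i : Fin c.r} (h : i ≠ c.i0) (x : c.Fac i) :
    c.act i ⟨t, htC, htε⟩ x = x := by
  obtain ⟨a, rfl⟩ := QuotientGroup.mk_surjective x
  rw [act_mk, eq_comm, QuotientGroup.eq, Subgroup.mem_subgroupOf]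
  have h1 := c.triv i h t htC htε a a.2
  have := Subgroup.Normal.mem_comm (c.lo_normal i)
    (a := ⟨t * a * t⁻¹, c.inv i.succ _ htC htε a a.2⟩) (b := a⁻¹) (by rw [Subgroup.mem_subgroupOf]; exact h1)
  exact Subgroup.mem_subgroupOf.1 this

include c in
/-- An involution over the central involution centralises a subgroup of order 27. -/
theorem card_fixed [Finite G] {t : G} (htC : P.InC t) (ht : t * t = 1)
    (htπ : P.π t = negI) (htε : P.ε t = 1) :
    Nat.card ↥(P.Q ⊓ Subgroup.centralizer ({t} : Set G)) = 27 := by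
  have h0 : c.Fix t 0 = c.A 0 := inf_eq_left.2 (by
    rw [c.first, Subgroup.zpowers_le, Subgroup.mem_centralizer_singleton_iff]
    exact htC.symm)
  have hA0 : Nat.card (c.A 0) = 3 := by
    rw [c.first, Nat.card_zpowers]
    exact orderOf_eq_prime (hp := ⟨Nat.prime_three⟩) (P.exp _ P.z_mem) P.z_ne
  rcases c.card_nontriv htC htπ htε with hall | ⟨h9, hinv⟩
  · exfalso
    have key : ∀ i, Nat.card (c.Fix t i) = Nat.card (c.A i) := by
      refine Fin.induction (by rw [h0]) fun i ih => ?_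
      rw [c.fix_triv htC htε ht i (fun x => ?_), ih, ← c.card_step]
      rcases eq_or_ne i c.i0 with rfl | h
      · exact hall x
      · exact c.act_triv htC htε h x
    have hQ := Subgroup.eq_of_le_of_card_ge inf_le_left (key (Fin.last c.r)).ge
    have htQ : t ∈ P.Q := P.cent (Subgroup.mem_centralizer_iff.2 fun q hq => by
      rw [← c.last, ← hQ] at hq
      exact Subgroup.mem_centralizer_singleton_iff.1 hq.2)
    exact sl23_facts.2.2.2.2.2.2.2 (htπ.symm.trans ((P.ker t htC).2 htQ).1)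
  · have key : ∀ i : Fin (c.r + 1),
        Nat.card (c.A i) = 3 ^ (1 + i.val + if c.i0.val < i.val then 1 else 0) ∧
        Nat.card (c.Fix t i) * (if c.i0.val < i.val then 9 else 1) = Nat.card (c.A i) := by
      refine Fin.induction ⟨by simpa using hA0, by simp [h0]⟩ fun i ih => ?_
      obtain ⟨ih1, ih2⟩ := ih
      simp only [Fin.val_castSucc] at ih1 ih2
      rw [show c.A i.succ = c.hi i from rfl, c.card_step, show c.lo i = c.A i.castSucc from rfl, ih1]
      simp only [Fin.val_succ]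
      rcases eq_or_ne i c.i0 with rfl | h
      · rw [if_neg (lt_irrefl _), mul_one] at ih2
        rw [if_neg (lt_irrefl _)] at ih1
        rw [h9, c.fix_inv htC htε c.i0 hinv, ih2, ih1, if_neg (lt_irrefl _), if_pos (Nat.lt_succ_self _),
          if_pos (Nat.lt_succ_self _)]
        constructor
        · rw [show 1 + (c.i0.val + 1) + 1 = (1 + c.i0.val + 0) + 2 by omega]
          ring
        · ring
      · have hlt : (c.i0.val < i.val + 1) = (c.i0.val < i.val) := propext
          ⟨fun h' => lt_of_le_of_ne (Nat.lt_succ_iff.1 h') fun e => h (Fin.ext e.symm), fun h' => by omega⟩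
        rw [c.card_triv h, c.fix_triv htC htε ht i (c.act_triv htC htε h), c.card_triv h,
          mul_assoc]
        simp only [hlt]
        rw [ih2, ih1]
        refine ⟨?_, rfl⟩
        rw [← pow_succ']
        congr 1
        omega
    obtain ⟨k1, k2⟩ := key (Fin.last c.r)
    rw [c.last, P.card] at k1 k2
    rw [if_pos (show c.i0.val < (Fin.last c.r).val from c.i0.isLt)] at k2
    have : Nat.card ↥(P.Q ⊓ Subgroup.centralizer ({t} : Set G)) * 9 = 243 := by
      rw [← c.last]; exact k2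
    omega

end Chain

end Cfsg.Agent.OEightThree
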