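/-
Counting fixed vectors of isometries from certificates.

* `cc` : the numbers of singular and of norm-one fixed vectors
* `cc_conj`, `cc_sq` : invariance
* `cc_eq_of_check` : the numbers from a parametrisation of the fixed space
-/
import Cfsg.Agent.Lib.OEightThree.Elements

set_option autoImplicit false
open Cfsg

namespace Cfsg.Agent.OEightThree

/-- The vector with number `m`. -/
def vecOf (m : ℕ) : ℕ :=
  pack (m % 3) (m / 3 % 3) (m / 9 % 3) (m / 27 % 3) (m / 81 % 3) (m / 243 % 3) (m / 729 % 3)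
    (m / 2187 % 3)

theorem dg_vecOf (m : ℕ) {j : ℕ} (hj : j < 8) : dg (vecOf m) j = m / 3 ^ j % 3 := by
  have h : ∀ k : ℕ, k % 3 < 64 := fun k => (Nat.mod_lt _ (by norm_num)).trans (by norm_num)
  rw [vecOf, dg_pack (h _) (h _) (h _) (h _) (h _) (h _) (h _) (h _) hj]
  interval_cases j <;> simp

theorem norm_vecOf (m : ℕ) : norm (vecOf m) = vecOf m := by
  unfold norm
  rw [dg_vecOf m (by norm_num), dg_vecOf m (by norm_num), dg_vecOf m (by norm_num),
    dg_vecOf m (by norm_num), dg_vecOf m (by norm_num), dg_vecOf m (by norm_num),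
    dg_vecOf m (by norm_num), dg_vecOf m (by norm_num)]
  simp only [Nat.mod_mod]
  simp [vecOf]

theorem vecOf_inj {d m n : ℕ} (hd : d ≤ 8) (hm : m < 3 ^ d) (hn : n < 3 ^ d) (h : vecOf m = vecOf n) :
    m = n := by
  have hb : 3 ^ d ≤ 6561 := (Nat.pow_le_pow_right (by norm_num) hd).trans_eq (by norm_num)
  have hj : ∀ j < 8, m / 3 ^ j % 3 = n / 3 ^ j % 3 := fun j hj => by
    rw [← dg_vecOf m hj, ← dg_vecOf n hj, h]
  have := hj 0; have := hj 1; have := hj 2; have := hj 3
  have := hj 4; have := hj 5; have := hj 6; have := hj 7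
  omega

theorem exists_vecOf {d v : ℕ} (hd : d ≤ 8) (hv : norm v = v) (h0 : ∀ j < 8, d ≤ j → dg v j = 0) :
    ∃ m < 3 ^ d, vecOf m = v := by
  set m := dg v 0 + 3 * dg v 1 + 9 * dg v 2 + 27 * dg v 3 + 81 * dg v 4 + 243 * dg v 5 +
    729 * dg v 6 + 2187 * dg v 7 with hm
  have hb : ∀ j < 8, dg v j ≤ 2 := fun j hj => dg_le_two hv hj
  have := hb 0; have := hb 1; have := hb 2; have := hb 3
  have := hb 4; have := hb 5; have := hb 6; have := hb 7
  refine ⟨m, ?_, norm_ext (norm_vecOf m) hv fun j hj => congrArg Nat.cast ?_⟩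
  · have := h0 0; have := h0 1; have := h0 2; have := h0 3
    have := h0 4; have := h0 5; have := h0 6; have := h0 7
    interval_cases d <;> simp only [pow_succ, pow_zero] <;> omega
  · rw [dg_vecOf m hj]
    interval_cases j <;> omega

/-- A sum of matrices. -/
def addMat (a b : List ℕ) : List ℕ :=
  (List.range 8).map fun i => norm (a.getD i 0 + b.getD i 0)

theorem toMat_addMat {a b : List ℕ} (ha : okMat a = true) (hb : okMat b = true) :
    toMat (addMat a b) = toMat a + toMat b := by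
  ext i j
  have hi := pos_lt i
  have hj := pos_lt j
  rw [Matrix.add_apply, toMat, toMat, toMat, Matrix.of_apply, Matrix.of_apply, Matrix.of_apply]
  rw [show (addMat a b).getD (pos i) 0 = norm (a.getD (pos i) 0 + b.getD (pos i) 0) by
    rw [addMat, List.getD_eq_getElem _ _ (by simpa using hi)]; simp]
  rw [dg_norm _ hj, ZMod.natCast_mod]
  set x := a.getD (pos i) 0
  set y := b.getD (pos i) 0
  have hx : norm x = x := getD_ok ha hi
  have hy : norm y = y := getD_ok hb hi
  have hbx : ∀ k < 8, dg x k ≤ 2 := fun k hk => dg_le_two hx hk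
  have hby : ∀ k < 8, dg y k ≤ 2 := fun k hk => dg_le_two hy hk
  have hlt : ∀ k < 8, dg x k + dg y k < 64 := fun k hk => by
    have := hbx k hk; have := hby k hk; omega
  have hsum : x + y = pack (dg x 0 + dg y 0) (dg x 1 + dg y 1) (dg x 2 + dg y 2) (dg x 3 + dg y 3)
      (dg x 4 + dg y 4) (dg x 5 + dg y 5) (dg x 6 + dg y 6) (dg x 7 + dg y 7) := by
    conv_lhs => rw [eq_pack_of_norm hx, eq_pack_of_norm hy]
    simp only [pack]; ring
  rw [hsum, dg_pack (hlt 0 (by norm_num)) (hlt 1 (by norm_num)) (hlt 2 (by norm_num))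
    (hlt 3 (by norm_num)) (hlt 4 (by norm_num)) (hlt 5 (by norm_num)) (hlt 6 (by norm_num))
    (hlt 7 (by norm_num)) hj]
  generalize pos j = k at hj
  interval_cases k <;> simp

/-- The numbers of singular and of norm-one fixed vectors. -/
noncomputable def cc (g : O8) : ℕ × ℕ :=
  (Nat.card {x : Idx → ZMod 3 // Orth.ap g x = x ∧ Q8 x = 0},
    Nat.card {x : Idx → ZMod 3 // Orth.ap g x = x ∧ Q8 x = 1})

theorem cc_conj (u g : O8) : cc (u * g * u⁻¹) = cc g := by
  let e : (Idx → ZMod 3) ≃ (Idx → ZMod 3) :=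
    ⟨Orth.ap u, Orth.ap u⁻¹, Orth.ap_inv_ap u, Orth.ap_ap_inv u⟩
  have key : ∀ c : ZMod 3, Nat.card {x : Idx → ZMod 3 // Orth.ap (u * g * u⁻¹) x = x ∧ Q8 x = c} =
      Nat.card {x : Idx → ZMod 3 // Orth.ap g x = x ∧ Q8 x = c} := fun c => by
    refine (Nat.card_congr (e.subtypeEquiv fun x => ?_)).symm
    show _ ↔ Orth.ap (u * g * u⁻¹) (Orth.ap u x) = Orth.ap u x ∧ Q8 (Orth.ap u x) = c
    rw [Orth.ap_mul, Orth.ap_mul, Orth.ap_inv_ap, Orth.Q_ap]
    exact and_congr_left fun _ => ⟨fun h => by rw [h], fun h => Orth.ap_inj u h⟩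
  rw [cc, cc, key, key]

theorem cc_sq {g : O8} (h : g ^ 3 = 1) : cc (g * g) = cc g := by
  have hf : ∀ x, Orth.ap (g * g) x = x ↔ Orth.ap g x = x := fun x => by
    constructor
    · intro hx
      have : Orth.ap (g * g * (g * g)) x = x := by rw [Orth.ap_mul, hx, hx]
      rwa [show g * g * (g * g) = g from by
        rw [show g * g * (g * g) = g * g ^ 3 by rw [pow_succ, sq]; simp only [mul_assoc], h, mul_one]] at this
    · intro hx; rw [Orth.ap_mul, hx, hx]
  simp only [cc, hf]

/-- A parametrisation of the fixed space of a matrix. -/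
def checkFix (a : List ℕ) (e : ℕ × List ℕ × List ℕ × List ℕ) : Bool :=
  Nat.ble e.1 8 && okMat a && okMat e.2.1 && okMat e.2.2.1 && okMat e.2.2.2 &&
    mul a e.2.1 == e.2.1 &&
    addMat (mul e.2.1 e.2.2.1) (mul e.2.2.2 a) == addMat one e.2.2.2 &&
    (List.range 8).all (fun j => Nat.blt j e.1 || e.2.2.1.getD j 0 == 0) &&
    (List.range (3 ^ e.1)).all fun m => app e.2.2.1 (app e.2.1 (vecOf m)) == vecOf m

/-- The numbers from a parametrisation. -/
def ccCode (e : ℕ × List ℕ × List ℕ × List ℕ) : ℕ × ℕ :=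
  (((List.range (3 ^ e.1)).filter fun m => qCode (app e.2.1 (vecOf m)) == 0).length,
    ((List.range (3 ^ e.1)).filter fun m => qCode (app e.2.1 (vecOf m)) == 1).length)

theorem natCard_fix {g : O8} {a : List ℕ} (hg : mat g = toMat a) {e : ℕ × List ℕ × List ℕ × List ℕ}
    (h : checkFix a e = true) {c : ℕ} (hc : c < 3) :
    Nat.card {x : Idx → ZMod 3 // Orth.ap g x = x ∧ Q8 x = c} =
      ((List.range (3 ^ e.1)).filter fun m => qCode (app e.2.1 (vecOf m)) == c).length := by
  classical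
  obtain ⟨d, P, S, N⟩ := e
  simp only [checkFix, Bool.and_eq_true, beq_iff_eq, List.all_eq_true, List.mem_range, Bool.or_eq_true,
    Nat.blt_eq, Nat.ble_eq] at h
  obtain ⟨⟨⟨⟨⟨⟨⟨⟨hd, ha⟩, hP⟩, hS⟩, hN⟩, hfix⟩, hsum⟩, hzero⟩, hret⟩ := h
  have hq : ∀ v, qCode v = c ↔ Q8 (toVec v) = c := fun v => by
    rw [qCode_spec]
    exact ⟨fun h => by rw [h], dg_eq_of_cast (Nat.mod_lt _ (by norm_num)) hc⟩
  have hid : toMat P * toMat S + toMat N * toMat a = 1 + toMat N := by
    rw [← toMat_mul hP hS, ← toMat_mul hN ha, ← toMat_addMat (okMat_mul _ _) (okMat_mul _ _), hsum,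
      toMat_addMat okMat_one hN, toMat_one]
  show Nat.card {x : Idx → ZMod 3 // Orth.ap g x = x ∧ Q8 x = c} =
    ((List.range (3 ^ d)).filter fun m => qCode (app P (vecOf m)) == c).length
  rw [← List.toFinset_card_of_nodup (List.nodup_range.filter _), Nat.card_eq_fintype_card,
    Fintype.card_subtype]
  refine (Finset.card_bij (fun m _ => toVec (app P (vecOf m))) ?_ ?_ ?_).symm
  · intro m hm
    simp only [List.mem_toFinset, List.mem_filter, List.mem_range, beq_iff_eq] at hm
    refine Finset.mem_filter.2 ⟨Finset.mem_univ _, ?_, (hq _).1 hm.2⟩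
    rw [toVec_app, Orth.ap_apply]
    show (mat g).mulVec _ = _
    rw [hg, Matrix.mulVec_mulVec, ← toMat_mul ha hP, hfix]
  · intro m hm n hn he
    simp only [List.mem_toFinset, List.mem_filter, List.mem_range] at hm hn
    have := congrArg (Matrix.mulVec (toMat S)) he
    rw [← toVec_app, ← toVec_app, hret m hm.1, hret n hn.1] at this
    exact vecOf_inj hd hm.1 hn.1 (toVec_injective (norm_vecOf m) (norm_vecOf n) this)
  · intro x hx
    obtain ⟨hgx, hQ⟩ := (Finset.mem_filter.1 hx).2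
    obtain ⟨v, hv, rfl⟩ := exists_code x
    have hz : ∀ j < 8, d ≤ j → dg (app S v) j = 0 := fun j hj hdj => by
      rw [dg_app _ _ hj, (hzero j hj).resolve_left (by omega)]
      simp [app.dotDg, dg]
    obtain ⟨m, hm, hmv⟩ := exists_vecOf hd (norm_app S v) hz
    have hx : toVec (app P (vecOf m)) = toVec v := by
      rw [hmv, toVec_app, toVec_app, Matrix.mulVec_mulVec]
      have := congrArg (Matrix.mulVec · (toVec v)) hid
      rw [Orth.ap_apply] at hgx
      change (mat g).mulVec _ = _ at hgx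
      rw [hg] at hgx
      simpa [Matrix.add_mulVec, ← Matrix.mulVec_mulVec, hgx] using this
    refine ⟨m, ?_, hx⟩
    simp only [List.mem_toFinset, List.mem_filter, List.mem_range, beq_iff_eq]
    exact ⟨hm, (hq _).2 (by rw [hx, hQ])⟩

theorem cc_eq_of_check {g : O8} {a : List ℕ} (hg : mat g = toMat a)
    {e : ℕ × List ℕ × List ℕ × List ℕ} (h : checkFix a e = true) : cc g = ccCode e := by
  have h0 := natCard_fix hg h (c := 0) (by norm_num)
  have h1 := natCard_fix hg h (c := 1) (by norm_num)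
  rw [Nat.cast_zero] at h0
  rw [Nat.cast_one] at h1
  rw [cc, ccCode, h0, h1]

end Cfsg.Agent.OEightThree
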