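/-
Triality and the trilinear form on codes.

* `triCheck`, `triEq_of_check` : a certificate that three isometries preserve `tri`
* `triPerm` : the effect of triality on the letters
-/
import Cfsg.Agent.Lib.OEightThree.Elements

set_option autoImplicit false
open Cfsg

namespace Cfsg.Agent.OEightThree

open Triality (tri omul oB)

/-- The product on codes. -/
def omulCode (u v : ℕ) : ℕ :=
  pack
    (((dg u 0 * dg v 0) + 2 * (dg u 1 * dg v 5) + 2 * (dg u 2 * dg v 6) + 2 * (dg u 3 * dg v 7)) % 3)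
    (((dg u 0 * dg v 1) + (dg u 1 * dg v 4) + 2 * (dg u 6 * dg v 7) + (dg u 7 * dg v 6)) % 3)
    (((dg u 0 * dg v 2) + (dg u 2 * dg v 4) + (dg u 5 * dg v 7) + 2 * (dg u 7 * dg v 5)) % 3)
    (((dg u 0 * dg v 3) + (dg u 3 * dg v 4) + 2 * (dg u 5 * dg v 6) + (dg u 6 * dg v 5)) % 3)
    (((dg u 4 * dg v 4) + 2 * (dg u 5 * dg v 1) + 2 * (dg u 6 * dg v 2) + 2 * (dg u 7 * dg v 3)) % 3)
    ((2 * (dg u 2 * dg v 3) + (dg u 3 * dg v 2) + (dg u 4 * dg v 5) + (dg u 5 * dg v 0)) % 3)
    (((dg u 1 * dg v 3) + 2 * (dg u 3 * dg v 1) + (dg u 4 * dg v 6) + (dg u 6 * dg v 0)) % 3)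
    ((2 * (dg u 1 * dg v 2) + (dg u 2 * dg v 1) + (dg u 4 * dg v 7) + (dg u 7 * dg v 0)) % 3)

/-- The trace form on codes. -/
def oBCode (u v : ℕ) : ℕ :=
  ((dg u 0 * dg v 0) + 2 * (dg u 1 * dg v 5) + 2 * (dg u 2 * dg v 6) + 2 * (dg u 3 * dg v 7) + (dg u 4 * dg v 4) + 2 * (dg u 5 * dg v 1) + 2 * (dg u 6 * dg v 2) + 2 * (dg u 7 * dg v 3)) % 3

theorem toVec_omulCode (u v : ℕ) : toVec (omulCode u v) = omul (toVec u) (toVec v) := by
  funext i
  have h : ∀ k : ℕ, k % 3 < 64 := fun k => (Nat.mod_lt _ (by norm_num)).trans (by norm_num)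
  have h2 : (2 : ZMod 3) = -1 := by decide
  rw [toVec, omulCode, dg_pack (h _) (h _) (h _) (h _) (h _) (h _) (h _) (h _) (pos_lt i)]
  rcases i with j | j <;> fin_cases j <;> simp [pos, omul, toVec, h2] <;> ring

theorem oBCode_spec (u v : ℕ) : oB (toVec u) (toVec v) = (oBCode u v : ZMod 3) := by
  have h2 : (2 : ZMod 3) = -1 := by decide
  rw [oBCode, ZMod.natCast_mod]
  simp [oB, toVec, pos, h2]
  ring

/-- The check that three matrices preserve the trilinear form. -/
def triCheck (a b c : List ℕ) : Bool :=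
  (List.range 8).all fun i => (List.range 8).all fun j =>
    let w := omulCode (app a (unitVec i)) (app b (unitVec j))
    let w₀ := omulCode (unitVec i) (unitVec j)
    (List.range 8).all fun l => oBCode w (app c (unitVec l)) == oBCode w₀ (unitVec l)

/-- The trilinear form as a linear map. -/
def triL : (Idx → ZMod 3) →ₗ[ZMod 3] (Idx → ZMod 3) →ₗ[ZMod 3] (Idx → ZMod 3) →ₗ[ZMod 3] ZMod 3 :=
  LinearMap.mk₂ (ZMod 3)
    (fun x y =>
      { toFun := fun z => tri x y z
        map_add' := fun z z' => by simp [tri]; ring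
        map_smul' := fun r z => by simp [tri]; ring })
    (fun x x' y => LinearMap.ext fun z => by simp [tri]; ring)
    (fun r x y => LinearMap.ext fun z => by simp [tri]; ring)
    (fun x y y' => LinearMap.ext fun z => by simp [tri]; ring)
    (fun r x y => LinearMap.ext fun z => by simp [tri]; ring)

theorem triEq_of_check {g h k : O8} {a b c : List ℕ} (hg : mat g = toMat a) (hh : mat h = toMat b)
    (hk : mat k = toMat c) (H : triCheck a b c = true) : Triality.TriEq g h k := by
  simp only [triCheck, List.all_eq_true, List.mem_range, beq_iff_eq] at H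
  have key : ∀ i j l : Idx, tri (Orth.ap g (Pi.single i 1)) (Orth.ap h (Pi.single j 1))
      (Orth.ap k (Pi.single l 1)) = tri (Pi.single i 1) (Pi.single j 1) (Pi.single l 1) := by
    intro i j l
    simp only [← toVec_unitVec, ap_toVec hg, ap_toVec hh, ap_toVec hk, Triality.tri_eq_oB,
      ← toVec_omulCode, oBCode_spec]
    rw [H _ (pos_lt i) _ (pos_lt j) _ (pos_lt l)]
  intro x y z
  have hlin : ∀ x y, (triL (Orth.ap g x) (Orth.ap h y)).comp (Matrix.mulVecLin (mat k)) = triL x y := by
    have hz : ∀ i j, (triL (Orth.ap g (Pi.single i 1)) (Orth.ap h (Pi.single j 1))).comp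
        (Matrix.mulVecLin (mat k)) = triL (Pi.single i 1) (Pi.single j 1) := fun i j => by
      refine (Pi.basisFun (ZMod 3) Idx).ext fun l => ?_
      rw [LinearMap.comp_apply, Matrix.mulVecLin_apply, Pi.basisFun_apply, ← Orth.ap_apply]
      exact key i j l
    intro x y
    have hx : x = ∑ i, x i • Pi.single i (1 : ZMod 3) := pi_eq_sum_univ' x
    have hy : y = ∑ i, y i • Pi.single i (1 : ZMod 3) := pi_eq_sum_univ' y
    rw [hx, hy]
    refine LinearMap.ext fun z => ?_
    simp only [LinearMap.comp_apply, map_sum, map_smul, LinearMap.sum_apply, LinearMap.smul_apply]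
    refine Finset.sum_congr rfl fun j _ => congrArg _ (Finset.sum_congr rfl fun i _ => congrArg _ ?_)
    exact LinearMap.congr_fun (hz i j) z
  have := LinearMap.congr_fun (hlin x y) z
  rw [LinearMap.comp_apply, Matrix.mulVecLin_apply, ← Orth.ap_apply] at this
  exact this

/-- The letters moved by triality. -/
def triPerm : List ℕ := [1, 2, 0, 3, 5, 18, 16, 8, 21, 19, 10, 11, 13, 14, 12, 15, 17, 6, 4, 20, 9, 7, 22, 23]

/-- The image of a letter. -/
def triLetter (l : ℕ) : ℕ := triPerm.getD l 0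

end Cfsg.Agent.OEightThree
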