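/-
The checks that tie the data of `OEightThree/Data*` to the definitions.

* `checkTargets`, `checkTri`, `checkMap`, `checkFinal`, `repsAt`, `levelAt`
-/
import Cfsg.Agent.Lib.OEightThree.CertChain
import Cfsg.Agent.Lib.OEightThree.TriCode
import Cfsg.Agent.Lib.OEightThree.Fix
import Cfsg.Agent.Lib.OEightThree.DataBase

set_option autoImplicit false

namespace Cfsg.Agent.OEightThree

open Data

/-- The word of a representative. -/
def targetWord (b : ℕ) : List ℕ := word (targetWords.getD b 0)

/-- The matrix of a representative. -/
def targetMat (b : ℕ) : List ℕ := targets.getD b []

/-- The check of the representatives. -/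
def checkTargets : Bool :=
  (List.range 13).all fun b =>
    (targetWord b).all (fun l => Nat.blt l 24) && code gens (targetWord b) == targetMat b &&
      targetMat b != one && mul (targetMat b) (mul (targetMat b) (targetMat b)) == one

/-- The check of triality on the letters. -/
def checkTri : Bool :=
  (List.range 24).all fun l => Nat.blt (triLetter l) 24 &&
    triCheck (genCode gens l) (genCode gens (triLetter l)) (genCode gens (triLetter (triLetter l)))

/-- The image of a representative under triality. -/
def tauImg (b : ℕ) : List ℕ := code gens ((targetWord b).map triLetter)

/-- The image of a representative under the graph automorphism. -/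
def graphImg (b : ℕ) : List ℕ := mul graphMat (mul (targetMat b) graphMat)

/-- The check that the images are conjugate to representatives. -/
def checkMap (img : ℕ → List ℕ) (M : List (ℕ × ℕ)) : Bool :=
  (List.range 13).all fun b => (word (M.getD b (13, 0)).2).all (fun l => Nat.blt l 32) &&
    Nat.blt (M.getD b (13, 0)).1 13 &&
    mul (code gens (word (M.getD b (13, 0)).2)) (img b) ==
      mul (targetMat (M.getD b (13, 0)).1) (code gens (word (M.getD b (13, 0)).2))

/-- The check of the fixed spaces. -/
def checkFixes : Bool :=
  (List.range 13).all fun b => checkFix (targetMat b) (fixCert.getD b (9, [], [], []))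

/-- The counts of fixed vectors. -/
def ccAt (b : ℕ) : ℕ × ℕ := ccCode (fixCert.getD b (9, [], [], []))

end Cfsg.Agent.OEightThree
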