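/-
Kernel checks of the certificates in `OEightThree/DataBase`.
-/
import Cfsg.Agent.Lib.OEightThree.Tables

set_option autoImplicit false
set_option maxRecDepth 40000

namespace Cfsg.Agent.OEightThree

open Data

theorem okGens : okAlphabet gens = true := by decide +kernel

theorem cubesGens : checkCubes gens 32 = true := by decide +kernel

theorem squaresCheck : checkSquares gens = true := by decide +kernel

theorem normalCheck : checkNormal gens normalWords = true := by decide +kernel

theorem orbitsCheck : checkOrbits gens orbits = true := by decide +kernel

theorem targetsCheck : checkTargets = true := by decide +kernel

theorem triCheckLetters : checkTri = true := by decide +kernel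

theorem tauCheck : checkMap tauImg tauMap = true := by decide +kernel

theorem graphCheck : checkMap graphImg graphMap = true := by decide +kernel

theorem fixesCheck : checkFixes = true := by decide +kernel

theorem toMat_graphMat : toMat graphMat = Triality.cMat (ZMod 3) := by
  ext i j
  rcases i with i | i <;> rcases j with j | j <;> fin_cases i <;> fin_cases j <;>
    simp [toMat, graphMat, Triality.cMat, Triality.oConj, pos, dg, Pi.single_apply] <;> decide

end Cfsg.Agent.OEightThree
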