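/-
Certificates for the classes of elements of order three of the eight-dimensional orthogonal group of
plus type over `ZMod 3`.  Produced by a search program, checked by the kernel where used.
-/
import Cfsg.Agent.EqLemmas

set_option autoImplicit false
set_option maxRecDepth 20000

namespace Cfsg.Agent.OEightThree.Data

/-- Part of `level0`. -/
def level0_0 : List (ℕ × ℕ × ℕ) :=
  [(0, 0, 0),
   (1, 0, 0),
   (2, 0, 0)]

/-- The certificate of level 0. -/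
def level0 : List (ℕ × ℕ × ℕ) := List.flatten [level0_0]

/-- Part of `level1`. -/
def level1_0 : List (ℕ × ℕ × ℕ) :=
  [(0, 0, 0),
   (3, 0, 0),
   (6, 0, 0),
   (1, 0, 0),
   (4, 0, 0),
   (7, 0, 0),
   (2, 0, 0),
   (5, 0, 0),
   (8, 0, 0)]

/-- The certificate of level 1. -/
def level1 : List (ℕ × ℕ × ℕ) := List.flatten [level1_0]

/-- Part of `level2`. -/
def level2_0 : List (ℕ × ℕ × ℕ) :=
  [(0, 0, 0),
   (9, 0, 0),
   (18, 0, 0),
   (1, 0, 0),
   (10, 0, 0),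
   (19, 0, 0),
   (2, 0, 0),
   (11, 0, 0),
   (20, 0, 0),
   (3, 0, 0),
   (12, 0, 0),
   (21, 0, 0),
   (4, 0, 0),
   (13, 0, 0),
   (22, 0, 0),
   (5, 0, 0),
   (14, 0, 0),
   (23, 0, 0),
   (6, 0, 0),
   (15, 0, 0),
   (24, 0, 0),
   (7, 0, 0),
   (16, 0, 0),
   (25, 0, 0)]

/-- Part of `level2`. -/
def level2_1 : List (ℕ × ℕ × ℕ) :=
  [(8, 0, 0),
   (17, 0, 0),
   (26, 0, 0)]

/-- The certificate of level 2. -/
def level2 : List (ℕ × ℕ × ℕ) := List.flatten [level2_0, level2_1]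

/-- Part of `level3`. -/
def level3_0 : List (ℕ × ℕ × ℕ) :=
  [(0, 0, 0),
   (27, 0, 0),
   (54, 0, 0),
   (1, 0, 0),
   (28, 0, 0),
   (55, 0, 0),
   (2, 0, 0),
   (29, 0, 0),
   (56, 0, 0),
   (3, 0, 0),
   (30, 0, 0),
   (57, 0, 0),
   (4, 0, 0),
   (31, 0, 0),
   (58, 0, 0),
   (5, 0, 0),
   (32, 0, 0),
   (59, 0, 0),
   (6, 0, 0),
   (33, 0, 0),
   (60, 0, 0),
   (7, 0, 0),
   (34, 0, 0),
   (61, 0, 0)]

/-- Part of `level3`. -/
def level3_1 : List (ℕ × ℕ × ℕ) :=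
  [(8, 0, 0),
   (35, 0, 0),
   (62, 0, 0),
   (9, 0, 0),
   (36, 0, 0),
   (63, 0, 0),
   (10, 0, 0),
   (37, 0, 0),
   (64, 0, 0),
   (11, 0, 0),
   (38, 0, 0),
   (65, 0, 0),
   (12, 0, 0),
   (39, 0, 0),
   (66, 0, 0),
   (13, 0, 0),
   (40, 0, 0),
   (67, 0, 0),
   (14, 0, 0),
   (41, 0, 0),
   (68, 0, 0),
   (15, 0, 0),
   (42, 0, 0),
   (69, 0, 0)]

/-- Part of `level3`. -/
def level3_2 : List (ℕ × ℕ × ℕ) :=
  [(16, 0, 0),
   (43, 0, 0),
   (70, 0, 0),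
   (17, 0, 0),
   (44, 0, 0),
   (71, 0, 0),
   (18, 0, 0),
   (45, 0, 0),
   (72, 0, 0),
   (19, 0, 0),
   (46, 0, 0),
   (73, 0, 0),
   (20, 0, 0),
   (47, 0, 0),
   (74, 0, 0),
   (21, 0, 0),
   (48, 0, 0),
   (75, 0, 0),
   (22, 0, 0),
   (49, 0, 0),
   (76, 0, 0),
   (23, 0, 0),
   (50, 0, 0),
   (77, 0, 0)]

/-- Part of `level3`. -/
def level3_3 : List (ℕ × ℕ × ℕ) :=
  [(24, 0, 0),
   (51, 0, 0),
   (78, 0, 0),
   (25, 0, 0),
   (52, 0, 0),
   (79, 0, 0),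
   (26, 0, 0),
   (53, 0, 0),
   (80, 0, 0)]

/-- The certificate of level 3. -/
def level3 : List (ℕ × ℕ × ℕ) := List.flatten [level3_0, level3_1, level3_2, level3_3]

/-- Part of `level4`. -/
def level4_0 : List (ℕ × ℕ × ℕ) :=
  [(0, 0, 0),
   (81, 0, 0),
   (90, 0, 0),
   (1, 0, 0),
   (1, 16, 0),
   (1, 4, 0),
   (2, 0, 0),
   (2, 4, 0),
   (2, 16, 0),
   (3, 0, 0),
   (82, 0, 0),
   (91, 0, 0),
   (4, 0, 0),
   (4, 16, 658),
   (4, 4, 1414),
   (5, 0, 0),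
   (5, 4, 646),
   (5, 16, 1426),
   (6, 0, 0),
   (83, 0, 0),
   (92, 0, 0),
   (7, 0, 0),
   (7, 16, 1414),
   (7, 4, 658)]

/-- Part of `level4`. -/
def level4_1 : List (ℕ × ℕ × ℕ) :=
  [(8, 0, 0),
   (8, 4, 1426),
   (8, 16, 646),
   (9, 0, 0),
   (84, 0, 0),
   (93, 0, 0),
   (10, 0, 0),
   (10, 16, 1351),
   (10, 4, 595),
   (11, 0, 0),
   (11, 4, 1363),
   (11, 16, 583),
   (12, 0, 0),
   (85, 0, 0),
   (94, 0, 0),
   (13, 0, 0),
   (13, 16, 1661251961298),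
   (13, 4, 1674334995654),
   (14, 0, 0),
   (14, 4, 836618192070),
   (14, 16, 849701323218),
   (15, 0, 0),
   (86, 0, 0),
   (95, 0, 0)]

/-- Part of `level4`. -/
def level4_2 : List (ℕ × ℕ × ℕ) :=
  [(16, 0, 0),
   (16, 16, 849704419782),
   (16, 4, 836615095506),
   (17, 0, 0),
   (17, 4, 1674338190546),
   (17, 16, 1661248766406),
   (18, 0, 0),
   (87, 0, 0),
   (96, 0, 0),
   (19, 0, 0),
   (19, 16, 595),
   (19, 4, 1351),
   (20, 0, 0),
   (20, 4, 583),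
   (20, 16, 1363),
   (21, 0, 0),
   (88, 0, 0),
   (97, 0, 0),
   (22, 0, 0),
   (22, 16, 849499948242),
   (22, 4, 836819567046),
   (23, 0, 0),
   (23, 4, 1674133717446),
   (23, 16, 1661453239506)]

/-- Part of `level4`. -/
def level4_3 : List (ℕ × ℕ × ℕ) :=
  [(24, 0, 0),
   (89, 0, 0),
   (98, 0, 0),
   (25, 0, 0),
   (25, 16, 1661450142918),
   (25, 4, 1674136814034),
   (26, 0, 0),
   (26, 4, 836816372178),
   (26, 16, 849503143110),
   (27, 0, 0),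
   (27, 1, 0),
   (27, 13, 0),
   (28, 0, 0),
   (28, 16, 0),
   (28, 13, 0),
   (29, 0, 0),
   (29, 1, 0),
   (29, 13, 0),
   (30, 0, 0),
   (30, 1, 0),
   (30, 13, 0),
   (31, 0, 0),
   (31, 16, 658),
   (31, 13, 0)]

/-- Part of `level4`. -/
def level4_4 : List (ℕ × ℕ × ℕ) :=
  [(32, 0, 0),
   (32, 1, 0),
   (32, 13, 0),
   (33, 0, 0),
   (33, 1, 0),
   (33, 13, 0),
   (34, 0, 0),
   (34, 16, 1414),
   (34, 13, 0),
   (35, 0, 0),
   (35, 1, 0),
   (35, 13, 0),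
   (36, 0, 0),
   (36, 1, 0),
   (36, 13, 0),
   (37, 0, 0),
   (37, 16, 1351),
   (37, 13, 0),
   (38, 0, 0),
   (38, 1, 0),
   (38, 13, 0),
   (39, 0, 0),
   (39, 1, 0),
   (39, 13, 0)]

/-- Part of `level4`. -/
def level4_5 : List (ℕ × ℕ × ℕ) :=
  [(40, 0, 0),
   (40, 16, 836618240466),
   (40, 13, 0),
   (41, 0, 0),
   (41, 1, 0),
   (41, 13, 0),
   (42, 0, 0),
   (42, 1, 0),
   (42, 13, 0),
   (43, 0, 0),
   (43, 16, 1674338140614),
   (43, 13, 0),
   (44, 0, 0),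
   (44, 1, 0),
   (44, 13, 0),
   (45, 0, 0),
   (45, 1, 0),
   (45, 13, 0),
   (46, 0, 0),
   (46, 16, 595),
   (46, 13, 0),
   (47, 0, 0),
   (47, 1, 0),
   (47, 13, 0)]

/-- Part of `level4`. -/
def level4_6 : List (ℕ × ℕ × ℕ) :=
  [(48, 0, 0),
   (48, 1, 0),
   (48, 13, 0),
   (49, 0, 0),
   (49, 16, 1674133669074),
   (49, 13, 0),
   (50, 0, 0),
   (50, 1, 0),
   (50, 13, 0),
   (51, 0, 0),
   (51, 1, 0),
   (51, 13, 0),
   (52, 0, 0),
   (52, 16, 836816422086),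
   (52, 13, 0),
   (53, 0, 0),
   (53, 1, 0),
   (53, 13, 0),
   (54, 0, 0),
   (54, 13, 0),
   (54, 1, 0),
   (55, 0, 0),
   (55, 13, 0),
   (55, 1, 0)]

/-- Part of `level4`. -/
def level4_7 : List (ℕ × ℕ × ℕ) :=
  [(56, 0, 0),
   (56, 13, 0),
   (56, 16, 0),
   (57, 0, 0),
   (57, 13, 0),
   (57, 1, 0),
   (58, 0, 0),
   (58, 13, 0),
   (58, 1, 0),
   (59, 0, 0),
   (59, 13, 0),
   (59, 16, 1426),
   (60, 0, 0),
   (60, 13, 0),
   (60, 1, 0),
   (61, 0, 0),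
   (61, 13, 0),
   (61, 1, 0),
   (62, 0, 0),
   (62, 13, 0),
   (62, 16, 646),
   (63, 0, 0),
   (63, 13, 0),
   (63, 1, 0)]

/-- Part of `level4`. -/
def level4_8 : List (ℕ × ℕ × ℕ) :=
  [(64, 0, 0),
   (64, 13, 0),
   (64, 1, 0),
   (65, 0, 0),
   (65, 13, 0),
   (65, 16, 583),
   (66, 0, 0),
   (66, 13, 0),
   (66, 1, 0),
   (67, 0, 0),
   (67, 13, 0),
   (67, 1, 0),
   (68, 0, 0),
   (68, 13, 0),
   (68, 16, 25067602386),
   (69, 0, 0),
   (69, 13, 0),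
   (69, 1, 0),
   (70, 0, 0),
   (70, 13, 0),
   (70, 1, 0),
   (71, 0, 0),
   (71, 13, 0),
   (71, 16, 11981324742)]

/-- Part of `level4`. -/
def level4_9 : List (ℕ × ℕ × ℕ) :=
  [(72, 0, 0),
   (72, 13, 0),
   (72, 1, 0),
   (73, 0, 0),
   (73, 13, 0),
   (73, 1, 0),
   (74, 0, 0),
   (74, 13, 0),
   (74, 16, 1363),
   (75, 0, 0),
   (75, 13, 0),
   (75, 1, 0),
   (76, 0, 0),
   (76, 13, 0),
   (76, 1, 0),
   (77, 0, 0),
   (77, 13, 0),
   (77, 16, 12185797842),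
   (78, 0, 0),
   (78, 13, 0),
   (78, 1, 0),
   (79, 0, 0),
   (79, 13, 0),
   (79, 1, 0)]

/-- Part of `level4`. -/
def level4_10 : List (ℕ × ℕ × ℕ) :=
  [(80, 0, 0),
   (80, 13, 0),
   (80, 16, 24869422278)]

/-- The certificate of level 4. -/
def level4 : List (ℕ × ℕ × ℕ) := List.flatten [level4_0, level4_1, level4_2, level4_3, level4_4, level4_5, level4_6, level4_7, level4_8, level4_9, level4_10]

/-- Part of `level5`. -/
def level5_0 : List (ℕ × ℕ × ℕ) :=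
  [(0, 0, 0),
   (123, 0, 0),
   (138, 0, 0),
   (1, 0, 0),
   (124, 0, 0),
   (139, 0, 0),
   (2, 0, 0),
   (125, 0, 0),
   (140, 0, 0),
   (3, 0, 0),
   (3, 16, 0),
   (3, 4, 0),
   (4, 0, 0),
   (104, 16, 10),
   (83, 4, 22),
   (5, 0, 0),
   (84, 16, 22),
   (105, 4, 10),
   (6, 0, 0),
   (6, 4, 0),
   (6, 16, 0),
   (7, 0, 0),
   (86, 4, 10),
   (107, 16, 22)]

/-- Part of `level5`. -/
def level5_1 : List (ℕ × ℕ × ℕ) :=
  [(8, 0, 0),
   (108, 4, 22),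
   (87, 16, 10),
   (9, 0, 0),
   (126, 0, 0),
   (141, 0, 0),
   (10, 0, 0),
   (127, 0, 0),
   (142, 0, 0),
   (11, 0, 0),
   (128, 0, 0),
   (143, 0, 0),
   (12, 0, 0),
   (12, 16, 1287),
   (12, 4, 531),
   (13, 0, 0),
   (111, 16, 25957061895),
   (90, 4, 26161484307),
   (14, 0, 0),
   (91, 16, 13276583175),
   (112, 4, 13072159251),
   (15, 0, 0),
   (15, 4, 1299),
   (15, 16, 519)]

/-- Part of `level5`. -/
def level5_2 : List (ℕ × ℕ × ℕ) :=
  [(16, 0, 0),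
   (93, 4, 13072110867),
   (114, 16, 13276631559),
   (17, 0, 0),
   (115, 4, 26161534227),
   (94, 16, 25957011975),
   (18, 0, 0),
   (129, 0, 0),
   (144, 0, 0),
   (19, 0, 0),
   (130, 0, 0),
   (145, 0, 0),
   (20, 0, 0),
   (131, 0, 0),
   (146, 0, 0),
   (21, 0, 0),
   (21, 16, 531),
   (21, 4, 1287),
   (22, 0, 0),
   (118, 16, 13273436691),
   (97, 4, 13075305735),
   (23, 0, 0),
   (98, 16, 25960206867),
   (119, 4, 26158339335)]

/-- Part of `level5`. -/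
def level5_3 : List (ℕ × ℕ × ℕ) :=
  [(24, 0, 0),
   (24, 4, 519),
   (24, 16, 1299),
   (25, 0, 0),
   (100, 4, 26158387719),
   (121, 16, 25960158483),
   (26, 0, 0),
   (122, 4, 13075255815),
   (101, 16, 13273486611),
   (27, 0, 0),
   (27, 2, 0),
   (27, 14, 0),
   (28, 0, 0),
   (28, 2, 0),
   (28, 14, 0),
   (29, 0, 0),
   (29, 2, 0),
   (29, 14, 0),
   (30, 0, 0),
   (30, 16, 0),
   (30, 14, 0),
   (31, 0, 0),
   (31, 1037, 10),
   (31, 14, 0)]

/-- Part of `level5`. -/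
def level5_4 : List (ℕ × ℕ × ℕ) :=
  [(32, 0, 0),
   (32, 2, 0),
   (32, 14, 0),
   (33, 0, 0),
   (33, 2, 0),
   (33, 14, 0),
   (34, 0, 0),
   (34, 2, 0),
   (34, 14, 0),
   (35, 0, 0),
   (35, 2, 0),
   (35, 14, 0),
   (36, 0, 0),
   (36, 2, 0),
   (36, 14, 0),
   (37, 0, 0),
   (37, 2, 0),
   (37, 14, 0),
   (38, 0, 0),
   (38, 2, 0),
   (38, 14, 0),
   (39, 0, 0),
   (39, 16, 1287),
   (39, 14, 0)]

/-- Part of `level5`. -/
def level5_5 : List (ℕ × ℕ × ℕ) :=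
  [(40, 0, 0),
   (40, 1037, 13273437447),
   (40, 14, 0),
   (41, 0, 0),
   (41, 2, 0),
   (41, 14, 0),
   (42, 0, 0),
   (42, 2, 0),
   (42, 14, 0),
   (43, 0, 0),
   (43, 2, 0),
   (43, 14, 0),
   (44, 0, 0),
   (44, 2, 0),
   (44, 14, 0),
   (45, 0, 0),
   (45, 2, 0),
   (45, 14, 0),
   (46, 0, 0),
   (46, 2, 0),
   (46, 14, 0),
   (47, 0, 0),
   (47, 2, 0),
   (47, 14, 0)]

/-- Part of `level5`. -/
def level5_6 : List (ℕ × ℕ × ℕ) :=
  [(48, 0, 0),
   (48, 16, 531),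
   (48, 14, 0),
   (49, 0, 0),
   (49, 1037, 25957061139),
   (49, 14, 0),
   (50, 0, 0),
   (50, 2, 0),
   (50, 14, 0),
   (51, 0, 0),
   (51, 2, 0),
   (51, 14, 0),
   (52, 0, 0),
   (52, 2, 0),
   (52, 14, 0),
   (53, 0, 0),
   (53, 2, 0),
   (53, 14, 0),
   (54, 0, 0),
   (54, 14, 0),
   (54, 2, 0),
   (55, 0, 0),
   (55, 14, 0),
   (55, 2, 0)]

/-- Part of `level5`. -/
def level5_7 : List (ℕ × ℕ × ℕ) :=
  [(56, 0, 0),
   (56, 14, 0),
   (56, 2, 0),
   (57, 0, 0),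
   (57, 14, 0),
   (57, 2, 0),
   (58, 0, 0),
   (58, 14, 0),
   (58, 2, 0),
   (59, 0, 0),
   (59, 14, 0),
   (59, 2, 0),
   (60, 0, 0),
   (60, 14, 0),
   (60, 16, 0),
   (61, 0, 0),
   (61, 14, 0),
   (61, 2, 0),
   (62, 0, 0),
   (62, 14, 0),
   (62, 1037, 10),
   (63, 0, 0),
   (63, 14, 0),
   (63, 2, 0)]

/-- Part of `level5`. -/
def level5_8 : List (ℕ × ℕ × ℕ) :=
  [(64, 0, 0),
   (64, 14, 0),
   (64, 2, 0),
   (65, 0, 0),
   (65, 14, 0),
   (65, 2, 0),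
   (66, 0, 0),
   (66, 14, 0),
   (66, 2, 0),
   (67, 0, 0),
   (67, 14, 0),
   (67, 2, 0),
   (68, 0, 0),
   (68, 14, 0),
   (68, 2, 0),
   (69, 0, 0),
   (69, 14, 0),
   (69, 16, 519),
   (70, 0, 0),
   (70, 14, 0),
   (70, 2, 0),
   (71, 0, 0),
   (71, 14, 0),
   (71, 1037, 41479)]

/-- Part of `level5`. -/
def level5_9 : List (ℕ × ℕ × ℕ) :=
  [(72, 0, 0),
   (72, 14, 0),
   (72, 2, 0),
   (73, 0, 0),
   (73, 14, 0),
   (73, 2, 0),
   (74, 0, 0),
   (74, 14, 0),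
   (74, 2, 0),
   (75, 0, 0),
   (75, 14, 0),
   (75, 2, 0),
   (76, 0, 0),
   (76, 14, 0),
   (76, 2, 0),
   (77, 0, 0),
   (77, 14, 0),
   (77, 2, 0),
   (78, 0, 0),
   (78, 14, 0),
   (78, 16, 1299),
   (79, 0, 0),
   (79, 14, 0),
   (79, 2, 0)]

/-- Part of `level5`. -/
def level5_10 : List (ℕ × ℕ × ℕ) :=
  [(80, 0, 0),
   (80, 14, 0),
   (80, 1037, 42259),
   (81, 0, 0),
   (132, 0, 0),
   (147, 0, 0),
   (82, 0, 0),
   (82, 16, 0),
   (82, 4, 0),
   (85, 0, 0),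
   (85, 4, 0),
   (85, 16, 0),
   (88, 0, 0),
   (133, 0, 0),
   (148, 0, 0),
   (89, 0, 0),
   (89, 16, 50439),
   (89, 4, 98835),
   (92, 0, 0),
   (92, 4, 50451),
   (92, 16, 98823),
   (95, 0, 0),
   (134, 0, 0),
   (149, 0, 0)]

/-- Part of `level5`. -/
def level5_11 : List (ℕ × ℕ × ℕ) :=
  [(96, 0, 0),
   (96, 16, 98835),
   (96, 4, 50439),
   (99, 0, 0),
   (99, 4, 98823),
   (99, 16, 50451),
   (102, 0, 0),
   (135, 0, 0),
   (150, 0, 0),
   (103, 0, 0),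
   (103, 16, 0),
   (103, 4, 0),
   (106, 0, 0),
   (106, 4, 0),
   (106, 16, 0),
   (109, 0, 0),
   (136, 0, 0),
   (151, 0, 0),
   (110, 0, 0),
   (110, 16, 99591),
   (110, 4, 49683),
   (113, 0, 0),
   (113, 4, 99603),
   (113, 16, 49671)]

/-- Part of `level5`. -/
def level5_12 : List (ℕ × ℕ × ℕ) :=
  [(116, 0, 0),
   (137, 0, 0),
   (152, 0, 0),
   (117, 0, 0),
   (117, 16, 49683),
   (117, 4, 99591),
   (120, 0, 0),
   (120, 4, 49671),
   (120, 16, 99603)]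

/-- The certificate of level 5. -/
def level5 : List (ℕ × ℕ × ℕ) := List.flatten [level5_0, level5_1, level5_2, level5_3, level5_4, level5_5, level5_6, level5_7, level5_8, level5_9, level5_10, level5_11, level5_12]

/-- Part of `level6`. -/
def level6_0 : List (ℕ × ℕ × ℕ) :=
  [(0, 0, 0),
   (249, 0, 0),
   (282, 0, 0),
   (1, 0, 0),
   (250, 0, 0),
   (283, 0, 0),
   (2, 0, 0),
   (251, 0, 0),
   (284, 0, 0),
   (3, 0, 0),
   (252, 0, 0),
   (285, 0, 0),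
   (4, 0, 0),
   (253, 0, 0),
   (286, 0, 0),
   (5, 0, 0),
   (254, 0, 0),
   (287, 0, 0),
   (6, 0, 0),
   (255, 0, 0),
   (288, 0, 0),
   (7, 0, 0),
   (256, 0, 0),
   (289, 0, 0)]

/-- Part of `level6`. -/
def level6_1 : List (ℕ × ℕ × ℕ) :=
  [(8, 0, 0),
   (257, 0, 0),
   (290, 0, 0),
   (9, 0, 0),
   (9, 4, 0),
   (9, 16, 0),
   (10, 0, 0),
   (89, 4, 9),
   (114, 16, 21),
   (11, 0, 0),
   (115, 4, 21),
   (90, 16, 9),
   (12, 0, 0),
   (137, 4, 8),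
   (196, 16, 20),
   (13, 0, 0),
   (157, 4, 408773192),
   (235, 16, 405579092),
   (14, 0, 0),
   (177, 4, 204252488),
   (217, 16, 207446612),
   (15, 0, 0),
   (199, 4, 20),
   (140, 16, 8)]

/-- Part of `level6`. -/
def level6_2 : List (ℕ × ℕ × ℕ) :=
  [(16, 0, 0),
   (219, 4, 204251732),
   (179, 16, 207447368),
   (17, 0, 0),
   (239, 4, 408773972),
   (161, 16, 405578312),
   (18, 0, 0),
   (18, 16, 0),
   (18, 4, 0),
   (19, 0, 0),
   (123, 16, 9),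
   (98, 4, 21),
   (20, 0, 0),
   (99, 16, 21),
   (124, 4, 9),
   (21, 0, 0),
   (205, 16, 8),
   (146, 4, 20),
   (22, 0, 0),
   (244, 16, 207397448),
   (166, 4, 204301652),
   (23, 0, 0),
   (226, 16, 405628232),
   (186, 4, 408724052)]

/-- Part of `level6`. -/
def level6_3 : List (ℕ × ℕ × ℕ) :=
  [(24, 0, 0),
   (149, 16, 20),
   (208, 4, 8),
   (25, 0, 0),
   (188, 16, 405627476),
   (228, 4, 408724808),
   (26, 0, 0),
   (170, 16, 207398228),
   (248, 4, 204300872),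
   (27, 0, 0),
   (27, 15, 0),
   (27, 3, 0),
   (28, 0, 0),
   (28, 15, 0),
   (28, 3, 0),
   (29, 0, 0),
   (29, 15, 0),
   (29, 3, 0),
   (30, 0, 0),
   (30, 15, 0),
   (30, 3, 0),
   (31, 0, 0),
   (31, 15, 0),
   (31, 3, 0)]

/-- Part of `level6`. -/
def level6_4 : List (ℕ × ℕ × ℕ) :=
  [(32, 0, 0),
   (32, 15, 0),
   (32, 3, 0),
   (33, 0, 0),
   (33, 15, 0),
   (33, 3, 0),
   (34, 0, 0),
   (34, 15, 0),
   (34, 3, 0),
   (35, 0, 0),
   (35, 15, 0),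
   (35, 3, 0),
   (36, 0, 0),
   (36, 15, 0),
   (36, 16, 0),
   (37, 0, 0),
   (37, 15, 0),
   (37, 1037, 21),
   (38, 0, 0),
   (38, 15, 0),
   (38, 3, 0),
   (39, 0, 0),
   (39, 15, 0),
   (39, 1038, 20)]

/-- Part of `level6`. -/
def level6_5 : List (ℕ × ℕ × ℕ) :=
  [(40, 0, 0),
   (40, 15, 0),
   (40, 3, 0),
   (41, 0, 0),
   (41, 15, 0),
   (41, 3, 0),
   (42, 0, 0),
   (42, 15, 0),
   (42, 3, 0),
   (43, 0, 0),
   (43, 15, 0),
   (43, 3, 0),
   (44, 0, 0),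
   (44, 15, 0),
   (44, 3, 0),
   (45, 0, 0),
   (45, 15, 0),
   (45, 3, 0),
   (46, 0, 0),
   (46, 15, 0),
   (46, 3, 0),
   (47, 0, 0),
   (47, 15, 0),
   (47, 3, 0)]

/-- Part of `level6`. -/
def level6_6 : List (ℕ × ℕ × ℕ) :=
  [(48, 0, 0),
   (48, 15, 0),
   (48, 3, 0),
   (49, 0, 0),
   (49, 15, 0),
   (49, 3, 0),
   (50, 0, 0),
   (50, 15, 0),
   (50, 3, 0),
   (51, 0, 0),
   (51, 15, 0),
   (51, 3, 0),
   (52, 0, 0),
   (52, 15, 0),
   (52, 3, 0),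
   (53, 0, 0),
   (53, 15, 0),
   (53, 3, 0),
   (54, 0, 0),
   (54, 3, 0),
   (54, 15, 0),
   (55, 0, 0),
   (55, 3, 0),
   (55, 15, 0)]

/-- Part of `level6`. -/
def level6_7 : List (ℕ × ℕ × ℕ) :=
  [(56, 0, 0),
   (56, 3, 0),
   (56, 15, 0),
   (57, 0, 0),
   (57, 3, 0),
   (57, 15, 0),
   (58, 0, 0),
   (58, 3, 0),
   (58, 15, 0),
   (59, 0, 0),
   (59, 3, 0),
   (59, 15, 0),
   (60, 0, 0),
   (60, 3, 0),
   (60, 15, 0),
   (61, 0, 0),
   (61, 3, 0),
   (61, 15, 0),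
   (62, 0, 0),
   (62, 3, 0),
   (62, 15, 0),
   (63, 0, 0),
   (63, 3, 0),
   (63, 15, 0)]

/-- Part of `level6`. -/
def level6_8 : List (ℕ × ℕ × ℕ) :=
  [(64, 0, 0),
   (64, 3, 0),
   (64, 15, 0),
   (65, 0, 0),
   (65, 3, 0),
   (65, 15, 0),
   (66, 0, 0),
   (66, 3, 0),
   (66, 15, 0),
   (67, 0, 0),
   (67, 3, 0),
   (67, 15, 0),
   (68, 0, 0),
   (68, 3, 0),
   (68, 15, 0),
   (69, 0, 0),
   (69, 3, 0),
   (69, 15, 0),
   (70, 0, 0),
   (70, 3, 0),
   (70, 15, 0),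
   (71, 0, 0),
   (71, 3, 0),
   (71, 15, 0)]

/-- Part of `level6`. -/
def level6_9 : List (ℕ × ℕ × ℕ) :=
  [(72, 0, 0),
   (72, 16, 0),
   (72, 15, 0),
   (73, 0, 0),
   (73, 3, 0),
   (73, 15, 0),
   (74, 0, 0),
   (74, 1037, 21),
   (74, 15, 0),
   (75, 0, 0),
   (75, 3, 0),
   (75, 15, 0),
   (76, 0, 0),
   (76, 3, 0),
   (76, 15, 0),
   (77, 0, 0),
   (77, 3, 0),
   (77, 15, 0),
   (78, 0, 0),
   (78, 1038, 20),
   (78, 15, 0),
   (79, 0, 0),
   (79, 3, 0),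
   (79, 15, 0)]

/-- Part of `level6`. -/
def level6_10 : List (ℕ × ℕ × ℕ) :=
  [(80, 0, 0),
   (80, 3, 0),
   (80, 15, 0),
   (81, 0, 0),
   (258, 0, 0),
   (291, 0, 0),
   (82, 0, 0),
   (259, 0, 0),
   (292, 0, 0),
   (83, 0, 0),
   (260, 0, 0),
   (293, 0, 0),
   (84, 0, 0),
   (261, 0, 0),
   (294, 0, 0),
   (85, 0, 0),
   (262, 0, 0),
   (295, 0, 0),
   (86, 0, 0),
   (263, 0, 0),
   (296, 0, 0),
   (87, 0, 0),
   (264, 0, 0),
   (297, 0, 0)]

/-- Part of `level6`. -/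
def level6_11 : List (ℕ × ℕ × ℕ) :=
  [(88, 0, 0),
   (88, 4, 0),
   (88, 16, 0),
   (91, 0, 0),
   (156, 4, 1544),
   (215, 16, 788),
   (92, 0, 0),
   (176, 4, 207446600),
   (197, 16, 2925908),
   (93, 0, 0),
   (139, 4, 2925896),
   (236, 16, 408773204),
   (94, 0, 0),
   (218, 4, 788),
   (159, 16, 1544),
   (95, 0, 0),
   (238, 4, 405578324),
   (141, 16, 6120776),
   (96, 0, 0),
   (201, 4, 6120788),
   (180, 16, 204251720),
   (97, 0, 0),
   (97, 16, 0),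
   (97, 4, 0)]

/-- Part of `level6`. -/
def level6_12 : List (ℕ × ℕ × ℕ) :=
  [(100, 0, 0),
   (224, 16, 1544),
   (165, 4, 788),
   (101, 0, 0),
   (206, 16, 6070856),
   (185, 4, 405628244),
   (102, 0, 0),
   (245, 16, 204301640),
   (148, 4, 6070868),
   (103, 0, 0),
   (168, 16, 788),
   (227, 4, 1544),
   (104, 0, 0),
   (150, 16, 2974292),
   (247, 4, 207398216),
   (105, 0, 0),
   (189, 16, 408724820),
   (210, 4, 2974280),
   (106, 0, 0),
   (265, 0, 0),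
   (298, 0, 0),
   (107, 0, 0),
   (266, 0, 0),
   (299, 0, 0)]

/-- Part of `level6`. -/
def level6_13 : List (ℕ × ℕ × ℕ) :=
  [(108, 0, 0),
   (267, 0, 0),
   (300, 0, 0),
   (109, 0, 0),
   (268, 0, 0),
   (301, 0, 0),
   (110, 0, 0),
   (269, 0, 0),
   (302, 0, 0),
   (111, 0, 0),
   (270, 0, 0),
   (303, 0, 0),
   (112, 0, 0),
   (271, 0, 0),
   (304, 0, 0),
   (113, 0, 0),
   (113, 4, 0),
   (113, 16, 0),
   (116, 0, 0),
   (175, 4, 776),
   (234, 16, 1556),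
   (117, 0, 0),
   (138, 4, 6120008),
   (216, 16, 204252500)]

/-- Part of `level6`. -/
def level6_14 : List (ℕ × ℕ × ℕ) :=
  [(118, 0, 0),
   (158, 4, 405579080),
   (198, 16, 6120020),
   (119, 0, 0),
   (237, 4, 1556),
   (178, 16, 776),
   (120, 0, 0),
   (200, 4, 2925140),
   (160, 16, 408773960),
   (121, 0, 0),
   (220, 4, 207447380),
   (142, 16, 2925128),
   (122, 0, 0),
   (122, 16, 0),
   (122, 4, 0),
   (125, 0, 0),
   (243, 16, 776),
   (184, 4, 1556),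
   (126, 0, 0),
   (225, 16, 408724040),
   (147, 4, 2975060),
   (127, 0, 0),
   (207, 16, 2975048),
   (167, 4, 207397460)]

/-- Part of `level6`. -/
def level6_15 : List (ℕ × ℕ × ℕ) :=
  [(128, 0, 0),
   (187, 16, 1556),
   (246, 4, 776),
   (129, 0, 0),
   (169, 16, 204300884),
   (209, 4, 6071624),
   (130, 0, 0),
   (151, 16, 6071636),
   (229, 4, 405627464),
   (131, 0, 0),
   (272, 0, 0),
   (305, 0, 0),
   (132, 0, 0),
   (273, 0, 0),
   (306, 0, 0),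
   (133, 0, 0),
   (274, 0, 0),
   (307, 0, 0),
   (134, 0, 0),
   (134, 4, 0),
   (134, 16, 0),
   (135, 0, 0),
   (154, 4, 1545),
   (173, 16, 789)]

/-- Part of `level6`. -/
def level6_16 : List (ℕ × ℕ × ℕ) :=
  [(136, 0, 0),
   (174, 4, 789),
   (155, 16, 1545),
   (143, 0, 0),
   (143, 16, 0),
   (143, 4, 0),
   (144, 0, 0),
   (182, 16, 1545),
   (163, 4, 789),
   (145, 0, 0),
   (164, 16, 789),
   (183, 4, 1545),
   (152, 0, 0),
   (275, 0, 0),
   (308, 0, 0),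
   (153, 0, 0),
   (153, 4, 0),
   (153, 16, 0),
   (162, 0, 0),
   (162, 16, 0),
   (162, 4, 0),
   (171, 0, 0),
   (276, 0, 0),
   (309, 0, 0)]

/-- Part of `level6`. -/
def level6_17 : List (ℕ × ℕ × ℕ) :=
  [(172, 0, 0),
   (172, 4, 0),
   (172, 16, 0),
   (181, 0, 0),
   (181, 16, 0),
   (181, 4, 0),
   (190, 0, 0),
   (277, 0, 0),
   (310, 0, 0),
   (191, 0, 0),
   (278, 0, 0),
   (311, 0, 0),
   (192, 0, 0),
   (279, 0, 0),
   (312, 0, 0),
   (193, 0, 0),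
   (193, 4, 0),
   (193, 16, 0),
   (194, 0, 0),
   (213, 4, 777),
   (232, 16, 1557),
   (195, 0, 0),
   (233, 4, 1557),
   (214, 16, 777)]

/-- Part of `level6`. -/
def level6_18 : List (ℕ × ℕ × ℕ) :=
  [(202, 0, 0),
   (202, 16, 0),
   (202, 4, 0),
   (203, 0, 0),
   (241, 16, 777),
   (222, 4, 1557),
   (204, 0, 0),
   (223, 16, 1557),
   (242, 4, 777),
   (211, 0, 0),
   (280, 0, 0),
   (313, 0, 0),
   (212, 0, 0),
   (212, 4, 0),
   (212, 16, 0),
   (221, 0, 0),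
   (221, 16, 0),
   (221, 4, 0),
   (230, 0, 0),
   (281, 0, 0),
   (314, 0, 0),
   (231, 0, 0),
   (231, 4, 0),
   (231, 16, 0)]

/-- Part of `level6`. -/
def level6_19 : List (ℕ × ℕ × ℕ) :=
  [(240, 0, 0),
   (240, 16, 0),
   (240, 4, 0)]

/-- The certificate of level 6. -/
def level6 : List (ℕ × ℕ × ℕ) := List.flatten [level6_0, level6_1, level6_2, level6_3, level6_4, level6_5, level6_6, level6_7, level6_8, level6_9, level6_10, level6_11, level6_12, level6_13, level6_14, level6_15, level6_16, level6_17, level6_18, level6_19]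

/-- Part of `level7`. -/
def level7_0 : List (ℕ × ℕ × ℕ) :=
  [(0, 0, 0),
   (327, 0, 0),
   (332, 0, 0),
   (1, 0, 0),
   (328, 0, 0),
   (333, 0, 0),
   (2, 0, 0),
   (329, 0, 0),
   (334, 0, 0),
   (3, 0, 0),
   (3, 7, 0),
   (3, 19, 0),
   (4, 0, 0),
   (4, 7, 725),
   (4, 19, 1481),
   (5, 0, 0),
   (5, 7, 1481),
   (5, 19, 725),
   (6, 0, 0),
   (6, 19, 0),
   (6, 7, 0),
   (7, 0, 0),
   (7, 19, 713),
   (7, 7, 1493)]

/-- Part of `level7`. -/
def level7_1 : List (ℕ × ℕ × ℕ) :=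
  [(8, 0, 0),
   (8, 19, 1493),
   (8, 7, 713),
   (9, 0, 0),
   (9, 18, 0),
   (9, 6, 0),
   (10, 0, 0),
   (10, 18, 714),
   (10, 6, 1494),
   (11, 0, 0),
   (11, 18, 1494),
   (11, 6, 714),
   (12, 0, 0),
   (12, 18, 0),
   (12, 19, 0),
   (13, 0, 0),
   (13, 18, 714),
   (13, 19, 1481),
   (14, 0, 0),
   (14, 18, 1494),
   (14, 19, 725),
   (15, 0, 0),
   (15, 18, 0),
   (15, 6, 0)]

/-- Part of `level7`. -/
def level7_2 : List (ℕ × ℕ × ℕ) :=
  [(16, 0, 0),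
   (16, 18, 714),
   (16, 6, 1494),
   (17, 0, 0),
   (17, 18, 1494),
   (17, 6, 714),
   (18, 0, 0),
   (18, 6, 0),
   (18, 18, 0),
   (19, 0, 0),
   (19, 6, 726),
   (19, 18, 1482),
   (20, 0, 0),
   (20, 6, 1482),
   (20, 18, 726),
   (21, 0, 0),
   (21, 6, 0),
   (21, 18, 0),
   (22, 0, 0),
   (22, 6, 726),
   (22, 18, 1482),
   (23, 0, 0),
   (23, 6, 1482),
   (23, 18, 726)]

/-- Part of `level7`. -/
def level7_3 : List (ℕ × ℕ × ℕ) :=
  [(24, 0, 0),
   (24, 19, 0),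
   (24, 18, 0),
   (25, 0, 0),
   (25, 19, 713),
   (25, 18, 1482),
   (26, 0, 0),
   (26, 19, 1493),
   (26, 18, 726),
   (27, 0, 0),
   (275, 206, 0),
   (286, 194, 0),
   (28, 0, 0),
   (276, 206, 0),
   (287, 194, 0),
   (29, 0, 0),
   (277, 206, 0),
   (288, 194, 0),
   (30, 0, 0),
   (30, 7, 0),
   (30, 19, 0),
   (31, 0, 0),
   (31, 7, 99029),
   (31, 19, 50633)]

/-- Part of `level7`. -/
def level7_4 : List (ℕ × ℕ × ℕ) :=
  [(32, 0, 0),
   (32, 7, 50633),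
   (32, 19, 99029),
   (33, 0, 0),
   (33, 19, 0),
   (33, 7, 0),
   (34, 0, 0),
   (34, 19, 99017),
   (34, 7, 50645),
   (35, 0, 0),
   (35, 19, 50645),
   (35, 7, 99017),
   (36, 0, 0),
   (36, 18, 0),
   (36, 6, 0),
   (37, 0, 0),
   (37, 18, 99018),
   (37, 6, 50646),
   (38, 0, 0),
   (38, 18, 50646),
   (38, 6, 99018),
   (39, 0, 0),
   (39, 18, 0),
   (39, 19, 0)]

/-- Part of `level7`. -/
def level7_5 : List (ℕ × ℕ × ℕ) :=
  [(40, 0, 0),
   (40, 18, 99018),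
   (40, 19, 50633),
   (41, 0, 0),
   (41, 18, 50646),
   (41, 19, 99029),
   (42, 0, 0),
   (42, 18, 0),
   (42, 6, 0),
   (43, 0, 0),
   (43, 18, 99018),
   (43, 6, 50646),
   (44, 0, 0),
   (44, 18, 50646),
   (44, 6, 99018),
   (45, 0, 0),
   (45, 6, 0),
   (45, 18, 0),
   (46, 0, 0),
   (46, 6, 99030),
   (46, 18, 50634),
   (47, 0, 0),
   (47, 6, 50634),
   (47, 18, 99030)]

/-- Part of `level7`. -/
def level7_6 : List (ℕ × ℕ × ℕ) :=
  [(48, 0, 0),
   (48, 6, 0),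
   (48, 18, 0),
   (49, 0, 0),
   (49, 6, 99030),
   (49, 18, 50634),
   (50, 0, 0),
   (50, 6, 50634),
   (50, 18, 99030),
   (51, 0, 0),
   (51, 19, 0),
   (51, 18, 0),
   (52, 0, 0),
   (52, 19, 99017),
   (52, 18, 50634),
   (53, 0, 0),
   (53, 19, 50645),
   (53, 18, 99030),
   (54, 0, 0),
   (289, 974, 0),
   (278, 962, 0),
   (55, 0, 0),
   (290, 974, 0),
   (279, 962, 0)]

/-- Part of `level7`. -/
def level7_7 : List (ℕ × ℕ × ℕ) :=
  [(56, 0, 0),
   (291, 974, 0),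
   (280, 962, 0),
   (57, 0, 0),
   (57, 7, 0),
   (57, 19, 0),
   (58, 0, 0),
   (58, 7, 49877),
   (58, 19, 99785),
   (59, 0, 0),
   (59, 7, 99785),
   (59, 19, 49877),
   (60, 0, 0),
   (60, 19, 0),
   (60, 7, 0),
   (61, 0, 0),
   (61, 19, 49865),
   (61, 7, 99797),
   (62, 0, 0),
   (62, 19, 99797),
   (62, 7, 49865),
   (63, 0, 0),
   (63, 18, 0),
   (63, 6, 0)]

/-- Part of `level7`. -/
def level7_8 : List (ℕ × ℕ × ℕ) :=
  [(64, 0, 0),
   (64, 18, 49866),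
   (64, 6, 99798),
   (65, 0, 0),
   (65, 18, 99798),
   (65, 6, 49866),
   (66, 0, 0),
   (66, 18, 0),
   (66, 19, 0),
   (67, 0, 0),
   (67, 18, 49866),
   (67, 19, 99785),
   (68, 0, 0),
   (68, 18, 99798),
   (68, 19, 49877),
   (69, 0, 0),
   (69, 18, 0),
   (69, 6, 0),
   (70, 0, 0),
   (70, 18, 49866),
   (70, 6, 99798),
   (71, 0, 0),
   (71, 18, 99798),
   (71, 6, 49866)]

/-- Part of `level7`. -/
def level7_9 : List (ℕ × ℕ × ℕ) :=
  [(72, 0, 0),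
   (72, 6, 0),
   (72, 18, 0),
   (73, 0, 0),
   (73, 6, 49878),
   (73, 18, 99786),
   (74, 0, 0),
   (74, 6, 99786),
   (74, 18, 49878),
   (75, 0, 0),
   (75, 6, 0),
   (75, 18, 0),
   (76, 0, 0),
   (76, 6, 49878),
   (76, 18, 99786),
   (77, 0, 0),
   (77, 6, 99786),
   (77, 18, 49878),
   (78, 0, 0),
   (78, 19, 0),
   (78, 18, 0),
   (79, 0, 0),
   (79, 19, 49865),
   (79, 18, 99786)]

/-- Part of `level7`. -/
def level7_10 : List (ℕ × ℕ × ℕ) :=
  [(80, 0, 0),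
   (80, 19, 99797),
   (80, 18, 49878),
   (81, 0, 0),
   (330, 0, 0),
   (335, 0, 0),
   (82, 0, 0),
   (82, 7, 12),
   (82, 19, 24),
   (83, 0, 0),
   (83, 7, 49877),
   (83, 19, 99785),
   (84, 0, 0),
   (84, 7, 50633),
   (84, 19, 99029),
   (85, 0, 0),
   (85, 19, 12),
   (85, 7, 24),
   (86, 0, 0),
   (86, 19, 49865),
   (86, 7, 99797),
   (87, 0, 0),
   (87, 19, 50645),
   (87, 7, 99017)]

/-- Part of `level7`. -/
def level7_11 : List (ℕ × ℕ × ℕ) :=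
  [(88, 0, 0),
   (88, 18, 12),
   (88, 6, 24),
   (89, 0, 0),
   (89, 18, 49866),
   (89, 6, 99798),
   (90, 0, 0),
   (90, 18, 50646),
   (90, 6, 99018),
   (91, 0, 0),
   (91, 18, 12),
   (91, 19, 24),
   (92, 0, 0),
   (92, 18, 49866),
   (92, 19, 99785),
   (93, 0, 0),
   (93, 18, 50646),
   (93, 19, 99029),
   (94, 0, 0),
   (94, 18, 12),
   (94, 6, 24),
   (95, 0, 0),
   (95, 18, 49866),
   (95, 6, 99798)]

/-- Part of `level7`. -/
def level7_12 : List (ℕ × ℕ × ℕ) :=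
  [(96, 0, 0),
   (96, 18, 50646),
   (96, 6, 99018),
   (97, 0, 0),
   (97, 6, 12),
   (97, 18, 24),
   (98, 0, 0),
   (98, 6, 49878),
   (98, 18, 99786),
   (99, 0, 0),
   (99, 6, 50634),
   (99, 18, 99030),
   (100, 0, 0),
   (100, 6, 12),
   (100, 18, 24),
   (101, 0, 0),
   (101, 6, 49878),
   (101, 18, 99786),
   (102, 0, 0),
   (102, 6, 50634),
   (102, 18, 99030),
   (103, 0, 0),
   (103, 19, 12),
   (103, 18, 24)]

/-- Part of `level7`. -/
def level7_13 : List (ℕ × ℕ × ℕ) :=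
  [(104, 0, 0),
   (104, 19, 49865),
   (104, 18, 99786),
   (105, 0, 0),
   (105, 19, 50645),
   (105, 18, 99030),
   (106, 0, 0),
   (331, 0, 0),
   (336, 0, 0),
   (107, 0, 0),
   (107, 7, 24),
   (107, 19, 12),
   (108, 0, 0),
   (108, 7, 99029),
   (108, 19, 50633),
   (109, 0, 0),
   (109, 7, 99785),
   (109, 19, 49877),
   (110, 0, 0),
   (110, 19, 24),
   (110, 7, 12),
   (111, 0, 0),
   (111, 19, 99017),
   (111, 7, 50645)]

/-- Part of `level7`. -/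
def level7_14 : List (ℕ × ℕ × ℕ) :=
  [(112, 0, 0),
   (112, 19, 99797),
   (112, 7, 49865),
   (113, 0, 0),
   (113, 18, 24),
   (113, 6, 12),
   (114, 0, 0),
   (114, 18, 99018),
   (114, 6, 50646),
   (115, 0, 0),
   (115, 18, 99798),
   (115, 6, 49866),
   (116, 0, 0),
   (116, 18, 24),
   (116, 19, 12),
   (117, 0, 0),
   (117, 18, 99018),
   (117, 19, 50633),
   (118, 0, 0),
   (118, 18, 99798),
   (118, 19, 49877),
   (119, 0, 0),
   (119, 18, 24),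
   (119, 6, 12)]

/-- Part of `level7`. -/
def level7_15 : List (ℕ × ℕ × ℕ) :=
  [(120, 0, 0),
   (120, 18, 99018),
   (120, 6, 50646),
   (121, 0, 0),
   (121, 18, 99798),
   (121, 6, 49866),
   (122, 0, 0),
   (122, 6, 24),
   (122, 18, 12),
   (123, 0, 0),
   (123, 6, 99030),
   (123, 18, 50634),
   (124, 0, 0),
   (124, 6, 99786),
   (124, 18, 49878),
   (125, 0, 0),
   (125, 6, 24),
   (125, 18, 12),
   (126, 0, 0),
   (126, 6, 99030),
   (126, 18, 50634),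
   (127, 0, 0),
   (127, 6, 99786),
   (127, 18, 49878)]

/-- Part of `level7`. -/
def level7_16 : List (ℕ × ℕ × ℕ) :=
  [(128, 0, 0),
   (128, 19, 24),
   (128, 18, 12),
   (129, 0, 0),
   (129, 19, 99017),
   (129, 18, 50634),
   (130, 0, 0),
   (130, 19, 99797),
   (130, 18, 49878),
   (131, 0, 0),
   (131, 3, 0),
   (131, 15, 0),
   (132, 0, 0),
   (132, 3, 0),
   (132, 15, 0),
   (133, 0, 0),
   (133, 3, 0),
   (133, 15, 0),
   (134, 0, 0),
   (134, 18, 0),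
   (134, 15, 0),
   (135, 0, 0),
   (135, 18, 714),
   (135, 15, 0)]

/-- Part of `level7`. -/
def level7_17 : List (ℕ × ℕ × ℕ) :=
  [(136, 0, 0),
   (136, 18, 1494),
   (136, 15, 0),
   (137, 0, 0),
   (137, 18, 0),
   (137, 15, 0),
   (138, 0, 0),
   (138, 18, 714),
   (138, 15, 0),
   (139, 0, 0),
   (139, 18, 1494),
   (139, 15, 0),
   (140, 0, 0),
   (140, 18, 0),
   (140, 15, 0),
   (141, 0, 0),
   (141, 18, 714),
   (141, 15, 0),
   (142, 0, 0),
   (142, 18, 1494),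
   (142, 15, 0),
   (143, 0, 0),
   (143, 3, 0),
   (143, 15, 0)]

/-- Part of `level7`. -/
def level7_18 : List (ℕ × ℕ × ℕ) :=
  [(144, 0, 0),
   (144, 3, 0),
   (144, 15, 0),
   (145, 0, 0),
   (145, 3, 0),
   (145, 15, 0),
   (146, 0, 0),
   (146, 3, 0),
   (146, 15, 0),
   (147, 0, 0),
   (147, 3, 0),
   (147, 15, 0),
   (148, 0, 0),
   (148, 3, 0),
   (148, 15, 0),
   (149, 0, 0),
   (149, 19, 0),
   (149, 15, 0),
   (150, 0, 0),
   (150, 19, 99017),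
   (150, 15, 0),
   (151, 0, 0),
   (151, 19, 50645),
   (151, 15, 0)]

/-- Part of `level7`. -/
def level7_19 : List (ℕ × ℕ × ℕ) :=
  [(152, 0, 0),
   (152, 3, 789),
   (152, 15, 1545),
   (153, 0, 0),
   (153, 18, 12),
   (153, 15, 1545),
   (154, 0, 0),
   (154, 18, 49866),
   (154, 15, 1545),
   (155, 0, 0),
   (155, 18, 50646),
   (155, 15, 1545),
   (156, 0, 0),
   (156, 18, 12),
   (156, 15, 1545),
   (157, 0, 0),
   (157, 18, 49866),
   (157, 15, 1545),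
   (158, 0, 0),
   (158, 18, 50646),
   (158, 15, 1545),
   (159, 0, 0),
   (159, 18, 12),
   (159, 15, 1545)]

/-- Part of `level7`. -/
def level7_20 : List (ℕ × ℕ × ℕ) :=
  [(160, 0, 0),
   (160, 18, 49866),
   (160, 15, 1545),
   (161, 0, 0),
   (161, 18, 50646),
   (161, 15, 1545),
   (162, 0, 0),
   (162, 3, 789),
   (162, 15, 1545),
   (163, 0, 0),
   (163, 3, 789),
   (163, 15, 1545),
   (164, 0, 0),
   (164, 3, 789),
   (164, 15, 1545),
   (165, 0, 0),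
   (165, 3, 789),
   (165, 15, 1545),
   (166, 0, 0),
   (166, 3, 789),
   (166, 15, 1545),
   (167, 0, 0),
   (167, 3, 789),
   (167, 15, 1545)]

/-- Part of `level7`. -/
def level7_21 : List (ℕ × ℕ × ℕ) :=
  [(168, 0, 0),
   (168, 19, 12),
   (168, 15, 1545),
   (169, 0, 0),
   (169, 19, 713),
   (169, 15, 1545),
   (170, 0, 0),
   (170, 19, 99797),
   (170, 15, 1545),
   (171, 0, 0),
   (171, 3, 1545),
   (171, 15, 789),
   (172, 0, 0),
   (172, 18, 24),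
   (172, 15, 789),
   (173, 0, 0),
   (173, 18, 99018),
   (173, 15, 789),
   (174, 0, 0),
   (174, 18, 99798),
   (174, 15, 789),
   (175, 0, 0),
   (175, 18, 24),
   (175, 15, 789)]

/-- Part of `level7`. -/
def level7_22 : List (ℕ × ℕ × ℕ) :=
  [(176, 0, 0),
   (176, 18, 99018),
   (176, 15, 789),
   (177, 0, 0),
   (177, 18, 99798),
   (177, 15, 789),
   (178, 0, 0),
   (178, 18, 24),
   (178, 15, 789),
   (179, 0, 0),
   (179, 18, 99018),
   (179, 15, 789),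
   (180, 0, 0),
   (180, 18, 99798),
   (180, 15, 789),
   (181, 0, 0),
   (181, 3, 1545),
   (181, 15, 789),
   (182, 0, 0),
   (182, 3, 1545),
   (182, 15, 789),
   (183, 0, 0),
   (183, 3, 1545),
   (183, 15, 789)]

/-- Part of `level7`. -/
def level7_23 : List (ℕ × ℕ × ℕ) :=
  [(184, 0, 0),
   (184, 3, 1545),
   (184, 15, 789),
   (185, 0, 0),
   (185, 3, 1545),
   (185, 15, 789),
   (186, 0, 0),
   (186, 3, 1545),
   (186, 15, 789),
   (187, 0, 0),
   (187, 19, 24),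
   (187, 15, 789),
   (188, 0, 0),
   (188, 19, 49865),
   (188, 15, 789),
   (189, 0, 0),
   (189, 19, 1493),
   (189, 15, 789),
   (190, 0, 0),
   (190, 15, 0),
   (190, 3, 0),
   (191, 0, 0),
   (191, 15, 0),
   (191, 3, 0)]

/-- Part of `level7`. -/
def level7_24 : List (ℕ × ℕ × ℕ) :=
  [(192, 0, 0),
   (192, 15, 0),
   (192, 3, 0),
   (193, 0, 0),
   (193, 15, 0),
   (193, 3, 0),
   (194, 0, 0),
   (194, 15, 0),
   (194, 3, 0),
   (195, 0, 0),
   (195, 15, 0),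
   (195, 3, 0),
   (196, 0, 0),
   (196, 15, 0),
   (196, 19, 0),
   (197, 0, 0),
   (197, 15, 0),
   (197, 19, 50633),
   (198, 0, 0),
   (198, 15, 0),
   (198, 19, 99029),
   (199, 0, 0),
   (199, 15, 0),
   (199, 3, 0)]

/-- Part of `level7`. -/
def level7_25 : List (ℕ × ℕ × ℕ) :=
  [(200, 0, 0),
   (200, 15, 0),
   (200, 3, 0),
   (201, 0, 0),
   (201, 15, 0),
   (201, 3, 0),
   (202, 0, 0),
   (202, 15, 0),
   (202, 18, 0),
   (203, 0, 0),
   (203, 15, 0),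
   (203, 18, 1482),
   (204, 0, 0),
   (204, 15, 0),
   (204, 18, 726),
   (205, 0, 0),
   (205, 15, 0),
   (205, 18, 0),
   (206, 0, 0),
   (206, 15, 0),
   (206, 18, 1482),
   (207, 0, 0),
   (207, 15, 0),
   (207, 18, 726)]

/-- Part of `level7`. -/
def level7_26 : List (ℕ × ℕ × ℕ) :=
  [(208, 0, 0),
   (208, 15, 0),
   (208, 18, 0),
   (209, 0, 0),
   (209, 15, 0),
   (209, 18, 1482),
   (210, 0, 0),
   (210, 15, 0),
   (210, 18, 726),
   (211, 0, 0),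
   (211, 15, 777),
   (211, 3, 1557),
   (212, 0, 0),
   (212, 15, 777),
   (212, 3, 1557),
   (213, 0, 0),
   (213, 15, 777),
   (213, 3, 1557),
   (214, 0, 0),
   (214, 15, 777),
   (214, 3, 1557),
   (215, 0, 0),
   (215, 15, 777),
   (215, 19, 24)]

/-- Part of `level7`. -/
def level7_27 : List (ℕ × ℕ × ℕ) :=
  [(216, 0, 0),
   (216, 15, 777),
   (216, 19, 1481),
   (217, 0, 0),
   (217, 15, 777),
   (217, 19, 49877),
   (218, 0, 0),
   (218, 15, 777),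
   (218, 3, 1557),
   (219, 0, 0),
   (219, 15, 777),
   (219, 3, 1557),
   (220, 0, 0),
   (220, 15, 777),
   (220, 3, 1557),
   (221, 0, 0),
   (221, 15, 777),
   (221, 18, 24),
   (222, 0, 0),
   (222, 15, 777),
   (222, 18, 99786),
   (223, 0, 0),
   (223, 15, 777),
   (223, 18, 99030)]

/-- Part of `level7`. -/
def level7_28 : List (ℕ × ℕ × ℕ) :=
  [(224, 0, 0),
   (224, 15, 777),
   (224, 18, 24),
   (225, 0, 0),
   (225, 15, 777),
   (225, 18, 99786),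
   (226, 0, 0),
   (226, 15, 777),
   (226, 18, 99030),
   (227, 0, 0),
   (227, 15, 777),
   (227, 18, 24),
   (228, 0, 0),
   (228, 15, 777),
   (228, 18, 99786),
   (229, 0, 0),
   (229, 15, 777),
   (229, 18, 99030),
   (230, 0, 0),
   (230, 15, 1557),
   (230, 3, 777),
   (231, 0, 0),
   (231, 15, 1557),
   (231, 3, 777)]

/-- Part of `level7`. -/
def level7_29 : List (ℕ × ℕ × ℕ) :=
  [(232, 0, 0),
   (232, 15, 1557),
   (232, 3, 777),
   (233, 0, 0),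
   (233, 15, 1557),
   (233, 3, 777),
   (234, 0, 0),
   (234, 15, 1557),
   (234, 19, 12),
   (235, 0, 0),
   (235, 15, 1557),
   (235, 19, 99785),
   (236, 0, 0),
   (236, 15, 1557),
   (236, 19, 725),
   (237, 0, 0),
   (237, 15, 1557),
   (237, 3, 777),
   (238, 0, 0),
   (238, 15, 1557),
   (238, 3, 777),
   (239, 0, 0),
   (239, 15, 1557),
   (239, 3, 777)]

/-- Part of `level7`. -/
def level7_30 : List (ℕ × ℕ × ℕ) :=
  [(240, 0, 0),
   (240, 15, 1557),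
   (240, 18, 12),
   (241, 0, 0),
   (241, 15, 1557),
   (241, 18, 50634),
   (242, 0, 0),
   (242, 15, 1557),
   (242, 18, 49878),
   (243, 0, 0),
   (243, 15, 1557),
   (243, 18, 12),
   (244, 0, 0),
   (244, 15, 1557),
   (244, 18, 50634),
   (245, 0, 0),
   (245, 15, 1557),
   (245, 18, 49878),
   (246, 0, 0),
   (246, 15, 1557),
   (246, 18, 12),
   (247, 0, 0),
   (247, 15, 1557),
   (247, 18, 50634)]

/-- Part of `level7`. -/
def level7_31 : List (ℕ × ℕ × ℕ) :=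
  [(248, 0, 0),
   (248, 15, 1557),
   (248, 18, 49878),
   (249, 0, 0),
   (249, 14, 0),
   (249, 2, 0),
   (250, 0, 0),
   (250, 14, 0),
   (250, 2, 0),
   (251, 0, 0),
   (251, 14, 0),
   (251, 2, 0),
   (252, 0, 0),
   (252, 14, 0),
   (252, 19, 0),
   (253, 0, 0),
   (253, 14, 0),
   (253, 19, 1481),
   (254, 0, 0),
   (254, 14, 0),
   (254, 19, 725),
   (255, 0, 0),
   (255, 14, 0),
   (255, 2, 0)]

/-- Part of `level7`. -/
def level7_32 : List (ℕ × ℕ × ℕ) :=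
  [(256, 0, 0),
   (256, 14, 0),
   (256, 2, 0),
   (257, 0, 0),
   (257, 14, 0),
   (257, 2, 0),
   (258, 0, 0),
   (258, 14, 790),
   (258, 2, 1546),
   (259, 0, 0),
   (259, 14, 790),
   (259, 19, 24),
   (260, 0, 0),
   (260, 14, 790),
   (260, 19, 99785),
   (261, 0, 0),
   (261, 14, 790),
   (261, 19, 99029),
   (262, 0, 0),
   (262, 14, 790),
   (262, 2, 1546),
   (263, 0, 0),
   (263, 14, 790),
   (263, 2, 1546)]

/-- Part of `level7`. -/
def level7_33 : List (ℕ × ℕ × ℕ) :=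
  [(264, 0, 0),
   (264, 14, 790),
   (264, 2, 1546),
   (265, 0, 0),
   (265, 14, 1546),
   (265, 2, 790),
   (266, 0, 0),
   (266, 14, 1546),
   (266, 19, 12),
   (267, 0, 0),
   (267, 14, 1546),
   (267, 19, 50633),
   (268, 0, 0),
   (268, 14, 1546),
   (268, 19, 49877),
   (269, 0, 0),
   (269, 14, 1546),
   (269, 2, 790),
   (270, 0, 0),
   (270, 14, 1546),
   (270, 2, 790),
   (271, 0, 0),
   (271, 14, 1546),
   (271, 2, 790)]

/-- Part of `level7`. -/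
def level7_34 : List (ℕ × ℕ × ℕ) :=
  [(272, 0, 0),
   (272, 14, 0),
   (272, 15, 0),
   (273, 0, 0),
   (273, 14, 0),
   (273, 15, 0),
   (274, 0, 0),
   (274, 14, 0),
   (274, 15, 0),
   (281, 0, 0),
   (281, 14, 790),
   (281, 15, 1545),
   (282, 0, 0),
   (282, 14, 1546),
   (282, 15, 789),
   (283, 0, 0),
   (283, 14, 0),
   (283, 2, 0),
   (284, 0, 0),
   (284, 14, 0),
   (284, 2, 0),
   (285, 0, 0),
   (285, 14, 0),
   (285, 2, 0)]

/-- Part of `level7`. -/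
def level7_35 : List (ℕ × ℕ × ℕ) :=
  [(292, 0, 0),
   (292, 14, 790),
   (292, 2, 1546),
   (293, 0, 0),
   (293, 14, 1546),
   (293, 2, 790),
   (294, 0, 0),
   (294, 2, 0),
   (294, 14, 0),
   (295, 0, 0),
   (295, 2, 0),
   (295, 14, 0),
   (296, 0, 0),
   (296, 2, 0),
   (296, 14, 0),
   (297, 0, 0),
   (297, 2, 0),
   (297, 14, 0),
   (298, 0, 0),
   (298, 2, 0),
   (298, 14, 0),
   (299, 0, 0),
   (299, 2, 0),
   (299, 14, 0)]

/-- Part of `level7`. -/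
def level7_36 : List (ℕ × ℕ × ℕ) :=
  [(300, 0, 0),
   (300, 19, 0),
   (300, 14, 0),
   (301, 0, 0),
   (301, 19, 713),
   (301, 14, 0),
   (302, 0, 0),
   (302, 19, 1493),
   (302, 14, 0),
   (303, 0, 0),
   (303, 2, 778),
   (303, 14, 1558),
   (304, 0, 0),
   (304, 2, 778),
   (304, 14, 1558),
   (305, 0, 0),
   (305, 2, 778),
   (305, 14, 1558),
   (306, 0, 0),
   (306, 2, 778),
   (306, 14, 1558),
   (307, 0, 0),
   (307, 19, 12),
   (307, 14, 1558)]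

/-- Part of `level7`. -/
def level7_37 : List (ℕ × ℕ × ℕ) :=
  [(308, 0, 0),
   (308, 19, 49865),
   (308, 14, 1558),
   (309, 0, 0),
   (309, 19, 50645),
   (309, 14, 1558),
   (310, 0, 0),
   (310, 2, 1558),
   (310, 14, 778),
   (311, 0, 0),
   (311, 2, 1558),
   (311, 14, 778),
   (312, 0, 0),
   (312, 2, 1558),
   (312, 14, 778),
   (313, 0, 0),
   (313, 2, 1558),
   (313, 14, 778),
   (314, 0, 0),
   (314, 19, 24),
   (314, 14, 778),
   (315, 0, 0),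
   (315, 19, 99017),
   (315, 14, 778)]

/-- Part of `level7`. -/
def level7_38 : List (ℕ × ℕ × ℕ) :=
  [(316, 0, 0),
   (316, 19, 99797),
   (316, 14, 778),
   (317, 0, 0),
   (317, 2, 0),
   (317, 14, 0),
   (318, 0, 0),
   (318, 2, 0),
   (318, 14, 0),
   (319, 0, 0),
   (319, 2, 0),
   (319, 14, 0),
   (320, 0, 0),
   (320, 2, 778),
   (320, 14, 1558),
   (321, 0, 0),
   (321, 2, 1558),
   (321, 14, 778),
   (322, 0, 0),
   (322, 15, 0),
   (322, 14, 0),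
   (323, 0, 0),
   (323, 15, 0),
   (323, 14, 0)]

/-- Part of `level7`. -/
def level7_39 : List (ℕ × ℕ × ℕ) :=
  [(324, 0, 0),
   (324, 15, 0),
   (324, 14, 0),
   (325, 0, 0),
   (325, 15, 777),
   (325, 14, 1558),
   (326, 0, 0),
   (326, 15, 1557),
   (326, 14, 778)]

/-- The certificate of level 7. -/
def level7 : List (ℕ × ℕ × ℕ) := List.flatten [level7_0, level7_1, level7_2, level7_3, level7_4, level7_5, level7_6, level7_7, level7_8, level7_9, level7_10, level7_11, level7_12, level7_13, level7_14, level7_15, level7_16, level7_17, level7_18, level7_19, level7_20, level7_21, level7_22, level7_23, level7_24, level7_25, level7_26, level7_27, level7_28, level7_29, level7_30, level7_31, level7_32, level7_33, level7_34, level7_35, level7_36, level7_37, level7_38, level7_39]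

/-- Part of `level8`. -/
def level8_0 : List (ℕ × ℕ × ℕ) :=
  [(0, 0, 0),
   (389, 0, 0),
   (396, 0, 0),
   (1, 0, 0),
   (1, 7, 0),
   (1, 19, 0),
   (2, 0, 0),
   (2, 19, 0),
   (2, 7, 0),
   (3, 0, 0),
   (390, 0, 0),
   (397, 0, 0),
   (4, 0, 0),
   (379, 7, 11),
   (366, 19, 23),
   (5, 0, 0),
   (367, 19, 11),
   (380, 7, 23),
   (6, 0, 0),
   (391, 0, 0),
   (398, 0, 0),
   (7, 0, 0),
   (368, 7, 23),
   (381, 19, 11)]

/-- Part of `level8`. -/
def level8_1 : List (ℕ × ℕ × ℕ) :=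
  [(8, 0, 0),
   (382, 19, 23),
   (369, 7, 11),
   (9, 0, 0),
   (9, 17, 0),
   (9, 5, 0),
   (10, 0, 0),
   (10, 17, 0),
   (10, 19, 0),
   (11, 0, 0),
   (11, 17, 0),
   (11, 5, 0),
   (12, 0, 0),
   (12, 17, 714),
   (12, 5, 1494),
   (13, 0, 0),
   (13, 17, 714),
   (13, 5, 1494),
   (14, 0, 0),
   (14, 17, 714),
   (14, 5, 1494),
   (15, 0, 0),
   (15, 17, 1494),
   (15, 5, 714)]

/-- Part of `level8`. -/
def level8_2 : List (ℕ × ℕ × ℕ) :=
  [(16, 0, 0),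
   (16, 17, 1494),
   (16, 5, 714),
   (17, 0, 0),
   (17, 17, 1494),
   (17, 5, 714),
   (18, 0, 0),
   (18, 5, 0),
   (18, 17, 0),
   (19, 0, 0),
   (19, 5, 0),
   (19, 17, 0),
   (20, 0, 0),
   (20, 19, 0),
   (20, 17, 0),
   (21, 0, 0),
   (21, 5, 726),
   (21, 17, 1482),
   (22, 0, 0),
   (22, 5, 726),
   (22, 17, 1482),
   (23, 0, 0),
   (23, 5, 726),
   (23, 17, 1482)]

/-- Part of `level8`. -/
def level8_3 : List (ℕ × ℕ × ℕ) :=
  [(24, 0, 0),
   (24, 5, 1482),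
   (24, 17, 726),
   (25, 0, 0),
   (25, 5, 1482),
   (25, 17, 726),
   (26, 0, 0),
   (26, 5, 1482),
   (26, 17, 726),
   (27, 0, 0),
   (265, 205, 0),
   (286, 193, 0),
   (28, 0, 0),
   (28, 7, 0),
   (28, 19, 0),
   (29, 0, 0),
   (29, 19, 0),
   (29, 7, 0),
   (30, 0, 0),
   (266, 205, 0),
   (287, 193, 0),
   (31, 0, 0),
   (267, 205, 0),
   (288, 193, 0)]

/-- Part of `level8`. -/
def level8_4 : List (ℕ × ℕ × ℕ) :=
  [(32, 0, 0),
   (268, 205, 0),
   (289, 193, 0),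
   (33, 0, 0),
   (269, 205, 0),
   (290, 193, 0),
   (34, 0, 0),
   (270, 205, 0),
   (291, 193, 0),
   (35, 0, 0),
   (271, 205, 0),
   (292, 193, 0),
   (36, 0, 0),
   (36, 17, 0),
   (36, 5, 0),
   (37, 0, 0),
   (37, 17, 0),
   (37, 19, 0),
   (38, 0, 0),
   (38, 17, 0),
   (38, 5, 0),
   (39, 0, 0),
   (39, 17, 99018),
   (39, 5, 50646)]

/-- Part of `level8`. -/
def level8_5 : List (ℕ × ℕ × ℕ) :=
  [(40, 0, 0),
   (40, 17, 99018),
   (40, 5, 50646),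
   (41, 0, 0),
   (41, 17, 99018),
   (41, 5, 50646),
   (42, 0, 0),
   (42, 17, 50646),
   (42, 5, 99018),
   (43, 0, 0),
   (43, 17, 50646),
   (43, 5, 99018),
   (44, 0, 0),
   (44, 17, 50646),
   (44, 5, 99018),
   (45, 0, 0),
   (45, 5, 0),
   (45, 17, 0),
   (46, 0, 0),
   (46, 5, 0),
   (46, 17, 0),
   (47, 0, 0),
   (47, 19, 0),
   (47, 17, 0)]

/-- Part of `level8`. -/
def level8_6 : List (ℕ × ℕ × ℕ) :=
  [(48, 0, 0),
   (48, 5, 99030),
   (48, 17, 50634),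
   (49, 0, 0),
   (49, 5, 99030),
   (49, 17, 50634),
   (50, 0, 0),
   (50, 5, 99030),
   (50, 17, 50634),
   (51, 0, 0),
   (51, 5, 50634),
   (51, 17, 99030),
   (52, 0, 0),
   (52, 5, 50634),
   (52, 17, 99030),
   (53, 0, 0),
   (53, 5, 50634),
   (53, 17, 99030),
   (54, 0, 0),
   (293, 973, 0),
   (272, 961, 0),
   (55, 0, 0),
   (55, 7, 0),
   (55, 19, 0)]

/-- Part of `level8`. -/
def level8_7 : List (ℕ × ℕ × ℕ) :=
  [(56, 0, 0),
   (56, 19, 0),
   (56, 7, 0),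
   (57, 0, 0),
   (294, 973, 0),
   (273, 961, 0),
   (58, 0, 0),
   (295, 973, 0),
   (274, 961, 0),
   (59, 0, 0),
   (296, 973, 0),
   (275, 961, 0),
   (60, 0, 0),
   (297, 973, 0),
   (276, 961, 0),
   (61, 0, 0),
   (298, 973, 0),
   (277, 961, 0),
   (62, 0, 0),
   (299, 973, 0),
   (278, 961, 0),
   (63, 0, 0),
   (63, 17, 0),
   (63, 5, 0)]

/-- Part of `level8`. -/
def level8_8 : List (ℕ × ℕ × ℕ) :=
  [(64, 0, 0),
   (64, 17, 0),
   (64, 19, 0),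
   (65, 0, 0),
   (65, 17, 0),
   (65, 5, 0),
   (66, 0, 0),
   (66, 17, 49866),
   (66, 5, 99798),
   (67, 0, 0),
   (67, 17, 49866),
   (67, 5, 99798),
   (68, 0, 0),
   (68, 17, 49866),
   (68, 5, 99798),
   (69, 0, 0),
   (69, 17, 99798),
   (69, 5, 49866),
   (70, 0, 0),
   (70, 17, 99798),
   (70, 5, 49866),
   (71, 0, 0),
   (71, 17, 99798),
   (71, 5, 49866)]

/-- Part of `level8`. -/
def level8_9 : List (ℕ × ℕ × ℕ) :=
  [(72, 0, 0),
   (72, 5, 0),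
   (72, 17, 0),
   (73, 0, 0),
   (73, 5, 0),
   (73, 17, 0),
   (74, 0, 0),
   (74, 19, 0),
   (74, 17, 0),
   (75, 0, 0),
   (75, 5, 49878),
   (75, 17, 99786),
   (76, 0, 0),
   (76, 5, 49878),
   (76, 17, 99786),
   (77, 0, 0),
   (77, 5, 49878),
   (77, 17, 99786),
   (78, 0, 0),
   (78, 5, 99786),
   (78, 17, 49878),
   (79, 0, 0),
   (79, 5, 99786),
   (79, 17, 49878)]

/-- Part of `level8`. -/
def level8_10 : List (ℕ × ℕ × ℕ) :=
  [(80, 0, 0),
   (80, 5, 99786),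
   (80, 17, 49878),
   (81, 0, 0),
   (81, 3, 0),
   (81, 15, 0),
   (82, 0, 0),
   (82, 3, 0),
   (82, 15, 0),
   (83, 0, 0),
   (83, 3, 0),
   (83, 15, 0),
   (84, 0, 0),
   (84, 3, 0),
   (84, 15, 0),
   (85, 0, 0),
   (85, 3, 0),
   (85, 15, 0),
   (86, 0, 0),
   (86, 3, 0),
   (86, 15, 0),
   (87, 0, 0),
   (87, 3, 0),
   (87, 15, 0)]

/-- Part of `level8`. -/
def level8_11 : List (ℕ × ℕ × ℕ) :=
  [(88, 0, 0),
   (88, 17, 0),
   (88, 15, 0),
   (89, 0, 0),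
   (89, 17, 0),
   (89, 15, 0),
   (90, 0, 0),
   (90, 17, 0),
   (90, 15, 0),
   (91, 0, 0),
   (91, 17, 714),
   (91, 15, 0),
   (92, 0, 0),
   (92, 17, 714),
   (92, 15, 0),
   (93, 0, 0),
   (93, 17, 714),
   (93, 15, 0),
   (94, 0, 0),
   (94, 17, 1494),
   (94, 15, 0),
   (95, 0, 0),
   (95, 17, 1494),
   (95, 15, 0)]

/-- Part of `level8`. -/
def level8_12 : List (ℕ × ℕ × ℕ) :=
  [(96, 0, 0),
   (96, 17, 1494),
   (96, 15, 0),
   (97, 0, 0),
   (97, 3, 0),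
   (97, 15, 0),
   (98, 0, 0),
   (98, 3, 0),
   (98, 15, 0),
   (99, 0, 0),
   (99, 19, 0),
   (99, 15, 0),
   (100, 0, 0),
   (100, 3, 0),
   (100, 15, 0),
   (101, 0, 0),
   (101, 3, 0),
   (101, 15, 0),
   (102, 0, 0),
   (102, 3, 0),
   (102, 15, 0),
   (103, 0, 0),
   (103, 3, 0),
   (103, 15, 0)]

/-- Part of `level8`. -/
def level8_13 : List (ℕ × ℕ × ℕ) :=
  [(104, 0, 0),
   (104, 3, 0),
   (104, 15, 0),
   (105, 0, 0),
   (105, 3, 0),
   (105, 15, 0),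
   (106, 0, 0),
   (106, 15, 0),
   (106, 3, 0),
   (107, 0, 0),
   (107, 15, 0),
   (107, 3, 0),
   (108, 0, 0),
   (108, 15, 0),
   (108, 3, 0),
   (109, 0, 0),
   (109, 15, 0),
   (109, 3, 0),
   (110, 0, 0),
   (110, 15, 0),
   (110, 3, 0),
   (111, 0, 0),
   (111, 15, 0),
   (111, 3, 0)]

/-- Part of `level8`. -/
def level8_14 : List (ℕ × ℕ × ℕ) :=
  [(112, 0, 0),
   (112, 15, 0),
   (112, 3, 0),
   (113, 0, 0),
   (113, 15, 0),
   (113, 3, 0),
   (114, 0, 0),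
   (114, 15, 0),
   (114, 19, 0),
   (115, 0, 0),
   (115, 15, 0),
   (115, 3, 0),
   (116, 0, 0),
   (116, 15, 0),
   (116, 3, 0),
   (117, 0, 0),
   (117, 15, 0),
   (117, 3, 0),
   (118, 0, 0),
   (118, 15, 0),
   (118, 3, 0),
   (119, 0, 0),
   (119, 15, 0),
   (119, 3, 0)]

/-- Part of `level8`. -/
def level8_15 : List (ℕ × ℕ × ℕ) :=
  [(120, 0, 0),
   (120, 15, 0),
   (120, 3, 0),
   (121, 0, 0),
   (121, 15, 0),
   (121, 3, 0),
   (122, 0, 0),
   (122, 15, 0),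
   (122, 17, 0),
   (123, 0, 0),
   (123, 15, 0),
   (123, 17, 0),
   (124, 0, 0),
   (124, 15, 0),
   (124, 17, 0),
   (125, 0, 0),
   (125, 15, 0),
   (125, 17, 1482),
   (126, 0, 0),
   (126, 15, 0),
   (126, 17, 1482),
   (127, 0, 0),
   (127, 15, 0),
   (127, 17, 1482)]

/-- Part of `level8`. -/
def level8_16 : List (ℕ × ℕ × ℕ) :=
  [(128, 0, 0),
   (128, 15, 0),
   (128, 17, 726),
   (129, 0, 0),
   (129, 15, 0),
   (129, 17, 726),
   (130, 0, 0),
   (130, 15, 0),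
   (130, 17, 726),
   (131, 0, 0),
   (392, 0, 0),
   (399, 0, 0),
   (132, 0, 0),
   (132, 7, 12),
   (132, 19, 24),
   (133, 0, 0),
   (133, 19, 12),
   (133, 7, 24),
   (134, 0, 0),
   (134, 17, 12),
   (134, 5, 24),
   (135, 0, 0),
   (135, 17, 12),
   (135, 19, 24)]

/-- Part of `level8`. -/
def level8_17 : List (ℕ × ℕ × ℕ) :=
  [(136, 0, 0),
   (136, 17, 12),
   (136, 5, 24),
   (137, 0, 0),
   (137, 17, 49866),
   (137, 5, 99798),
   (138, 0, 0),
   (138, 17, 49866),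
   (138, 5, 99798),
   (139, 0, 0),
   (139, 17, 49866),
   (139, 5, 99798),
   (140, 0, 0),
   (140, 17, 50646),
   (140, 5, 99018),
   (141, 0, 0),
   (141, 17, 50646),
   (141, 1231, 1547),
   (142, 0, 0),
   (142, 17, 50646),
   (142, 5, 99018),
   (143, 0, 0),
   (143, 5, 12),
   (143, 17, 24)]

/-- Part of `level8`. -/
def level8_18 : List (ℕ × ℕ × ℕ) :=
  [(144, 0, 0),
   (144, 5, 12),
   (144, 17, 24),
   (145, 0, 0),
   (145, 19, 12),
   (145, 17, 24),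
   (146, 0, 0),
   (146, 5, 49878),
   (146, 17, 99786),
   (147, 0, 0),
   (147, 5, 49878),
   (147, 17, 99786),
   (148, 0, 0),
   (148, 5, 49878),
   (148, 17, 99786),
   (149, 0, 0),
   (149, 5, 50634),
   (149, 17, 99030),
   (150, 0, 0),
   (150, 5, 50634),
   (150, 17, 99030),
   (151, 0, 0),
   (151, 1231, 791),
   (151, 17, 99030)]

/-- Part of `level8`. -/
def level8_19 : List (ℕ × ℕ × ℕ) :=
  [(152, 0, 0),
   (385, 3, 12),
   (372, 15, 24),
   (153, 0, 0),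
   (153, 17, 12),
   (153, 1167, 12),
   (154, 0, 0),
   (154, 17, 12),
   (154, 19, 24),
   (155, 0, 0),
   (155, 17, 12),
   (155, 1167, 49878),
   (156, 0, 0),
   (156, 17, 49866),
   (156, 1167, 12),
   (157, 0, 0),
   (157, 17, 49866),
   (157, 1167, 50634),
   (158, 0, 0),
   (158, 17, 49866),
   (158, 1167, 49878),
   (159, 0, 0),
   (159, 17, 50646),
   (159, 1167, 12)]

/-- Part of `level8`. -/
def level8_20 : List (ℕ × ℕ × ℕ) :=
  [(160, 0, 0),
   (160, 17, 50646),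
   (160, 1167, 50634),
   (161, 0, 0),
   (161, 17, 50646),
   (161, 1167, 49878),
   (162, 0, 0),
   (162, 5, 12),
   (162, 17, 24),
   (163, 0, 0),
   (163, 5, 12),
   (163, 17, 24),
   (164, 0, 0),
   (164, 19, 12),
   (164, 17, 24),
   (165, 0, 0),
   (165, 5, 49878),
   (165, 17, 99786),
   (166, 0, 0),
   (166, 5, 49878),
   (166, 17, 99786),
   (167, 0, 0),
   (167, 5, 49878),
   (167, 17, 99786)]

/-- Part of `level8`. -/
def level8_21 : List (ℕ × ℕ × ℕ) :=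
  [(168, 0, 0),
   (168, 5, 50634),
   (168, 17, 99030),
   (169, 0, 0),
   (169, 1231, 1547),
   (169, 17, 99030),
   (170, 0, 0),
   (170, 5, 50634),
   (170, 17, 99030),
   (171, 0, 0),
   (373, 15, 12),
   (386, 3, 24),
   (172, 0, 0),
   (172, 17, 12),
   (172, 5, 24),
   (173, 0, 0),
   (173, 17, 12),
   (173, 19, 24),
   (174, 0, 0),
   (174, 17, 12),
   (174, 5, 24),
   (175, 0, 0),
   (175, 17, 49866),
   (175, 5, 99798)]

/-- Part of `level8`. -/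
def level8_22 : List (ℕ × ℕ × ℕ) :=
  [(176, 0, 0),
   (176, 17, 49866),
   (176, 5, 99798),
   (177, 0, 0),
   (177, 17, 49866),
   (177, 5, 99798),
   (178, 0, 0),
   (178, 17, 50646),
   (178, 5, 99018),
   (179, 0, 0),
   (179, 17, 50646),
   (179, 5, 99018),
   (180, 0, 0),
   (180, 17, 50646),
   (180, 1231, 791),
   (181, 0, 0),
   (181, 5, 12),
   (181, 17, 24),
   (182, 0, 0),
   (182, 5, 12),
   (182, 17, 24),
   (183, 0, 0),
   (183, 19, 12),
   (183, 17, 24)]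

/-- Part of `level8`. -/
def level8_23 : List (ℕ × ℕ × ℕ) :=
  [(184, 0, 0),
   (184, 5, 49878),
   (184, 17, 99786),
   (185, 0, 0),
   (185, 5, 49878),
   (185, 17, 99786),
   (186, 0, 0),
   (186, 5, 49878),
   (186, 17, 99786),
   (187, 0, 0),
   (187, 1231, 0),
   (187, 17, 99030),
   (188, 0, 0),
   (188, 5, 50634),
   (188, 17, 99030),
   (189, 0, 0),
   (189, 5, 50634),
   (189, 17, 99030),
   (190, 0, 0),
   (393, 0, 0),
   (400, 0, 0),
   (191, 0, 0),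
   (191, 7, 24),
   (191, 19, 12)]

/-- Part of `level8`. -/
def level8_24 : List (ℕ × ℕ × ℕ) :=
  [(192, 0, 0),
   (192, 19, 24),
   (192, 7, 12),
   (193, 0, 0),
   (193, 17, 24),
   (193, 5, 12),
   (194, 0, 0),
   (194, 17, 24),
   (194, 19, 12),
   (195, 0, 0),
   (195, 17, 24),
   (195, 5, 12),
   (196, 0, 0),
   (196, 17, 99018),
   (196, 5, 50646),
   (197, 0, 0),
   (197, 17, 99018),
   (197, 1231, 791),
   (198, 0, 0),
   (198, 17, 99018),
   (198, 5, 50646),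
   (199, 0, 0),
   (199, 17, 99798),
   (199, 5, 49866)]

/-- Part of `level8`. -/
def level8_25 : List (ℕ × ℕ × ℕ) :=
  [(200, 0, 0),
   (200, 17, 99798),
   (200, 5, 49866),
   (201, 0, 0),
   (201, 17, 99798),
   (201, 5, 49866),
   (202, 0, 0),
   (202, 5, 24),
   (202, 17, 12),
   (203, 0, 0),
   (203, 5, 24),
   (203, 17, 12),
   (204, 0, 0),
   (204, 19, 24),
   (204, 17, 12),
   (205, 0, 0),
   (205, 5, 99030),
   (205, 17, 50634),
   (206, 0, 0),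
   (206, 5, 99030),
   (206, 17, 50634),
   (207, 0, 0),
   (207, 1231, 1547),
   (207, 17, 50634)]

/-- Part of `level8`. -/
def level8_26 : List (ℕ × ℕ × ℕ) :=
  [(208, 0, 0),
   (208, 5, 99786),
   (208, 17, 49878),
   (209, 0, 0),
   (209, 5, 99786),
   (209, 17, 49878),
   (210, 0, 0),
   (210, 5, 99786),
   (210, 17, 49878),
   (211, 0, 0),
   (374, 3, 24),
   (387, 15, 12),
   (212, 0, 0),
   (212, 17, 24),
   (212, 5, 12),
   (213, 0, 0),
   (213, 17, 24),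
   (213, 19, 12),
   (214, 0, 0),
   (214, 17, 24),
   (214, 5, 12),
   (215, 0, 0),
   (215, 17, 99018),
   (215, 1231, 0)]

/-- Part of `level8`. -/
def level8_27 : List (ℕ × ℕ × ℕ) :=
  [(216, 0, 0),
   (216, 17, 99018),
   (216, 5, 50646),
   (217, 0, 0),
   (217, 17, 99018),
   (217, 5, 50646),
   (218, 0, 0),
   (218, 17, 99798),
   (218, 5, 49866),
   (219, 0, 0),
   (219, 17, 99798),
   (219, 5, 49866),
   (220, 0, 0),
   (220, 17, 99798),
   (220, 5, 49866),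
   (221, 0, 0),
   (221, 5, 24),
   (221, 17, 12),
   (222, 0, 0),
   (222, 5, 24),
   (222, 17, 12),
   (223, 0, 0),
   (223, 19, 24),
   (223, 17, 12)]

/-- Part of `level8`. -/
def level8_28 : List (ℕ × ℕ × ℕ) :=
  [(224, 0, 0),
   (224, 5, 99030),
   (224, 17, 50634),
   (225, 0, 0),
   (225, 1231, 791),
   (225, 17, 50634),
   (226, 0, 0),
   (226, 5, 99030),
   (226, 17, 50634),
   (227, 0, 0),
   (227, 5, 99786),
   (227, 17, 49878),
   (228, 0, 0),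
   (228, 5, 99786),
   (228, 17, 49878),
   (229, 0, 0),
   (229, 5, 99786),
   (229, 17, 49878),
   (230, 0, 0),
   (388, 15, 24),
   (375, 3, 12),
   (231, 0, 0),
   (231, 17, 24),
   (231, 5, 12)]

/-- Part of `level8`. -/
def level8_29 : List (ℕ × ℕ × ℕ) :=
  [(232, 0, 0),
   (232, 17, 24),
   (232, 19, 12),
   (233, 0, 0),
   (233, 17, 24),
   (233, 5, 12),
   (234, 0, 0),
   (234, 17, 99018),
   (234, 5, 50646),
   (235, 0, 0),
   (235, 17, 99018),
   (235, 5, 50646),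
   (236, 0, 0),
   (236, 17, 99018),
   (236, 1231, 1547),
   (237, 0, 0),
   (237, 17, 99798),
   (237, 5, 49866),
   (238, 0, 0),
   (238, 17, 99798),
   (238, 5, 49866),
   (239, 0, 0),
   (239, 17, 99798),
   (239, 5, 49866)]

/-- Part of `level8`. -/
def level8_30 : List (ℕ × ℕ × ℕ) :=
  [(240, 0, 0),
   (240, 1167, 24),
   (240, 17, 12),
   (241, 0, 0),
   (241, 1167, 1546),
   (241, 17, 12),
   (242, 0, 0),
   (242, 19, 24),
   (242, 17, 12),
   (243, 0, 0),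
   (243, 1167, 24),
   (243, 17, 50634),
   (244, 0, 0),
   (244, 1167, 1546),
   (244, 17, 50634),
   (245, 0, 0),
   (245, 1167, 1558),
   (245, 17, 50634),
   (246, 0, 0),
   (246, 1167, 24),
   (246, 17, 49878),
   (247, 0, 0),
   (247, 1167, 1546),
   (247, 17, 49878)]

/-- Part of `level8`. -/
def level8_31 : List (ℕ × ℕ × ℕ) :=
  [(248, 0, 0),
   (248, 1167, 1558),
   (248, 17, 49878),
   (249, 0, 0),
   (249, 13, 0),
   (249, 1, 0),
   (250, 0, 0),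
   (250, 13, 0),
   (250, 19, 0),
   (251, 0, 0),
   (251, 13, 0),
   (251, 1, 0),
   (252, 0, 0),
   (252, 13, 0),
   (252, 1, 0),
   (253, 0, 0),
   (253, 13, 0),
   (253, 1, 0),
   (254, 0, 0),
   (254, 13, 0),
   (254, 1, 0),
   (255, 0, 0),
   (255, 13, 0),
   (255, 1, 0)]

/-- Part of `level8`. -/
def level8_32 : List (ℕ × ℕ × ℕ) :=
  [(256, 0, 0),
   (256, 13, 0),
   (256, 1, 0),
   (257, 0, 0),
   (257, 13, 0),
   (257, 1, 0),
   (258, 0, 0),
   (258, 13, 0),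
   (258, 15, 0),
   (259, 0, 0),
   (259, 13, 0),
   (259, 15, 0),
   (260, 0, 0),
   (260, 13, 0),
   (260, 15, 0),
   (261, 0, 0),
   (261, 13, 0),
   (261, 15, 0),
   (262, 0, 0),
   (262, 13, 0),
   (262, 15, 0),
   (263, 0, 0),
   (263, 13, 0),
   (263, 15, 0)]

/-- Part of `level8`. -/
def level8_33 : List (ℕ × ℕ × ℕ) :=
  [(264, 0, 0),
   (264, 13, 0),
   (264, 15, 0),
   (279, 0, 0),
   (279, 13, 0),
   (279, 1, 0),
   (280, 0, 0),
   (280, 13, 0),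
   (280, 1, 0),
   (281, 0, 0),
   (281, 13, 0),
   (281, 1, 0),
   (282, 0, 0),
   (282, 13, 0),
   (282, 1, 0),
   (283, 0, 0),
   (283, 13, 0),
   (283, 1, 0),
   (284, 0, 0),
   (284, 13, 0),
   (284, 1, 0),
   (285, 0, 0),
   (285, 13, 0),
   (285, 1, 0)]

/-- Part of `level8`. -/
def level8_34 : List (ℕ × ℕ × ℕ) :=
  [(300, 0, 0),
   (300, 13, 790),
   (300, 1, 1546),
   (301, 0, 0),
   (301, 13, 790),
   (301, 19, 24),
   (302, 0, 0),
   (302, 13, 790),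
   (302, 1, 1546),
   (303, 0, 0),
   (310, 13, 790),
   (313, 1, 1546),
   (304, 0, 0),
   (304, 1037, 790),
   (304, 19, 24),
   (305, 0, 0),
   (305, 19, 12),
   (305, 7, 24),
   (306, 0, 0),
   (314, 13, 790),
   (311, 1, 1546),
   (307, 0, 0),
   (307, 7, 12),
   (307, 19, 24)]

/-- Part of `level8`. -/
def level8_35 : List (ℕ × ℕ × ℕ) :=
  [(308, 0, 0),
   (308, 19, 12),
   (308, 7, 24),
   (309, 0, 0),
   (309, 13, 790),
   (309, 1, 1546),
   (312, 0, 0),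
   (312, 13, 790),
   (312, 1, 1546),
   (315, 0, 0),
   (315, 13, 1546),
   (315, 1, 790),
   (316, 0, 0),
   (316, 13, 1546),
   (316, 19, 12),
   (317, 0, 0),
   (317, 13, 1546),
   (317, 1, 790),
   (318, 0, 0),
   (325, 13, 1546),
   (328, 1, 790),
   (319, 0, 0),
   (319, 1037, 1546),
   (319, 19, 12)]

/-- Part of `level8`. -/
def level8_36 : List (ℕ × ℕ × ℕ) :=
  [(320, 0, 0),
   (320, 19, 24),
   (320, 7, 12),
   (321, 0, 0),
   (329, 13, 1546),
   (326, 1, 790),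
   (322, 0, 0),
   (322, 7, 24),
   (322, 19, 12),
   (323, 0, 0),
   (323, 19, 24),
   (323, 7, 12),
   (324, 0, 0),
   (324, 13, 1546),
   (324, 1, 790),
   (327, 0, 0),
   (327, 13, 1546),
   (327, 1, 790),
   (330, 0, 0),
   (330, 1, 0),
   (330, 13, 0),
   (331, 0, 0),
   (331, 1, 0),
   (331, 13, 0)]

/-- Part of `level8`. -/
def level8_37 : List (ℕ × ℕ × ℕ) :=
  [(332, 0, 0),
   (332, 19, 0),
   (332, 13, 0),
   (333, 0, 0),
   (333, 1, 0),
   (333, 13, 0),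
   (334, 0, 0),
   (334, 1, 0),
   (334, 13, 0),
   (335, 0, 0),
   (335, 1, 0),
   (335, 13, 0),
   (336, 0, 0),
   (336, 1, 0),
   (336, 13, 0),
   (337, 0, 0),
   (337, 1, 0),
   (337, 13, 0),
   (338, 0, 0),
   (338, 1, 0),
   (338, 13, 0),
   (339, 0, 0),
   (339, 1, 0),
   (339, 13, 0)]

/-- Part of `level8`. -/
def level8_38 : List (ℕ × ℕ × ℕ) :=
  [(340, 0, 0),
   (340, 1, 0),
   (340, 13, 0),
   (341, 0, 0),
   (341, 1, 0),
   (341, 13, 0),
   (342, 0, 0),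
   (342, 1, 0),
   (342, 13, 0),
   (343, 0, 0),
   (343, 1, 0),
   (343, 13, 0),
   (344, 0, 0),
   (344, 1, 0),
   (344, 13, 0),
   (345, 0, 0),
   (345, 1, 0),
   (345, 13, 0),
   (346, 0, 0),
   (346, 15, 0),
   (346, 13, 0),
   (347, 0, 0),
   (347, 15, 0),
   (347, 13, 0)]

/-- Part of `level8`. -/
def level8_39 : List (ℕ × ℕ × ℕ) :=
  [(348, 0, 0),
   (348, 15, 0),
   (348, 13, 0),
   (349, 0, 0),
   (349, 15, 0),
   (349, 13, 0),
   (350, 0, 0),
   (350, 15, 0),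
   (350, 13, 0),
   (351, 0, 0),
   (351, 15, 0),
   (351, 13, 0),
   (352, 0, 0),
   (352, 15, 0),
   (352, 13, 0),
   (353, 0, 0),
   (353, 1, 778),
   (353, 13, 1558),
   (354, 0, 0),
   (354, 1, 778),
   (354, 13, 1558),
   (355, 0, 0),
   (355, 19, 12),
   (355, 13, 1558)]

/-- Part of `level8`. -/
def level8_40 : List (ℕ × ℕ × ℕ) :=
  [(356, 0, 0),
   (356, 1, 778),
   (356, 13, 1558),
   (357, 0, 0),
   (357, 1, 778),
   (357, 13, 1558),
   (358, 0, 0),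
   (358, 1, 1558),
   (358, 13, 778),
   (359, 0, 0),
   (359, 1, 1558),
   (359, 13, 778),
   (360, 0, 0),
   (360, 19, 24),
   (360, 13, 778),
   (361, 0, 0),
   (361, 1, 1558),
   (361, 13, 778),
   (362, 0, 0),
   (362, 1, 1558),
   (362, 13, 778),
   (363, 0, 0),
   (394, 0, 0),
   (401, 0, 0)]

/-- Part of `level8`. -/
def level8_41 : List (ℕ × ℕ × ℕ) :=
  [(364, 0, 0),
   (364, 7, 0),
   (364, 19, 0),
   (365, 0, 0),
   (365, 19, 0),
   (365, 7, 0),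
   (370, 0, 0),
   (370, 3, 0),
   (370, 15, 0),
   (371, 0, 0),
   (371, 15, 0),
   (371, 3, 0),
   (376, 0, 0),
   (395, 0, 0),
   (402, 0, 0),
   (377, 0, 0),
   (377, 7, 0),
   (377, 19, 0),
   (378, 0, 0),
   (378, 19, 0),
   (378, 7, 0),
   (383, 0, 0),
   (383, 3, 0),
   (383, 15, 0)]

/-- Part of `level8`. -/
def level8_42 : List (ℕ × ℕ × ℕ) :=
  [(384, 0, 0),
   (384, 15, 0),
   (384, 3, 0)]

/-- The certificate of level 8. -/
def level8 : List (ℕ × ℕ × ℕ) := List.flatten [level8_0, level8_1, level8_2, level8_3, level8_4, level8_5, level8_6, level8_7, level8_8, level8_9, level8_10, level8_11, level8_12, level8_13, level8_14, level8_15, level8_16, level8_17, level8_18, level8_19, level8_20, level8_21, level8_22, level8_23, level8_24, level8_25, level8_26, level8_27, level8_28, level8_29, level8_30, level8_31, level8_32, level8_33, level8_34, level8_35, level8_36, level8_37, level8_38, level8_39, level8_40,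 level8_41, level8_42]

/-- Part of `level9`. -/
def level9_0 : List (ℕ × ℕ × ℕ) :=
  [(0, 0, 0),
   (511, 0, 0),
   (524, 0, 0),
   (1, 0, 0),
   (1, 6, 0),
   (1, 18, 0),
   (2, 0, 0),
   (2, 18, 0),
   (2, 6, 0),
   (3, 0, 0),
   (3, 5, 0),
   (3, 17, 0),
   (4, 0, 0),
   (4, 5, 0),
   (4, 17, 0),
   (5, 0, 0),
   (5, 18, 0),
   (5, 17, 0),
   (6, 0, 0),
   (6, 17, 0),
   (6, 5, 0),
   (7, 0, 0),
   (7, 17, 0),
   (7, 18, 0)]

/-- Part of `level9`. -/
def level9_1 : List (ℕ × ℕ × ℕ) :=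
  [(8, 0, 0),
   (8, 17, 0),
   (8, 5, 0),
   (9, 0, 0),
   (512, 0, 0),
   (525, 0, 0),
   (10, 0, 0),
   (414, 6, 23),
   (451, 18, 11),
   (11, 0, 0),
   (452, 18, 23),
   (415, 6, 11),
   (12, 0, 0),
   (484, 5, 23),
   (499, 17, 11),
   (13, 0, 0),
   (13, 78993, 779),
   (13, 417239656469689229, 791),
   (14, 0, 0),
   (14, 29073, 1547),
   (14, 78981, 1559),
   (15, 0, 0),
   (500, 17, 23),
   (485, 5, 11)]

/-- Part of `level9`. -/
def level9_2 : List (ℕ × ℕ × ℕ) :=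
  [(16, 0, 0),
   (16, 29829, 1547),
   (16, 78225, 1559),
   (17, 0, 0),
   (17, 78213, 779),
   (17, 29841, 791),
   (18, 0, 0),
   (513, 0, 0),
   (526, 0, 0),
   (19, 0, 0),
   (453, 6, 11),
   (416, 18, 23),
   (20, 0, 0),
   (417, 18, 11),
   (454, 6, 23),
   (21, 0, 0),
   (501, 5, 11),
   (486, 17, 23),
   (22, 0, 0),
   (22, 29841, 1559),
   (22, 78213, 1547),
   (23, 0, 0),
   (23, 78225, 791),
   (23, 29829, 779)]

/-- Part of `level9`. -/
def level9_3 : List (ℕ × ℕ × ℕ) :=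
  [(24, 0, 0),
   (487, 17, 11),
   (502, 5, 23),
   (25, 0, 0),
   (25, 78981, 791),
   (25, 29073, 779),
   (26, 0, 0),
   (26, 417239656469689229, 1559),
   (26, 78993, 1547),
   (27, 0, 0),
   (171, 909, 0),
   (212, 897, 0),
   (28, 0, 0),
   (28, 6, 0),
   (28, 18, 0),
   (29, 0, 0),
   (29, 18, 0),
   (29, 6, 0),
   (30, 0, 0),
   (30, 5, 0),
   (30, 17, 0),
   (31, 0, 0),
   (31, 5, 0),
   (31, 17, 0)]

/-- Part of `level9`. -/
def level9_4 : List (ℕ × ℕ × ℕ) :=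
  [(32, 0, 0),
   (32, 18, 0),
   (32, 17, 0),
   (33, 0, 0),
   (33, 17, 0),
   (33, 5, 0),
   (34, 0, 0),
   (34, 17, 0),
   (34, 18, 0),
   (35, 0, 0),
   (35, 17, 0),
   (35, 5, 0),
   (36, 0, 0),
   (172, 909, 0),
   (213, 897, 0),
   (37, 0, 0),
   (173, 909, 0),
   (214, 897, 0),
   (38, 0, 0),
   (174, 909, 0),
   (215, 897, 0),
   (39, 0, 0),
   (175, 909, 0),
   (216, 897, 0)]

/-- Part of `level9`. -/
def level9_5 : List (ℕ × ℕ × ℕ) :=
  [(40, 0, 0),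
   (40, 78993, 11),
   (40, 19616822157, 1559),
   (41, 0, 0),
   (41, 29073, 779),
   (41, 78981, 23),
   (42, 0, 0),
   (176, 909, 0),
   (217, 897, 0),
   (43, 0, 0),
   (43, 29829, 779),
   (43, 78225, 23),
   (44, 0, 0),
   (44, 78213, 11),
   (44, 29841, 1559),
   (45, 0, 0),
   (177, 909, 0),
   (218, 897, 0),
   (46, 0, 0),
   (178, 909, 0),
   (219, 897, 0),
   (47, 0, 0),
   (179, 909, 0),
   (220, 897, 0)]

/-- Part of `level9`. -/
def level9_6 : List (ℕ × ℕ × ℕ) :=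
  [(48, 0, 0),
   (180, 909, 0),
   (221, 897, 0),
   (49, 0, 0),
   (49, 29841, 23),
   (49, 78213, 779),
   (50, 0, 0),
   (50, 78225, 1559),
   (50, 29829, 11),
   (51, 0, 0),
   (181, 909, 0),
   (222, 897, 0),
   (52, 0, 0),
   (52, 78981, 1559),
   (52, 29073, 11),
   (53, 0, 0),
   (53, 912147053552115708813, 23),
   (53, 78993, 779),
   (54, 0, 0),
   (223, 141, 0),
   (182, 129, 0),
   (55, 0, 0),
   (55, 6, 0),
   (55, 18, 0)]

/-- Part of `level9`. -/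
def level9_7 : List (ℕ × ℕ × ℕ) :=
  [(56, 0, 0),
   (56, 18, 0),
   (56, 6, 0),
   (57, 0, 0),
   (57, 5, 0),
   (57, 17, 0),
   (58, 0, 0),
   (58, 5, 0),
   (58, 17, 0),
   (59, 0, 0),
   (59, 18, 0),
   (59, 17, 0),
   (60, 0, 0),
   (60, 17, 0),
   (60, 5, 0),
   (61, 0, 0),
   (61, 17, 0),
   (61, 18, 0),
   (62, 0, 0),
   (62, 17, 0),
   (62, 5, 0),
   (63, 0, 0),
   (224, 141, 0),
   (183, 129, 0)]

/-- Part of `level9`. -/
def level9_8 : List (ℕ × ℕ × ℕ) :=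
  [(64, 0, 0),
   (225, 141, 0),
   (184, 129, 0),
   (65, 0, 0),
   (226, 141, 0),
   (185, 129, 0),
   (66, 0, 0),
   (227, 141, 0),
   (186, 129, 0),
   (67, 0, 0),
   (67, 78993, 1547),
   (67, 319878029, 791),
   (68, 0, 0),
   (68, 29073, 11),
   (68, 78981, 791),
   (69, 0, 0),
   (228, 141, 0),
   (187, 129, 0),
   (70, 0, 0),
   (70, 29829, 11),
   (70, 78225, 791),
   (71, 0, 0),
   (71, 912147054376752526221, 0),
   (71, 29841, 23)]

/-- Part of `level9`. -/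
def level9_9 : List (ℕ × ℕ × ℕ) :=
  [(72, 0, 0),
   (229, 141, 0),
   (188, 129, 0),
   (73, 0, 0),
   (230, 141, 0),
   (189, 129, 0),
   (74, 0, 0),
   (231, 141, 0),
   (190, 129, 0),
   (75, 0, 0),
   (232, 141, 0),
   (191, 129, 0),
   (76, 0, 0),
   (76, 29841, 791),
   (76, 78213, 11),
   (77, 0, 0),
   (77, 78225, 23),
   (77, 29829, 1547),
   (78, 0, 0),
   (233, 141, 0),
   (192, 129, 0),
   (79, 0, 0),
   (79, 78981, 23),
   (79, 29073, 1547)]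

/-- Part of `level9`. -/
def level9_10 : List (ℕ × ℕ × ℕ) :=
  [(80, 0, 0),
   (80, 1797590769090177332109, 791),
   (80, 78993, 11),
   (81, 0, 0),
   (81, 14, 0),
   (81, 2, 0),
   (82, 0, 0),
   (82, 14, 0),
   (82, 17, 0),
   (83, 0, 0),
   (83, 14, 0),
   (83, 17, 0),
   (84, 0, 0),
   (84, 14, 0),
   (84, 17, 0),
   (85, 0, 0),
   (85, 14, 0),
   (85, 2, 0),
   (86, 0, 0),
   (86, 14, 0),
   (86, 18, 0),
   (87, 0, 0),
   (87, 14, 0),
   (87, 2, 0)]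

/-- Part of `level9`. -/
def level9_11 : List (ℕ × ℕ × ℕ) :=
  [(88, 0, 0),
   (88, 14, 0),
   (88, 2, 0),
   (89, 0, 0),
   (89, 14, 0),
   (89, 2, 0),
   (90, 0, 0),
   (90, 14, 0),
   (90, 2, 0),
   (91, 0, 0),
   (91, 14, 0),
   (91, 2, 0),
   (92, 0, 0),
   (92, 14, 0),
   (92, 2, 0),
   (93, 0, 0),
   (93, 14, 0),
   (93, 2, 0),
   (94, 0, 0),
   (94, 14, 0),
   (94, 2, 0),
   (95, 0, 0),
   (95, 14, 0),
   (95, 2, 0)]

/-- Part of `level9`. -/
def level9_12 : List (ℕ × ℕ × ℕ) :=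
  [(96, 0, 0),
   (96, 14, 0),
   (96, 2, 0),
   (97, 0, 0),
   (97, 14, 0),
   (97, 2, 0),
   (98, 0, 0),
   (98, 14, 0),
   (98, 2, 0),
   (99, 0, 0),
   (99, 14, 0),
   (99, 2, 0),
   (100, 0, 0),
   (100, 14, 0),
   (100, 2, 0),
   (101, 0, 0),
   (101, 14, 0),
   (101, 2, 0),
   (102, 0, 0),
   (102, 14, 0),
   (102, 2, 0),
   (103, 0, 0),
   (103, 14, 0),
   (103, 2, 0)]

/-- Part of `level9`. -/
def level9_13 : List (ℕ × ℕ × ℕ) :=
  [(104, 0, 0),
   (104, 14, 0),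
   (104, 2, 0),
   (105, 0, 0),
   (105, 14, 0),
   (105, 2, 0),
   (106, 0, 0),
   (106, 2, 0),
   (106, 14, 0),
   (107, 0, 0),
   (107, 2, 0),
   (107, 14, 0),
   (108, 0, 0),
   (108, 2, 0),
   (108, 14, 0),
   (109, 0, 0),
   (109, 18, 0),
   (109, 14, 0),
   (110, 0, 0),
   (110, 17, 0),
   (110, 14, 0),
   (111, 0, 0),
   (111, 17, 0),
   (111, 14, 0)]

/-- Part of `level9`. -/
def level9_14 : List (ℕ × ℕ × ℕ) :=
  [(112, 0, 0),
   (112, 17, 0),
   (112, 14, 0),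
   (113, 0, 0),
   (113, 2, 0),
   (113, 14, 0),
   (114, 0, 0),
   (114, 2, 0),
   (114, 14, 0),
   (115, 0, 0),
   (115, 2, 0),
   (115, 14, 0),
   (116, 0, 0),
   (116, 2, 0),
   (116, 14, 0),
   (117, 0, 0),
   (117, 2, 0),
   (117, 14, 0),
   (118, 0, 0),
   (118, 2, 0),
   (118, 14, 0),
   (119, 0, 0),
   (119, 2, 0),
   (119, 14, 0)]

/-- Part of `level9`. -/
def level9_15 : List (ℕ × ℕ × ℕ) :=
  [(120, 0, 0),
   (120, 2, 0),
   (120, 14, 0),
   (121, 0, 0),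
   (121, 2, 0),
   (121, 14, 0),
   (122, 0, 0),
   (122, 2, 0),
   (122, 14, 0),
   (123, 0, 0),
   (123, 2, 0),
   (123, 14, 0),
   (124, 0, 0),
   (124, 2, 0),
   (124, 14, 0),
   (125, 0, 0),
   (125, 2, 0),
   (125, 14, 0),
   (126, 0, 0),
   (126, 2, 0),
   (126, 14, 0),
   (127, 0, 0),
   (127, 2, 0),
   (127, 14, 0)]

/-- Part of `level9`. -/
def level9_16 : List (ℕ × ℕ × ℕ) :=
  [(128, 0, 0),
   (128, 2, 0),
   (128, 14, 0),
   (129, 0, 0),
   (129, 2, 0),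
   (129, 14, 0),
   (130, 0, 0),
   (130, 2, 0),
   (130, 14, 0),
   (131, 0, 0),
   (131, 13, 0),
   (131, 1, 0),
   (132, 0, 0),
   (132, 13, 0),
   (132, 18, 0),
   (133, 0, 0),
   (133, 13, 0),
   (133, 1, 0),
   (134, 0, 0),
   (134, 13, 0),
   (134, 1, 0),
   (135, 0, 0),
   (135, 13, 0),
   (135, 1, 0)]

/-- Part of `level9`. -/
def level9_17 : List (ℕ × ℕ × ℕ) :=
  [(136, 0, 0),
   (136, 13, 0),
   (136, 1, 0),
   (137, 0, 0),
   (137, 13, 0),
   (137, 1, 0),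
   (138, 0, 0),
   (138, 13, 0),
   (138, 1, 0),
   (139, 0, 0),
   (139, 13, 0),
   (139, 1, 0),
   (140, 0, 0),
   (140, 13, 0),
   (140, 1, 0),
   (141, 0, 0),
   (141, 13, 0),
   (141, 1, 0),
   (142, 0, 0),
   (142, 13, 0),
   (142, 1, 0),
   (143, 0, 0),
   (143, 13, 0),
   (143, 1, 0)]

/-- Part of `level9`. -/
def level9_18 : List (ℕ × ℕ × ℕ) :=
  [(144, 0, 0),
   (144, 13, 0),
   (144, 1, 0),
   (145, 0, 0),
   (145, 13, 0),
   (145, 1, 0),
   (146, 0, 0),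
   (146, 13, 0),
   (146, 1, 0),
   (147, 0, 0),
   (147, 13, 0),
   (147, 1, 0),
   (148, 0, 0),
   (148, 13, 0),
   (148, 1, 0),
   (149, 0, 0),
   (149, 13, 0),
   (149, 1, 0),
   (150, 0, 0),
   (150, 13, 0),
   (150, 1, 0),
   (151, 0, 0),
   (151, 13, 0),
   (151, 1, 0)]

/-- Part of `level9`. -/
def level9_19 : List (ℕ × ℕ × ℕ) :=
  [(152, 0, 0),
   (152, 13, 0),
   (152, 1, 0),
   (153, 0, 0),
   (153, 13, 0),
   (153, 1, 0),
   (154, 0, 0),
   (154, 13, 0),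
   (154, 1, 0),
   (155, 0, 0),
   (155, 13, 0),
   (155, 1, 0),
   (156, 0, 0),
   (156, 13, 0),
   (156, 1, 0),
   (157, 0, 0),
   (157, 13, 0),
   (157, 1, 0),
   (158, 0, 0),
   (158, 13, 0),
   (158, 1, 0),
   (159, 0, 0),
   (159, 13, 0),
   (159, 1, 0)]

/-- Part of `level9`. -/
def level9_20 : List (ℕ × ℕ × ℕ) :=
  [(160, 0, 0),
   (160, 13, 0),
   (160, 1, 0),
   (161, 0, 0),
   (161, 13, 0),
   (161, 1, 0),
   (162, 0, 0),
   (162, 13, 0),
   (162, 1, 0),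
   (163, 0, 0),
   (163, 13, 0),
   (163, 1, 0),
   (164, 0, 0),
   (164, 13, 0),
   (164, 1, 0),
   (165, 0, 0),
   (165, 13, 0),
   (165, 1, 0),
   (166, 0, 0),
   (166, 13, 0),
   (166, 1, 0),
   (167, 0, 0),
   (167, 13, 0),
   (167, 1, 0)]

/-- Part of `level9`. -/
def level9_21 : List (ℕ × ℕ × ℕ) :=
  [(168, 0, 0),
   (168, 13, 0),
   (168, 1, 0),
   (169, 0, 0),
   (169, 13, 0),
   (169, 1, 0),
   (170, 0, 0),
   (170, 13, 0),
   (170, 1, 0),
   (193, 0, 0),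
   (193, 13, 0),
   (193, 14, 0),
   (194, 0, 0),
   (194, 13, 0),
   (194, 14, 0),
   (195, 0, 0),
   (195, 13, 0),
   (195, 14, 0),
   (196, 0, 0),
   (196, 13, 0),
   (196, 14, 0),
   (197, 0, 0),
   (197, 13, 0),
   (197, 14, 0)]

/-- Part of `level9`. -/
def level9_22 : List (ℕ × ℕ × ℕ) :=
  [(198, 0, 0),
   (198, 13, 0),
   (198, 14, 0),
   (199, 0, 0),
   (199, 13, 0),
   (199, 14, 0),
   (200, 0, 0),
   (200, 13, 0),
   (200, 14, 0),
   (201, 0, 0),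
   (201, 13, 0),
   (201, 14, 0),
   (202, 0, 0),
   (202, 13, 0),
   (202, 14, 0),
   (203, 0, 0),
   (203, 13, 0),
   (203, 14, 0),
   (204, 0, 0),
   (204, 13, 0),
   (204, 14, 0),
   (205, 0, 0),
   (205, 13, 0),
   (205, 14, 0)]

/-- Part of `level9`. -/
def level9_23 : List (ℕ × ℕ × ℕ) :=
  [(206, 0, 0),
   (206, 13, 0),
   (206, 14, 0),
   (207, 0, 0),
   (207, 13, 0),
   (207, 14, 0),
   (208, 0, 0),
   (208, 13, 0),
   (208, 14, 0),
   (209, 0, 0),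
   (209, 13, 0),
   (209, 14, 0),
   (210, 0, 0),
   (210, 13, 0),
   (210, 14, 0),
   (211, 0, 0),
   (211, 13, 0),
   (211, 14, 0),
   (234, 0, 0),
   (234, 1, 0),
   (234, 13, 0),
   (235, 0, 0),
   (235, 1, 0),
   (235, 13, 0)]

/-- Part of `level9`. -/
def level9_24 : List (ℕ × ℕ × ℕ) :=
  [(236, 0, 0),
   (236, 18, 0),
   (236, 13, 0),
   (237, 0, 0),
   (237, 1, 0),
   (237, 13, 0),
   (238, 0, 0),
   (238, 1, 0),
   (238, 13, 0),
   (239, 0, 0),
   (239, 1, 0),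
   (239, 13, 0),
   (240, 0, 0),
   (240, 1, 0),
   (240, 13, 0),
   (241, 0, 0),
   (241, 1, 0),
   (241, 13, 0),
   (242, 0, 0),
   (242, 1, 0),
   (242, 13, 0),
   (243, 0, 0),
   (243, 1, 0),
   (243, 13, 0)]

/-- Part of `level9`. -/
def level9_25 : List (ℕ × ℕ × ℕ) :=
  [(244, 0, 0),
   (244, 1, 0),
   (244, 13, 0),
   (245, 0, 0),
   (245, 1, 0),
   (245, 13, 0),
   (246, 0, 0),
   (246, 1, 0),
   (246, 13, 0),
   (247, 0, 0),
   (247, 1, 0),
   (247, 13, 0),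
   (248, 0, 0),
   (248, 1, 0),
   (248, 13, 0),
   (249, 0, 0),
   (249, 1, 0),
   (249, 13, 0),
   (250, 0, 0),
   (250, 1, 0),
   (250, 13, 0),
   (251, 0, 0),
   (251, 1, 0),
   (251, 13, 0)]

/-- Part of `level9`. -/
def level9_26 : List (ℕ × ℕ × ℕ) :=
  [(252, 0, 0),
   (252, 1, 0),
   (252, 13, 0),
   (253, 0, 0),
   (253, 1, 0),
   (253, 13, 0),
   (254, 0, 0),
   (254, 1, 0),
   (254, 13, 0),
   (255, 0, 0),
   (255, 14, 0),
   (255, 13, 0),
   (256, 0, 0),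
   (256, 14, 0),
   (256, 13, 0),
   (257, 0, 0),
   (257, 14, 0),
   (257, 13, 0),
   (258, 0, 0),
   (258, 14, 0),
   (258, 13, 0),
   (259, 0, 0),
   (259, 14, 0),
   (259, 13, 0)]

/-- Part of `level9`. -/
def level9_27 : List (ℕ × ℕ × ℕ) :=
  [(260, 0, 0),
   (260, 14, 0),
   (260, 13, 0),
   (261, 0, 0),
   (261, 14, 0),
   (261, 13, 0),
   (262, 0, 0),
   (262, 14, 0),
   (262, 13, 0),
   (263, 0, 0),
   (263, 14, 0),
   (263, 13, 0),
   (264, 0, 0),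
   (264, 14, 0),
   (264, 13, 0),
   (265, 0, 0),
   (265, 14, 0),
   (265, 13, 0),
   (266, 0, 0),
   (266, 14, 0),
   (266, 13, 0),
   (267, 0, 0),
   (267, 14, 0),
   (267, 13, 0)]

/-- Part of `level9`. -/
def level9_28 : List (ℕ × ℕ × ℕ) :=
  [(268, 0, 0),
   (268, 14, 0),
   (268, 13, 0),
   (269, 0, 0),
   (269, 14, 0),
   (269, 13, 0),
   (270, 0, 0),
   (270, 14, 0),
   (270, 13, 0),
   (271, 0, 0),
   (271, 14, 0),
   (271, 13, 0),
   (272, 0, 0),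
   (272, 14, 0),
   (272, 13, 0),
   (273, 0, 0),
   (273, 14, 0),
   (273, 13, 0),
   (274, 0, 0),
   (274, 1, 0),
   (274, 13, 0),
   (275, 0, 0),
   (275, 1, 0),
   (275, 13, 0)]

/-- Part of `level9`. -/
def level9_29 : List (ℕ × ℕ × ℕ) :=
  [(276, 0, 0),
   (276, 1, 0),
   (276, 13, 0),
   (277, 0, 0),
   (277, 1, 0),
   (277, 13, 0),
   (278, 0, 0),
   (278, 1, 0),
   (278, 13, 0),
   (279, 0, 0),
   (279, 1, 0),
   (279, 13, 0),
   (280, 0, 0),
   (280, 1, 0),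
   (280, 13, 0),
   (281, 0, 0),
   (281, 1, 0),
   (281, 13, 0),
   (282, 0, 0),
   (282, 1, 0),
   (282, 13, 0),
   (283, 0, 0),
   (283, 1, 0),
   (283, 13, 0)]

/-- Part of `level9`. -/
def level9_30 : List (ℕ × ℕ × ℕ) :=
  [(284, 0, 0),
   (284, 1, 0),
   (284, 13, 0),
   (285, 0, 0),
   (285, 1, 0),
   (285, 13, 0),
   (286, 0, 0),
   (286, 1, 0),
   (286, 13, 0),
   (287, 0, 0),
   (287, 1, 0),
   (287, 13, 0),
   (288, 0, 0),
   (288, 1, 0),
   (288, 13, 0),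
   (289, 0, 0),
   (289, 1, 0),
   (289, 13, 0),
   (290, 0, 0),
   (290, 1, 0),
   (290, 13, 0),
   (291, 0, 0),
   (291, 1, 0),
   (291, 13, 0)]

/-- Part of `level9`. -/
def level9_31 : List (ℕ × ℕ × ℕ) :=
  [(292, 0, 0),
   (292, 1, 0),
   (292, 13, 0),
   (293, 0, 0),
   (514, 0, 0),
   (527, 0, 0),
   (294, 0, 0),
   (294, 6, 12),
   (294, 18, 24),
   (295, 0, 0),
   (295, 18, 12),
   (295, 6, 24),
   (296, 0, 0),
   (296, 5, 12),
   (296, 17, 24),
   (297, 0, 0),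
   (297, 5, 12),
   (297, 17, 24),
   (298, 0, 0),
   (298, 18, 12),
   (298, 17, 24),
   (299, 0, 0),
   (299, 17, 12),
   (299, 5, 24)]

/-- Part of `level9`. -/
def level9_32 : List (ℕ × ℕ × ℕ) :=
  [(300, 0, 0),
   (300, 17, 12),
   (300, 18, 24),
   (301, 0, 0),
   (301, 17, 12),
   (301, 5, 24),
   (302, 0, 0),
   (465, 14, 12),
   (428, 2, 24),
   (303, 0, 0),
   (303, 1230, 24),
   (303, 17, 24),
   (304, 0, 0),
   (304, 5, 12),
   (304, 17, 24),
   (305, 0, 0),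
   (305, 18, 12),
   (305, 17, 24),
   (306, 0, 0),
   (306, 17, 12),
   (306, 5, 24),
   (307, 0, 0),
   (307, 17, 12),
   (307, 18, 24)]

/-- Part of `level9`. -/
def level9_33 : List (ℕ × ℕ × ℕ) :=
  [(308, 0, 0),
   (308, 17, 12),
   (308, 5, 24),
   (309, 0, 0),
   (471, 14, 12),
   (438, 2, 24),
   (310, 0, 0),
   (310, 5, 12),
   (310, 17, 24),
   (311, 0, 0),
   (311, 5, 12),
   (311, 17, 24),
   (312, 0, 0),
   (312, 18, 12),
   (312, 17, 24),
   (313, 0, 0),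
   (313, 17, 12),
   (313, 5, 24),
   (314, 0, 0),
   (314, 17, 12),
   (314, 18, 24),
   (315, 0, 0),
   (315, 17, 12),
   (315, 5, 24)]

/-- Part of `level9`. -/
def level9_34 : List (ℕ × ℕ × ℕ) :=
  [(316, 0, 0),
   (476, 14, 12),
   (435, 2, 24),
   (317, 0, 0),
   (317, 5, 12),
   (317, 17, 24),
   (318, 0, 0),
   (318, 5, 12),
   (318, 17, 24),
   (319, 0, 0),
   (319, 18, 12),
   (319, 17, 24),
   (320, 0, 0),
   (320, 17, 12),
   (320, 5, 24),
   (321, 0, 0),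
   (321, 17, 12),
   (321, 18, 24),
   (322, 0, 0),
   (322, 17, 12),
   (322, 5, 24),
   (323, 0, 0),
   (431, 2, 12),
   (468, 14, 24)]

/-- Part of `level9`. -/
def level9_35 : List (ℕ × ℕ × ℕ) :=
  [(324, 0, 0),
   (324, 5, 12),
   (324, 17, 24),
   (325, 0, 0),
   (325, 5, 12),
   (325, 17, 24),
   (326, 0, 0),
   (326, 18, 12),
   (326, 17, 24),
   (327, 0, 0),
   (327, 17, 12),
   (327, 5, 24),
   (328, 0, 0),
   (328, 17, 12),
   (328, 18, 24),
   (329, 0, 0),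
   (329, 17, 12),
   (329, 5, 24),
   (330, 0, 0),
   (440, 2, 12),
   (473, 14, 24),
   (331, 0, 0),
   (331, 5, 12),
   (331, 17, 24)]

/-- Part of `level9`. -/
def level9_36 : List (ℕ × ℕ × ℕ) :=
  [(332, 0, 0),
   (332, 5, 12),
   (332, 17, 24),
   (333, 0, 0),
   (333, 18, 12),
   (333, 17, 24),
   (334, 0, 0),
   (334, 17, 12),
   (334, 5, 24),
   (335, 0, 0),
   (335, 17, 12),
   (335, 18, 24),
   (336, 0, 0),
   (336, 17, 12),
   (336, 5, 24),
   (337, 0, 0),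
   (437, 2, 12),
   (478, 14, 24),
   (338, 0, 0),
   (338, 5, 12),
   (338, 17, 24),
   (339, 0, 0),
   (339, 5, 12),
   (339, 17, 24)]

/-- Part of `level9`. -/
def level9_37 : List (ℕ × ℕ × ℕ) :=
  [(340, 0, 0),
   (340, 18, 12),
   (340, 17, 24),
   (341, 0, 0),
   (341, 17, 12),
   (341, 5, 24),
   (342, 0, 0),
   (342, 17, 12),
   (342, 18, 24),
   (343, 0, 0),
   (343, 17, 12),
   (343, 5, 24),
   (344, 0, 0),
   (505, 13, 12),
   (490, 1, 24),
   (345, 0, 0),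
   (345, 1229, 24),
   (345, 18, 24),
   (346, 0, 0),
   (346, 18, 12),
   (346, 6, 24),
   (347, 0, 0),
   (421, 973, 0),
   (424, 961, 0)]

/-- Part of `level9`. -/
def level9_38 : List (ℕ × ℕ × ℕ) :=
  [(348, 0, 0),
   (348, 6, 12),
   (348, 18, 24),
   (349, 0, 0),
   (349, 18, 12),
   (349, 6, 24),
   (350, 0, 0),
   (462, 205, 0),
   (459, 193, 0),
   (351, 0, 0),
   (351, 6, 12),
   (351, 18, 24),
   (352, 0, 0),
   (352, 18, 12),
   (352, 6, 24),
   (353, 0, 0),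
   (353, 12417, 1547),
   (353, 62349, 779),
   (354, 0, 0),
   (475, 14, 12),
   (429, 2, 24),
   (355, 0, 0),
   (467, 14, 12),
   (439, 2, 24)]

/-- Part of `level9`. -/
def level9_39 : List (ℕ × ℕ × ℕ) :=
  [(356, 0, 0),
   (356, 62337, 1559),
   (356, 12429, 791),
   (357, 0, 0),
   (432, 2, 12),
   (477, 14, 24),
   (358, 0, 0),
   (441, 2, 12),
   (470, 14, 24),
   (359, 0, 0),
   (491, 1, 12),
   (506, 13, 24),
   (360, 0, 0),
   (360, 6, 12),
   (360, 18, 24),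
   (361, 0, 0),
   (361, 18, 12),
   (361, 6, 24),
   (362, 0, 0),
   (458, 61581, 23),
   (461, 61569, 11),
   (363, 0, 0),
   (363, 6, 12),
   (363, 18, 24)]

/-- Part of `level9`. -/
def level9_40 : List (ℕ × ℕ × ℕ) :=
  [(364, 0, 0),
   (364, 18, 12),
   (364, 6, 24),
   (365, 0, 0),
   (425, 13197, 11),
   (422, 13185, 23),
   (366, 0, 0),
   (366, 6, 12),
   (366, 18, 24),
   (367, 0, 0),
   (367, 18, 12),
   (367, 6, 24),
   (368, 0, 0),
   (368, 61581, 1559),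
   (368, 13185, 791),
   (369, 0, 0),
   (466, 14, 12),
   (434, 2, 24),
   (370, 0, 0),
   (472, 14, 12),
   (430, 2, 24),
   (371, 0, 0),
   (371, 13197, 1547),
   (371, 61569, 779)]

/-- Part of `level9`. -/
def level9_41 : List (ℕ × ℕ × ℕ) :=
  [(372, 0, 0),
   (436, 2, 12),
   (469, 14, 24),
   (373, 0, 0),
   (433, 2, 12),
   (474, 14, 24),
   (374, 0, 0),
   (515, 0, 0),
   (528, 0, 0),
   (375, 0, 0),
   (375, 6, 24),
   (375, 18, 12),
   (376, 0, 0),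
   (376, 18, 24),
   (376, 6, 12),
   (377, 0, 0),
   (377, 5, 24),
   (377, 17, 12),
   (378, 0, 0),
   (378, 5, 24),
   (378, 17, 12),
   (379, 0, 0),
   (379, 18, 24),
   (379, 17, 12)]

/-- Part of `level9`. -/
def level9_42 : List (ℕ × ℕ × ℕ) :=
  [(380, 0, 0),
   (380, 17, 24),
   (380, 5, 12),
   (381, 0, 0),
   (381, 17, 24),
   (381, 18, 12),
   (382, 0, 0),
   (382, 17, 24),
   (382, 5, 12),
   (383, 0, 0),
   (442, 14, 24),
   (479, 2, 12),
   (384, 0, 0),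
   (384, 5, 24),
   (384, 17, 12),
   (385, 0, 0),
   (385, 5, 24),
   (385, 17, 12),
   (386, 0, 0),
   (386, 18, 24),
   (386, 17, 12),
   (387, 0, 0),
   (387, 17, 24),
   (387, 5, 12)]

/-- Part of `level9`. -/
def level9_43 : List (ℕ × ℕ × ℕ) :=
  [(388, 0, 0),
   (388, 17, 24),
   (388, 18, 12),
   (389, 0, 0),
   (389, 17, 24),
   (389, 5, 12),
   (390, 0, 0),
   (480, 2, 24),
   (443, 14, 12),
   (391, 0, 0),
   (391, 5, 24),
   (391, 17, 12),
   (392, 0, 0),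
   (392, 5, 24),
   (392, 17, 12),
   (393, 0, 0),
   (393, 18, 24),
   (393, 17, 12),
   (394, 0, 0),
   (394, 17, 24),
   (394, 1230, 12),
   (395, 0, 0),
   (395, 17, 24),
   (395, 18, 12)]

/-- Part of `level9`. -/
def level9_44 : List (ℕ × ℕ × ℕ) :=
  [(396, 0, 0),
   (396, 17, 24),
   (396, 5, 12),
   (397, 0, 0),
   (492, 13, 24),
   (507, 1, 12),
   (398, 0, 0),
   (398, 6, 24),
   (398, 18, 12),
   (399, 0, 0),
   (399, 18, 24),
   (399, 6, 12),
   (400, 0, 0),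
   (400, 61569, 791),
   (400, 13197, 1559),
   (401, 0, 0),
   (401, 13185, 779),
   (401, 61581, 1547),
   (402, 0, 0),
   (508, 1, 24),
   (493, 13, 12),
   (403, 0, 0),
   (403, 6, 24),
   (403, 18, 12)]

/-- Part of `level9`. -/
def level9_45 : List (ℕ × ℕ × ℕ) :=
  [(404, 0, 0),
   (404, 18, 24),
   (404, 1229, 12),
   (405, 0, 0),
   (405, 12429, 779),
   (405, 62337, 1547),
   (406, 0, 0),
   (406, 62349, 791),
   (406, 12417, 1559),
   (407, 0, 0),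
   (516, 0, 0),
   (529, 0, 0),
   (408, 0, 0),
   (408, 6, 0),
   (408, 18, 0),
   (409, 0, 0),
   (409, 18, 0),
   (409, 6, 0),
   (410, 0, 0),
   (410, 5, 12),
   (410, 17, 24),
   (411, 0, 0),
   (411, 18, 0),
   (411, 17, 24)]

/-- Part of `level9`. -/
def level9_46 : List (ℕ × ℕ × ℕ) :=
  [(412, 0, 0),
   (412, 17, 24),
   (412, 18, 0),
   (413, 0, 0),
   (413, 17, 24),
   (413, 5, 12),
   (418, 0, 0),
   (418, 14, 0),
   (418, 2, 0),
   (419, 0, 0),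
   (419, 2, 0),
   (419, 14, 0),
   (420, 0, 0),
   (420, 13, 23),
   (420, 1, 11),
   (423, 0, 0),
   (423, 13, 23),
   (423, 14, 0),
   (426, 0, 0),
   (426, 14, 0),
   (426, 13, 23),
   (427, 0, 0),
   (427, 1, 11),
   (427, 13, 23)]

/-- Part of `level9`. -/
def level9_47 : List (ℕ × ℕ × ℕ) :=
  [(444, 0, 0),
   (517, 0, 0),
   (530, 0, 0),
   (445, 0, 0),
   (445, 6, 0),
   (445, 18, 0),
   (446, 0, 0),
   (446, 18, 0),
   (446, 6, 0),
   (447, 0, 0),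
   (447, 5, 24),
   (447, 17, 12),
   (448, 0, 0),
   (448, 18, 0),
   (448, 17, 12),
   (449, 0, 0),
   (449, 17, 12),
   (449, 18, 0),
   (450, 0, 0),
   (450, 17, 12),
   (450, 5, 24),
   (455, 0, 0),
   (455, 14, 0),
   (455, 2, 0)]

/-- Part of `level9`. -/
def level9_48 : List (ℕ × ℕ × ℕ) :=
  [(456, 0, 0),
   (456, 2, 0),
   (456, 14, 0),
   (457, 0, 0),
   (457, 13, 11),
   (457, 1, 23),
   (460, 0, 0),
   (460, 13, 11),
   (460, 14, 0),
   (463, 0, 0),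
   (463, 14, 0),
   (463, 13, 11),
   (464, 0, 0),
   (464, 1, 23),
   (464, 13, 11),
   (481, 0, 0),
   (518, 0, 0),
   (531, 0, 0),
   (482, 0, 0),
   (482, 5, 0),
   (482, 17, 0),
   (483, 0, 0),
   (483, 17, 0),
   (483, 5, 0)]

/-- Part of `level9`. -/
def level9_49 : List (ℕ × ℕ × ℕ) :=
  [(488, 0, 0),
   (488, 13, 0),
   (488, 1, 0),
   (489, 0, 0),
   (489, 1, 0),
   (489, 13, 0),
   (494, 0, 0),
   (519, 0, 0),
   (532, 0, 0),
   (495, 0, 0),
   (520, 0, 0),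
   (533, 0, 0),
   (496, 0, 0),
   (521, 0, 0),
   (534, 0, 0),
   (497, 0, 0),
   (497, 5, 0),
   (497, 17, 0),
   (498, 0, 0),
   (498, 17, 0),
   (498, 5, 0),
   (503, 0, 0),
   (503, 13, 0),
   (503, 1, 0)]

/-- Part of `level9`. -/
def level9_50 : List (ℕ × ℕ × ℕ) :=
  [(504, 0, 0),
   (504, 1, 0),
   (504, 13, 0),
   (509, 0, 0),
   (522, 0, 0),
   (535, 0, 0),
   (510, 0, 0),
   (523, 0, 0),
   (536, 0, 0)]

/-- The certificate of level 9. -/
def level9 : List (ℕ × ℕ × ℕ) := List.flatten [level9_0, level9_1, level9_2, level9_3, level9_4, level9_5, level9_6, level9_7, level9_8, level9_9, level9_10, level9_11, level9_12, level9_13, level9_14, level9_15, level9_16, level9_17, level9_18, level9_19, level9_20, level9_21, level9_22, level9_23, level9_24, level9_25, level9_26, level9_27, level9_28, level9_29, level9_30, level9_31, level9_32, level9_33, level9_34, level9_35, level9_36, level9_37, level9_38,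 level9_39, level9_40, level9_41, level9_42, level9_43, level9_44, level9_45, level9_46, level9_47, level9_48, level9_49, level9_50]

/-- Part of `level10`. -/
def level10_0 : List (ℕ × ℕ × ℕ) :=
  [(0, 0, 0),
   (697, 0, 0),
   (698, 0, 0),
   (1, 0, 0),
   (1, 8, 0),
   (1, 20, 0),
   (2, 0, 0),
   (2, 20, 0),
   (2, 8, 0),
   (3, 0, 0),
   (3, 9, 0),
   (3, 21, 0),
   (4, 0, 0),
   (4, 8, 0),
   (4, 20, 0),
   (5, 0, 0),
   (5, 20, 0),
   (5, 21, 0),
   (6, 0, 0),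
   (6, 21, 0),
   (6, 9, 0),
   (7, 0, 0),
   (7, 21, 0),
   (7, 20, 0)]

/-- Part of `level10`. -/
def level10_1 : List (ℕ × ℕ × ℕ) :=
  [(8, 0, 0),
   (8, 20, 0),
   (8, 8, 0),
   (9, 0, 0),
   (9, 22, 0),
   (9, 10, 0),
   (10, 0, 0),
   (10, 22, 0),
   (10, 20, 0),
   (11, 0, 0),
   (11, 20, 0),
   (11, 8, 0),
   (12, 0, 0),
   (12, 22, 0),
   (12, 21, 0),
   (13, 0, 0),
   (13, 22, 0),
   (13, 20, 0),
   (14, 0, 0),
   (14, 20, 0),
   (14, 21, 0),
   (15, 0, 0),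
   (15, 21, 0),
   (15, 9, 0)]

/-- Part of `level10`. -/
def level10_2 : List (ℕ × ℕ × ℕ) :=
  [(16, 0, 0),
   (16, 21, 0),
   (16, 20, 0),
   (17, 0, 0),
   (17, 20, 0),
   (17, 8, 0),
   (18, 0, 0),
   (18, 10, 0),
   (18, 22, 0),
   (19, 0, 0),
   (19, 8, 0),
   (19, 20, 0),
   (20, 0, 0),
   (20, 20, 0),
   (20, 22, 0),
   (21, 0, 0),
   (21, 9, 0),
   (21, 21, 0),
   (22, 0, 0),
   (22, 8, 0),
   (22, 20, 0),
   (23, 0, 0),
   (23, 20, 0),
   (23, 21, 0)]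

/-- Part of `level10`. -/
def level10_3 : List (ℕ × ℕ × ℕ) :=
  [(24, 0, 0),
   (24, 21, 0),
   (24, 22, 0),
   (25, 0, 0),
   (25, 21, 0),
   (25, 20, 0),
   (26, 0, 0),
   (26, 20, 0),
   (26, 22, 0),
   (27, 0, 0),
   (648, 13185, 24),
   (656, 61581, 12),
   (28, 0, 0),
   (28, 8, 12),
   (28, 20, 24),
   (29, 0, 0),
   (29, 20, 12),
   (29, 8, 24),
   (30, 0, 0),
   (30, 9, 12),
   (30, 21, 24),
   (31, 0, 0),
   (31, 8, 12),
   (31, 20, 24)]

/-- Part of `level10`. -/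
def level10_4 : List (ℕ × ℕ × ℕ) :=
  [(32, 0, 0),
   (32, 20, 12),
   (32, 21, 24),
   (33, 0, 0),
   (33, 21, 12),
   (33, 9, 24),
   (34, 0, 0),
   (34, 21, 12),
   (34, 20, 24),
   (35, 0, 0),
   (35, 20, 12),
   (35, 8, 24),
   (36, 0, 0),
   (36, 22, 12),
   (36, 10, 24),
   (37, 0, 0),
   (37, 22, 12),
   (37, 20, 24),
   (38, 0, 0),
   (38, 20, 12),
   (38, 8, 24),
   (39, 0, 0),
   (39, 22, 12),
   (39, 21, 24)]

/-- Part of `level10`. -/
def level10_5 : List (ℕ × ℕ × ℕ) :=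
  [(40, 0, 0),
   (40, 22, 12),
   (40, 20, 24),
   (41, 0, 0),
   (41, 20, 12),
   (41, 21, 24),
   (42, 0, 0),
   (42, 21, 12),
   (42, 9, 24),
   (43, 0, 0),
   (43, 21, 12),
   (43, 20, 24),
   (44, 0, 0),
   (44, 20, 12),
   (44, 8, 24),
   (45, 0, 0),
   (45, 10, 12),
   (45, 22, 24),
   (46, 0, 0),
   (46, 8, 12),
   (46, 20, 24),
   (47, 0, 0),
   (47, 20, 12),
   (47, 22, 24)]

/-- Part of `level10`. -/
def level10_6 : List (ℕ × ℕ × ℕ) :=
  [(48, 0, 0),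
   (48, 9, 12),
   (48, 21, 24),
   (49, 0, 0),
   (49, 8, 12),
   (49, 20, 24),
   (50, 0, 0),
   (50, 20, 12),
   (50, 21, 24),
   (51, 0, 0),
   (51, 21, 12),
   (51, 22, 24),
   (52, 0, 0),
   (52, 21, 12),
   (52, 20, 24),
   (53, 0, 0),
   (53, 20, 12),
   (53, 22, 24),
   (54, 0, 0),
   (635, 13197, 12),
   (618, 61569, 24),
   (55, 0, 0),
   (55, 8, 24),
   (55, 20, 12)]

/-- Part of `level10`. -/
def level10_7 : List (ℕ × ℕ × ℕ) :=
  [(56, 0, 0),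
   (56, 20, 24),
   (56, 8, 12),
   (57, 0, 0),
   (57, 9, 24),
   (57, 21, 12),
   (58, 0, 0),
   (58, 8, 24),
   (58, 20, 12),
   (59, 0, 0),
   (59, 20, 24),
   (59, 21, 12),
   (60, 0, 0),
   (60, 21, 24),
   (60, 9, 12),
   (61, 0, 0),
   (61, 21, 24),
   (61, 20, 12),
   (62, 0, 0),
   (62, 20, 24),
   (62, 8, 12),
   (63, 0, 0),
   (63, 22, 24),
   (63, 10, 12)]

/-- Part of `level10`. -/
def level10_8 : List (ℕ × ℕ × ℕ) :=
  [(64, 0, 0),
   (64, 22, 24),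
   (64, 20, 12),
   (65, 0, 0),
   (65, 20, 24),
   (65, 8, 12),
   (66, 0, 0),
   (66, 22, 24),
   (66, 21, 12),
   (67, 0, 0),
   (67, 22, 24),
   (67, 20, 12),
   (68, 0, 0),
   (68, 20, 24),
   (68, 21, 12),
   (69, 0, 0),
   (69, 21, 24),
   (69, 9, 12),
   (70, 0, 0),
   (70, 21, 24),
   (70, 20, 12),
   (71, 0, 0),
   (71, 20, 24),
   (71, 8, 12)]

/-- Part of `level10`. -/
def level10_9 : List (ℕ × ℕ × ℕ) :=
  [(72, 0, 0),
   (72, 10, 24),
   (72, 22, 12),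
   (73, 0, 0),
   (73, 8, 24),
   (73, 20, 12),
   (74, 0, 0),
   (74, 20, 24),
   (74, 22, 12),
   (75, 0, 0),
   (75, 9, 24),
   (75, 21, 12),
   (76, 0, 0),
   (76, 8, 24),
   (76, 20, 12),
   (77, 0, 0),
   (77, 20, 24),
   (77, 21, 12),
   (78, 0, 0),
   (78, 21, 24),
   (78, 22, 12),
   (79, 0, 0),
   (79, 21, 24),
   (79, 20, 12)]

/-- Part of `level10`. -/
def level10_10 : List (ℕ × ℕ × ℕ) :=
  [(80, 0, 0),
   (80, 20, 24),
   (80, 22, 12),
   (81, 0, 0),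
   (662, 194, 0),
   (601, 962, 0),
   (82, 0, 0),
   (82, 9, 0),
   (82, 21, 0),
   (83, 0, 0),
   (83, 8, 24),
   (83, 20, 12),
   (84, 0, 0),
   (84, 20, 12),
   (84, 21, 0),
   (85, 0, 0),
   (85, 21, 0),
   (85, 9, 0),
   (86, 0, 0),
   (86, 21, 0),
   (86, 20, 12),
   (87, 0, 0),
   (87, 20, 12),
   (87, 8, 24)]

/-- Part of `level10`. -/
def level10_11 : List (ℕ × ℕ × ℕ) :=
  [(88, 0, 0),
   (88, 22, 0),
   (88, 10, 0),
   (89, 0, 0),
   (89, 22, 0),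
   (89, 20, 12),
   (90, 0, 0),
   (90, 20, 12),
   (90, 8, 24),
   (91, 0, 0),
   (91, 22, 0),
   (91, 21, 0),
   (92, 0, 0),
   (92, 22, 0),
   (92, 20, 12),
   (93, 0, 0),
   (93, 20, 12),
   (93, 21, 0),
   (94, 0, 0),
   (94, 21, 0),
   (94, 9, 0),
   (95, 0, 0),
   (95, 21, 0),
   (95, 20, 12)]

/-- Part of `level10`. -/
def level10_12 : List (ℕ × ℕ × ℕ) :=
  [(96, 0, 0),
   (96, 20, 12),
   (96, 8, 24),
   (97, 0, 0),
   (97, 10, 0),
   (97, 22, 0),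
   (98, 0, 0),
   (98, 8, 24),
   (98, 20, 12),
   (99, 0, 0),
   (99, 20, 12),
   (99, 22, 0),
   (100, 0, 0),
   (100, 9, 0),
   (100, 21, 0),
   (101, 0, 0),
   (101, 8, 24),
   (101, 20, 12),
   (102, 0, 0),
   (102, 20, 12),
   (102, 21, 0),
   (103, 0, 0),
   (103, 21, 0),
   (103, 22, 0)]

/-- Part of `level10`. -/
def level10_13 : List (ℕ × ℕ × ℕ) :=
  [(104, 0, 0),
   (104, 21, 0),
   (104, 20, 12),
   (105, 0, 0),
   (105, 20, 12),
   (105, 22, 0),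
   (106, 0, 0),
   (602, 206, 0),
   (663, 974, 0),
   (107, 0, 0),
   (107, 9, 0),
   (107, 21, 0),
   (108, 0, 0),
   (108, 8, 12),
   (108, 20, 24),
   (109, 0, 0),
   (109, 20, 24),
   (109, 21, 0),
   (110, 0, 0),
   (110, 21, 0),
   (110, 9, 0),
   (111, 0, 0),
   (111, 21, 0),
   (111, 20, 24)]

/-- Part of `level10`. -/
def level10_14 : List (ℕ × ℕ × ℕ) :=
  [(112, 0, 0),
   (112, 20, 24),
   (112, 8, 12),
   (113, 0, 0),
   (113, 22, 0),
   (113, 10, 0),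
   (114, 0, 0),
   (114, 22, 0),
   (114, 20, 24),
   (115, 0, 0),
   (115, 20, 24),
   (115, 8, 12),
   (116, 0, 0),
   (116, 22, 0),
   (116, 21, 0),
   (117, 0, 0),
   (117, 22, 0),
   (117, 20, 24),
   (118, 0, 0),
   (118, 20, 24),
   (118, 21, 0),
   (119, 0, 0),
   (119, 21, 0),
   (119, 9, 0)]

/-- Part of `level10`. -/
def level10_15 : List (ℕ × ℕ × ℕ) :=
  [(120, 0, 0),
   (120, 21, 0),
   (120, 20, 24),
   (121, 0, 0),
   (121, 20, 24),
   (121, 8, 12),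
   (122, 0, 0),
   (122, 10, 0),
   (122, 22, 0),
   (123, 0, 0),
   (123, 8, 12),
   (123, 20, 24),
   (124, 0, 0),
   (124, 20, 24),
   (124, 22, 0),
   (125, 0, 0),
   (125, 9, 0),
   (125, 21, 0),
   (126, 0, 0),
   (126, 8, 12),
   (126, 20, 24),
   (127, 0, 0),
   (127, 20, 24),
   (127, 21, 0)]

/-- Part of `level10`. -/
def level10_16 : List (ℕ × ℕ × ℕ) :=
  [(128, 0, 0),
   (128, 21, 0),
   (128, 22, 0),
   (129, 0, 0),
   (129, 21, 0),
   (129, 20, 24),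
   (130, 0, 0),
   (130, 20, 24),
   (130, 22, 0),
   (131, 0, 0),
   (596, 193, 0),
   (591, 961, 0),
   (132, 0, 0),
   (132, 8, 0),
   (132, 20, 0),
   (133, 0, 0),
   (133, 20, 0),
   (133, 8, 0),
   (134, 0, 0),
   (134, 22, 0),
   (134, 10, 0),
   (135, 0, 0),
   (135, 22, 0),
   (135, 20, 0)]

/-- Part of `level10`. -/
def level10_17 : List (ℕ × ℕ × ℕ) :=
  [(136, 0, 0),
   (136, 20, 0),
   (136, 8, 0),
   (137, 0, 0),
   (137, 22, 0),
   (137, 21, 12),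
   (138, 0, 0),
   (138, 22, 0),
   (138, 20, 0),
   (139, 0, 0),
   (139, 20, 0),
   (139, 21, 12),
   (140, 0, 0),
   (140, 21, 12),
   (140, 9, 24),
   (141, 0, 0),
   (141, 21, 12),
   (141, 20, 0),
   (142, 0, 0),
   (142, 20, 0),
   (142, 8, 0),
   (143, 0, 0),
   (143, 10, 0),
   (143, 22, 0)]

/-- Part of `level10`. -/
def level10_18 : List (ℕ × ℕ × ℕ) :=
  [(144, 0, 0),
   (144, 8, 0),
   (144, 20, 0),
   (145, 0, 0),
   (145, 20, 0),
   (145, 22, 0),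
   (146, 0, 0),
   (146, 9, 24),
   (146, 21, 12),
   (147, 0, 0),
   (147, 8, 0),
   (147, 20, 0),
   (148, 0, 0),
   (148, 20, 0),
   (148, 21, 12),
   (149, 0, 0),
   (149, 21, 12),
   (149, 22, 0),
   (150, 0, 0),
   (150, 21, 12),
   (150, 20, 0),
   (151, 0, 0),
   (151, 20, 0),
   (151, 22, 0)]

/-- Part of `level10`. -/
def level10_19 : List (ℕ × ℕ × ℕ) :=
  [(152, 0, 0),
   (675, 193, 12),
   (607, 961, 24),
   (153, 0, 0),
   (153, 22, 0),
   (153, 10, 0),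
   (154, 0, 0),
   (154, 22, 0),
   (154, 20, 12),
   (155, 0, 0),
   (155, 20, 12),
   (155, 8, 24),
   (156, 0, 0),
   (156, 22, 0),
   (156, 21, 12),
   (157, 0, 0),
   (157, 22, 0),
   (157, 20, 12),
   (158, 0, 0),
   (158, 20, 12),
   (158, 21, 12),
   (159, 0, 0),
   (159, 21, 12),
   (159, 9, 24)]

/-- Part of `level10`. -/
def level10_20 : List (ℕ × ℕ × ℕ) :=
  [(160, 0, 0),
   (160, 21, 12),
   (160, 20, 12),
   (161, 0, 0),
   (161, 20, 12),
   (161, 8, 24),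
   (162, 0, 0),
   (162, 10, 0),
   (162, 22, 0),
   (163, 0, 0),
   (163, 8, 24),
   (163, 20, 12),
   (164, 0, 0),
   (164, 20, 12),
   (164, 22, 0),
   (165, 0, 0),
   (165, 9, 24),
   (165, 21, 12),
   (166, 0, 0),
   (166, 8, 24),
   (166, 20, 12),
   (167, 0, 0),
   (167, 20, 12),
   (167, 21, 12)]

/-- Part of `level10`. -/
def level10_21 : List (ℕ × ℕ × ℕ) :=
  [(168, 0, 0),
   (168, 21, 12),
   (168, 22, 0),
   (169, 0, 0),
   (169, 21, 12),
   (169, 20, 12),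
   (170, 0, 0),
   (170, 20, 12),
   (170, 22, 0),
   (171, 0, 0),
   (583, 12417, 0),
   (586, 61569, 0),
   (172, 0, 0),
   (172, 22, 12),
   (172, 10, 24),
   (173, 0, 0),
   (173, 22, 12),
   (173, 20, 0),
   (174, 0, 0),
   (174, 20, 24),
   (174, 8, 12),
   (175, 0, 0),
   (175, 22, 12),
   (175, 21, 0)]

/-- Part of `level10`. -/
def level10_22 : List (ℕ × ℕ × ℕ) :=
  [(176, 0, 0),
   (176, 21, 24),
   (176, 9, 12),
   (177, 0, 0),
   (177, 10, 12),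
   (177, 22, 24),
   (178, 0, 0),
   (178, 8, 0),
   (178, 20, 0),
   (179, 0, 0),
   (179, 20, 24),
   (179, 22, 24),
   (180, 0, 0),
   (180, 9, 0),
   (180, 21, 0),
   (181, 0, 0),
   (181, 21, 24),
   (181, 22, 24),
   (182, 0, 0),
   (654, 193, 24),
   (650, 962, 12),
   (183, 0, 0),
   (183, 22, 24),
   (183, 10, 12)]

/-- Part of `level10`. -/
def level10_23 : List (ℕ × ℕ × ℕ) :=
  [(184, 0, 0),
   (184, 22, 24),
   (184, 20, 24),
   (185, 0, 0),
   (185, 20, 0),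
   (185, 8, 0),
   (186, 0, 0),
   (186, 22, 24),
   (186, 21, 24),
   (187, 0, 0),
   (187, 21, 0),
   (187, 9, 0),
   (188, 0, 0),
   (188, 10, 24),
   (188, 22, 12),
   (189, 0, 0),
   (189, 8, 12),
   (189, 20, 24),
   (190, 0, 0),
   (190, 20, 0),
   (190, 22, 12),
   (191, 0, 0),
   (191, 9, 12),
   (191, 21, 24)]

/-- Part of `level10`. -/
def level10_24 : List (ℕ × ℕ × ℕ) :=
  [(192, 0, 0),
   (192, 21, 0),
   (192, 22, 12),
   (193, 0, 0),
   (638, 206, 24),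
   (666, 974, 12),
   (194, 0, 0),
   (194, 22, 0),
   (194, 10, 0),
   (195, 0, 0),
   (195, 22, 0),
   (195, 20, 24),
   (196, 0, 0),
   (196, 20, 24),
   (196, 8, 12),
   (197, 0, 0),
   (197, 22, 0),
   (197, 21, 12),
   (198, 0, 0),
   (198, 22, 0),
   (198, 20, 24),
   (199, 0, 0),
   (199, 20, 24),
   (199, 21, 12)]

/-- Part of `level10`. -/
def level10_25 : List (ℕ × ℕ × ℕ) :=
  [(200, 0, 0),
   (200, 21, 12),
   (200, 9, 24),
   (201, 0, 0),
   (201, 21, 12),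
   (201, 20, 24),
   (202, 0, 0),
   (202, 20, 24),
   (202, 8, 12),
   (203, 0, 0),
   (203, 10, 0),
   (203, 22, 0),
   (204, 0, 0),
   (204, 8, 12),
   (204, 20, 24),
   (205, 0, 0),
   (205, 20, 24),
   (205, 22, 0),
   (206, 0, 0),
   (206, 9, 24),
   (206, 21, 12),
   (207, 0, 0),
   (207, 8, 12),
   (207, 20, 24)]

/-- Part of `level10`. -/
def level10_26 : List (ℕ × ℕ × ℕ) :=
  [(208, 0, 0),
   (208, 20, 24),
   (208, 21, 12),
   (209, 0, 0),
   (209, 21, 12),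
   (209, 22, 0),
   (210, 0, 0),
   (210, 21, 12),
   (210, 20, 24),
   (211, 0, 0),
   (211, 20, 24),
   (211, 22, 0),
   (212, 0, 0),
   (625, 206, 12),
   (629, 961, 24),
   (213, 0, 0),
   (213, 22, 12),
   (213, 10, 24),
   (214, 0, 0),
   (214, 22, 12),
   (214, 20, 12),
   (215, 0, 0),
   (215, 20, 0),
   (215, 8, 0)]

/-- Part of `level10`. -/
def level10_27 : List (ℕ × ℕ × ℕ) :=
  [(216, 0, 0),
   (216, 22, 12),
   (216, 21, 0),
   (217, 0, 0),
   (217, 21, 24),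
   (217, 9, 12),
   (218, 0, 0),
   (218, 10, 12),
   (218, 22, 24),
   (219, 0, 0),
   (219, 8, 24),
   (219, 20, 12),
   (220, 0, 0),
   (220, 20, 0),
   (220, 22, 24),
   (221, 0, 0),
   (221, 9, 0),
   (221, 21, 0),
   (222, 0, 0),
   (222, 21, 24),
   (222, 22, 24),
   (223, 0, 0),
   (587, 13185, 0),
   (584, 62337, 0)]

/-- Part of `level10`. -/
def level10_28 : List (ℕ × ℕ × ℕ) :=
  [(224, 0, 0),
   (224, 22, 24),
   (224, 10, 12),
   (225, 0, 0),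
   (225, 22, 24),
   (225, 20, 0),
   (226, 0, 0),
   (226, 20, 12),
   (226, 8, 24),
   (227, 0, 0),
   (227, 22, 24),
   (227, 21, 24),
   (228, 0, 0),
   (228, 21, 0),
   (228, 9, 0),
   (229, 0, 0),
   (229, 10, 24),
   (229, 22, 12),
   (230, 0, 0),
   (230, 8, 0),
   (230, 20, 0),
   (231, 0, 0),
   (231, 20, 12),
   (231, 22, 12)]

/-- Part of `level10`. -/
def level10_29 : List (ℕ × ℕ × ℕ) :=
  [(232, 0, 0),
   (232, 9, 12),
   (232, 21, 24),
   (233, 0, 0),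
   (233, 21, 0),
   (233, 22, 12),
   (234, 0, 0),
   (592, 205, 0),
   (597, 973, 0),
   (235, 0, 0),
   (235, 8, 0),
   (235, 20, 0),
   (236, 0, 0),
   (236, 20, 0),
   (236, 8, 0),
   (237, 0, 0),
   (237, 22, 0),
   (237, 10, 0),
   (238, 0, 0),
   (238, 22, 0),
   (238, 20, 0),
   (239, 0, 0),
   (239, 20, 0),
   (239, 8, 0)]

/-- Part of `level10`. -/
def level10_30 : List (ℕ × ℕ × ℕ) :=
  [(240, 0, 0),
   (240, 22, 0),
   (240, 21, 24),
   (241, 0, 0),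
   (241, 22, 0),
   (241, 20, 0),
   (242, 0, 0),
   (242, 20, 0),
   (242, 21, 24),
   (243, 0, 0),
   (243, 21, 24),
   (243, 9, 12),
   (244, 0, 0),
   (244, 21, 24),
   (244, 20, 0),
   (245, 0, 0),
   (245, 20, 0),
   (245, 8, 0),
   (246, 0, 0),
   (246, 10, 0),
   (246, 22, 0),
   (247, 0, 0),
   (247, 8, 0),
   (247, 20, 0)]

/-- Part of `level10`. -/
def level10_31 : List (ℕ × ℕ × ℕ) :=
  [(248, 0, 0),
   (248, 20, 0),
   (248, 22, 0),
   (249, 0, 0),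
   (249, 9, 12),
   (249, 21, 24),
   (250, 0, 0),
   (250, 8, 0),
   (250, 20, 0),
   (251, 0, 0),
   (251, 20, 0),
   (251, 21, 24),
   (252, 0, 0),
   (252, 21, 24),
   (252, 22, 0),
   (253, 0, 0),
   (253, 21, 24),
   (253, 20, 0),
   (254, 0, 0),
   (254, 20, 0),
   (254, 22, 0),
   (255, 0, 0),
   (667, 205, 24),
   (640, 973, 12)]

/-- Part of `level10`. -/
def level10_32 : List (ℕ × ℕ × ℕ) :=
  [(256, 0, 0),
   (256, 22, 0),
   (256, 10, 0),
   (257, 0, 0),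
   (257, 22, 0),
   (257, 20, 12),
   (258, 0, 0),
   (258, 20, 12),
   (258, 8, 24),
   (259, 0, 0),
   (259, 22, 0),
   (259, 21, 24),
   (260, 0, 0),
   (260, 22, 0),
   (260, 20, 12),
   (261, 0, 0),
   (261, 20, 12),
   (261, 21, 24),
   (262, 0, 0),
   (262, 21, 24),
   (262, 9, 12),
   (263, 0, 0),
   (263, 21, 24),
   (263, 20, 12)]

/-- Part of `level10`. -/
def level10_33 : List (ℕ × ℕ × ℕ) :=
  [(264, 0, 0),
   (264, 20, 12),
   (264, 8, 24),
   (265, 0, 0),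
   (265, 10, 0),
   (265, 22, 0),
   (266, 0, 0),
   (266, 8, 24),
   (266, 20, 12),
   (267, 0, 0),
   (267, 20, 12),
   (267, 22, 0),
   (268, 0, 0),
   (268, 9, 12),
   (268, 21, 24),
   (269, 0, 0),
   (269, 8, 24),
   (269, 20, 12),
   (270, 0, 0),
   (270, 20, 12),
   (270, 21, 24),
   (271, 0, 0),
   (271, 21, 24),
   (271, 22, 0)]

/-- Part of `level10`. -/
def level10_34 : List (ℕ × ℕ × ℕ) :=
  [(272, 0, 0),
   (272, 21, 24),
   (272, 20, 12),
   (273, 0, 0),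
   (273, 20, 12),
   (273, 22, 0),
   (274, 0, 0),
   (610, 205, 12),
   (677, 973, 24),
   (275, 0, 0),
   (275, 22, 0),
   (275, 10, 0),
   (276, 0, 0),
   (276, 22, 0),
   (276, 20, 24),
   (277, 0, 0),
   (277, 20, 24),
   (277, 8, 12),
   (278, 0, 0),
   (278, 22, 0),
   (278, 21, 24),
   (279, 0, 0),
   (279, 22, 0),
   (279, 20, 24)]

/-- Part of `level10`. -/
def level10_35 : List (ℕ × ℕ × ℕ) :=
  [(280, 0, 0),
   (280, 20, 24),
   (280, 21, 24),
   (281, 0, 0),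
   (281, 21, 24),
   (281, 9, 12),
   (282, 0, 0),
   (282, 21, 24),
   (282, 20, 24),
   (283, 0, 0),
   (283, 20, 24),
   (283, 8, 12),
   (284, 0, 0),
   (284, 10, 0),
   (284, 22, 0),
   (285, 0, 0),
   (285, 8, 12),
   (285, 20, 24),
   (286, 0, 0),
   (286, 20, 24),
   (286, 22, 0),
   (287, 0, 0),
   (287, 9, 12),
   (287, 21, 24)]

/-- Part of `level10`. -/
def level10_36 : List (ℕ × ℕ × ℕ) :=
  [(288, 0, 0),
   (288, 1231, 12),
   (288, 20, 24),
   (289, 0, 0),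
   (289, 20, 24),
   (289, 21, 24),
   (290, 0, 0),
   (290, 21, 24),
   (290, 22, 0),
   (291, 0, 0),
   (291, 21, 24),
   (291, 20, 24),
   (292, 0, 0),
   (292, 20, 24),
   (292, 22, 0),
   (293, 0, 0),
   (554, 897, 0),
   (549, 129, 0),
   (294, 0, 0),
   (294, 8, 0),
   (294, 20, 0),
   (295, 0, 0),
   (295, 20, 0),
   (295, 8, 0)]

/-- Part of `level10`. -/
def level10_37 : List (ℕ × ℕ × ℕ) :=
  [(296, 0, 0),
   (296, 9, 0),
   (296, 21, 0),
   (297, 0, 0),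
   (297, 8, 0),
   (297, 20, 0),
   (298, 0, 0),
   (298, 20, 0),
   (298, 21, 0),
   (299, 0, 0),
   (299, 21, 0),
   (299, 9, 0),
   (300, 0, 0),
   (300, 21, 0),
   (300, 20, 0),
   (301, 0, 0),
   (301, 20, 0),
   (301, 8, 0),
   (302, 0, 0),
   (668, 141, 24),
   (612, 962, 24),
   (303, 0, 0),
   (303, 9, 0),
   (303, 21, 0)]

/-- Part of `level10`. -/
def level10_38 : List (ℕ × ℕ × ℕ) :=
  [(304, 0, 0),
   (304, 8, 24),
   (304, 20, 12),
   (305, 0, 0),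
   (305, 20, 12),
   (305, 21, 0),
   (306, 0, 0),
   (306, 21, 0),
   (306, 9, 0),
   (307, 0, 0),
   (307, 21, 0),
   (307, 20, 12),
   (308, 0, 0),
   (308, 20, 12),
   (308, 8, 24),
   (309, 0, 0),
   (537, 62337, 0),
   (540, 61569, 0),
   (310, 0, 0),
   (310, 9, 12),
   (310, 21, 24),
   (311, 0, 0),
   (311, 8, 0),
   (311, 20, 0)]

/-- Part of `level10`. -/
def level10_39 : List (ℕ × ℕ × ℕ) :=
  [(312, 0, 0),
   (312, 20, 24),
   (312, 21, 24),
   (313, 0, 0),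
   (313, 21, 12),
   (313, 9, 24),
   (314, 0, 0),
   (314, 21, 12),
   (314, 20, 0),
   (315, 0, 0),
   (315, 20, 24),
   (315, 8, 12),
   (316, 0, 0),
   (565, 12429, 0),
   (568, 13197, 0),
   (317, 0, 0),
   (317, 9, 24),
   (317, 21, 12),
   (318, 0, 0),
   (318, 8, 12),
   (318, 20, 24),
   (319, 0, 0),
   (319, 20, 0),
   (319, 21, 12)]

/-- Part of `level10`. -/
def level10_40 : List (ℕ × ℕ × ℕ) :=
  [(320, 0, 0),
   (320, 21, 24),
   (320, 9, 12),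
   (321, 0, 0),
   (321, 21, 24),
   (321, 20, 24),
   (322, 0, 0),
   (322, 20, 0),
   (322, 8, 0),
   (323, 0, 0),
   (643, 897, 24),
   (678, 909, 24),
   (324, 0, 0),
   (324, 9, 0),
   (324, 21, 0),
   (325, 0, 0),
   (325, 8, 12),
   (325, 20, 24),
   (326, 0, 0),
   (326, 20, 24),
   (326, 21, 0),
   (327, 0, 0),
   (327, 21, 0),
   (327, 9, 0)]

/-- Part of `level10`. -/
def level10_41 : List (ℕ × ℕ × ℕ) :=
  [(328, 0, 0),
   (328, 21, 0),
   (328, 20, 24),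
   (329, 0, 0),
   (329, 20, 24),
   (329, 8, 12),
   (330, 0, 0),
   (567, 61581, 0),
   (564, 62349, 0),
   (331, 0, 0),
   (331, 9, 12),
   (331, 21, 24),
   (332, 0, 0),
   (332, 8, 24),
   (332, 20, 12),
   (333, 0, 0),
   (333, 20, 0),
   (333, 21, 24),
   (334, 0, 0),
   (334, 21, 12),
   (334, 9, 24),
   (335, 0, 0),
   (335, 21, 12),
   (335, 20, 12)]

/-- Part of `level10`. -/
def level10_42 : List (ℕ × ℕ × ℕ) :=
  [(336, 0, 0),
   (336, 20, 0),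
   (336, 8, 0),
   (337, 0, 0),
   (541, 13185, 0),
   (538, 12417, 0),
   (338, 0, 0),
   (338, 9, 24),
   (338, 21, 12),
   (339, 0, 0),
   (339, 8, 0),
   (339, 20, 0),
   (340, 0, 0),
   (340, 20, 12),
   (340, 21, 12),
   (341, 0, 0),
   (341, 21, 24),
   (341, 9, 12),
   (342, 0, 0),
   (342, 21, 24),
   (342, 20, 0),
   (343, 0, 0),
   (343, 20, 12),
   (343, 8, 24)]

/-- Part of `level10`. -/
def level10_43 : List (ℕ × ℕ × ℕ) :=
  [(344, 0, 0),
   (645, 897, 24),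
   (615, 961, 24),
   (345, 0, 0),
   (345, 8, 0),
   (345, 20, 0),
   (346, 0, 0),
   (346, 20, 0),
   (346, 8, 0),
   (347, 0, 0),
   (427, 61581, 0),
   (430, 61569, 0),
   (348, 0, 0),
   (348, 8, 12),
   (348, 20, 24),
   (349, 0, 0),
   (349, 20, 12),
   (349, 8, 24),
   (350, 0, 0),
   (489, 13185, 0),
   (492, 13197, 0),
   (351, 0, 0),
   (351, 8, 24),
   (351, 20, 12)]

/-- Part of `level10`. -/
def level10_44 : List (ℕ × ℕ × ℕ) :=
  [(352, 0, 0),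
   (352, 20, 24),
   (352, 8, 12),
   (353, 0, 0),
   (450, 13185, 12),
   (646, 962, 12),
   (354, 0, 0),
   (604, 61569, 24),
   (413, 13197, 12),
   (355, 0, 0),
   (676, 193, 12),
   (414, 61569, 24),
   (356, 0, 0),
   (619, 206, 12),
   (453, 13197, 24),
   (357, 0, 0),
   (410, 13185, 24),
   (665, 961, 12),
   (358, 0, 0),
   (411, 61581, 12),
   (621, 129, 24),
   (359, 0, 0),
   (670, 141, 24),
   (680, 909, 24)]

/-- Part of `level10`. -/
def level10_45 : List (ℕ × ℕ × ℕ) :=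
  [(360, 0, 0),
   (360, 8, 0),
   (360, 20, 0),
   (361, 0, 0),
   (361, 20, 0),
   (361, 8, 0),
   (362, 0, 0),
   (491, 62337, 0),
   (488, 62349, 0),
   (363, 0, 0),
   (363, 8, 12),
   (363, 20, 24),
   (364, 0, 0),
   (364, 20, 12),
   (364, 8, 24),
   (365, 0, 0),
   (431, 12429, 0),
   (428, 12417, 0),
   (366, 0, 0),
   (366, 8, 24),
   (366, 20, 12),
   (367, 0, 0),
   (367, 20, 24),
   (367, 8, 12)]

/-- Part of `level10`. -/
def level10_46 : List (ℕ × ℕ × ℕ) :=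
  [(368, 0, 0),
   (622, 205, 12),
   (456, 62349, 12),
   (369, 0, 0),
   (404, 12429, 24),
   (637, 962, 12),
   (370, 0, 0),
   (405, 62337, 12),
   (614, 129, 24),
   (371, 0, 0),
   (459, 62337, 24),
   (624, 129, 24),
   (372, 0, 0),
   (642, 897, 24),
   (401, 12417, 12),
   (373, 0, 0),
   (609, 206, 12),
   (402, 62349, 24),
   (374, 0, 0),
   (550, 909, 0),
   (555, 141, 0),
   (375, 0, 0),
   (375, 8, 0),
   (375, 20, 0)]

/-- Part of `level10`. -/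
def level10_47 : List (ℕ × ℕ × ℕ) :=
  [(376, 0, 0),
   (376, 20, 0),
   (376, 8, 0),
   (377, 0, 0),
   (377, 9, 0),
   (377, 21, 0),
   (378, 0, 0),
   (378, 8, 0),
   (378, 20, 0),
   (379, 0, 0),
   (379, 20, 0),
   (379, 21, 0),
   (380, 0, 0),
   (380, 21, 0),
   (380, 9, 0),
   (381, 0, 0),
   (381, 21, 0),
   (381, 20, 0),
   (382, 0, 0),
   (382, 20, 0),
   (382, 8, 0),
   (383, 0, 0),
   (682, 129, 12),
   (652, 141, 12)]

/-- Part of `level10`. -/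
def level10_48 : List (ℕ × ℕ × ℕ) :=
  [(384, 0, 0),
   (384, 9, 0),
   (384, 21, 0),
   (385, 0, 0),
   (385, 8, 24),
   (385, 20, 12),
   (386, 0, 0),
   (386, 20, 12),
   (386, 21, 0),
   (387, 0, 0),
   (387, 21, 0),
   (387, 9, 0),
   (388, 0, 0),
   (388, 21, 0),
   (388, 20, 12),
   (389, 0, 0),
   (389, 20, 12),
   (389, 8, 24),
   (390, 0, 0),
   (626, 909, 12),
   (672, 974, 12),
   (391, 0, 0),
   (391, 9, 0),
   (391, 21, 0)]

/-- Part of `level10`. -/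
def level10_49 : List (ℕ × ℕ × ℕ) :=
  [(392, 0, 0),
   (392, 8, 12),
   (392, 20, 24),
   (393, 0, 0),
   (393, 20, 24),
   (393, 21, 0),
   (394, 0, 0),
   (394, 21, 0),
   (394, 9, 0),
   (395, 0, 0),
   (395, 21, 0),
   (395, 20, 24),
   (396, 0, 0),
   (396, 20, 24),
   (396, 8, 12),
   (397, 0, 0),
   (683, 129, 12),
   (673, 897, 12),
   (398, 0, 0),
   (398, 8, 0),
   (398, 20, 0),
   (399, 0, 0),
   (399, 20, 0),
   (399, 8, 0)]

/-- Part of `level10`. -/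
def level10_50 : List (ℕ × ℕ × ℕ) :=
  [(400, 0, 0),
   (628, 909, 12),
   (468, 12429, 12),
   (403, 0, 0),
   (470, 12417, 24),
   (630, 961, 24),
   (406, 0, 0),
   (631, 909, 12),
   (655, 973, 12),
   (407, 0, 0),
   (407, 8, 0),
   (407, 20, 0),
   (408, 0, 0),
   (408, 20, 0),
   (408, 8, 0),
   (409, 0, 0),
   (472, 61569, 12),
   (633, 962, 24),
   (412, 0, 0),
   (658, 206, 24),
   (474, 61581, 24),
   (415, 0, 0),
   (415, 13, 0),
   (415, 1, 0)]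

/-- Part of `level10`. -/
def level10_51 : List (ℕ × ℕ × ℕ) :=
  [(416, 0, 0),
   (416, 13, 0),
   (416, 20, 0),
   (417, 0, 0),
   (417, 13, 0),
   (417, 1, 0),
   (418, 0, 0),
   (418, 13, 0),
   (418, 20, 0),
   (419, 0, 0),
   (419, 13, 0),
   (419, 21, 0),
   (420, 0, 0),
   (420, 13, 0),
   (420, 20, 0),
   (421, 0, 0),
   (421, 13, 0),
   (421, 1, 0),
   (422, 0, 0),
   (422, 13, 0),
   (422, 20, 0),
   (423, 0, 0),
   (423, 13, 0),
   (423, 1, 0)]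

/-- Part of `level10`. -/
def level10_52 : List (ℕ × ℕ × ℕ) :=
  [(424, 0, 0),
   (424, 13, 0),
   (424, 20, 0),
   (425, 0, 0),
   (425, 13, 0),
   (425, 22, 0),
   (426, 0, 0),
   (426, 13, 0),
   (426, 1, 0),
   (429, 0, 0),
   (429, 13, 0),
   (429, 1, 0),
   (432, 0, 0),
   (432, 141, 0),
   (432, 897, 0),
   (433, 0, 0),
   (442, 909, 0),
   (589, 129, 0),
   (434, 0, 0),
   (679, 961, 12),
   (443, 129, 0),
   (435, 0, 0),
   (435, 909, 0),
   (435, 129, 0)]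

/-- Part of `level10`. -/
def level10_53 : List (ℕ × ℕ × ℕ) :=
  [(436, 0, 0),
   (651, 206, 12),
   (439, 897, 0),
   (437, 0, 0),
   (440, 141, 0),
   (590, 897, 0),
   (438, 0, 0),
   (438, 909, 0),
   (438, 129, 0),
   (441, 0, 0),
   (441, 141, 0),
   (441, 897, 0),
   (444, 0, 0),
   (444, 973, 0),
   (444, 193, 0),
   (445, 0, 0),
   (466, 205, 0),
   (547, 961, 0),
   (446, 0, 0),
   (575, 205, 0),
   (467, 961, 0),
   (447, 0, 0),
   (447, 205, 0),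
   (447, 961, 0)]

/-- Part of `level10`. -/
def level10_54 : List (ℕ × ℕ × ℕ) :=
  [(448, 0, 0),
   (574, 973, 0),
   (463, 193, 0),
   (449, 0, 0),
   (464, 973, 0),
   (548, 193, 0),
   (451, 0, 0),
   (632, 13185, 24),
   (616, 1, 24),
   (452, 0, 0),
   (475, 61569, 24),
   (620, 1, 24),
   (454, 0, 0),
   (634, 206, 0),
   (617, 1, 24),
   (455, 0, 0),
   (600, 13185, 24),
   (473, 61581, 12),
   (457, 0, 0),
   (671, 13, 24),
   (471, 12429, 24),
   (458, 0, 0),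
   (644, 129, 24),
   (653, 962, 24)]

/-- Part of `level10`. -/
def level10_55 : List (ℕ × ℕ × ℕ) :=
  [(460, 0, 0),
   (469, 12417, 12),
   (660, 62349, 24),
   (461, 0, 0),
   (639, 206, 12),
   (641, 205, 12),
   (462, 0, 0),
   (462, 205, 0),
   (462, 961, 0),
   (465, 0, 0),
   (465, 973, 0),
   (465, 193, 0),
   (476, 0, 0),
   (476, 1, 0),
   (476, 13, 0),
   (477, 0, 0),
   (477, 1, 0),
   (477, 13, 0),
   (478, 0, 0),
   (478, 20, 0),
   (478, 13, 0),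
   (479, 0, 0),
   (479, 1, 0),
   (479, 13, 0)]

/-- Part of `level10`. -/
def level10_56 : List (ℕ × ℕ × ℕ) :=
  [(480, 0, 0),
   (480, 20, 0),
   (480, 13, 0),
   (481, 0, 0),
   (481, 21, 0),
   (481, 13, 0),
   (482, 0, 0),
   (482, 20, 0),
   (482, 13, 0),
   (483, 0, 0),
   (483, 22, 0),
   (483, 13, 0),
   (484, 0, 0),
   (484, 20, 0),
   (484, 13, 0),
   (485, 0, 0),
   (485, 1, 0),
   (485, 13, 0),
   (486, 0, 0),
   (486, 20, 0),
   (486, 13, 0),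
   (487, 0, 0),
   (487, 1, 0),
   (487, 13, 0)]

/-- Part of `level10`. -/
def level10_57 : List (ℕ × ℕ × ℕ) :=
  [(490, 0, 0),
   (490, 1, 0),
   (490, 13, 0),
   (493, 0, 0),
   (493, 897, 0),
   (493, 141, 0),
   (494, 0, 0),
   (594, 129, 0),
   (503, 909, 0),
   (495, 0, 0),
   (504, 129, 0),
   (623, 962, 12),
   (496, 0, 0),
   (496, 129, 0),
   (496, 909, 0),
   (497, 0, 0),
   (500, 897, 0),
   (669, 193, 12),
   (498, 0, 0),
   (595, 897, 0),
   (501, 141, 0),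
   (499, 0, 0),
   (499, 129, 0),
   (499, 909, 0)]

/-- Part of `level10`. -/
def level10_58 : List (ℕ × ℕ × ℕ) :=
  [(502, 0, 0),
   (502, 897, 0),
   (502, 141, 0),
   (505, 0, 0),
   (505, 193, 0),
   (505, 973, 0),
   (506, 0, 0),
   (552, 961, 0),
   (523, 205, 0),
   (507, 0, 0),
   (524, 961, 0),
   (578, 205, 0),
   (508, 0, 0),
   (508, 961, 0),
   (508, 205, 0),
   (509, 0, 0),
   (520, 193, 0),
   (577, 973, 0),
   (510, 0, 0),
   (553, 193, 0),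
   (521, 973, 0),
   (511, 0, 0),
   (528, 13197, 12),
   (599, 61569, 24)]

/-- Part of `level10`. -/
def level10_59 : List (ℕ × ℕ × ℕ) :=
  [(512, 0, 0),
   (649, 1, 24),
   (657, 962, 0),
   (513, 0, 0),
   (647, 1, 24),
   (527, 13185, 24),
   (514, 0, 0),
   (606, 206, 24),
   (605, 13197, 24),
   (515, 0, 0),
   (611, 973, 12),
   (608, 962, 12),
   (516, 0, 0),
   (661, 12429, 24),
   (526, 62337, 12),
   (517, 0, 0),
   (627, 206, 24),
   (613, 897, 24),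
   (518, 0, 0),
   (525, 62349, 24),
   (681, 13, 24),
   (519, 0, 0),
   (519, 961, 0),
   (519, 205, 0)]

/-- Part of `level10`. -/
def level10_60 : List (ℕ × ℕ × ℕ) :=
  [(522, 0, 0),
   (522, 193, 0),
   (522, 973, 0),
   (529, 0, 0),
   (529, 14, 0),
   (529, 2, 0),
   (530, 0, 0),
   (530, 14, 0),
   (530, 21, 0),
   (531, 0, 0),
   (531, 14, 0),
   (531, 2, 0),
   (532, 0, 0),
   (532, 14, 0),
   (532, 21, 0),
   (533, 0, 0),
   (533, 14, 0),
   (533, 2, 0),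
   (534, 0, 0),
   (534, 14, 0),
   (534, 21, 0),
   (535, 0, 0),
   (535, 14, 0),
   (535, 22, 0)]

/-- Part of `level10`. -/
def level10_61 : List (ℕ × ℕ × ℕ) :=
  [(536, 0, 0),
   (536, 14, 0),
   (536, 2, 0),
   (539, 0, 0),
   (539, 14, 0),
   (539, 2, 0),
   (542, 0, 0),
   (542, 974, 0),
   (542, 194, 0),
   (543, 0, 0),
   (543, 206, 0),
   (543, 962, 0),
   (544, 0, 0),
   (544, 206, 0),
   (544, 962, 0),
   (545, 0, 0),
   (545, 974, 0),
   (545, 194, 0),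
   (546, 0, 0),
   (546, 13, 0),
   (546, 1, 0),
   (551, 0, 0),
   (551, 14, 0),
   (551, 13, 0)]

/-- Part of `level10`. -/
def level10_62 : List (ℕ × ℕ × ℕ) :=
  [(556, 0, 0),
   (556, 2, 0),
   (556, 14, 0),
   (557, 0, 0),
   (557, 2, 0),
   (557, 14, 0),
   (558, 0, 0),
   (558, 21, 0),
   (558, 14, 0),
   (559, 0, 0),
   (559, 22, 0),
   (559, 14, 0),
   (560, 0, 0),
   (560, 21, 0),
   (560, 14, 0),
   (561, 0, 0),
   (561, 2, 0),
   (561, 14, 0),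
   (562, 0, 0),
   (562, 21, 0),
   (562, 14, 0),
   (563, 0, 0),
   (563, 2, 0),
   (563, 14, 0)]

/-- Part of `level10`. -/
def level10_63 : List (ℕ × ℕ × ℕ) :=
  [(566, 0, 0),
   (566, 2, 0),
   (566, 14, 0),
   (569, 0, 0),
   (569, 194, 0),
   (569, 974, 0),
   (570, 0, 0),
   (570, 962, 0),
   (570, 206, 0),
   (571, 0, 0),
   (571, 962, 0),
   (571, 206, 0),
   (572, 0, 0),
   (572, 194, 0),
   (572, 974, 0),
   (573, 0, 0),
   (573, 13, 0),
   (573, 14, 0),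
   (576, 0, 0),
   (576, 1, 0),
   (576, 13, 0),
   (579, 0, 0),
   (579, 3, 0),
   (579, 15, 0)]

/-- Part of `level10`. -/
def level10_64 : List (ℕ × ℕ × ℕ) :=
  [(580, 0, 0),
   (580, 22, 0),
   (580, 15, 0),
   (581, 0, 0),
   (581, 3, 0),
   (581, 15, 0),
   (582, 0, 0),
   (582, 3, 0),
   (582, 15, 0),
   (585, 0, 0),
   (585, 3, 0),
   (585, 15, 0),
   (588, 0, 0),
   (588, 13, 0),
   (588, 15, 0),
   (593, 0, 0),
   (593, 1, 0),
   (593, 13, 0),
   (598, 0, 0),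
   (598, 14, 0),
   (598, 15, 0),
   (603, 0, 0),
   (603, 13, 0),
   (603, 15, 0)]

/-- Part of `level10`. -/
def level10_65 : List (ℕ × ℕ × ℕ) :=
  [(636, 0, 0),
   (636, 14, 0),
   (636, 13, 0),
   (659, 0, 0),
   (659, 2, 0),
   (659, 14, 0),
   (664, 0, 0),
   (664, 13, 0),
   (664, 14, 0),
   (674, 0, 0),
   (674, 1, 0),
   (674, 13, 0),
   (684, 0, 0),
   (684, 15, 0),
   (684, 3, 0),
   (685, 0, 0),
   (685, 15, 0),
   (685, 3, 0),
   (686, 0, 0),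
   (686, 15, 0),
   (686, 22, 0),
   (687, 0, 0),
   (687, 15, 0),
   (687, 3, 0)]

/-- Part of `level10`. -/
def level10_66 : List (ℕ × ℕ × ℕ) :=
  [(688, 0, 0),
   (688, 15, 0),
   (688, 3, 0),
   (689, 0, 0),
   (689, 13, 0),
   (689, 1, 0),
   (690, 0, 0),
   (690, 15, 0),
   (690, 13, 0),
   (691, 0, 0),
   (691, 14, 0),
   (691, 2, 0),
   (692, 0, 0),
   (692, 13, 0),
   (692, 1, 0),
   (693, 0, 0),
   (693, 14, 0),
   (693, 13, 0),
   (694, 0, 0),
   (694, 15, 0),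
   (694, 14, 0),
   (695, 0, 0),
   (695, 13, 0),
   (695, 14, 0)]

/-- Part of `level10`. -/
def level10_67 : List (ℕ × ℕ × ℕ) :=
  [(696, 0, 0),
   (696, 15, 0),
   (696, 13, 0)]

/-- The certificate of level 10. -/
def level10 : List (ℕ × ℕ × ℕ) := List.flatten [level10_0, level10_1, level10_2, level10_3, level10_4, level10_5, level10_6, level10_7, level10_8, level10_9, level10_10, level10_11, level10_12, level10_13, level10_14, level10_15, level10_16, level10_17, level10_18, level10_19, level10_20, level10_21, level10_22, level10_23, level10_24, level10_25, level10_26, level10_27, level10_28, level10_29, level10_30, level10_31, level10_32, level10_33, level10_34, level10_35, level10_36, level10_37, level10_38, level10_39, level10_40, level10_41, level10_42, level10_43, level10_44, level10_45, level10_46, level10_47, level10_48, level10_49, level10_50, level10_51, level10_52, level10_53, level10_54, level10_55,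 level10_56, level10_57, level10_58, level10_59, level10_60, level10_61, level10_62, level10_63, level10_64, level10_65, level10_66, level10_67]

/-- Part of `level11`. -/
def level11_0 : List (ℕ × ℕ × ℕ) :=
  [(480, 0, 0),
   (310, 0, 0),
   (311, 0, 0),
   (10, 0, 0),
   (268, 1234, 0),
   (262, 466, 0),
   (43, 0, 0),
   (263, 1222, 0),
   (269, 454, 0),
   (304, 0, 0),
   (270, 1233, 0),
   (264, 465, 0),
   (0, 0, 0),
   (294, 1328077, 0),
   (303, 78849, 0),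
   (3, 0, 0),
   (278, 4998093, 0),
   (287, 66509, 0),
   (305, 0, 0),
   (265, 1221, 0),
   (271, 453, 0),
   (22, 0, 0),
   (286, 78862, 0),
   (279, 17358, 0)]

/-- Part of `level11`. -/
def level11_1 : List (ℕ × ℕ × ℕ) :=
  [(13, 0, 0),
   (302, 66509, 0),
   (295, 4998093, 0),
   (308, 0, 0),
   (266, 1157, 0),
   (260, 389, 0),
   (2, 0, 0),
   (280, 78862, 0),
   (297, 1590145, 0),
   (5, 0, 0),
   (272, 65677, 0),
   (289, 17293, 0),
   (1, 0, 0),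
   (276, 78861, 0),
   (301, 1590145, 0),
   (9, 0, 0),
   (478, 139002829, 0),
   (367, 21794714509, 0),
   (6, 0, 0),
   (364, 66509, 0),
   (474, 139002817, 0),
   (4, 0, 0),
   (284, 66433, 0),
   (293, 17293, 0)]

/-- Part of `level11`. -/
def level11_2 : List (ℕ × ℕ × ℕ) :=
  [(7, 0, 0),
   (362, 66510, 0),
   (472, 337183693, 0),
   (8, 0, 0),
   (476, 337183681, 0),
   (12, 323552129, 0),
   (309, 0, 0),
   (261, 1169, 0),
   (267, 401, 0),
   (28, 0, 0),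
   (288, 1590222, 0),
   (273, 66510, 0),
   (19, 0, 0),
   (296, 17293, 0),
   (281, 65677, 0),
   (25, 0, 0),
   (292, 1328077, 0),
   (285, 66509, 0),
   (37, 0, 0),
   (51, 4789263, 0),
   (477, 21795193805, 0),
   (34, 0, 0),
   (473, 9986917326, 0),
   (363, 4998093, 0)]

/-- Part of `level11`. -/
def level11_3 : List (ℕ × ℕ × ℕ) :=
  [(16, 0, 0),
   (300, 17293, 0),
   (277, 66433, 0),
   (31, 0, 0),
   (475, 8913437645, 0),
   (365, 4998094, 0),
   (40, 0, 0),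
   (366, 4788495, 0),
   (479, 204391810406302670, 0),
   (118, 0, 0),
   (118, 11, 0),
   (118, 23, 0),
   (11, 0, 0),
   (11, 11, 0),
   (11, 23, 0),
   (314, 0, 0),
   (314, 11, 0),
   (314, 23, 0),
   (215, 0, 0),
   (215, 11, 0),
   (215, 23, 0),
   (481, 0, 0),
   (481, 11, 0),
   (481, 23, 0)]

/-- Part of `level11`. -/
def level11_4 : List (ℕ × ℕ × ℕ) :=
  [(482, 0, 0),
   (482, 11, 0),
   (482, 23, 0),
   (206, 0, 0),
   (206, 11, 0),
   (206, 23, 0),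
   (483, 0, 0),
   (483, 11, 0),
   (483, 23, 0),
   (484, 0, 0),
   (484, 11, 0),
   (484, 23, 0),
   (230, 0, 0),
   (230, 11, 0),
   (230, 23, 0),
   (485, 0, 0),
   (485, 11, 0),
   (485, 23, 0),
   (486, 0, 0),
   (486, 11, 0),
   (486, 23, 0),
   (487, 0, 0),
   (487, 11, 0),
   (487, 23, 0)]

/-- Part of `level11`. -/
def level11_5 : List (ℕ × ℕ × ℕ) :=
  [(488, 0, 0),
   (488, 11, 0),
   (488, 23, 0),
   (489, 0, 0),
   (489, 11, 0),
   (489, 23, 0),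
   (490, 0, 0),
   (490, 11, 0),
   (490, 23, 0),
   (491, 0, 0),
   (491, 11, 0),
   (491, 23, 0),
   (492, 0, 0),
   (492, 11, 0),
   (492, 23, 0),
   (239, 0, 0),
   (239, 11, 0),
   (239, 23, 0),
   (493, 0, 0),
   (493, 11, 0),
   (493, 23, 0),
   (494, 0, 0),
   (494, 11, 0),
   (494, 23, 0)]

/-- Part of `level11`. -/
def level11_6 : List (ℕ × ℕ × ℕ) :=
  [(495, 0, 0),
   (495, 11, 0),
   (495, 23, 0),
   (496, 0, 0),
   (496, 11, 0),
   (496, 23, 0),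
   (497, 0, 0),
   (497, 11, 0),
   (497, 23, 0),
   (498, 0, 0),
   (498, 11, 0),
   (498, 23, 0),
   (499, 0, 0),
   (499, 11, 0),
   (499, 23, 0),
   (500, 0, 0),
   (500, 11, 0),
   (500, 23, 0),
   (119, 0, 0),
   (119, 23, 0),
   (119, 11, 0),
   (46, 0, 0),
   (46, 23, 0),
   (46, 11, 0)]

/-- Part of `level11`. -/
def level11_7 : List (ℕ × ℕ × ℕ) :=
  [(315, 0, 0),
   (315, 23, 0),
   (315, 11, 0),
   (216, 0, 0),
   (216, 23, 0),
   (216, 11, 0),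
   (501, 0, 0),
   (501, 23, 0),
   (501, 11, 0),
   (502, 0, 0),
   (502, 23, 0),
   (502, 11, 0),
   (207, 0, 0),
   (207, 23, 0),
   (207, 11, 0),
   (503, 0, 0),
   (503, 23, 0),
   (503, 11, 0),
   (504, 0, 0),
   (504, 23, 0),
   (504, 11, 0),
   (231, 0, 0),
   (231, 23, 0),
   (231, 11, 0)]

/-- Part of `level11`. -/
def level11_8 : List (ℕ × ℕ × ℕ) :=
  [(505, 0, 0),
   (505, 23, 0),
   (505, 11, 0),
   (506, 0, 0),
   (506, 23, 0),
   (506, 11, 0),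
   (507, 0, 0),
   (507, 23, 0),
   (507, 11, 0),
   (508, 0, 0),
   (508, 23, 0),
   (508, 11, 0),
   (509, 0, 0),
   (509, 23, 0),
   (509, 11, 0),
   (510, 0, 0),
   (510, 23, 0),
   (510, 11, 0),
   (511, 0, 0),
   (511, 23, 0),
   (511, 11, 0),
   (512, 0, 0),
   (512, 23, 0),
   (512, 11, 0)]

/-- Part of `level11`. -/
def level11_9 : List (ℕ × ℕ × ℕ) :=
  [(240, 0, 0),
   (240, 23, 0),
   (240, 11, 0),
   (513, 0, 0),
   (513, 23, 0),
   (513, 11, 0),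
   (514, 0, 0),
   (514, 23, 0),
   (514, 11, 0),
   (515, 0, 0),
   (515, 23, 0),
   (515, 11, 0),
   (516, 0, 0),
   (516, 23, 0),
   (516, 11, 0),
   (517, 0, 0),
   (517, 23, 0),
   (517, 11, 0),
   (518, 0, 0),
   (518, 23, 0),
   (518, 11, 0),
   (519, 0, 0),
   (519, 23, 0),
   (519, 11, 0)]

/-- Part of `level11`. -/
def level11_10 : List (ℕ × ℕ × ℕ) :=
  [(520, 0, 0),
   (520, 23, 0),
   (520, 11, 0),
   (44, 0, 0),
   (44, 8, 0),
   (44, 20, 0),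
   (132, 0, 0),
   (132, 8, 0),
   (132, 20, 0),
   (133, 0, 0),
   (133, 1352, 0),
   (133, 596, 0),
   (134, 0, 0),
   (134, 584, 0),
   (134, 1364, 0),
   (124, 0, 0),
   (124, 8, 0),
   (124, 20, 0),
   (125, 0, 0),
   (125, 584, 0),
   (125, 1364, 0),
   (126, 0, 0),
   (126, 1352, 0),
   (126, 596, 0)]

/-- Part of `level11`. -/
def level11_11 : List (ℕ × ℕ × ℕ) :=
  [(138, 0, 0),
   (138, 8, 0),
   (138, 20, 0),
   (139, 0, 0),
   (139, 648, 0),
   (139, 1428, 0),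
   (140, 0, 0),
   (140, 1416, 0),
   (140, 660, 0),
   (521, 0, 0),
   (521, 8, 0),
   (521, 20, 0),
   (522, 0, 0),
   (522, 1352, 0),
   (522, 1428, 0),
   (523, 0, 0),
   (523, 1416, 0),
   (523, 1364, 0),
   (524, 0, 0),
   (524, 8, 0),
   (524, 20, 0),
   (525, 0, 0),
   (525, 584, 0),
   (525, 1364, 0)]

/-- Part of `level11`. -/
def level11_12 : List (ℕ × ℕ × ℕ) :=
  [(526, 0, 0),
   (526, 1352, 0),
   (526, 596, 0),
   (144, 0, 0),
   (144, 8, 0),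
   (144, 20, 0),
   (145, 0, 0),
   (145, 1416, 0),
   (145, 660, 0),
   (146, 0, 0),
   (146, 648, 0),
   (146, 1428, 0),
   (527, 0, 0),
   (527, 8, 0),
   (527, 20, 0),
   (528, 0, 0),
   (528, 1352, 0),
   (528, 596, 0),
   (529, 0, 0),
   (529, 584, 0),
   (529, 1364, 0),
   (530, 0, 0),
   (530, 8, 0),
   (530, 20, 0)]

/-- Part of `level11`. -/
def level11_13 : List (ℕ × ℕ × ℕ) :=
  [(531, 0, 0),
   (531, 1416, 0),
   (531, 1364, 0),
   (532, 0, 0),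
   (532, 1352, 0),
   (532, 1428, 0),
   (45, 0, 0),
   (45, 20, 0),
   (45, 8, 0),
   (127, 0, 0),
   (127, 20, 0),
   (127, 8, 0),
   (128, 0, 0),
   (128, 596, 0),
   (128, 1352, 0),
   (129, 0, 0),
   (129, 1364, 0),
   (129, 584, 0),
   (135, 0, 0),
   (135, 20, 0),
   (135, 8, 0),
   (136, 0, 0),
   (136, 1364, 0),
   (136, 584, 0)]

/-- Part of `level11`. -/
def level11_14 : List (ℕ × ℕ × ℕ) :=
  [(137, 0, 0),
   (137, 596, 0),
   (137, 1352, 0),
   (147, 0, 0),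
   (147, 20, 0),
   (147, 8, 0),
   (148, 0, 0),
   (148, 1428, 0),
   (148, 648, 0),
   (149, 0, 0),
   (149, 660, 0),
   (149, 1416, 0),
   (533, 0, 0),
   (533, 20, 0),
   (533, 8, 0),
   (534, 0, 0),
   (534, 1428, 0),
   (534, 1352, 0),
   (535, 0, 0),
   (535, 1364, 0),
   (535, 1416, 0),
   (536, 0, 0),
   (536, 20, 0),
   (536, 8, 0)]

/-- Part of `level11`. -/
def level11_15 : List (ℕ × ℕ × ℕ) :=
  [(537, 0, 0),
   (537, 1364, 0),
   (537, 584, 0),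
   (538, 0, 0),
   (538, 596, 0),
   (538, 1352, 0),
   (141, 0, 0),
   (141, 20, 0),
   (141, 8, 0),
   (142, 0, 0),
   (142, 660, 0),
   (142, 1416, 0),
   (143, 0, 0),
   (143, 1428, 0),
   (143, 648, 0),
   (539, 0, 0),
   (539, 20, 0),
   (539, 8, 0),
   (540, 0, 0),
   (540, 596, 0),
   (540, 1352, 0),
   (541, 0, 0),
   (541, 1364, 0),
   (541, 584, 0)]

/-- Part of `level11`. -/
def level11_16 : List (ℕ × ℕ × ℕ) :=
  [(542, 0, 0),
   (542, 20, 0),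
   (542, 8, 0),
   (543, 0, 0),
   (543, 1364, 0),
   (543, 1416, 0),
   (544, 0, 0),
   (544, 1428, 0),
   (544, 1352, 0),
   (200, 0, 0),
   (200, 9, 0),
   (200, 21, 0),
   (47, 0, 0),
   (47, 9, 0),
   (47, 21, 0),
   (229, 0, 0),
   (229, 9, 0),
   (229, 21, 0),
   (354, 0, 0),
   (354, 9, 0),
   (354, 21, 0),
   (545, 0, 0),
   (545, 9, 0),
   (545, 21, 0)]

/-- Part of `level11`. -/
def level11_17 : List (ℕ × ℕ × ℕ) :=
  [(546, 0, 0),
   (546, 9, 0),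
   (546, 21, 0),
   (372, 0, 0),
   (372, 649, 0),
   (372, 1429, 0),
   (547, 0, 0),
   (547, 596, 0),
   (547, 1429, 0),
   (548, 0, 0),
   (548, 584, 0),
   (548, 1364, 0),
   (373, 0, 0),
   (373, 1417, 0),
   (373, 661, 0),
   (549, 0, 0),
   (549, 1417, 0),
   (549, 1364, 0),
   (550, 0, 0),
   (550, 596, 0),
   (550, 1352, 0),
   (356, 0, 0),
   (356, 9, 0),
   (356, 21, 0)]

/-- Part of `level11`. -/
def level11_18 : List (ℕ × ℕ × ℕ) :=
  [(551, 0, 0),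
   (551, 9, 0),
   (551, 21, 0),
   (552, 0, 0),
   (552, 9, 0),
   (552, 21, 0),
   (368, 0, 0),
   (368, 1417, 0),
   (368, 661, 0),
   (553, 0, 0),
   (553, 596, 0),
   (553, 1352, 0),
   (554, 0, 0),
   (554, 1417, 0),
   (554, 1364, 0),
   (369, 0, 0),
   (369, 649, 0),
   (369, 1429, 0),
   (555, 0, 0),
   (555, 584, 0),
   (555, 1364, 0),
   (556, 0, 0),
   (556, 596, 0),
   (556, 1429, 0)]

/-- Part of `level11`. -/
def level11_19 : List (ℕ × ℕ × ℕ) :=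
  [(14, 0, 0),
   (14, 8, 0),
   (14, 20, 0),
   (557, 0, 0),
   (557, 8, 0),
   (557, 20, 0),
   (558, 0, 0),
   (558, 9, 0),
   (558, 21, 0),
   (559, 0, 0),
   (559, 9, 0),
   (559, 21, 0),
   (560, 0, 0),
   (560, 8, 0),
   (560, 20, 0),
   (561, 0, 0),
   (561, 648, 0),
   (561, 1428, 0),
   (562, 0, 0),
   (562, 1364, 0),
   (562, 1429, 0),
   (563, 0, 0),
   (563, 8, 0),
   (563, 20, 0)]

/-- Part of `level11`. -/
def level11_20 : List (ℕ × ℕ × ℕ) :=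
  [(564, 0, 0),
   (564, 1364, 0),
   (564, 1428, 0),
   (565, 0, 0),
   (565, 1416, 0),
   (565, 660, 0),
   (566, 0, 0),
   (566, 8, 0),
   (566, 20, 0),
   (567, 0, 0),
   (567, 9, 0),
   (567, 21, 0),
   (568, 0, 0),
   (568, 9, 0),
   (568, 21, 0),
   (569, 0, 0),
   (569, 8, 0),
   (569, 20, 0),
   (570, 0, 0),
   (570, 1416, 0),
   (570, 660, 0),
   (571, 0, 0),
   (571, 1364, 0),
   (571, 1428, 0)]

/-- Part of `level11`. -/
def level11_21 : List (ℕ × ℕ × ℕ) :=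
  [(572, 0, 0),
   (572, 8, 0),
   (572, 20, 0),
   (573, 0, 0),
   (573, 1364, 0),
   (573, 1429, 0),
   (574, 0, 0),
   (574, 26127180877, 0),
   (574, 1428, 0),
   (54, 0, 0),
   (54, 8, 0),
   (54, 20, 0),
   (575, 0, 0),
   (575, 8, 0),
   (575, 20, 0),
   (576, 0, 0),
   (576, 9, 0),
   (576, 21, 0),
   (577, 0, 0),
   (577, 9, 0),
   (577, 21, 0),
   (578, 0, 0),
   (578, 8, 0),
   (578, 20, 0)]

/-- Part of `level11`. -/
def level11_22 : List (ℕ × ℕ × ℕ) :=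
  [(579, 0, 0),
   (579, 8, 0),
   (579, 20, 0),
   (580, 0, 0),
   (580, 8, 0),
   (580, 20, 0),
   (581, 0, 0),
   (581, 9, 0),
   (581, 21, 0),
   (582, 0, 0),
   (582, 9, 0),
   (582, 21, 0),
   (583, 0, 0),
   (583, 8, 0),
   (583, 20, 0),
   (584, 0, 0),
   (584, 8, 0),
   (584, 20, 0),
   (55, 0, 0),
   (55, 23, 0),
   (55, 20, 0),
   (585, 0, 0),
   (585, 23, 0),
   (585, 20, 0)]

/-- Part of `level11`. -/
def level11_23 : List (ℕ × ℕ × ℕ) :=
  [(586, 0, 0),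
   (586, 23, 0),
   (586, 21, 0),
   (587, 0, 0),
   (587, 23, 0),
   (587, 21, 0),
   (588, 0, 0),
   (588, 23, 0),
   (588, 20, 0),
   (589, 0, 0),
   (589, 23, 0),
   (589, 20, 0),
   (590, 0, 0),
   (590, 23, 0),
   (590, 20, 0),
   (591, 0, 0),
   (591, 23, 0),
   (591, 21, 0),
   (592, 0, 0),
   (592, 23, 0),
   (592, 21, 0),
   (593, 0, 0),
   (593, 23, 0),
   (593, 20, 0)]

/-- Part of `level11`. -/
def level11_24 : List (ℕ × ℕ × ℕ) :=
  [(594, 0, 0),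
   (594, 23, 0),
   (594, 20, 0),
   (23, 0, 0),
   (23, 20, 0),
   (23, 21, 0),
   (595, 0, 0),
   (595, 20, 0),
   (595, 21, 0),
   (596, 0, 0),
   (596, 1428, 0),
   (596, 21, 0),
   (597, 0, 0),
   (597, 9, 0),
   (597, 21, 0),
   (598, 0, 0),
   (598, 20, 0),
   (598, 8, 0),
   (599, 0, 0),
   (599, 1428, 0),
   (599, 1429, 0),
   (600, 0, 0),
   (600, 660, 0),
   (600, 1429, 0)]

/-- Part of `level11`. -/
def level11_25 : List (ℕ × ℕ × ℕ) :=
  [(601, 0, 0),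
   (601, 20, 0),
   (601, 8, 0),
   (602, 0, 0),
   (602, 1428, 0),
   (602, 661, 0),
   (603, 0, 0),
   (603, 1352, 0),
   (603, 1416, 0),
   (604, 0, 0),
   (604, 20, 0),
   (604, 21, 0),
   (605, 0, 0),
   (605, 9, 0),
   (605, 21, 0),
   (606, 0, 0),
   (606, 1428, 0),
   (606, 21, 0),
   (607, 0, 0),
   (607, 20, 0),
   (607, 8, 0),
   (608, 0, 0),
   (608, 1352, 0),
   (608, 1416, 0)]

/-- Part of `level11`. -/
def level11_26 : List (ℕ × ℕ × ℕ) :=
  [(609, 0, 0),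
   (609, 1428, 0),
   (609, 661, 0),
   (610, 0, 0),
   (610, 20, 0),
   (610, 8, 0),
   (611, 0, 0),
   (611, 660, 0),
   (611, 1429, 0),
   (612, 0, 0),
   (612, 1428, 0),
   (612, 1429, 0),
   (66, 0, 0),
   (66, 20, 0),
   (66, 21, 0),
   (613, 0, 0),
   (613, 20, 0),
   (613, 21, 0),
   (614, 0, 0),
   (614, 1428, 0),
   (614, 21, 0),
   (615, 0, 0),
   (615, 9, 0),
   (615, 21, 0)]

/-- Part of `level11`. -/
def level11_27 : List (ℕ × ℕ × ℕ) :=
  [(616, 0, 0),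
   (616, 20, 0),
   (616, 23, 0),
   (617, 0, 0),
   (617, 20, 0),
   (617, 23, 0),
   (618, 0, 0),
   (618, 20, 0),
   (618, 21, 0),
   (619, 0, 0),
   (619, 9, 0),
   (619, 21, 0),
   (620, 0, 0),
   (620, 1428, 0),
   (620, 21, 0),
   (621, 0, 0),
   (621, 20, 0),
   (621, 23, 0),
   (622, 0, 0),
   (622, 20, 0),
   (622, 23, 0),
   (67, 0, 0),
   (67, 20, 0),
   (67, 21, 0)]

/-- Part of `level11`. -/
def level11_28 : List (ℕ × ℕ × ℕ) :=
  [(623, 0, 0),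
   (623, 20, 0),
   (623, 21, 0),
   (624, 0, 0),
   (624, 23, 0),
   (624, 21, 0),
   (625, 0, 0),
   (625, 23, 0),
   (625, 21, 0),
   (626, 0, 0),
   (626, 20, 0),
   (626, 8, 0),
   (627, 0, 0),
   (627, 20, 0),
   (627, 8, 0),
   (628, 0, 0),
   (628, 20, 0),
   (628, 21, 0),
   (629, 0, 0),
   (629, 23, 0),
   (629, 21, 0),
   (630, 0, 0),
   (630, 23, 0),
   (630, 21, 0)]

/-- Part of `level11`. -/
def level11_29 : List (ℕ × ℕ × ℕ) :=
  [(631, 0, 0),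
   (631, 20, 0),
   (631, 8, 0),
   (632, 0, 0),
   (632, 20, 0),
   (632, 8, 0),
   (201, 0, 0),
   (201, 21, 0),
   (201, 9, 0),
   (48, 0, 0),
   (48, 21, 0),
   (48, 9, 0),
   (208, 0, 0),
   (208, 21, 0),
   (208, 9, 0),
   (355, 0, 0),
   (355, 21, 0),
   (355, 9, 0),
   (633, 0, 0),
   (633, 21, 0),
   (633, 9, 0),
   (634, 0, 0),
   (634, 21, 0),
   (634, 9, 0)]

/-- Part of `level11`. -/
def level11_30 : List (ℕ × ℕ × ℕ) :=
  [(370, 0, 0),
   (370, 1429, 0),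
   (370, 649, 0),
   (635, 0, 0),
   (635, 1429, 0),
   (635, 596, 0),
   (636, 0, 0),
   (636, 1364, 0),
   (636, 584, 0),
   (371, 0, 0),
   (371, 661, 0),
   (371, 1417, 0),
   (637, 0, 0),
   (637, 1364, 0),
   (637, 1417, 0),
   (638, 0, 0),
   (638, 1352, 0),
   (638, 596, 0),
   (357, 0, 0),
   (357, 21, 0),
   (357, 9, 0),
   (639, 0, 0),
   (639, 21, 0),
   (639, 9, 0)]

/-- Part of `level11`. -/
def level11_31 : List (ℕ × ℕ × ℕ) :=
  [(640, 0, 0),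
   (640, 21, 0),
   (640, 9, 0),
   (374, 0, 0),
   (374, 661, 0),
   (374, 1417, 0),
   (641, 0, 0),
   (641, 1352, 0),
   (641, 596, 0),
   (642, 0, 0),
   (642, 1364, 0),
   (642, 1417, 0),
   (375, 0, 0),
   (375, 1429, 0),
   (375, 649, 0),
   (643, 0, 0),
   (643, 1364, 0),
   (643, 584, 0),
   (644, 0, 0),
   (644, 1429, 0),
   (644, 596, 0),
   (24, 0, 0),
   (24, 21, 0),
   (24, 20, 0)]

/-- Part of `level11`. -/
def level11_32 : List (ℕ × ℕ × ℕ) :=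
  [(645, 0, 0),
   (645, 21, 0),
   (645, 20, 0),
   (646, 0, 0),
   (646, 21, 0),
   (646, 1428, 0),
   (647, 0, 0),
   (647, 21, 0),
   (647, 9, 0),
   (648, 0, 0),
   (648, 8, 0),
   (648, 20, 0),
   (649, 0, 0),
   (649, 1429, 0),
   (649, 1428, 0),
   (650, 0, 0),
   (650, 1429, 0),
   (650, 660, 0),
   (651, 0, 0),
   (651, 8, 0),
   (651, 20, 0),
   (652, 0, 0),
   (652, 661, 0),
   (652, 1428, 0)]

/-- Part of `level11`. -/
def level11_33 : List (ℕ × ℕ × ℕ) :=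
  [(653, 0, 0),
   (653, 1416, 0),
   (653, 1352, 0),
   (654, 0, 0),
   (654, 21, 0),
   (654, 20, 0),
   (655, 0, 0),
   (655, 21, 0),
   (655, 9, 0),
   (656, 0, 0),
   (656, 21, 0),
   (656, 1428, 0),
   (657, 0, 0),
   (657, 8, 0),
   (657, 20, 0),
   (658, 0, 0),
   (658, 1416, 0),
   (658, 1352, 0),
   (659, 0, 0),
   (659, 661, 0),
   (659, 1428, 0),
   (660, 0, 0),
   (660, 8, 0),
   (660, 20, 0)]

/-- Part of `level11`. -/
def level11_34 : List (ℕ × ℕ × ℕ) :=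
  [(661, 0, 0),
   (661, 1429, 0),
   (661, 660, 0),
   (662, 0, 0),
   (662, 1429, 0),
   (662, 1428, 0),
   (15, 0, 0),
   (15, 20, 0),
   (15, 8, 0),
   (663, 0, 0),
   (663, 20, 0),
   (663, 8, 0),
   (664, 0, 0),
   (664, 21, 0),
   (664, 9, 0),
   (665, 0, 0),
   (665, 21, 0),
   (665, 9, 0),
   (666, 0, 0),
   (666, 20, 0),
   (666, 8, 0),
   (667, 0, 0),
   (667, 1428, 0),
   (667, 42191, 0)]

/-- Part of `level11`. -/
def level11_35 : List (ℕ × ℕ × ℕ) :=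
  [(668, 0, 0),
   (668, 1429, 0),
   (668, 1364, 0),
   (669, 0, 0),
   (669, 20, 0),
   (669, 8, 0),
   (670, 0, 0),
   (670, 1428, 0),
   (670, 1364, 0),
   (671, 0, 0),
   (671, 660, 0),
   (671, 1416, 0),
   (672, 0, 0),
   (672, 20, 0),
   (672, 8, 0),
   (673, 0, 0),
   (673, 21, 0),
   (673, 9, 0),
   (674, 0, 0),
   (674, 21, 0),
   (674, 9, 0),
   (675, 0, 0),
   (675, 20, 0),
   (675, 8, 0)]

/-- Part of `level11`. -/
def level11_36 : List (ℕ × ℕ × ℕ) :=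
  [(676, 0, 0),
   (676, 660, 0),
   (676, 91343, 0),
   (677, 0, 0),
   (677, 1428, 0),
   (677, 1364, 0),
   (678, 0, 0),
   (678, 20, 0),
   (678, 8, 0),
   (679, 0, 0),
   (679, 1429, 0),
   (679, 1364, 0),
   (680, 0, 0),
   (680, 1428, 0),
   (680, 648, 0),
   (202, 0, 0),
   (202, 10, 0),
   (202, 22, 0),
   (49, 0, 0),
   (49, 10, 0),
   (49, 22, 0),
   (247, 0, 0),
   (247, 10, 0),
   (247, 22, 0)]

/-- Part of `level11`. -/
def level11_37 : List (ℕ × ℕ × ℕ) :=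
  [(328, 0, 0),
   (328, 10, 0),
   (328, 22, 0),
   (681, 0, 0),
   (681, 10, 0),
   (681, 22, 0),
   (682, 0, 0),
   (682, 10, 0),
   (682, 22, 0),
   (312, 0, 0),
   (312, 10, 0),
   (312, 22, 0),
   (683, 0, 0),
   (683, 10, 0),
   (683, 22, 0),
   (684, 0, 0),
   (684, 10, 0),
   (684, 22, 0),
   (29, 0, 0),
   (29, 8, 0),
   (29, 20, 0),
   (685, 0, 0),
   (685, 8, 0),
   (685, 20, 0)]

/-- Part of `level11`. -/
def level11_38 : List (ℕ × ℕ × ℕ) :=
  [(686, 0, 0),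
   (686, 10, 0),
   (686, 22, 0),
   (687, 0, 0),
   (687, 10, 0),
   (687, 22, 0),
   (688, 0, 0),
   (688, 8, 0),
   (688, 20, 0),
   (689, 0, 0),
   (689, 10, 0),
   (689, 22, 0),
   (690, 0, 0),
   (690, 10, 0),
   (690, 22, 0),
   (74, 0, 0),
   (74, 8, 0),
   (74, 20, 0),
   (691, 0, 0),
   (691, 8, 0),
   (691, 20, 0),
   (692, 0, 0),
   (692, 10, 0),
   (692, 22, 0)]

/-- Part of `level11`. -/
def level11_39 : List (ℕ × ℕ × ℕ) :=
  [(693, 0, 0),
   (693, 10, 0),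
   (693, 22, 0),
   (694, 0, 0),
   (694, 8, 0),
   (694, 20, 0),
   (695, 0, 0),
   (695, 10, 0),
   (695, 22, 0),
   (696, 0, 0),
   (696, 10, 0),
   (696, 22, 0),
   (75, 0, 0),
   (75, 23, 0),
   (75, 20, 0),
   (697, 0, 0),
   (697, 23, 0),
   (697, 20, 0),
   (698, 0, 0),
   (698, 23, 0),
   (698, 22, 0),
   (699, 0, 0),
   (699, 23, 0),
   (699, 22, 0)]

/-- Part of `level11`. -/
def level11_40 : List (ℕ × ℕ × ℕ) :=
  [(700, 0, 0),
   (700, 23, 0),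
   (700, 20, 0),
   (701, 0, 0),
   (701, 23, 0),
   (701, 22, 0),
   (702, 0, 0),
   (702, 23, 0),
   (702, 22, 0),
   (20, 0, 0),
   (20, 20, 0),
   (20, 22, 0),
   (703, 0, 0),
   (703, 20, 0),
   (703, 22, 0),
   (704, 0, 0),
   (704, 10, 0),
   (704, 22, 0),
   (705, 0, 0),
   (705, 1364, 0),
   (705, 22, 0),
   (706, 0, 0),
   (706, 20, 0),
   (706, 22, 0)]

/-- Part of `level11`. -/
def level11_41 : List (ℕ × ℕ × ℕ) :=
  [(707, 0, 0),
   (707, 1364, 0),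
   (707, 22, 0),
   (708, 0, 0),
   (708, 10, 0),
   (708, 22, 0),
   (62, 0, 0),
   (62, 20, 0),
   (62, 22, 0),
   (709, 0, 0),
   (709, 20, 0),
   (709, 22, 0),
   (710, 0, 0),
   (710, 10, 0),
   (710, 22, 0),
   (711, 0, 0),
   (711, 1364, 0),
   (711, 22, 0),
   (712, 0, 0),
   (712, 20, 0),
   (712, 22, 0),
   (713, 0, 0),
   (713, 1364, 0),
   (713, 22, 0)]

/-- Part of `level11`. -/
def level11_42 : List (ℕ × ℕ × ℕ) :=
  [(714, 0, 0),
   (714, 10, 0),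
   (714, 22, 0),
   (63, 0, 0),
   (63, 20, 0),
   (63, 22, 0),
   (715, 0, 0),
   (715, 20, 0),
   (715, 22, 0),
   (716, 0, 0),
   (716, 23, 0),
   (716, 22, 0),
   (717, 0, 0),
   (717, 23, 0),
   (717, 22, 0),
   (718, 0, 0),
   (718, 20, 0),
   (718, 22, 0),
   (719, 0, 0),
   (719, 23, 0),
   (719, 22, 0),
   (720, 0, 0),
   (720, 23, 0),
   (720, 22, 0)]

/-- Part of `level11`. -/
def level11_43 : List (ℕ × ℕ × ℕ) :=
  [(26, 0, 0),
   (26, 9, 0),
   (26, 21, 0),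
   (721, 0, 0),
   (721, 9, 0),
   (721, 21, 0),
   (722, 0, 0),
   (722, 9, 0),
   (722, 21, 0),
   (70, 0, 0),
   (70, 9, 0),
   (70, 21, 0),
   (723, 0, 0),
   (723, 9, 0),
   (723, 21, 0),
   (724, 0, 0),
   (724, 9, 0),
   (724, 21, 0),
   (71, 0, 0),
   (71, 23, 0),
   (71, 21, 0),
   (725, 0, 0),
   (725, 23, 0),
   (725, 21, 0)]

/-- Part of `level11`. -/
def level11_44 : List (ℕ × ℕ × ℕ) :=
  [(726, 0, 0),
   (726, 23, 0),
   (726, 21, 0),
   (38, 0, 0),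
   (38, 8, 0),
   (38, 20, 0),
   (98, 0, 0),
   (98, 8, 0),
   (98, 20, 0),
   (99, 0, 0),
   (99, 23, 0),
   (99, 20, 0),
   (35, 0, 0),
   (35, 20, 0),
   (35, 21, 0),
   (88, 0, 0),
   (88, 20, 0),
   (88, 21, 0),
   (89, 0, 0),
   (89, 20, 0),
   (89, 21, 0),
   (17, 0, 0),
   (17, 21, 0),
   (17, 22, 0)]

/-- Part of `level11`. -/
def level11_45 : List (ℕ × ℕ × ℕ) :=
  [(727, 0, 0),
   (727, 21, 0),
   (727, 22, 0),
   (728, 0, 0),
   (728, 21, 0),
   (728, 22, 0),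
   (58, 0, 0),
   (58, 21, 0),
   (58, 22, 0),
   (729, 0, 0),
   (729, 21, 0),
   (729, 22, 0),
   (730, 0, 0),
   (730, 21, 0),
   (730, 22, 0),
   (59, 0, 0),
   (59, 21, 0),
   (59, 22, 0),
   (731, 0, 0),
   (731, 21, 0),
   (731, 22, 0),
   (732, 0, 0),
   (732, 21, 0),
   (732, 22, 0)]

/-- Part of `level11`. -/
def level11_46 : List (ℕ × ℕ × ℕ) :=
  [(32, 0, 0),
   (32, 21, 0),
   (32, 20, 0),
   (78, 0, 0),
   (78, 21, 0),
   (78, 20, 0),
   (79, 0, 0),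
   (79, 21, 0),
   (79, 20, 0),
   (41, 0, 0),
   (41, 20, 0),
   (41, 22, 0),
   (108, 0, 0),
   (108, 20, 0),
   (108, 22, 0),
   (109, 0, 0),
   (109, 20, 0),
   (109, 22, 0),
   (203, 0, 0),
   (203, 22, 0),
   (203, 10, 0),
   (50, 0, 0),
   (50, 22, 0),
   (50, 10, 0)]

/-- Part of `level11`. -/
def level11_47 : List (ℕ × ℕ × ℕ) :=
  [(232, 0, 0),
   (232, 22, 0),
   (232, 10, 0),
   (329, 0, 0),
   (329, 22, 0),
   (329, 10, 0),
   (733, 0, 0),
   (733, 22, 0),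
   (733, 10, 0),
   (734, 0, 0),
   (734, 22, 0),
   (734, 10, 0),
   (313, 0, 0),
   (313, 22, 0),
   (313, 10, 0),
   (735, 0, 0),
   (735, 22, 0),
   (735, 10, 0),
   (736, 0, 0),
   (736, 22, 0),
   (736, 10, 0),
   (21, 0, 0),
   (21, 22, 0),
   (21, 20, 0)]

/-- Part of `level11`. -/
def level11_48 : List (ℕ × ℕ × ℕ) :=
  [(737, 0, 0),
   (737, 22, 0),
   (737, 20, 0),
   (738, 0, 0),
   (738, 22, 0),
   (738, 10, 0),
   (739, 0, 0),
   (739, 22, 0),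
   (739, 1364, 0),
   (740, 0, 0),
   (740, 22, 0),
   (740, 20, 0),
   (741, 0, 0),
   (741, 22, 0),
   (741, 1364, 0),
   (742, 0, 0),
   (742, 22, 0),
   (742, 10, 0),
   (30, 0, 0),
   (30, 20, 0),
   (30, 8, 0),
   (743, 0, 0),
   (743, 20, 0),
   (743, 8, 0)]

/-- Part of `level11`. -/
def level11_49 : List (ℕ × ℕ × ℕ) :=
  [(744, 0, 0),
   (744, 22, 0),
   (744, 10, 0),
   (745, 0, 0),
   (745, 22, 0),
   (745, 10, 0),
   (746, 0, 0),
   (746, 20, 0),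
   (746, 8, 0),
   (747, 0, 0),
   (747, 22, 0),
   (747, 10, 0),
   (748, 0, 0),
   (748, 22, 0),
   (748, 10, 0),
   (18, 0, 0),
   (18, 22, 0),
   (18, 21, 0),
   (749, 0, 0),
   (749, 22, 0),
   (749, 21, 0),
   (750, 0, 0),
   (750, 22, 0),
   (750, 21, 0)]

/-- Part of `level11`. -/
def level11_50 : List (ℕ × ℕ × ℕ) :=
  [(42, 0, 0),
   (42, 22, 0),
   (42, 20, 0),
   (110, 0, 0),
   (110, 22, 0),
   (110, 20, 0),
   (111, 0, 0),
   (111, 22, 0),
   (111, 20, 0),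
   (33, 0, 0),
   (33, 20, 0),
   (33, 21, 0),
   (80, 0, 0),
   (80, 20, 0),
   (80, 21, 0),
   (81, 0, 0),
   (81, 20, 0),
   (81, 21, 0),
   (27, 0, 0),
   (27, 21, 0),
   (27, 9, 0),
   (751, 0, 0),
   (751, 21, 0),
   (751, 9, 0)]

/-- Part of `level11`. -/
def level11_51 : List (ℕ × ℕ × ℕ) :=
  [(752, 0, 0),
   (752, 21, 0),
   (752, 9, 0),
   (36, 0, 0),
   (36, 21, 0),
   (36, 20, 0),
   (90, 0, 0),
   (90, 21, 0),
   (90, 20, 0),
   (91, 0, 0),
   (91, 21, 0),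
   (91, 20, 0),
   (39, 0, 0),
   (39, 20, 0),
   (39, 8, 0),
   (100, 0, 0),
   (100, 20, 0),
   (100, 23, 0),
   (101, 0, 0),
   (101, 20, 0),
   (101, 8, 0),
   (306, 0, 0),
   (306, 17, 0),
   (306, 5, 0)]

/-- Part of `level11`. -/
def level11_52 : List (ℕ × ℕ × ℕ) :=
  [(130, 0, 0),
   (130, 17, 0),
   (130, 5, 0),
   (223, 0, 0),
   (223, 17, 0),
   (223, 5, 0),
   (219, 0, 0),
   (219, 401, 0),
   (219, 1157, 0),
   (221, 0, 0),
   (221, 1169, 0),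
   (221, 389, 0),
   (211, 0, 0),
   (211, 1169, 0),
   (211, 389, 0),
   (213, 0, 0),
   (213, 401, 0),
   (213, 1157, 0),
   (235, 0, 0),
   (235, 1233, 0),
   (235, 453, 0),
   (237, 0, 0),
   (237, 465, 0),
   (237, 1221, 0)]

/-- Part of `level11`. -/
def level11_53 : List (ℕ × ℕ × ℕ) :=
  [(243, 0, 0),
   (243, 465, 0),
   (243, 1221, 0),
   (245, 0, 0),
   (245, 1233, 0),
   (245, 453, 0),
   (224, 0, 0),
   (224, 17, 0),
   (224, 20, 0),
   (330, 0, 0),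
   (330, 17, 0),
   (330, 20, 0),
   (331, 0, 0),
   (331, 17, 0),
   (331, 20, 0),
   (225, 0, 0),
   (225, 17, 0),
   (225, 5, 0),
   (342, 0, 0),
   (342, 17, 0),
   (342, 23, 0),
   (343, 0, 0),
   (343, 17, 0),
   (343, 5, 0)]

/-- Part of `level11`. -/
def level11_54 : List (ℕ × ℕ × ℕ) :=
  [(324, 0, 0),
   (324, 17, 0),
   (324, 20, 0),
   (412, 0, 0),
   (412, 17, 0),
   (412, 20, 0),
   (413, 0, 0),
   (413, 17, 0),
   (413, 20, 0),
   (320, 0, 0),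
   (320, 17, 0),
   (320, 21, 0),
   (392, 0, 0),
   (392, 17, 0),
   (392, 21, 0),
   (393, 0, 0),
   (393, 17, 0),
   (393, 21, 0),
   (321, 0, 0),
   (321, 17, 0),
   (321, 20, 0),
   (404, 0, 0),
   (404, 17, 0),
   (404, 20, 0)]

/-- Part of `level11`. -/
def level11_55 : List (ℕ × ℕ × ℕ) :=
  [(405, 0, 0),
   (405, 17, 0),
   (405, 20, 0),
   (325, 0, 0),
   (325, 17, 0),
   (325, 5, 0),
   (424, 0, 0),
   (424, 17, 0),
   (424, 23, 0),
   (425, 0, 0),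
   (425, 17, 0),
   (425, 5, 0),
   (332, 0, 0),
   (332, 17, 0),
   (332, 20, 0),
   (432, 0, 0),
   (432, 17, 0),
   (432, 20, 0),
   (436, 0, 0),
   (436, 17, 0),
   (436, 20, 0),
   (344, 0, 0),
   (344, 17, 0),
   (344, 22, 0)]

/-- Part of `level11`. -/
def level11_56 : List (ℕ × ℕ × ℕ) :=
  [(440, 0, 0),
   (440, 17, 0),
   (440, 22, 0),
   (444, 0, 0),
   (444, 17, 0),
   (444, 22, 0),
   (464, 0, 0),
   (464, 17, 0),
   (464, 20, 0),
   (468, 0, 0),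
   (468, 17, 0),
   (468, 20, 0),
   (414, 0, 0),
   (414, 17, 0),
   (414, 20, 0),
   (456, 0, 0),
   (456, 17, 0),
   (456, 21, 0),
   (460, 0, 0),
   (460, 17, 0),
   (460, 21, 0),
   (394, 0, 0),
   (394, 17, 0),
   (394, 21, 0)]

/-- Part of `level11`. -/
def level11_57 : List (ℕ × ℕ × ℕ) :=
  [(461, 0, 0),
   (461, 17, 0),
   (461, 20, 0),
   (406, 0, 0),
   (406, 17, 0),
   (406, 20, 0),
   (457, 0, 0),
   (457, 17, 0),
   (457, 20, 0),
   (469, 0, 0),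
   (469, 17, 0),
   (469, 22, 0),
   (426, 0, 0),
   (426, 17, 0),
   (426, 22, 0),
   (465, 0, 0),
   (465, 17, 0),
   (465, 22, 0),
   (333, 0, 0),
   (333, 17, 0),
   (333, 20, 0),
   (433, 0, 0),
   (433, 17, 0),
   (433, 20, 0)]

/-- Part of `level11`. -/
def level11_58 : List (ℕ × ℕ × ℕ) :=
  [(437, 0, 0),
   (437, 17, 0),
   (437, 20, 0),
   (345, 0, 0),
   (345, 17, 0),
   (345, 5, 0),
   (441, 0, 0),
   (441, 17, 0),
   (441, 23, 0),
   (445, 0, 0),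
   (445, 17, 0),
   (445, 5, 0),
   (470, 0, 0),
   (470, 17, 0),
   (470, 20, 0),
   (415, 0, 0),
   (415, 17, 0),
   (415, 20, 0),
   (462, 0, 0),
   (462, 17, 0),
   (462, 21, 0),
   (395, 0, 0),
   (395, 17, 0),
   (395, 21, 0)]

/-- Part of `level11`. -/
def level11_59 : List (ℕ × ℕ × ℕ) :=
  [(458, 0, 0),
   (458, 17, 0),
   (458, 20, 0),
   (407, 0, 0),
   (407, 17, 0),
   (407, 20, 0),
   (466, 0, 0),
   (466, 17, 0),
   (466, 5, 0),
   (427, 0, 0),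
   (427, 17, 0),
   (427, 5, 0),
   (307, 0, 0),
   (307, 5, 0),
   (307, 17, 0),
   (131, 0, 0),
   (131, 5, 0),
   (131, 17, 0),
   (226, 0, 0),
   (226, 5, 0),
   (226, 17, 0),
   (220, 0, 0),
   (220, 1157, 0),
   (220, 401, 0)]

/-- Part of `level11`. -/
def level11_60 : List (ℕ × ℕ × ℕ) :=
  [(222, 0, 0),
   (222, 389, 0),
   (222, 1169, 0),
   (212, 0, 0),
   (212, 389, 0),
   (212, 1169, 0),
   (214, 0, 0),
   (214, 1157, 0),
   (214, 401, 0),
   (236, 0, 0),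
   (236, 453, 0),
   (236, 1233, 0),
   (238, 0, 0),
   (238, 1221, 0),
   (238, 465, 0),
   (244, 0, 0),
   (244, 1221, 0),
   (244, 465, 0),
   (246, 0, 0),
   (246, 453, 0),
   (246, 1233, 0),
   (227, 0, 0),
   (227, 5, 0),
   (227, 17, 0)]

/-- Part of `level11`. -/
def level11_61 : List (ℕ × ℕ × ℕ) :=
  [(346, 0, 0),
   (346, 5, 0),
   (346, 17, 0),
   (347, 0, 0),
   (347, 23, 0),
   (347, 17, 0),
   (228, 0, 0),
   (228, 20, 0),
   (228, 17, 0),
   (334, 0, 0),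
   (334, 20, 0),
   (334, 17, 0),
   (335, 0, 0),
   (335, 20, 0),
   (335, 17, 0),
   (326, 0, 0),
   (326, 5, 0),
   (326, 17, 0),
   (428, 0, 0),
   (428, 5, 0),
   (428, 17, 0),
   (429, 0, 0),
   (429, 23, 0),
   (429, 17, 0)]

/-- Part of `level11`. -/
def level11_62 : List (ℕ × ℕ × ℕ) :=
  [(322, 0, 0),
   (322, 20, 0),
   (322, 17, 0),
   (408, 0, 0),
   (408, 20, 0),
   (408, 17, 0),
   (409, 0, 0),
   (409, 20, 0),
   (409, 17, 0),
   (323, 0, 0),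
   (323, 21, 0),
   (323, 17, 0),
   (396, 0, 0),
   (396, 21, 0),
   (396, 17, 0),
   (397, 0, 0),
   (397, 21, 0),
   (397, 17, 0),
   (327, 0, 0),
   (327, 20, 0),
   (327, 17, 0),
   (416, 0, 0),
   (416, 20, 0),
   (416, 17, 0)]

/-- Part of `level11`. -/
def level11_63 : List (ℕ × ℕ × ℕ) :=
  [(417, 0, 0),
   (417, 20, 0),
   (417, 17, 0),
   (348, 0, 0),
   (348, 5, 0),
   (348, 17, 0),
   (446, 0, 0),
   (446, 5, 0),
   (446, 17, 0),
   (442, 0, 0),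
   (442, 23, 0),
   (442, 17, 0),
   (336, 0, 0),
   (336, 20, 0),
   (336, 17, 0),
   (438, 0, 0),
   (438, 20, 0),
   (438, 17, 0),
   (434, 0, 0),
   (434, 20, 0),
   (434, 17, 0),
   (430, 0, 0),
   (430, 5, 0),
   (430, 17, 0)]

/-- Part of `level11`. -/
def level11_64 : List (ℕ × ℕ × ℕ) :=
  [(471, 0, 0),
   (471, 23, 0),
   (471, 17, 0),
   (410, 0, 0),
   (410, 20, 0),
   (410, 17, 0),
   (463, 0, 0),
   (463, 20, 0),
   (463, 17, 0),
   (459, 0, 0),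
   (459, 21, 0),
   (459, 17, 0),
   (398, 0, 0),
   (398, 21, 0),
   (398, 17, 0),
   (467, 0, 0),
   (467, 20, 0),
   (467, 17, 0),
   (418, 0, 0),
   (418, 20, 0),
   (418, 17, 0),
   (349, 0, 0),
   (349, 22, 0),
   (349, 17, 0)]

/-- Part of `level11`. -/
def level11_65 : List (ℕ × ℕ × ℕ) :=
  [(447, 0, 0),
   (447, 22, 0),
   (447, 17, 0),
   (443, 0, 0),
   (443, 22, 0),
   (443, 17, 0),
   (337, 0, 0),
   (337, 20, 0),
   (337, 17, 0),
   (439, 0, 0),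
   (439, 20, 0),
   (439, 17, 0),
   (435, 0, 0),
   (435, 20, 0),
   (435, 17, 0),
   (431, 0, 0),
   (431, 22, 0),
   (431, 17, 0),
   (411, 0, 0),
   (411, 20, 0),
   (411, 17, 0),
   (399, 0, 0),
   (399, 21, 0),
   (399, 17, 0)]

/-- Part of `level11`. -/
def level11_66 : List (ℕ × ℕ × ℕ) :=
  [(419, 0, 0),
   (419, 20, 0),
   (419, 17, 0),
   (120, 0, 0),
   (120, 18, 0),
   (120, 6, 0),
   (217, 0, 0),
   (217, 18, 0),
   (217, 6, 0),
   (209, 0, 0),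
   (209, 18, 0),
   (209, 6, 0),
   (452, 0, 0),
   (452, 1234, 0),
   (452, 454, 0),
   (454, 0, 0),
   (454, 466, 0),
   (454, 1222, 0),
   (448, 0, 0),
   (448, 466, 0),
   (448, 1222, 0),
   (450, 0, 0),
   (450, 1234, 0),
   (450, 454, 0)]

/-- Part of `level11`. -/
def level11_67 : List (ℕ × ℕ × ℕ) :=
  [(316, 0, 0),
   (316, 18, 0),
   (316, 21, 0),
   (376, 0, 0),
   (376, 18, 0),
   (376, 21, 0),
   (377, 0, 0),
   (377, 18, 0),
   (377, 21, 0),
   (317, 0, 0),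
   (317, 18, 0),
   (317, 6, 0),
   (384, 0, 0),
   (384, 18, 0),
   (384, 23, 0),
   (385, 0, 0),
   (385, 18, 0),
   (385, 6, 0),
   (378, 0, 0),
   (378, 18, 0),
   (378, 21, 0),
   (386, 0, 0),
   (386, 18, 0),
   (386, 22, 0)]

/-- Part of `level11`. -/
def level11_68 : List (ℕ × ℕ × ℕ) :=
  [(379, 0, 0),
   (379, 18, 0),
   (379, 21, 0),
   (387, 0, 0),
   (387, 18, 0),
   (387, 6, 0),
   (56, 0, 0),
   (56, 17, 0),
   (56, 5, 0),
   (102, 0, 0),
   (102, 17, 0),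
   (102, 23, 0),
   (112, 0, 0),
   (112, 17, 0),
   (112, 5, 0),
   (164, 0, 0),
   (164, 17, 0),
   (164, 22, 0),
   (165, 0, 0),
   (165, 17, 0),
   (165, 5, 0),
   (68, 0, 0),
   (68, 18, 0),
   (68, 17, 0)]

/-- Part of `level11`. -/
def level11_69 : List (ℕ × ℕ × ℕ) :=
  [(82, 0, 0),
   (82, 18, 0),
   (82, 17, 0),
   (92, 0, 0),
   (92, 18, 0),
   (92, 17, 0),
   (170, 0, 0),
   (170, 18, 0),
   (170, 17, 0),
   (171, 0, 0),
   (171, 18, 0),
   (171, 17, 0),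
   (121, 0, 0),
   (121, 6, 0),
   (121, 18, 0),
   (218, 0, 0),
   (218, 6, 0),
   (218, 18, 0),
   (210, 0, 0),
   (210, 6, 0),
   (210, 18, 0),
   (453, 0, 0),
   (453, 454, 0),
   (453, 1234, 0)]

/-- Part of `level11`. -/
def level11_70 : List (ℕ × ℕ × ℕ) :=
  [(455, 0, 0),
   (455, 1222, 0),
   (455, 466, 0),
   (449, 0, 0),
   (449, 1222, 0),
   (449, 466, 0),
   (451, 0, 0),
   (451, 454, 0),
   (451, 1234, 0),
   (318, 0, 0),
   (318, 6, 0),
   (318, 18, 0),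
   (388, 0, 0),
   (388, 6, 0),
   (388, 18, 0),
   (389, 0, 0),
   (389, 23, 0),
   (389, 18, 0),
   (319, 0, 0),
   (319, 21, 0),
   (319, 18, 0),
   (380, 0, 0),
   (380, 21, 0),
   (380, 18, 0)]

/-- Part of `level11`. -/
def level11_71 : List (ℕ × ℕ × ℕ) :=
  [(381, 0, 0),
   (381, 21, 0),
   (381, 18, 0),
   (390, 0, 0),
   (390, 6, 0),
   (390, 18, 0),
   (382, 0, 0),
   (382, 21, 0),
   (382, 18, 0),
   (391, 0, 0),
   (391, 22, 0),
   (391, 18, 0),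
   (383, 0, 0),
   (383, 21, 0),
   (383, 18, 0),
   (69, 0, 0),
   (69, 17, 0),
   (69, 18, 0),
   (93, 0, 0),
   (93, 17, 0),
   (93, 18, 0),
   (83, 0, 0),
   (83, 17, 0),
   (83, 18, 0)]

/-- Part of `level11`. -/
def level11_72 : List (ℕ × ℕ × ℕ) :=
  [(57, 0, 0),
   (57, 5, 0),
   (57, 17, 0),
   (113, 0, 0),
   (113, 5, 0),
   (113, 17, 0),
   (103, 0, 0),
   (103, 23, 0),
   (103, 17, 0),
   (122, 0, 0),
   (122, 19, 0),
   (122, 7, 0),
   (233, 0, 0),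
   (233, 19, 0),
   (233, 7, 0),
   (241, 0, 0),
   (241, 19, 0),
   (241, 7, 0),
   (350, 0, 0),
   (350, 19, 0),
   (350, 22, 0),
   (420, 0, 0),
   (420, 19, 0),
   (420, 22, 0)]

/-- Part of `level11`. -/
def level11_73 : List (ℕ × ℕ × ℕ) :=
  [(400, 0, 0),
   (400, 19, 0),
   (400, 22, 0),
   (338, 0, 0),
   (338, 19, 0),
   (338, 7, 0),
   (421, 0, 0),
   (421, 19, 0),
   (421, 23, 0),
   (401, 0, 0),
   (401, 19, 0),
   (401, 7, 0),
   (76, 0, 0),
   (76, 17, 0),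
   (76, 5, 0),
   (104, 0, 0),
   (104, 17, 0),
   (104, 23, 0),
   (84, 0, 0),
   (84, 17, 0),
   (84, 5, 0),
   (174, 0, 0),
   (174, 17, 0),
   (174, 21, 0)]

/-- Part of `level11`. -/
def level11_74 : List (ℕ × ℕ × ℕ) :=
  [(175, 0, 0),
   (175, 17, 0),
   (175, 5, 0),
   (64, 0, 0),
   (64, 19, 0),
   (64, 17, 0),
   (114, 0, 0),
   (114, 19, 0),
   (114, 17, 0),
   (94, 0, 0),
   (94, 19, 0),
   (94, 17, 0),
   (168, 0, 0),
   (168, 19, 0),
   (168, 17, 0),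
   (169, 0, 0),
   (169, 19, 0),
   (169, 17, 0),
   (72, 0, 0),
   (72, 18, 0),
   (72, 6, 0),
   (105, 0, 0),
   (105, 18, 0),
   (105, 23, 0)]

/-- Part of `level11`. -/
def level11_75 : List (ℕ × ℕ × ℕ) :=
  [(95, 0, 0),
   (95, 18, 0),
   (95, 6, 0),
   (172, 0, 0),
   (172, 18, 0),
   (172, 20, 0),
   (173, 0, 0),
   (173, 18, 0),
   (173, 6, 0),
   (290, 0, 0),
   (290, 17, 0),
   (290, 5, 0),
   (150, 0, 0),
   (150, 17, 0),
   (150, 23, 0),
   (358, 0, 0),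
   (358, 17, 0),
   (358, 20, 0),
   (359, 0, 0),
   (359, 17, 0),
   (359, 5, 0),
   (192, 0, 0),
   (192, 17, 0),
   (192, 20, 0)]

/-- Part of `level11`. -/
def level11_76 : List (ℕ × ℕ × ℕ) :=
  [(151, 0, 0),
   (151, 17, 0),
   (151, 20, 0),
   (256, 0, 0),
   (256, 17, 0),
   (256, 21, 0),
   (193, 0, 0),
   (193, 17, 0),
   (193, 5, 0),
   (152, 0, 0),
   (152, 17, 0),
   (152, 23, 0),
   (188, 0, 0),
   (188, 17, 0),
   (188, 20, 0),
   (153, 0, 0),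
   (153, 17, 0),
   (153, 20, 0),
   (248, 0, 0),
   (248, 17, 0),
   (248, 22, 0),
   (189, 0, 0),
   (189, 17, 0),
   (189, 21, 0)]

/-- Part of `level11`. -/
def level11_77 : List (ℕ × ℕ × ℕ) :=
  [(154, 0, 0),
   (154, 17, 0),
   (154, 21, 0),
   (360, 0, 0),
   (360, 17, 0),
   (360, 20, 0),
   (339, 0, 0),
   (339, 17, 0),
   (339, 20, 0),
   (249, 0, 0),
   (249, 17, 0),
   (249, 21, 0),
   (106, 0, 0),
   (106, 17, 0),
   (106, 21, 0),
   (250, 0, 0),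
   (250, 17, 0),
   (250, 22, 0),
   (251, 0, 0),
   (251, 17, 0),
   (251, 20, 0),
   (107, 0, 0),
   (107, 17, 0),
   (107, 20, 0)]

/-- Part of `level11`. -/
def level11_78 : List (ℕ × ℕ × ℕ) :=
  [(257, 0, 0),
   (257, 17, 0),
   (257, 22, 0),
   (402, 0, 0),
   (402, 17, 0),
   (402, 22, 0),
   (190, 0, 0),
   (190, 17, 0),
   (190, 5, 0),
   (155, 0, 0),
   (155, 17, 0),
   (155, 23, 0),
   (258, 0, 0),
   (258, 17, 0),
   (258, 20, 0),
   (403, 0, 0),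
   (403, 17, 0),
   (403, 20, 0),
   (252, 0, 0),
   (252, 17, 0),
   (252, 21, 0),
   (191, 0, 0),
   (191, 17, 0),
   (191, 5, 0)]

/-- Part of `level11`. -/
def level11_79 : List (ℕ × ℕ × ℕ) :=
  [(156, 0, 0),
   (156, 17, 0),
   (156, 23, 0),
   (253, 0, 0),
   (253, 17, 0),
   (253, 20, 0),
   (361, 0, 0),
   (361, 17, 0),
   (361, 23, 0),
   (351, 0, 0),
   (351, 17, 0),
   (351, 5, 0),
   (282, 0, 0),
   (282, 18, 0),
   (282, 17, 0),
   (254, 0, 0),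
   (254, 18, 0),
   (254, 17, 0),
   (186, 0, 0),
   (186, 18, 0),
   (186, 17, 0),
   (157, 0, 0),
   (157, 18, 0),
   (157, 17, 0)]

/-- Part of `level11`. -/
def level11_80 : List (ℕ × ℕ × ℕ) :=
  [(187, 0, 0),
   (187, 18, 0),
   (187, 17, 0),
   (158, 0, 0),
   (158, 18, 0),
   (158, 17, 0),
   (259, 0, 0),
   (259, 18, 0),
   (259, 17, 0),
   (182, 0, 0),
   (182, 18, 0),
   (182, 17, 0),
   (159, 0, 0),
   (159, 18, 0),
   (159, 17, 0),
   (183, 0, 0),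
   (183, 18, 0),
   (183, 17, 0),
   (52, 0, 0),
   (52, 18, 0),
   (52, 17, 0),
   (96, 0, 0),
   (96, 18, 0),
   (96, 17, 0)]

/-- Part of `level11`. -/
def level11_81 : List (ℕ × ℕ × ℕ) :=
  [(340, 0, 0),
   (340, 18, 0),
   (340, 17, 0),
   (160, 0, 0),
   (160, 18, 0),
   (160, 17, 0),
   (422, 0, 0),
   (422, 18, 0),
   (422, 17, 0),
   (97, 0, 0),
   (97, 18, 0),
   (97, 17, 0),
   (184, 0, 0),
   (184, 18, 0),
   (184, 17, 0),
   (161, 0, 0),
   (161, 18, 0),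
   (161, 17, 0),
   (423, 0, 0),
   (423, 18, 0),
   (423, 17, 0),
   (185, 0, 0),
   (185, 18, 0),
   (185, 17, 0)]

/-- Part of `level11`. -/
def level11_82 : List (ℕ × ℕ × ℕ) :=
  [(352, 0, 0),
   (352, 18, 0),
   (352, 17, 0),
   (162, 0, 0),
   (162, 18, 0),
   (162, 17, 0),
   (53, 0, 0),
   (53, 18, 0),
   (53, 17, 0),
   (60, 0, 0),
   (60, 19, 0),
   (60, 18, 0),
   (115, 0, 0),
   (115, 19, 0),
   (115, 18, 0),
   (85, 0, 0),
   (85, 19, 0),
   (85, 18, 0),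
   (166, 0, 0),
   (166, 19, 0),
   (166, 18, 0),
   (167, 0, 0),
   (167, 19, 0),
   (167, 18, 0)]

/-- Part of `level11`. -/
def level11_83 : List (ℕ × ℕ × ℕ) :=
  [(274, 0, 0),
   (274, 17, 0),
   (274, 18, 0),
   (255, 0, 0),
   (255, 17, 0),
   (255, 18, 0),
   (180, 0, 0),
   (180, 17, 0),
   (180, 18, 0),
   (181, 0, 0),
   (181, 17, 0),
   (181, 18, 0),
   (176, 0, 0),
   (176, 17, 0),
   (176, 18, 0),
   (86, 0, 0),
   (86, 17, 0),
   (86, 18, 0),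
   (177, 0, 0),
   (177, 17, 0),
   (177, 18, 0),
   (87, 0, 0),
   (87, 17, 0),
   (87, 18, 0)]

/-- Part of `level11`. -/
def level11_84 : List (ℕ × ℕ × ℕ) :=
  [(178, 0, 0),
   (178, 17, 0),
   (178, 18, 0),
   (179, 0, 0),
   (179, 17, 0),
   (179, 18, 0),
   (298, 0, 0),
   (298, 19, 0),
   (298, 17, 0),
   (198, 0, 0),
   (198, 19, 0),
   (198, 17, 0),
   (163, 0, 0),
   (163, 19, 0),
   (163, 17, 0),
   (199, 0, 0),
   (199, 19, 0),
   (199, 17, 0),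
   (194, 0, 0),
   (194, 19, 0),
   (194, 17, 0),
   (116, 0, 0),
   (116, 19, 0),
   (116, 17, 0)]

/-- Part of `level11`. -/
def level11_85 : List (ℕ × ℕ × ℕ) :=
  [(195, 0, 0),
   (195, 19, 0),
   (195, 17, 0),
   (117, 0, 0),
   (117, 19, 0),
   (117, 17, 0),
   (196, 0, 0),
   (196, 19, 0),
   (196, 17, 0),
   (197, 0, 0),
   (197, 19, 0),
   (197, 17, 0),
   (123, 0, 0),
   (123, 7, 0),
   (123, 19, 0),
   (234, 0, 0),
   (234, 7, 0),
   (234, 19, 0),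
   (242, 0, 0),
   (242, 7, 0),
   (242, 19, 0),
   (341, 0, 0),
   (341, 7, 0),
   (341, 19, 0)]

/-- Part of `level11`. -/
def level11_86 : List (ℕ × ℕ × ℕ) :=
  [(353, 0, 0),
   (353, 22, 0),
   (353, 19, 0),
   (65, 0, 0),
   (65, 17, 0),
   (65, 19, 0),
   (77, 0, 0),
   (77, 5, 0),
   (77, 17, 0),
   (61, 0, 0),
   (61, 18, 0),
   (61, 19, 0),
   (299, 0, 0),
   (299, 17, 0),
   (299, 19, 0),
   (275, 0, 0),
   (275, 18, 0),
   (275, 17, 0),
   (73, 0, 0),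
   (73, 6, 0),
   (73, 18, 0),
   (283, 0, 0),
   (283, 17, 0),
   (283, 18, 0)]

/-- Part of `level11`. -/
def level11_87 : List (ℕ × ℕ × ℕ) :=
  [(291, 0, 0),
   (291, 5, 0),
   (291, 17, 0),
   (204, 0, 0),
   (204, 16, 0),
   (204, 4, 0),
   (205, 0, 0),
   (205, 4, 0),
   (205, 16, 0)]

/-- The certificate of level 11. -/
def level11 : List (ℕ × ℕ × ℕ) := List.flatten [level11_0, level11_1, level11_2, level11_3, level11_4, level11_5, level11_6, level11_7, level11_8, level11_9, level11_10, level11_11, level11_12, level11_13, level11_14, level11_15, level11_16, level11_17, level11_18, level11_19, level11_20, level11_21, level11_22, level11_23, level11_24, level11_25, level11_26, level11_27, level11_28, level11_29, level11_30, level11_31, level11_32, level11_33, level11_34, level11_35, level11_36, level11_37, level11_38, level11_39, level11_40, level11_41, level11_42, level11_43, level11_44, level11_45,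 level11_46, level11_47, level11_48, level11_49, level11_50, level11_51, level11_52, level11_53, level11_54, level11_55, level11_56, level11_57, level11_58, level11_59, level11_60, level11_61, level11_62, level11_63, level11_64, level11_65, level11_66, level11_67, level11_68, level11_69, level11_70, level11_71, level11_72, level11_73, level11_74, level11_75, level11_76, level11_77, level11_78, level11_79, level11_80, level11_81, level11_82, level11_83, level11_84, level11_85, level11_86, level11_87]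

/-- Part of `final`. -/
def final_0 : List (ℕ × ℕ) :=
  [(0, 0),
   (1, 0),
   (2, 0),
   (3, 0),
   (4, 0),
   (5, 0),
   (6, 0),
   (7, 0),
   (8, 0),
   (9, 0),
   (10, 0),
   (11, 0),
   (12, 0),
   (0, 18180),
   (0, 1808),
   (0, 2052),
   (1, 18180),
   (1, 2052),
   (1, 1808),
   (2, 18180),
   (2, 2052),
   (2, 1808),
   (3, 18180),
   (3, 1808)]

/-- Part of `final`. -/
def final_1 : List (ℕ × ℕ) :=
  [(3, 2052),
   (4, 18180),
   (4, 2052),
   (4, 1808),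
   (5, 18180),
   (5, 2052),
   (5, 1808),
   (6, 18180),
   (6, 2052),
   (6, 1808),
   (7, 18180),
   (7, 2052),
   (7, 1808),
   (8, 18180),
   (8, 2052),
   (8, 1808),
   (9, 18180),
   (9, 2052),
   (9, 1808),
   (10, 18180),
   (10, 1808),
   (10, 2052),
   (11, 9858),
   (11, 1922)]

/-- Part of `final`. -/
def final_2 : List (ℕ × ℕ) :=
  [(11, 1678),
   (11, 1743),
   (11, 1987),
   (12, 33820),
   (12, 8459213),
   (12, 3522831),
   (14, 25),
   (14, 29),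
   (14, 1987),
   (14, 1743),
   (17, 30),
   (17, 26),
   (17, 1857),
   (17, 1613),
   (20, 29),
   (20, 25),
   (20, 1922),
   (20, 1678),
   (23, 26),
   (23, 25),
   (23, 1743),
   (23, 1987),
   (26, 26),
   (26, 27)]

/-- Part of `final`. -/
def final_3 : List (ℕ × ℕ) :=
  [(26, 1613),
   (26, 1857),
   (29, 25),
   (29, 27),
   (29, 1678),
   (29, 1922),
   (32, 25),
   (32, 26),
   (32, 5697),
   (32, 9858),
   (32, 14275),
   (32, 63183),
   (32, 59022),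
   (32, 5953),
   (32, 15541006465),
   (32, 1497691021),
   (35, 26),
   (35, 25),
   (35, 9858),
   (35, 5697),
   (35, 63183),
   (35, 14275),
   (35, 10114),
   (35, 54861)]

/-- Part of `final`. -/
def final_4 : List (ℕ × ℕ) :=
  [(35, 14450749569),
   (35, 2588472205),
   (38, 25),
   (38, 27),
   (38, 5697),
   (38, 14019),
   (38, 14275),
   (38, 63183),
   (38, 59022),
   (38, 54861),
   (38, 11865216833),
   (38, 11865216898),
   (41, 29),
   (41, 25),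
   (41, 55117),
   (41, 5697),
   (41, 63183),
   (41, 14275),
   (41, 10114),
   (41, 5953),
   (41, 2587898753),
   (41, 1497378957),
   (44, 857),
   (44, 93)]

/-- Part of `final`. -/
def final_5 : List (ℕ × ℕ) :=
  [(44, 1987),
   (44, 1743),
   (44, 1678),
   (44, 1922),
   (47, 4310160),
   (47, 67346),
   (47, 275849486),
   (47, 1054724),
   (47, 16480),
   (47, 1180816),
   (47, 1987),
   (47, 1743),
   (48, 4200208),
   (48, 67329),
   (48, 4200196),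
   (48, 1179905),
   (48, 18433),
   (48, 67765261),
   (49, 4200208),
   (49, 67347),
   (49, 4200196),
   (49, 1179923),
   (49, 18451),
   (49, 68027405)]

/-- Part of `final`. -/
def final_6 : List (ℕ × ℕ) :=
  [(50, 4310017),
   (50, 67329),
   (50, 121648900),
   (50, 1054724),
   (50, 16480),
   (50, 1054736),
   (52, 3991186),
   (52, 50983951),
   (52, 913602),
   (52, 255435778),
   (52, 252237393),
   (52, 3777486),
   (52, 252237377),
   (52, 1937),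
   (52, 3793090),
   (52, 1745),
   (52, 5594428301),
   (52, 897998),
   (52, 1874),
   (52, 155037889),
   (54, 7139457),
   (54, 1987),
   (58, 1857),
   (58, 6615949)]

/-- Part of `final`. -/
def final_7 : List (ℕ × ℕ) :=
  [(62, 1922),
   (62, 6878093),
   (66, 1743),
   (66, 8138893),
   (70, 7663745),
   (70, 1613),
   (74, 7925889),
   (74, 1678),
   (82, 491008897),
   (82, 440677249),
   (82, 424210573),
   (82, 508096653),
   (84, 7676097),
   (84, 6624205),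
   (92, 7676033),
   (92, 6890381),
   (92, 6624141),
   (92, 7934081),
   (94, 7676865),
   (94, 6623437),
   (102, 7672705),
   (102, 7934093),
   (102, 6639757),
   (102, 6898561)]

/-- Part of `final`. -/
def final_8 : List (ℕ × ℕ) :=
  [(104, 7672001),
   (104, 6644685),
   (112, 491581569),
   (112, 508358785),
   (112, 423900045),
   (112, 440677261),
   (114, 7672769),
   (114, 6631629),
   (118, 1922),
   (118, 1678),
   (118, 1743),
   (118, 1987),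
   (120, 1678),
   (120, 1922),
   (124, 857),
   (124, 93),
   (124, 4310030),
   (124, 1987),
   (124, 1743),
   (125, 5107918),
   (125, 2389711),
   (126, 5092302),
   (126, 1962190),
   (127, 93)]

/-- Part of `final`. -/
def final_9 : List (ℕ × ℕ) :=
  [(127, 857),
   (127, 1743),
   (127, 1987),
   (128, 1845187),
   (128, 5092290),
   (129, 354162383),
   (129, 155981763),
   (130, 18180),
   (130, 1808),
   (130, 2052),
   (131, 18180),
   (131, 1808),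
   (131, 2052),
   (132, 4310096),
   (138, 857),
   (138, 93),
   (138, 4310096),
   (138, 1678),
   (138, 1922),
   (139, 373823118),
   (139, 1587074),
   (140, 172496770),
   (140, 370677390),
   (141, 93)]

/-- Part of `final`. -/
def final_10 : List (ℕ × ℕ) :=
  [(141, 857),
   (141, 1922),
   (141, 1678),
   (142, 2123406),
   (142, 4842434),
   (143, 1696706),
   (143, 4826062),
   (144, 4310031),
   (151, 3987028),
   (151, 1937),
   (151, 3991188),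
   (151, 1873),
   (151, 3987009),
   (151, 3991170),
   (151, 3245682829),
   (151, 3262722945),
   (153, 579156),
   (153, 579137),
   (153, 1873),
   (153, 15056839629),
   (164, 1052),
   (164, 288),
   (166, 288),
   (166, 1052)]

/-- Part of `final`. -/
def final_11 : List (ℕ × ℕ) :=
  [(168, 288),
   (168, 1052),
   (170, 1052),
   (170, 288),
   (172, 288),
   (172, 1052),
   (174, 288),
   (174, 1052),
   (176, 28),
   (176, 1056),
   (176, 1682),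
   (176, 7934926),
   (177, 28),
   (177, 1056),
   (180, 8458445),
   (180, 1589468),
   (182, 28),
   (182, 1056),
   (182, 1937),
   (182, 6889613),
   (183, 28),
   (183, 1056),
   (186, 28),
   (186, 1056)]

/-- Part of `final`. -/
def final_12 : List (ℕ × ℕ) :=
  [(188, 32),
   (188, 284),
   (188, 1684),
   (188, 7934861),
   (189, 32),
   (189, 284),
   (192, 32),
   (192, 284),
   (194, 32),
   (194, 284),
   (194, 1937),
   (194, 6893697),
   (195, 32),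
   (195, 284),
   (198, 7418829),
   (198, 1378319),
   (200, 288),
   (200, 1052),
   (200, 1987),
   (200, 1743),
   (202, 1052),
   (202, 288),
   (204, 1808),
   (204, 2052)]

/-- Part of `final`. -/
def final_13 : List (ℕ × ℕ) :=
  [(206, 1743),
   (206, 1987),
   (208, 158),
   (208, 922),
   (209, 2052),
   (209, 1808),
   (210, 2052),
   (210, 1808),
   (211, 2052),
   (211, 1808),
   (212, 2052),
   (212, 1808),
   (213, 2052),
   (213, 1808),
   (214, 2052),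
   (214, 1808),
   (215, 1743),
   (215, 1987),
   (224, 25),
   (224, 29),
   (224, 30),
   (224, 26),
   (224, 5697),
   (224, 55117)]

/-- Part of `final`. -/
def final_14 : List (ℕ × ℕ) :=
  [(224, 59278),
   (224, 9858),
   (224, 3777806),
   (224, 491008897),
   (224, 16140047373),
   (224, 648386),
   (225, 29),
   (225, 25),
   (225, 30),
   (225, 26),
   (225, 55117),
   (225, 5697),
   (225, 59278),
   (225, 9858),
   (225, 648258),
   (225, 90501261),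
   (225, 14449914753),
   (225, 3777614),
   (230, 1922),
   (230, 1678),
   (239, 1922),
   (239, 1678),
   (248, 1686),
   (248, 7934145)]

/-- Part of `final`. -/
def final_15 : List (ℕ × ℕ) :=
  [(248, 3776641),
   (248, 796558),
   (249, 476),
   (249, 131969),
   (251, 476),
   (251, 131213),
   (257, 480),
   (257, 2639619),
   (312, 1180686),
   (312, 18446),
   (312, 4309262),
   (312, 67342),
   (313, 1180686),
   (313, 24864),
   (313, 4309262),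
   (313, 67342),
   (316, 26),
   (316, 30),
   (316, 29),
   (316, 25),
   (316, 9858),
   (316, 59278),
   (316, 55117),
   (316, 5697)]

/-- Part of `final`. -/
def final_16 : List (ℕ × ℕ) :=
  [(317, 30),
   (317, 26),
   (317, 29),
   (317, 25),
   (317, 59278),
   (317, 9858),
   (317, 55117),
   (317, 5697),
   (320, 29),
   (320, 25),
   (320, 30),
   (320, 26),
   (320, 55117),
   (320, 5697),
   (320, 59278),
   (320, 9858),
   (320, 648258),
   (320, 3511245),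
   (320, 50963341),
   (320, 2373255361),
   (321, 25),
   (321, 29),
   (321, 30),
   (321, 26)]

/-- Part of `final`. -/
def final_17 : List (ℕ × ℕ) :=
  [(321, 5697),
   (321, 55117),
   (321, 59278),
   (321, 9858),
   (324, 25),
   (324, 29),
   (324, 30),
   (324, 26),
   (324, 5697),
   (324, 55117),
   (324, 59278),
   (324, 9858),
   (324, 3511245),
   (324, 3777806),
   (324, 491008129),
   (324, 7876737),
   (325, 29),
   (325, 25),
   (325, 30),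
   (325, 26),
   (325, 55117),
   (325, 5697),
   (325, 59278),
   (325, 9858)]

/-- Part of `final`. -/
def final_18 : List (ℕ × ℕ) :=
  [(330, 30),
   (330, 26),
   (330, 59278),
   (330, 9858),
   (331, 30),
   (331, 26),
   (331, 59278),
   (331, 9858),
   (342, 30),
   (342, 26),
   (342, 59278),
   (342, 9858),
   (343, 30),
   (343, 26),
   (343, 59278),
   (343, 9858),
   (368, 2381633),
   (368, 4559821),
   (369, 1414093),
   (369, 4576193),
   (370, 373565249),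
   (370, 1324621),
   (371, 4559053),
   (371, 1429697)]

/-- Part of `final`. -/
def final_19 : List (ℕ × ℕ) :=
  [(392, 30),
   (392, 235250831),
   (392, 16347893889),
   (392, 59278),
   (393, 30),
   (393, 16147612557),
   (393, 26),
   (393, 10979176589),
   (412, 30),
   (412, 238396559),
   (412, 16347918477),
   (412, 59278),
   (413, 30),
   (413, 16147612545),
   (413, 26),
   (413, 15473635457),
   (456, 115650),
   (456, 132161),
   (461, 348),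
   (461, 131266),
   (464, 115650),
   (464, 352),
   (469, 1116),
   (469, 131266)]

/-- Part of `final`. -/
def final_20 : List (ℕ × ℕ) :=
  [(0, 0),
   (0, 0),
   (0, 0),
   (0, 0),
   (0, 0),
   (0, 0),
   (0, 0),
   (0, 0),
   (0, 0),
   (0, 0),
   (0, 0),
   (0, 0),
   (0, 0),
   (0, 0),
   (0, 0),
   (0, 0),
   (0, 0),
   (0, 0),
   (0, 0),
   (0, 0),
   (0, 0),
   (0, 0),
   (0, 0),
   (0, 0)]

/-- Part of `final`. -/
def final_21 : List (ℕ × ℕ) :=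
  [(0, 0),
   (0, 0),
   (0, 0),
   (0, 0),
   (0, 0),
   (0, 0),
   (0, 0),
   (0, 0),
   (0, 0),
   (0, 0),
   (0, 0),
   (0, 0),
   (0, 0),
   (0, 0),
   (0, 0),
   (0, 0),
   (0, 0),
   (0, 0),
   (0, 0),
   (0, 0),
   (0, 0),
   (0, 0),
   (0, 0),
   (0, 0)]

/-- Part of `final`. -/
def final_22 : List (ℕ × ℕ) :=
  [(0, 0),
   (0, 0),
   (0, 0),
   (0, 0),
   (0, 0),
   (0, 0),
   (0, 0),
   (0, 0),
   (0, 0),
   (0, 0),
   (0, 0),
   (0, 0),
   (0, 0),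
   (0, 0),
   (0, 0),
   (0, 0),
   (0, 0),
   (0, 0),
   (0, 0),
   (0, 0),
   (0, 0),
   (0, 0),
   (0, 0),
   (0, 0)]

/-- Part of `final`. -/
def final_23 : List (ℕ × ℕ) :=
  [(0, 0),
   (0, 0),
   (0, 0),
   (0, 0),
   (0, 0),
   (0, 0),
   (0, 0),
   (0, 0),
   (0, 0),
   (0, 0),
   (0, 0),
   (0, 0),
   (0, 0),
   (0, 0),
   (0, 0),
   (0, 0),
   (0, 0),
   (0, 0),
   (0, 0),
   (0, 0),
   (0, 0),
   (0, 0),
   (0, 0),
   (0, 0)]

/-- Part of `final`. -/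
def final_24 : List (ℕ × ℕ) :=
  [(0, 0),
   (0, 0),
   (0, 0),
   (0, 0),
   (0, 0),
   (0, 0),
   (0, 0),
   (0, 0),
   (0, 0),
   (0, 0),
   (0, 0),
   (0, 0),
   (0, 0),
   (0, 0),
   (0, 0),
   (0, 0),
   (0, 0),
   (0, 0),
   (0, 0),
   (0, 0),
   (0, 0),
   (0, 0),
   (0, 0),
   (0, 0)]

/-- Part of `final`. -/
def final_25 : List (ℕ × ℕ) :=
  [(0, 0),
   (0, 0),
   (0, 0),
   (0, 0),
   (0, 0),
   (0, 0),
   (0, 0),
   (0, 0),
   (0, 0),
   (0, 0),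
   (0, 0),
   (0, 0),
   (0, 0),
   (0, 0),
   (0, 0),
   (0, 0),
   (0, 0),
   (0, 0),
   (0, 0),
   (0, 0),
   (0, 0),
   (0, 0),
   (0, 0),
   (0, 0)]

/-- Part of `final`. -/
def final_26 : List (ℕ × ℕ) :=
  [(0, 0),
   (0, 0),
   (0, 0),
   (0, 0),
   (0, 0),
   (0, 0),
   (0, 0),
   (0, 0),
   (0, 0),
   (0, 0),
   (0, 0),
   (0, 0),
   (0, 0),
   (0, 0),
   (0, 0),
   (0, 0),
   (0, 0),
   (0, 0),
   (0, 0),
   (0, 0),
   (0, 0),
   (0, 0),
   (0, 0),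
   (0, 0)]

/-- Part of `final`. -/
def final_27 : List (ℕ × ℕ) :=
  [(0, 0),
   (0, 0),
   (0, 0),
   (0, 0),
   (0, 0),
   (0, 0),
   (0, 0),
   (0, 0),
   (0, 0),
   (0, 0),
   (0, 0),
   (0, 0),
   (0, 0),
   (0, 0),
   (0, 0),
   (0, 0),
   (0, 0),
   (0, 0),
   (0, 0),
   (0, 0),
   (0, 0),
   (0, 0),
   (0, 0),
   (0, 0)]

/-- Part of `final`. -/
def final_28 : List (ℕ × ℕ) :=
  [(0, 0),
   (0, 0),
   (0, 0),
   (0, 0),
   (0, 0),
   (0, 0),
   (0, 0),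
   (0, 0),
   (0, 0),
   (0, 0),
   (0, 0),
   (0, 0),
   (0, 0),
   (0, 0),
   (0, 0),
   (0, 0),
   (0, 0),
   (0, 0),
   (0, 0),
   (0, 0),
   (0, 0),
   (0, 0),
   (0, 0),
   (0, 0)]

/-- Part of `final`. -/
def final_29 : List (ℕ × ℕ) :=
  [(0, 0),
   (0, 0),
   (0, 0),
   (0, 0),
   (0, 0),
   (0, 0),
   (0, 0),
   (0, 0),
   (0, 0),
   (0, 0),
   (0, 0),
   (0, 0),
   (0, 0),
   (0, 0),
   (0, 0),
   (0, 0),
   (0, 0),
   (0, 0),
   (0, 0),
   (0, 0),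
   (0, 0),
   (0, 0),
   (0, 0),
   (0, 0)]

/-- Part of `final`. -/
def final_30 : List (ℕ × ℕ) :=
  [(0, 0),
   (0, 0),
   (0, 0),
   (0, 0),
   (0, 0),
   (0, 0),
   (0, 0),
   (0, 0),
   (0, 0),
   (0, 0),
   (0, 0),
   (0, 0),
   (0, 0),
   (0, 0),
   (0, 0),
   (0, 0),
   (0, 0),
   (0, 0),
   (0, 0),
   (0, 0),
   (0, 0),
   (0, 0),
   (0, 0),
   (0, 0)]

/-- Part of `final`. -/
def final_31 : List (ℕ × ℕ) :=
  [(0, 0),
   (0, 0),
   (0, 0),
   (0, 0),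
   (0, 0),
   (0, 0),
   (0, 0),
   (0, 0),
   (0, 0)]

/-- For each class of the Sylow subgroup, a step towards a representative. -/
def final : List (ℕ × ℕ) := List.flatten [final_0, final_1, final_2, final_3, final_4, final_5, final_6, final_7, final_8, final_9, final_10, final_11, final_12, final_13, final_14, final_15, final_16, final_17, final_18, final_19, final_20, final_21, final_22, final_23, final_24, final_25, final_26, final_27, final_28, final_29, final_30, final_31]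

/-- The number of classes of elements of order three. -/
def live : ℕ := 480

end Cfsg.Agent.OEightThree.Data
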