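/-
Kernel check of the last step of the certificate: classes of the Sylow subgroup of order three
lead to the thirteen representatives.
-/
import Cfsg.Agent.Lib.OEightThree.Tables
import Cfsg.Agent.Lib.OEightThree.DataLevels
import Cfsg.Agent.Lib.OEightThree.DataReps

set_option autoImplicit false
set_option maxRecDepth 40000

namespace Cfsg.Agent.OEightThree

open Data

/-- The check of one class in the last step. -/
def finalAt (a : ℕ) : Bool :=
  let r := reps12.getD a []
  let e := final.getD a (reps12.length, 0)
  if Nat.blt a live then
    (word e.2).all (fun l => Nat.blt l 32) &&
      (if Nat.blt a 13 then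
        Nat.blt e.1 13 && mul (code gens (word e.2)) r == mul (targetMat e.1) (code gens (word e.2))
      else
        Nat.blt e.1 a &&
          mul (code gens (word e.2)) r == mul (reps12.getD e.1 []) (code gens (word e.2)))
  else r == one || mul r (mul r r) != one

/-- The check of a part of the last step. -/
def checkFinalPart (i : ℕ) : Bool := (List.range' (64 * i) 64).all fun a => Nat.ble 753 a || finalAt a

theorem reps12_length : reps12.length = 753 := by decide +kernel

theorem finalPart : ∀ i < 12, checkFinalPart i = true := by
  intro i hi
  interval_cases i <;> decide +kernel

theorem final_spec {a : ℕ} (ha : a < reps12.length) : finalAt a = true := by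
  rw [reps12_length] at ha
  have h := List.all_eq_true.mp (finalPart (a / 64) (by omega)) a
    (List.mem_range'_1.mpr ⟨by omega, by omega⟩)
  simp only [Bool.or_eq_true, Nat.ble_eq] at h
  exact h.resolve_left (by omega)

end Cfsg.Agent.OEightThree
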