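/-
Kernel checks of levels 0 to 7 of the certificate.
-/
import Cfsg.Agent.Lib.OEightThree.Tables
import Cfsg.Agent.Lib.OEightThree.DataLevels
import Cfsg.Agent.Lib.OEightThree.DataReps

set_option autoImplicit false
set_option maxRecDepth 40000

namespace Cfsg.Agent.OEightThree

open Data

/-- The level `0` of the certificate. -/
theorem levelOK0 : LevelOK gens 0 reps0 reps1 :=
  levelOK_of_parts gens (k := 0) (R := reps0) (L := level0) (C := parts1) (n := 32) (P := 1) (by decide +kernel) (by decide +kernel)
    fun i hi => by interval_cases i <;> decide +kernel

/-- The level `1` of the certificate. -/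
theorem levelOK1 : LevelOK gens 1 reps1 reps2 :=
  levelOK_of_parts gens (k := 1) (R := reps1) (L := level1) (C := parts2) (n := 32) (P := 1) (by decide +kernel) (by decide +kernel)
    fun i hi => by interval_cases i <;> decide +kernel

/-- The level `2` of the certificate. -/
theorem levelOK2 : LevelOK gens 2 reps2 reps3 :=
  levelOK_of_parts gens (k := 2) (R := reps2) (L := level2) (C := parts3) (n := 32) (P := 1) (by decide +kernel) (by decide +kernel)
    fun i hi => by interval_cases i <;> decide +kernel

/-- The level `3` of the certificate. -/
theorem levelOK3 : LevelOK gens 3 reps3 reps4 :=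
  levelOK_of_parts gens (k := 3) (R := reps3) (L := level3) (C := parts4) (n := 32) (P := 1) (by decide +kernel) (by decide +kernel)
    fun i hi => by interval_cases i <;> decide +kernel

/-- The level `4` of the certificate. -/
theorem levelOK4 : LevelOK gens 4 reps4 reps5 :=
  levelOK_of_parts gens (k := 4) (R := reps4) (L := level4) (C := parts5) (n := 32) (P := 3) (by decide +kernel) (by decide +kernel)
    fun i hi => by interval_cases i <;> decide +kernel

/-- The level `5` of the certificate. -/
theorem levelOK5 : LevelOK gens 5 reps5 reps6 :=
  levelOK_of_parts gens (k := 5) (R := reps5) (L := level5) (C := parts6) (n := 32) (P := 4) (by decide +kernel) (by decide +kernel)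
    fun i hi => by interval_cases i <;> decide +kernel

/-- The level `6` of the certificate. -/
theorem levelOK6 : LevelOK gens 6 reps6 reps7 :=
  levelOK_of_parts gens (k := 6) (R := reps6) (L := level6) (C := parts7) (n := 32) (P := 5) (by decide +kernel) (by decide +kernel)
    fun i hi => by interval_cases i <;> decide +kernel

/-- The level `7` of the certificate. -/
theorem levelOK7 : LevelOK gens 7 reps7 reps8 :=
  levelOK_of_parts gens (k := 7) (R := reps7) (L := level7) (C := parts8) (n := 32) (P := 10) (by decide +kernel) (by decide +kernel)
    fun i hi => by interval_cases i <;> decide +kernel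

end Cfsg.Agent.OEightThree
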