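/-
Kernel checks of levels 9 to 9 of the certificate.
-/
import Cfsg.Agent.Lib.OEightThree.Tables
import Cfsg.Agent.Lib.OEightThree.DataLevels
import Cfsg.Agent.Lib.OEightThree.DataReps

set_option autoImplicit false
set_option maxRecDepth 40000

namespace Cfsg.Agent.OEightThree

open Data

/-- The level `9` of the certificate. -/
theorem levelOK9 : LevelOK gens 9 reps9 reps10 :=
  levelOK_of_parts gens (k := 9) (R := reps9) (L := level9) (C := parts10) (n := 32) (P := 13) (by decide +kernel) (by decide +kernel)
    fun i hi => by interval_cases i <;> decide +kernel

end Cfsg.Agent.OEightThree
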