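/-
Kernel checks of levels 11 to 11 of the certificate.
-/
import Cfsg.Agent.Lib.OEightThree.Tables
import Cfsg.Agent.Lib.OEightThree.DataLevels
import Cfsg.Agent.Lib.OEightThree.DataReps

set_option autoImplicit false
set_option maxRecDepth 40000

namespace Cfsg.Agent.OEightThree

open Data

/-- The level `11` of the certificate. -/
theorem levelOK11 : LevelOK gens 11 reps11 reps12 :=
  levelOK_of_parts gens (k := 11) (R := reps11) (L := level11) (C := parts12) (n := 32) (P := 22) (by decide +kernel) (by decide +kernel)
    fun i hi => by interval_cases i <;> decide +kernel

end Cfsg.Agent.OEightThree
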