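/-
Elements of order three of `Ω₈⁺(3)`.

Main results: `exists_conj_rep` (each is conjugate to one of thirteen representatives),
`natCard_sylow`.
-/
import Cfsg.Agent.Lib.OEightThree.CheckBase
import Cfsg.Agent.Lib.OEightThree.CheckLevelsA
import Cfsg.Agent.Lib.OEightThree.CheckLevelsB
import Cfsg.Agent.Lib.OEightThree.CheckLevelsC
import Cfsg.Agent.Lib.OEightThree.CheckLevelsD
import Cfsg.Agent.Lib.OEightThree.CheckLevelsE
import Cfsg.Agent.Lib.OEightThree.CheckFinal
import Cfsg.Agent.S0287

set_option autoImplicit false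
open Cfsg

namespace Cfsg.Agent.OEightThree

open Data

attribute [local irreducible] mkElt eval code gens targets targetWords final reps12 live targetMat

/-- The group `Ω₈⁺(3)`. -/
noncomputable abbrev Om8 : Subgroup O8 := Omega (ZMod 3) ⇑Q8

/-- The representatives modulo term `k`. -/
def repsAt : ℕ → List (List ℕ)
  | 0 => reps0 | 1 => reps1 | 2 => reps2 | 3 => reps3 | 4 => reps4 | 5 => reps5 | 6 => reps6
  | 7 => reps7 | 8 => reps8 | 9 => reps9 | 10 => reps10 | 11 => reps11 | _ => reps12

theorem repsAt_zero : repsAt 0 = [one] := by decide +kernel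

theorem levelChecks : ∀ k < 12, LevelOK gens k (repsAt k) (repsAt (k + 1)) := by
  intro k hk
  interval_cases k
  exacts [levelOK0, levelOK1, levelOK2, levelOK3, levelOK4, levelOK5, levelOK6, levelOK7, levelOK8,
    levelOK9, levelOK10, levelOK11]

theorem eval_nil : eval gens [] = 1 := by unfold eval; exact List.prod_nil

theorem gen_mem_om {i : ℕ} (hi : i < 32) : gen gens i ∈ Om8 :=
  mem_omega_of_cube (gen_cube okGens cubesGens hi)

theorem eval_mem_om {w : List ℕ} (h : ∀ l ∈ w, l < 32) : eval gens w ∈ Om8 :=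
  eval_mem fun l hl => gen_mem_om (h l hl)

theorem chain_le_om : chain gens 0 ≤ Om8 := by
  refine (Subgroup.closure_le _).mpr ?_
  rintro _ ⟨i, -, hi, rfl⟩
  exact gen_mem_om (by omega)

theorem natCard_sylow : Nat.card (chain gens 0) = 3 ^ 12 :=
  natCard_chain okGens cubesGens (by norm_num) normalCheck orbitsCheck

theorem not_dvd_card_om : ¬ 3 ^ 13 ∣ Nat.card ↥Om8 := by
  intro h
  have h2 := h.trans (Subgroup.card_subgroup_dvd_card Om8)
  have hO : Nat.card O8 = _ :=
    Cfsg.Agent.S0287.result (F := ZMod 3) (ZMod.card 3) 4 (by norm_num)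
  rw [hO] at h2
  simp [Finset.prod_range_succ] at h2

/-- A representative. -/
noncomputable def rep (b : ℕ) : O8 := eval gens (targetWord b)

theorem rep_spec {b : ℕ} (hb : b < 13) : (∀ l ∈ targetWord b, l < 24) ∧
    mat (rep b) = toMat (targetMat b) ∧ rep b ∈ Om8 ∧ rep b ≠ 1 ∧ rep b ^ 3 = 1 := by
  have h := List.all_eq_true.mp targetsCheck b (List.mem_range.mpr hb)
  simp only [Bool.and_eq_true, bne_iff_ne, beq_iff_eq, List.all_eq_true, Nat.blt_eq] at h
  obtain ⟨⟨⟨hl, hc⟩, hne⟩, h3⟩ := h
  have hm : mat (rep b) = toMat (targetMat b) := by rw [← hc]; exact mat_eval okGens _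
  have hok : okMat (targetMat b) = true := hc ▸ okMat_code _
  refine ⟨hl, hm, eval_mem_om fun l hlw => lt_trans (hl l hlw) (by norm_num), fun he => hne ?_, ?_⟩
  · refine toMat_injective hok okMat_one ?_
    rw [← hm, he, toMat_one]
    exact Orth.coe_one_mat
  · refine mat_injective ?_
    rw [pow_three, show mat (1 : O8) = 1 from Orth.coe_one_mat, ← toMat_one, ← h3,
      toMat_mul hok (okMat_mul _ _), toMat_mul hok hok, ← hm]
    exact (Orth.coe_mul_mat _ _).trans (congrArg (mat (rep b) * ·) (Orth.coe_mul_mat _ _))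

theorem mat_conj {g h : O8} {w : List ℕ} {r t : List ℕ} (hr : okMat r = true) (ht : okMat t = true)
    (hg : mat g = toMat r) (hh : mat h = toMat t)
    (he : mul (code gens w) r = mul t (code gens w)) : eval gens w * g * (eval gens w)⁻¹ = h := by
  rw [mul_inv_eq_iff_eq_mul]
  refine mat_injective ((Orth.coe_mul_mat _ _).trans (Eq.trans ?_ (Orth.coe_mul_mat _ _).symm))
  show mat (eval gens w) * mat g = mat h * mat (eval gens w)
  rw [mat_eval okGens, hg, hh, ← toMat_mul (okMat_code _) hr, ← toMat_mul ht (okMat_code _), he]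

theorem exists_conj_of_final : ∀ a < reps12.length, ∀ g : O8, g ∈ Om8 →
    mat g = toMat (reps12.getD a []) → okMat (reps12.getD a []) = true → g ≠ 1 → g ^ 3 = 1 →
    ∃ b < 13, ∃ u ∈ Om8, u * g * u⁻¹ = rep b := by
  intro a
  induction a using Nat.strong_induction_on with
  | _ a ih =>
    intro ha g hgO hg hok hne h3
    have h := final_spec ha
    simp only [finalAt] at h
    split at h
    · simp only [Bool.and_eq_true, List.all_eq_true, Nat.blt_eq] at h
      obtain ⟨hw, h⟩ := h
      set e := final.getD a (reps12.length, 0)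
      have hu := eval_mem_om (w := word e.2) hw
      split at h
      · simp only [Bool.and_eq_true, Nat.blt_eq, beq_iff_eq] at h
        obtain ⟨hb, he⟩ := h
        obtain ⟨-, hm, -, -, -⟩ := rep_spec hb
        refine ⟨e.1, hb, _, hu, mat_conj hok ?_ hg hm he⟩
        have := List.all_eq_true.mp targetsCheck e.1 (List.mem_range.mpr hb)
        simp only [Bool.and_eq_true, beq_iff_eq] at this
        exact this.1.1.2 ▸ okMat_code _
      · simp only [Bool.and_eq_true, Nat.blt_eq, beq_iff_eq] at h
        obtain ⟨hp, he⟩ := h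
        have hokp : okMat (reps12.getD e.1 []) = true := by
          have hl : e.1 < reps12.length := hp.trans ha
          rw [List.getD_eq_getElem _ _ hl]
          exact levelOK11.1 _ (List.getElem_mem hl)
        set g' := eval gens (word e.2) * g * (eval gens (word e.2))⁻¹ with hg'
        have hg'm : mat g' = toMat (reps12.getD e.1 []) := by
          have h2 : mat g' * mat (eval gens (word e.2)) =
              toMat (reps12.getD e.1 []) * mat (eval gens (word e.2)) := by
            rw [show mat g' * mat (eval gens (word e.2)) = mat (g' * eval gens (word e.2)) from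
              (Orth.coe_mul_mat _ _).symm, hg', inv_mul_cancel_right, mat_eval okGens,
              ← toMat_mul hokp (okMat_code _), ← he, toMat_mul (okMat_code _) hok, ← mat_eval okGens,
              ← hg]
            exact Orth.coe_mul_mat _ _
          exact (Units.isUnit _).mul_right_cancel h2
        obtain ⟨b, hb, u, huO, hue⟩ := ih e.1 hp (hp.trans ha) g'
          (mul_mem (mul_mem hu hgO) (inv_mem hu)) hg'm hokp
          (fun h1 => hne (conj_eq_one_iff.mp h1))
          (by rw [hg', conj_pow, h3, mul_one, mul_inv_cancel])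
        refine ⟨b, hb, _, mul_mem huO hu, ?_⟩
        rw [← hue, hg']
        group
    · exfalso
      simp only [Bool.or_eq_true, bne_iff_ne, beq_iff_eq] at h
      rcases h with h | h
      · exact hne (mat_injective (by rw [hg, h, toMat_one]; exact Orth.coe_one_mat.symm))
      · refine h (toMat_injective (okMat_mul _ _) okMat_one ?_)
        rw [toMat_mul hok (okMat_mul _ _), toMat_mul hok hok, ← hg, toMat_one]
        have := congrArg mat h3
        rw [pow_three] at this
        rw [← show mat (g * (g * g)) = mat g * (mat g * mat g) from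
          (Orth.coe_mul_mat _ _).trans (congrArg (mat g * ·) (Orth.coe_mul_mat _ _)), this]
        exact Orth.coe_one_mat

/-- Each element of order three of `Ω` is conjugate there to a representative. -/
theorem exists_conj_rep {x : O8} (hxO : x ∈ Om8) (hne : x ≠ 1) (h3 : x ^ 3 = 1) :
    ∃ b < 13, ∃ u ∈ Om8, u * x * u⁻¹ = rep b := by
  classical
  have : Fact (Nat.Prime 3) := ⟨Nat.prime_three⟩
  set U := (chain gens 0).subgroupOf Om8 with hU
  have hUcard : Nat.card U = 3 ^ 12 := by
    rw [Nat.card_congr (Subgroup.subgroupOfEquivOfLe chain_le_om).toEquiv]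
    exact natCard_sylow
  have hfac : (Nat.card ↥Om8).factorization 3 = 12 := by
    refine le_antisymm ?_ ((Nat.prime_three.pow_dvd_iff_le_factorization Nat.card_pos.ne').mp
      (hUcard ▸ Subgroup.card_subgroup_dvd_card U))
    by_contra hlt
    exact not_dvd_card_om
      ((Nat.prime_three.pow_dvd_iff_le_factorization Nat.card_pos.ne').mpr (by omega))
  let S : Sylow 3 ↥Om8 := Sylow.ofCard U (by rw [hUcard, hfac])
  set x' : ↥Om8 := ⟨x, hxO⟩
  have hx : orderOf x' = 3 := by rw [← Subgroup.orderOf_coe]; exact orderOf_eq_prime h3 hne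
  obtain ⟨P, hP⟩ := (IsPGroup.of_card (p := 3) (n := 1) (G := Subgroup.zpowers x') (by
    rw [Nat.card_zpowers, hx]; rfl)).exists_le_sylow
  obtain ⟨g, hg⟩ := MulAction.exists_smul_eq (↥Om8) P S
  have hu : (g : O8) * x * (g : O8)⁻¹ ∈ chain gens 0 := by
    have : g * x' * g⁻¹ ∈ (S : Subgroup ↥Om8) := by
      rw [← hg, Sylow.coe_subgroup_smul, Subgroup.mem_pointwise_smul_iff_inv_smul_mem]
      have hx' : (MulAut.conj g)⁻¹ • (g * x' * g⁻¹) = x' := by simp [MulAut.smul_def, mul_assoc]
      rw [hx']
      exact hP (Subgroup.mem_zpowers x')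
    exact this
  obtain ⟨r, hr, hok, v, hv, he⟩ := exists_conj_of_levels okGens cubesGens (by norm_num) normalCheck
    squaresCheck repsAt repsAt_zero levelChecks hu
  have hr' : r ∈ reps12 := hr
  obtain ⟨a, ha, rfl⟩ := List.mem_iff_getElem.mp hr'
  rw [← List.getD_eq_getElem reps12 [] ha] at he hok
  set w : O8 := v * (g : O8) with hw
  have hwO : w ∈ Om8 := mul_mem (chain_le_om hv) g.2
  have hconj : v * ((g : O8) * x * (g : O8)⁻¹) * v⁻¹ = w * x * w⁻¹ := by rw [hw]; group
  rw [hconj] at he
  obtain ⟨b, hb, u, huO, hue⟩ := exists_conj_of_final a ha (w * x * w⁻¹)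
    (mul_mem (mul_mem hwO hxO) (inv_mem hwO)) he hok (fun h1 => hne (conj_eq_one_iff.mp h1))
    (by rw [conj_pow, h3, mul_one, mul_inv_cancel])
  exact ⟨b, hb, u * w, mul_mem huO hwO, by rw [← hue]; group⟩

end Cfsg.Agent.OEightThree
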