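import Cfsg.Agent.EqLemmas
import Mathlib.Data.ZMod.Basic
import Mathlib.Data.Fin.VecNotation
import Mathlib.Algebra.Group.Hom.Defs
import Mathlib.Tactic.DeriveFintype

/-
Coordinates for the elementary abelian group `J` of order 81: the form `q`, the maps induced by the generators
of the normaliser, orbit words, and the finite facts used in the frame.
-/

set_option autoImplicit false
set_option maxRecDepth 20000
set_option maxHeartbeats 2000000

namespace Cfsg.Agent.OEightThree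

/-- The coordinates of `J`. -/
abbrev V4 : Type := Fin 4 → ZMod 3

/-- The quadratic form. -/
def qf (x : V4) : ZMod 3 := x 0 * x 0 + x 1 * x 1 + x 2 * x 2 + x 3 * x 3

/-- The bilinear form. -/
def dot (x y : V4) : ZMod 3 := x 0 * y 0 + x 1 * y 1 + x 2 * y 2 + x 3 * y 3

/-- The vector of `z`. -/
def zv : V4 := ![0, 1, 1, 1]

/-- The vector of `a₁`. -/
def av : V4 := ![1, 0, 0, 0]

/-- The vector of `a₂`. -/
def a2v : V4 := ![0, 0, -1, 1]

/-- The vector of `j`. -/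
def jv : V4 := ![0, 1, -1, -1]

/-- The vector of `y`. -/
def yv : V4 := ![1, 0, -1, 1]

/-- The three classes of vectors of norm two. -/
def cls (x : V4) : ZMod 3 :=
  if x 0 = 0 then (if x 1 = 0 then 0 else if x 2 = 0 then 1 else 2)
  else if x 1 ≠ 0 then 0 else if x 2 ≠ 0 then 1 else 2

/-- Coordinate map. -/
def fT : V4 →+ V4 where
  toFun x := ![- x 0, x 1, x 2, x 3]
  map_zero' := by decide
  map_add' := by decide +kernel

/-- Coordinate map. -/
def fB1 : V4 →+ V4 where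
  toFun x := ![x 0 - x 1 - x 2 - x 3, x 0 - x 1 + x 2 + x 3, x 0 + x 1 - x 2 + x 3, x 0 + x 1 + x 2 - x 3]
  map_zero' := by decide
  map_add' := by decide +kernel

/-- Coordinate map. -/
def fB2 : V4 →+ V4 where
  toFun x := ![x 0, x 3, x 1, x 2]
  map_zero' := by decide
  map_add' := by decide +kernel

/-- Coordinate map. -/
def fG : V4 →+ V4 where
  toFun x := ![x 0 - x 1 + x 2 + x 3, x 0 + x 1 - x 2 + x 3, - x 0 + x 1 + x 2 + x 3, - x 0 - x 1 - x 2 + x 3]
  map_zero' := by decide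
  map_add' := by decide +kernel

/-- Coordinate map. -/
def fU : V4 →+ V4 where
  toFun x := ![x 0, x 1, x 3, x 2]
  map_zero' := by decide
  map_add' := by decide +kernel

/-- The four basic generators. -/
def genA : Fin 4 → (V4 →+ V4) := ![fT, fB1, fB2, fG]

/-- Evaluation of a word. -/
def evalW : List (Fin 4) → V4 → V4
  | [], x => x
  | i :: w, x => genA i (evalW w x)

/-- The code of a vector. -/
def code (x : V4) : ℕ := (x 0).val * 27 + (x 1).val * 9 + (x 2).val * 3 + (x 3).val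

/-- Orbit words. -/
def wordTable : List (List (Fin 4)) :=
  [[], [3, 3, 1], [1, 3, 1], [3, 0, 1], [2, 3, 3], [3, 2, 3], [3, 1, 1], [], [2, 2, 3], [1, 3, 3], [3, 3, 2, 3], [2], [3, 3], [], [3, 3, 2, 0, 3], [3, 1, 3], [3, 1, 0, 3, 3], [2, 2, 3, 0, 3], [1, 0, 3], [3, 2, 3, 2], [3], [2, 2], [1, 3, 3, 0, 3], [3, 0, 3], [2, 3], [2, 3, 0, 3], [3, 1, 3], [], [3, 2], [1, 3, 3], [0, 1, 3], [3, 2, 0, 3], [2, 0, 3, 3], [3, 3, 2, 2], [1, 1, 3], [3, 3, 0, 3], [2, 3, 2], [1, 3, 0, 3], [3], [0, 3, 1, 0, 3], [1], [3, 1, 0], [0, 3, 3], [2, 3, 3], [3], [0, 3, 3, 2], [1, 0, 3, 3], [2, 3, 3, 0, 3], [1, 3], [3, 3], [2, 3], [3, 2, 0, 3, 3], [0, 3, 1], [1, 1], [0], [0, 3, 2], [0, 1, 3, 3], [1, 3], [2, 3, 1, 0, 3], [1, 3, 3], [2, 3, 3, 2], [1, 0, 3], [3, 0, 3, 3], [3, 2, 2], [0, 1, 3, 0, 3], [0, 3], [3, 1, 0, 3], [0, 1], [0, 3, 1, 0], [3, 3], [2, 3, 0], [0, 3], [3, 3, 2], [3, 3, 1, 3], [3, 3, 1, 0, 3], [2, 0, 3], [3, 0], [2, 0, 3], [2, 3, 3, 1, 0, 3],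 [3, 1], [1, 0]]

/-- The word taking the base point of its orbit to a vector. -/
def wordOf (x : V4) : List (Fin 4) := wordTable.getD (code x) []

/-- Powers of the two unipotent maps. -/
def fB (i k : Fin 3) (x : V4) : V4 := (fB1)^[i.val] ((fB2)^[k.val] x)

theorem word_zero : ∀ x : V4, qf x = 0 → x ≠ 0 → evalW (wordOf x) zv = x := by decide +kernel

theorem word_one : ∀ x : V4, qf x = 1 → evalW (wordOf x) av = x := by decide +kernel

theorem word_two : ∀ x : V4, qf x = 2 → evalW (wordOf x) a2v = x := by decide +kernel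

theorem gen_qf : ∀ i : Fin 4, ∀ x : V4, qf (genA i x) = qf x := by decide +kernel

theorem fU_qf : ∀ x : V4, qf (fU x) = qf x := by decide +kernel

theorem gen_cls : ∀ i : Fin 4, ∀ x : V4, qf x = 2 → cls (genA i x) = cls x + (![0, 0, 1, 1] : Fin 4 → ZMod 3) i := by
  decide +kernel

theorem fU_cls : ∀ x : V4, qf x = 2 → cls (fU x) = - cls x := by decide +kernel

theorem fB_zero : ∀ i k : Fin 3, fB i k zv = zv := by decide +kernel

theorem fB_eq_id : ∀ i k : Fin 3, fB i k jv = jv → i = 0 ∧ k = 0 := by decide +kernel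

theorem fB_jv_mod : ∀ i k : Fin 3, ∀ m : ZMod 3, fB i k jv = jv + m • zv → i = 0 ∧ k = 0 := by decide +kernel

theorem fB_fix : ∀ i k : Fin 3, ∀ x : V4, dot x zv ≠ 0 → fB i k x = x → i = 0 ∧ k = 0 := by decide +kernel

theorem fB_comm : ∀ i k i' k' : Fin 3, ∀ x : V4, fB i k (fB i' k' x) = fB i' k' (fB i k x) := by decide +kernel

theorem fixed_line : ∀ x : V4, fB1 x = x → fB2 x = x → x = 0 ∨ x = zv ∨ x = -zv := by decide +kernel

theorem sq_image : ∀ x : V4, (∃ m : ZMod 3, fB2 (fB2 x) - fB2 x - (fB2 x - x) = m • zv) ∧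
    (∃ m : ZMod 3, fB1 (fB1 x) - fB1 x - (fB1 x - x) = m • zv) := by decide +kernel

theorem sq_image_z : (∃ x : V4, fB2 (fB2 x) - fB2 x - (fB2 x - x) = zv) ∧
    (∃ x : V4, fB1 (fB1 x) - fB1 x - (fB1 x - x) = zv) := by decide +kernel

theorem fB2_av : fB2 av = av := by decide +kernel

theorem fB1_a2v : fB1 a2v = a2v := by decide +kernel

theorem v4_span : ∀ x : V4, ∃ c k l m : ZMod 3, x = c • zv + k • av + l • a2v + m • jv := by decide +kernel

theorem v4_dot_zv : ∀ c k l m : ZMod 3, dot (c • zv + k • av + l • a2v + m • jv) zv = -m := by decide +kernel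

theorem good_hyperplane : ∀ n : V4, n ≠ 0 → ∃ x y : V4, dot n x = 0 ∧ dot n y = 0 ∧ qf x = 0 ∧ x ≠ 0 ∧ dot x y ≠ 0 := by
  decide +kernel

end Cfsg.Agent.OEightThree
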