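import Cfsg.Agent.Lib.Extraspecial.Basic
import Cfsg.Agent.Lib.Cores.Basic
import Cfsg.Prelude.Def_Transfer
import Cfsg.Prelude.Def_Solvable
import Mathlib.LinearAlgebra.Matrix.SpecialLinearGroup
import Mathlib.GroupTheory.Sylow

/-
The centraliser `C` of the element `z` generating the centre of the extraspecial group `Q` of order `3^5`:
`Pre` records the maps of `C` onto `SL(2,3)` and onto the factor of order two.
-/

set_option autoImplicit false
set_option maxRecDepth 10000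

namespace Cfsg.Agent.OEightThree

open scoped commutatorElement

/-- `SL(2,3)`. -/
abbrev SL23 : Type := Matrix.SpecialLinearGroup (Fin 2) (ZMod 3)

/-- The factor of order two. -/
abbrev Two : Type := Multiplicative (ZMod 2)

/-- Upper unipotent element. -/
def upU : SL23 := ⟨!![1, 1; 0, 1], by decide⟩

/-- Lower unipotent element. -/
def lowU : SL23 := ⟨!![1, 0; 1, 1], by decide⟩

/-- An element of order four. -/
def quI : SL23 := ⟨!![0, -1; 1, 0], by decide⟩

/-- Its conjugate. -/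
def quJ : SL23 := upU * quI * upU⁻¹

/-- The central involution. -/
def negI : SL23 := ⟨-1, by decide⟩

theorem sl23_unipotent_gen : upU ^ 3 = 1 ∧ lowU ^ 3 = 1 := by decide +kernel

theorem sl23_word : ∀ A : SL23, ∃ i k l n : Fin 3,
    A = upU ^ i.val * lowU ^ k.val * upU ^ l.val * lowU ^ n.val := by decide +kernel

theorem sl23_facts : quI * quI = negI ∧ quJ * quJ = negI ∧ quI * quJ = negI * (quJ * quI) ∧
    upU * quI = quJ * upU ∧ upU * quJ = quI * quJ * upU ∧ upU ^ 3 = 1 ∧ negI * negI = 1 ∧ negI ≠ 1 := by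
  decide +kernel

theorem sl23_gen : ∀ A : SL23, ∃ a b : Fin 4, ∃ c : Fin 3,
    A = quI ^ a.val * quJ ^ b.val * upU ^ c.val := by decide +kernel

theorem negI_central : ∀ A : SL23, negI * A = A * negI := by decide +kernel

/-- The data of the centraliser of `z`. -/
structure Pre (G : Type*) [Group G] where
  z : G
  Q : Subgroup G
  π : G → SL23
  ε : G → Two
  z_ne : z ≠ 1
  z_mem : z ∈ Q
  centre : ∀ q ∈ Q, (∀ r ∈ Q, q * r = r * q) → q ∈ Subgroup.zpowers z
  z_comm : ∀ q ∈ Q, q * z = z * q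
  comm : ∀ q ∈ Q, ∀ r ∈ Q, ⁅q, r⁆ ∈ Subgroup.zpowers z
  exp : ∀ q ∈ Q, q ^ 3 = 1
  card : Nat.card Q = 243
  cent : Subgroup.centralizer (Q : Set G) ≤ Q
  normal : ∀ g : G, g * z = z * g → ∀ q ∈ Q, g * q * g⁻¹ ∈ Q
  π_mul : ∀ g h : G, g * z = z * g → h * z = z * h → π (g * h) = π g * π h
  ε_mul : ∀ g h : G, g * z = z * g → h * z = z * h → ε (g * h) = ε g * ε h
  ker : ∀ g : G, g * z = z * g → ((π g = 1 ∧ ε g = 1) ↔ g ∈ Q)
  surj : ∀ A : SL23, ∃ g : G, g * z = z * g ∧ π g = A ∧ ε g = 1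
  three : ∀ P : Subgroup G, IsPGroup 3 P → Nat.card P ≤ 729
  fused : ∃ x : G, x * z * x⁻¹ ∈ Q ∧ x * z * x⁻¹ ∉ Subgroup.zpowers z

/-- A subgroup with exactly one non-trivial chief factor under `K`, in the form used here. -/
structure Chain {G : Type*} [Group G] (P : Pre G) where
  r : ℕ
  A : Fin (r + 1) → Subgroup G
  i0 : Fin r
  first : A 0 = Subgroup.zpowers P.z
  last : A (Fin.last r) = P.Q
  mono : ∀ i : Fin r, A i.castSucc < A i.succ
  inv : ∀ i : Fin (r + 1), ∀ k : G, k * P.z = P.z * k → P.ε k = 1 → ∀ a ∈ A i, k * a * k⁻¹ ∈ A i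
  maxi : ∀ i : Fin r, ∀ B : Subgroup G, A i.castSucc < B → B < A i.succ →
    ∃ k : G, k * P.z = P.z * k ∧ P.ε k = 1 ∧ ∃ b ∈ B, k * b * k⁻¹ ∉ B
  nontriv : ∃ k : G, k * P.z = P.z * k ∧ P.ε k = 1 ∧ ∃ a ∈ A i0.succ, k * a * k⁻¹ * a⁻¹ ∉ A i0.castSucc
  triv : ∀ i : Fin r, i ≠ i0 → ∀ k : G, k * P.z = P.z * k → P.ε k = 1 → ∀ a ∈ A i.succ,
    k * a * k⁻¹ * a⁻¹ ∈ A i.castSucc

theorem exists_hom {G : Type*} [Group G] {C : Subgroup G} {X : Type*} [Group X] (f : C →* X) :
    ∃ F : G → X, (∀ g h, g ∈ C → h ∈ C → F (g * h) = F g * F h) ∧ ∀ g : C, F g = f g := by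
  classical
  refine ⟨fun g => if hg : g ∈ C then f ⟨g, hg⟩ else 1, fun g h hg hh => ?_, fun g => dif_pos g.2⟩
  simp only [dif_pos hg, dif_pos hh, dif_pos (mul_mem hg hh), ← map_mul]
  rfl

/-- The hypotheses of the recognition theorem give `Pre` and a chain. -/
theorem exists_pre {G : Type*} [Group G] [Finite G]
    (S : Sylow 3 G) (Z : Subgroup G) (hZ : Z = (S : Subgroup G) ⊓ Subgroup.centralizer ((S : Subgroup G) : Set G))
    (C : Subgroup G) (hCZ : C = Subgroup.centralizer (Z : Set G))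
    (Q : Subgroup G) (hQ : Q = (Cfsg.pCore 3 C).map C.subtype)
    (hQex : Cfsg.IsExtraspecial 3 Q) (hQcard : Nat.card Q = 3 ^ 5) (hQexp : ∀ a ∈ Q, a ^ 3 = 1)
    (hCQ : Subgroup.centralizer (Q : Set G) ≤ Q)
    (hZQ : ∃ x : G, Z.map (MulAut.conj x).toMonoidHom ≤ Q ∧ Z.map (MulAut.conj x).toMonoidHom ≠ Z)
    (K : Subgroup G) (hK : K = ((Cfsg.pResidual 2 (C ⧸ Cfsg.pCore 3 C)).comap (QuotientGroup.mk' (Cfsg.pCore 3 C))).map C.subtype)
    (r : ℕ) (A : Fin (r + 1) → Subgroup G) (hA0 : A 0 = Z) (hAr : A (Fin.last r) = Q)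
    (hmono : ∀ i : Fin r, A i.castSucc < A i.succ)
    (hinv : ∀ i : Fin (r + 1), ∀ k ∈ K, ∀ a ∈ A i, k * a * k⁻¹ ∈ A i)
    (hmax : ∀ i : Fin r, ∀ B : Subgroup G, A i.castSucc < B → B < A i.succ → ∃ k ∈ K, ∃ b ∈ B, k * b * k⁻¹ ∉ B)
    (e : Nonempty (C ⧸ Cfsg.pCore 3 C ≃* Matrix.SpecialLinearGroup (Fin 2) (ZMod 3)) ∨
      Nonempty (C ⧸ Cfsg.pCore 3 C ≃* Matrix.SpecialLinearGroup (Fin 2) (ZMod 3) × Multiplicative (ZMod 2)))
    (hone : ∃! i : Fin r, (∃ k ∈ K, ∃ a ∈ A i.succ, k * a * k⁻¹ * a⁻¹ ∉ A i.castSucc)) :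
    ∃ P : Pre G, Nonempty (Chain P) := by
  classical
  have : Fact (Nat.Prime 3) := ⟨Nat.prime_three⟩
  -- the core lies in the Sylow subgroup
  have hSC : (S : Subgroup G) ≤ C := by
    rw [hCZ, hZ, Subgroup.le_centralizer_iff]
    exact inf_le_right
  have hQS : Q ≤ S := by
    let S' : Sylow 3 C := S.subtype hSC
    rw [hQ]
    rintro _ ⟨q, hq, rfl⟩
    exact Cores.pCore_le_sylow S' hq
  have hQC : Q ≤ C := hQS.trans hSC
  -- the centre of `Q`
  have hZcard : Nat.card ((Subgroup.center Q).map Q.subtype) = 3 := by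
    rw [Subgroup.card_map_of_injective Q.subtype_injective, hQex.2]
  have hZc : Z ≤ (Subgroup.center Q).map Q.subtype := by
    intro x hx
    rw [hZ] at hx
    have hxQ : x ∈ Q := hCQ (Subgroup.mem_centralizer_iff.2 fun q hq =>
      Subgroup.mem_centralizer_iff.1 hx.2 q (hQS hq))
    exact ⟨⟨x, hxQ⟩, Subgroup.mem_center_iff.2 fun q => Subtype.ext
      (Subgroup.mem_centralizer_iff.1 hx.2 q (hQS q.2)), rfl⟩
  have hZne : Z ≠ ⊥ := by
    have hnt : Nontrivial (S : Subgroup G) := by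
      refine Finite.one_lt_card_iff_nontrivial.1 ?_
      have := Subgroup.card_le_of_le hQS
      omega
    obtain ⟨w, hw, hw1⟩ := (Subgroup.bot_or_exists_ne_one (Subgroup.center (S : Subgroup G))).resolve_left
      (S.2.bot_lt_center).ne'
    intro hb
    refine hw1 (Subtype.ext ?_)
    have : (w : G) ∈ Z := by
      rw [hZ]
      exact ⟨w.2, Subgroup.mem_centralizer_iff.2 fun s hs =>
        congrArg Subtype.val (Subgroup.mem_center_iff.1 hw ⟨s, hs⟩)⟩
    rw [hb, Subgroup.mem_bot] at this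
    exact this
  obtain ⟨z, hzZ, hz1⟩ := (Subgroup.bot_or_exists_ne_one Z).resolve_left hZne
  obtain ⟨zq, hzc, hzeq⟩ := hZc hzZ
  have hzq : z ∈ Q := hzeq ▸ zq.2
  have hzo : orderOf z = 3 := orderOf_eq_prime (hQexp z hzq) hz1
  have hpow : (Subgroup.center Q).map Q.subtype = Subgroup.zpowers z := by
    symm
    refine Subgroup.eq_of_le_of_card_ge (Subgroup.zpowers_le.2 ⟨zq, hzc, hzeq⟩) ?_
    rw [hZcard, Nat.card_zpowers, hzo]
  have hZz : Z = Subgroup.zpowers z :=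
    le_antisymm (hZc.trans hpow.le) (Subgroup.zpowers_le.2 hzZ)
  have hC : ∀ g : G, g * z = z * g ↔ g ∈ C := by
    intro g
    rw [hCZ, hZz, Subgroup.zpowers_eq_closure, Subgroup.centralizer_closure,
      Subgroup.mem_centralizer_singleton_iff]
  -- the maps
  set N := Cfsg.pCore 3 C
  obtain ⟨f, hf, hfs⟩ : ∃ f : C ⧸ N →* SL23 × Two, Function.Injective f ∧
      ∀ a : SL23, ∃ c, f c = (a, 1) := by
    rcases e with ⟨⟨e⟩⟩ | ⟨⟨e⟩⟩
    · exact ⟨(MonoidHom.inl SL23 Two).comp e.toMonoidHom, fun a b h => e.injective (by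
        simpa using congrArg Prod.fst h), fun a => ⟨e.symm a, by simp⟩⟩
    · exact ⟨e.toMonoidHom, e.injective, fun a => ⟨e.symm (a, 1), by simp⟩⟩
  obtain ⟨π, hπ, hπe⟩ := exists_hom ((MonoidHom.fst SL23 Two).comp (f.comp (QuotientGroup.mk' N)))
  obtain ⟨ε, hε, hεe⟩ := exists_hom ((MonoidHom.snd SL23 Two).comp (f.comp (QuotientGroup.mk' N)))
  have hmemQ : ∀ c : C, (c : G) ∈ Q ↔ c ∈ N := fun c => by
    rw [hQ]
    exact ⟨fun ⟨d, hd, hdc⟩ => (Subtype.ext hdc : d = c) ▸ hd, fun h => ⟨c, h, rfl⟩⟩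
  have hker : ∀ g : G, g ∈ C → ((π g = 1 ∧ ε g = 1) ↔ g ∈ Q) := by
    intro g hg
    rw [show g = ((⟨g, hg⟩ : C) : G) from rfl, hπe, hεe, hmemQ]
    simp only [MonoidHom.comp_apply, MonoidHom.coe_fst, MonoidHom.coe_snd, QuotientGroup.mk'_apply]
    rw [← QuotientGroup.eq_one_iff, ← map_eq_one_iff f hf, Prod.ext_iff]
    rfl
  -- `K` covers the kernel of the second map
  have hKmem : ∀ g : G, g ∈ C → ε g = 1 → g ∈ K := by
    intro g hg hge
    have hR : ∀ a : SL23, ∀ c, f c = (a, 1) → c ∈ Cfsg.pResidual 2 (C ⧸ N) := by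
      have h3 : ∀ a : SL23, a ^ 3 = 1 → ∀ c, f c = (a, 1) → c ∈ Cfsg.pResidual 2 (C ⧸ N) := by
        intro a ha c hc
        refine Subgroup.subset_closure (Nat.Coprime.coprime_dvd_left
          (orderOf_dvd_of_pow_eq_one (x := c) (n := 3) (hf ?_)) (by norm_num))
        rw [map_pow, hc, map_one, Prod.pow_mk, ha, one_pow]
        rfl
      intro a c hc
      obtain ⟨i, k, l, n, rfl⟩ := sl23_word a
      obtain ⟨u, hu⟩ := hfs upU
      obtain ⟨w, hw⟩ := hfs lowU
      have : c = u ^ i.val * w ^ k.val * u ^ l.val * w ^ n.val := hf (by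
        rw [hc]; simp [hu, hw])
      have hu' := h3 _ sl23_unipotent_gen.1 u hu
      have hw' := h3 _ sl23_unipotent_gen.2 w hw
      exact this ▸ mul_mem (mul_mem (mul_mem (pow_mem hu' _) (pow_mem hw' _)) (pow_mem hu' _))
        (pow_mem hw' _)
    rw [hK]
    refine ⟨⟨g, hg⟩, ?_, rfl⟩
    refine hR _ _ (Prod.ext rfl ?_)
    have := hεe ⟨g, hg⟩
    exact this.symm.trans hge
  have hKC : ∀ k ∈ K, k * z = z * k ∧ ε k = 1 := by
    rw [hK]
    rintro _ ⟨c, hc, rfl⟩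
    refine ⟨(hC _).2 c.2, ?_⟩
    have hle : Cfsg.pResidual 2 (C ⧸ N) ≤ ((MonoidHom.snd SL23 Two).comp f).ker := by
      refine (Subgroup.closure_le _).2 fun d (hd : Nat.Coprime (orderOf d) 2) => ?_
      have h2 : orderOf (((MonoidHom.snd SL23 Two).comp f) d) ∣ 2 :=
        orderOf_dvd_of_pow_eq_one (by
          have : ∀ x : Two, x ^ 2 = 1 := by decide
          exact this _)
      exact orderOf_eq_one_iff.1 (Nat.eq_one_of_dvd_coprimes hd (orderOf_map_dvd _ d) h2)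
    exact (hεe c).trans (hle hc)
  obtain ⟨x, hxQ, hxne⟩ := hZQ
  have hexm : ∀ a b : Q, ⁅a, b⁆ ∈ Subgroup.center Q := Extraspecial.commutatorElement_mem_center hQex
  let P : Pre G :=
    { z := z
      Q := Q
      π := π
      ε := ε
      z_ne := hz1
      z_mem := hzq
      centre := fun q hq hc => hpow ▸ ⟨⟨q, hq⟩, Subgroup.mem_center_iff.2 fun r =>
        Subtype.ext (hc r r.2).symm, rfl⟩
      z_comm := fun q hq => (hC q).2 (hQC hq)
      comm := fun q hq r hr => hpow ▸ ⟨⁅(⟨q, hq⟩ : Q), ⟨r, hr⟩⁆, hexm _ _, rfl⟩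
      exp := hQexp
      card := by rw [hQcard]; norm_num
      cent := hCQ
      normal := fun g hg q hq => by
        rw [hQ] at hq ⊢
        obtain ⟨c, hc, rfl⟩ := hq
        exact ⟨⟨g, (hC g).1 hg⟩ * c * ⟨g, (hC g).1 hg⟩⁻¹,
          (inferInstance : N.Normal).conj_mem c hc _, rfl⟩
      π_mul := fun g h hg hh => hπ g h ((hC g).1 hg) ((hC h).1 hh)
      ε_mul := fun g h hg hh => hε g h ((hC g).1 hg) ((hC h).1 hh)
      ker := fun g hg => hker g ((hC g).1 hg)
      surj := fun a => by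
        obtain ⟨c, hc⟩ := hfs a
        obtain ⟨c, rfl⟩ := QuotientGroup.mk_surjective c
        exact ⟨c, (hC _).2 c.2, (hπe c).trans (congrArg Prod.fst hc), (hεe c).trans (congrArg Prod.snd hc)⟩
      three := fun R hR => by
        obtain ⟨T, hT⟩ := hR.exists_le_sylow
        have hTS : Nat.card (T : Subgroup G) = Nat.card (S : Subgroup G) := by
          rw [T.card_eq_multiplicity, S.card_eq_multiplicity]
        refine (Subgroup.card_le_of_le hT).trans (hTS.le.trans ?_)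
        obtain ⟨m, hm⟩ := IsPGroup.iff_card.1 S.2
        have h1 : Nat.card N = 243 := by
          rw [← Subgroup.card_map_of_injective C.subtype_injective, ← hQ, hQcard]; norm_num
        have hSL : Nat.card SL23 = 24 := by rw [Nat.card_eq_fintype_card]; decide +kernel
        have h2 : Nat.card (C ⧸ N) ∣ 48 := by
          refine (Subgroup.card_dvd_of_injective f hf).trans ?_
          rw [Nat.card_prod, hSL, Nat.card_eq_fintype_card (α := Two)]
          rfl
        have h3 : Nat.card (S : Subgroup G) ∣ 243 * 48 := by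
          refine (Subgroup.card_dvd_of_le hSC).trans ?_
          rw [Subgroup.card_eq_card_quotient_mul_card_subgroup N, h1, mul_comm]
          exact Nat.mul_dvd_mul_left _ h2
        rw [hm] at h3 ⊢
        have h4 : 3 ^ m ∣ 729 := by
          have : (3 ^ m).Coprime 16 := Nat.Coprime.pow_left m (by norm_num)
          exact this.dvd_of_dvd_mul_right (by norm_num at h3 ⊢; exact h3)
        exact Nat.le_of_dvd (by norm_num) h4
      fused := by
        refine ⟨x, hxQ ⟨z, hzZ, rfl⟩, fun h => hxne ?_⟩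
        rw [hZz, MonoidHom.map_zpowers]
        refine Subgroup.eq_of_le_of_card_ge (Subgroup.zpowers_le.2 h) ?_
        rw [Nat.card_zpowers, Nat.card_zpowers]
        exact le_of_eq (orderOf_injective (MulAut.conj x).toMonoidHom (MulAut.conj x).injective z).symm }
  obtain ⟨i0, hi0, huniq⟩ := hone
  refine ⟨P, ⟨⟨r, A, i0, hA0.trans hZz, hAr, hmono, ?_, ?_, ?_, ?_⟩⟩⟩
  · exact fun i k hk hke => hinv i k (hKmem k ((hC k).1 hk) hke)
  · intro i B h1 h2
    obtain ⟨k, hk, hb⟩ := hmax i B h1 h2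
    exact ⟨k, (hKC k hk).1, (hKC k hk).2, hb⟩
  · obtain ⟨k, hk, ha⟩ := hi0
    exact ⟨k, (hKC k hk).1, (hKC k hk).2, ha⟩
  · intro i hi k hk hke a ha
    by_contra h
    exact hi (huniq i ⟨k, hKmem k ((hC k).1 hk) hke, a, ha, h⟩)

end Cfsg.Agent.OEightThree
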