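import Cfsg.Agent.Lib.OEightThree.CoordTwo
import Cfsg.Agent.Lib.OEightThree.Pre

/-
Finite facts for the normaliser of `J`: the involutory maps normalising the unipotent group, and
the elements of `SL(2,3)` normalising a subgroup of order three.
-/

set_option autoImplicit false
set_option maxRecDepth 20000
set_option maxHeartbeats 4000000
set_option synthInstance.maxSize 8000
set_option synthInstance.maxHeartbeats 400000

namespace Cfsg.Agent.OEightThree

/-- A linear map by its values on `a₁, a₂, j`, fixing `z`. -/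
def mkF (pa pa2 pj x : V4) : V4 := cZ x • zv + x 0 • pa + cA2 x • pa2 + cJ x • pj

/-- The elements of the stabiliser of `z`. -/
def fC (e u : Fin 2) (i k : Fin 3) (x : V4) : V4 := (fT)^[e.val] ((fU)^[u.val] (fB i k x))

theorem invol_class : ∀ pa : V4, cJ pa = 0 → ∀ pa2 : V4, cJ pa2 = 0 →
    mkF pa pa2 0 pa = av → mkF pa pa2 0 pa2 = a2v →
    ∀ i k : Fin 3, mkF pa pa2 0 (fB1 av) = fB i k pa → mkF pa pa2 0 (fB1 a2v) = fB i k pa2 →
    ∀ i' k' : Fin 3, mkF pa pa2 0 (fB2 av) = fB i' k' pa → mkF pa pa2 0 (fB2 a2v) = fB i' k' pa2 →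
    ∀ pj : V4, cJ pj = 1 → mkF pa pa2 pj pj = jv →
    mkF pa pa2 pj (fB1 jv) = fB i k pj → mkF pa pa2 pj (fB2 jv) = fB i' k' pj →
    ∃ e u : Fin 2, ∃ p r : Fin 3, fC e u p r av = pa ∧ fC e u p r a2v = pa2 ∧ fC e u p r jv = pj := by
  decide +kernel

theorem fC_mkF : ∀ e u : Fin 2, ∀ p r : Fin 3, ∀ x : V4,
    mkF (fC e u p r av) (fC e u p r a2v) (fC e u p r jv) x = fC e u p r x := by decide +kernel

theorem fC_props : ∀ e u : Fin 2, ∀ p r : Fin 3, ∀ x : V4, qf (fC e u p r x) = qf x ∧ cJ zv = 0 ∧ fC e u p r zv = zv := by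
  decide +kernel


theorem fC_cls : ∀ e u : Fin 2, ∀ p r : Fin 3, ∀ x : V4, qf x = 2 →
    cls (fC e u p r x) = (![1, -1] : Fin 2 → ZMod 3) u * (cls x + (r.val : ZMod 3)) := by decide +kernel

theorem fC_cube : ∀ e u : Fin 2, ∀ p r : Fin 3, fC e u p r (fC e u p r (fC e u p r av)) = av →
    fC e u p r (fC e u p r (fC e u p r a2v)) = a2v → fC e u p r (fC e u p r (fC e u p r jv)) = jv → e = 0 ∧ u = 0 := by
  decide +kernel

theorem sl23_norm : ∀ S A : SL23, S ^ 3 = 1 → S ≠ 1 → (A * S * A⁻¹ = S ∨ A * S * A⁻¹ = S * S) →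
    ∃ i : Fin 3, A = S ^ i.val ∨ A = negI * S ^ i.val := by
  decide +kernel

theorem dot_qf : ∀ x y : V4, dot x y = -(qf (x + y) - qf x - qf y) := by
  intro x y
  have h3 : (3 : ZMod 3) = 0 := rfl
  simp only [dot, qf, Pi.add_apply]
  linear_combination (x 0 * y 0 + x 1 * y 1 + x 2 * y 2 + x 3 * y 3) * h3

theorem eig_one : ∀ u : V4, ∀ m : ZMod 3, u ≠ 0 → (fB1 u = m • u → fB1 u = u) ∧ (fB2 u = m • u → fB2 u = u) := by
  decide +kernel

/-- The coordinate vectors. -/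
def unitV : Fin 4 → V4 := ![![1, 0, 0, 0], ![0, 1, 0, 0], ![0, 0, 1, 0], ![0, 0, 0, 1]]

theorem unit_expand : ∀ x : V4, x = x 0 • unitV 0 + x 1 • unitV 1 + x 2 • unitV 2 + x 3 • unitV 3 := by decide +kernel

theorem gen_periods : (∀ x, fB1 (fB1 (fB1 x)) = x) ∧ (∀ x, fB2 (fB2 (fB2 x)) = x) ∧ (∀ x, fT (fT x) = x) ∧
    (∀ x, fB1 (fB2 x) = fB2 (fB1 x)) := by decide +kernel

theorem iterate_fin {α : Type*} {n : ℕ} [NeZero n] {f : α → α} (h : ∀ x, f^[n] x = x) (a b : Fin n) (x : α) :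
    f^[a.val] (f^[b.val] x) = f^[(a + b).val] x := by
  rw [← Function.iterate_add_apply, Fin.val_add]
  conv_lhs => rw [← Nat.mod_add_div (a.val + b.val) n]
  rw [Function.iterate_add_apply, Function.iterate_mul]
  congr 1
  exact Function.iterate_fixed (h x) _

theorem fB_add (p r p' r' : Fin 3) (x : V4) : fB p r (fB p' r' x) = fB (p + p') (r + r') x := by
  have hc : Function.Commute (fB1 : V4 → V4) fB2 := gen_periods.2.2.2
  rw [fB, fB, fB, ← ((hc.iterate_iterate p'.val r.val).eq _), iterate_fin (n := 3) (f := fB1) gen_periods.1,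
    iterate_fin (n := 3) (f := fB2) gen_periods.2.1]

theorem fC_compose : ∀ e0 e : Fin 2, ∀ p r p' r' : Fin 3, ∃ (e' : Fin 2) (p'' r'' : Fin 3),
    ∀ x, (fT)^[e0.val] (fC e 1 p r (fB p' r' x)) = fC e' 1 p'' r'' x := by
  intro e0 e p r p' r'
  exact ⟨e0 + e, p + p', r + r', fun x => by rw [fC, fC, fB_add, iterate_fin (n := 2) (f := fT) gen_periods.2.2.1]⟩

theorem fB1_comm : ∀ p r : Fin 3, ∀ x : V4, fB1 (fB p r x) = fB p r (fB1 x) := by decide +kernel

theorem fB2_comm : ∀ p r : Fin 3, ∀ x : V4, fB2 (fB p r x) = fB p r (fB2 x) := by decide +kernel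

end Cfsg.Agent.OEightThree
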