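import Cfsg.Agent.Lib.OEightThree.Coord
import Mathlib.Algebra.Module.Pi
import Mathlib.Algebra.Field.ZMod
import Mathlib.Tactic.LinearCombination
import Mathlib.Tactic.Abel
import Mathlib.Tactic.Ring

/-
Coefficients in the basis `z, a₁, a₂, j`, the map of `g` before normalisation and the change of `j`.
-/

set_option autoImplicit false
set_option maxRecDepth 20000
set_option maxHeartbeats 2000000

namespace Cfsg.Agent.OEightThree

/-- Coefficient of `j`. -/
def cJ (x : V4) : ZMod 3 := -(x 1 + x 2 + x 3)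

/-- Coefficient of `a₂`. -/
def cA2 (x : V4) : ZMod 3 := -(x 3 - x 2)

/-- Coefficient of `z`. -/
def cZ (x : V4) : ZMod 3 := x 1 - cJ x

theorem coeff_add : ∀ x y : V4, cJ (x + y) = cJ x + cJ y ∧ cA2 (x + y) = cA2 x + cA2 y ∧ cZ (x + y) = cZ x + cZ y := by
  intro x y
  simp only [cJ, cA2, cZ, Pi.add_apply]
  refine ⟨?_, ?_, ?_⟩ <;> ring

theorem coeff_expand : ∀ x : V4, x = cZ x • zv + x 0 • av + cA2 x • a2v + cJ x • jv := by decide +kernel

theorem plane_add : ∀ x y : V4, dot x zv = 0 → dot y zv = 0 → dot (x + y) zv = 0 := by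
  intro x y hx hy
  simp only [dot, Pi.add_apply, add_mul] at *
  linear_combination hx + hy

theorem plane_neg : ∀ x : V4, dot x zv = 0 → dot (-x) zv = 0 := by decide +kernel

theorem plane_sub : ∀ x : V4, dot (x - cJ x • jv) zv = 0 := by decide +kernel

theorem plane_move : ∀ i k : Fin 3, ∀ m : ZMod 3, ∀ y : V4, cJ y ≠ 0 → fB i k y = m • zv + y → i = 0 ∧ k = 0 := by
  decide +kernel

/-- The map of `g` before normalisation. -/
def fGk (κ ρ : ZMod 3) (x : V4) : V4 :=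
  x 0 • (av + jv + κ • zv + ρ • yv) + cZ x • (zv + yv) + cA2 x • (yv - (av + jv + κ • zv + ρ • yv)) + cJ x • jv

/-- Change of `j` by a multiple of `z`. -/
def gauge (μ : ZMod 3) (x : V4) : V4 := x + (μ * cJ x) • zv

/-- The map of `w`. -/
def fW (x : V4) : V4 := fB1 (fB2 (fB2 x))

/-- The map of `b₁ b₁ g`, applied twice. -/
def h2k (κ ρ : ZMod 3) (x : V4) : V4 := fB1 (fB1 (fGk κ ρ (fB1 (fB1 (fGk κ ρ x)))))

theorem h2k_order : ∀ κ ρ : ZMod 3, κ + ρ ≠ 0 → (∀ x, (h2k κ ρ)^[9] x = x) ∧ ∃ x, (h2k κ ρ)^[3] x ≠ x := by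
  decide +kernel

theorem gauge_comm : ∀ μ : ZMod 3, ∀ x : V4, gauge μ (fT x) = fT (gauge μ x) ∧ gauge μ (fB1 x) = fB1 (gauge μ x) ∧
    gauge μ (fB2 x) = fB2 (gauge μ x) ∧ dot (gauge μ x) zv = dot x zv ∧ gauge μ zv = zv := by
  decide +kernel

theorem gauge_g : ∀ κ : ZMod 3, ∀ x : V4, fGk κ (-κ) ((fW)^[κ.val] (gauge (-κ) x)) = gauge (-κ) (fG x) := by
  decide +kernel

theorem gauge_inv : ∀ μ : ZMod 3, ∀ x : V4, gauge (-μ) (gauge μ x) = x := by decide +kernel

theorem gauge_add : ∀ μ : ZMod 3, ∀ x y : V4, gauge μ (x + y) = gauge μ x + gauge μ y := by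
  intro μ x y
  simp only [gauge, (coeff_add x y).1, mul_add, add_smul]
  abel

theorem fB_mem_plane : ∀ x : V4, dot x zv = 0 ↔ cJ x = 0 := by decide +kernel

end Cfsg.Agent.OEightThree
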