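import Cfsg.Agent.Lib.OEightThree.Base

/-
The element `j`: it commutes with `t`, centralises `A = ⟨z,a₁,a₂⟩` and lies in the second extraspecial group.
`J = C_G(A) = A × ⟨j⟩` is elementary abelian of order 81.
-/

set_option autoImplicit false
set_option maxRecDepth 10000

namespace Cfsg.Agent.OEightThree

open scoped commutatorElement

variable {G : Type*} [Group G] [Finite G]

theorem zmod3_mul_self : ∀ u : ZMod 3, u ≠ 0 → u * u = 1 := by decide

theorem zmod3_neg_one_val : (-(1 : ZMod 3)).val = 2 := rfl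

theorem zmod3_double : ∀ d : ZMod 3, -1 = d + d → d = 1 := by decide

theorem comm_sup_zpowers {A : Subgroup G} {g : G} (hA : ∀ a ∈ A, ∀ b ∈ A, a * b = b * a)
    (hg : ∀ a ∈ A, a * g = g * a) :
    ∀ u ∈ A ⊔ Subgroup.zpowers g, ∀ v ∈ A ⊔ Subgroup.zpowers g, u * v = v * u := by
  have h : A ⊔ Subgroup.zpowers g ≤
      Subgroup.centralizer ((A ⊔ Subgroup.zpowers g : Subgroup G) : Set G) := by
    have heq : A ⊔ Subgroup.zpowers g = Subgroup.closure ((A : Set G) ∪ {g}) := by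
      rw [Subgroup.closure_union, Subgroup.closure_eq, ← Subgroup.zpowers_eq_closure]
    rw [heq, Subgroup.centralizer_closure]
    refine (Subgroup.closure_le _).2 ?_
    intro u hu
    rw [SetLike.mem_coe, Subgroup.mem_centralizer_iff]
    rintro v (hv | rfl) <;> rcases hu with hu | rfl
    · exact hA v hv u hu
    · exact hg v hv
    · exact (hg u hu).symm
    · rfl
  exact fun u hu v hv => (Subgroup.mem_centralizer_iff.1 (h hu) v hv).symm

namespace Setup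

variable (U : Setup G)

theorem Zs_le_abelian {A : Subgroup G} (hA : A ≤ U.Q) (hc : ∀ a ∈ A, ∀ b ∈ A, a * b = b * a)
    (h27 : Nat.card A = 27) : U.z ∈ A := by
  have hle : A ⊔ Subgroup.zpowers U.z ≤ U.Q := sup_le hA U.Zs_le
  have h := U.card_abelian hle (comm_sup_zpowers hc fun a ha => U.z_comm a (hA ha))
  have := Subgroup.eq_of_le_of_card_ge (le_sup_left : A ≤ A ⊔ Subgroup.zpowers U.z) (by rw [h27]; exact h)
  rw [this]
  exact Subgroup.mem_sup_right (Subgroup.mem_zpowers _)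

theorem cent_in_Q {A : Subgroup G} (hA : A ≤ U.Q) (hc : ∀ a ∈ A, ∀ b ∈ A, a * b = b * a)
    (h27 : Nat.card A = 27) {x : G} (hx : x ∈ U.Q) (hxA : ∀ a ∈ A, a * x = x * a) : x ∈ A := by
  have hle : A ⊔ Subgroup.zpowers x ≤ U.Q := sup_le hA (Subgroup.zpowers_le.2 hx)
  have h := U.card_abelian hle (comm_sup_zpowers hc hxA)
  have := Subgroup.eq_of_le_of_card_ge (le_sup_left : A ≤ A ⊔ Subgroup.zpowers x) (by rw [h27]; exact h)
  rw [this]
  exact Subgroup.mem_sup_right (Subgroup.mem_zpowers _)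

/-- The centraliser of a maximal abelian subgroup of `Q` is a 3-group of order at most 81. -/
theorem cent_abelian {A : Subgroup G} (hA : A ≤ U.Q) (hc : ∀ a ∈ A, ∀ b ∈ A, a * b = b * a)
    (h27 : Nat.card A = 27) :
    IsPGroup 3 ↥(Subgroup.centralizer (A : Set G)) ∧ Nat.card ↥(Subgroup.centralizer (A : Set G)) ≤ 81 := by
  have : Fact (Nat.Prime 3) := ⟨Nat.prime_three⟩
  set CA := Subgroup.centralizer (A : Set G)
  have hCC : ∀ g ∈ CA, U.InC g := fun g hg =>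
    (Subgroup.mem_centralizer_iff.1 hg U.z (U.Zs_le_abelian hA hc h27)).symm
  have h3 : IsPGroup 3 CA := by
    have key : ∀ p : ℕ, p.Prime → p ≠ 3 → ¬ p ∣ Nat.card CA := by
      intro p hp hp3 hdvd
      have : Fact p.Prime := ⟨hp⟩
      obtain ⟨⟨g, hg⟩, ho⟩ := exists_prime_orderOf_dvd_card' p hdvd
      rw [Subgroup.orderOf_mk] at ho
      have hgC := hCC g hg
      have hgQ : g ∈ U.Q := U.cent (Subgroup.mem_centralizer_iff.2 fun q hq => by
        set c := g * q * g⁻¹ * q⁻¹ with hcdef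
        have hcQ : c ∈ U.Q := mul_mem (U.normal g hgC q hq) (inv_mem hq)
        have hcA : c ∈ A := U.cent_in_Q hA hc h27 hcQ fun a ha => by
          have ha' : g * a * g⁻¹ = a := by
            rw [← Subgroup.mem_centralizer_iff.1 hg a ha, mul_inv_cancel_right]
          rw [← U.f_zero (hA ha) hcQ, hcdef, U.f_mul_right (hA ha) (U.normal g hgC q hq) (inv_mem hq),
            U.f_inv_right (hA ha) hq]
          nth_rw 1 [← ha']
          rw [U.f_conj hgC (hA ha) hq, add_neg_cancel]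
        have hpow : ∀ n : ℕ, g ^ n * q * (g ^ n)⁻¹ = c ^ n * q := by
          intro n
          induction n with
          | zero => simp
          | succ n ih =>
            have hgc : Commute g (c ^ n) :=
              Commute.pow_right ((Subgroup.mem_centralizer_iff.1 hg c hcA).symm) n
            calc g ^ (n + 1) * q * (g ^ (n + 1))⁻¹ = g * (g ^ n * q * (g ^ n)⁻¹) * g⁻¹ := by
                  rw [pow_succ']; group
              _ = g * c ^ n * q * g⁻¹ := by rw [ih]; group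
              _ = c ^ n * (g * q * g⁻¹) := by rw [hgc.eq]; group
              _ = c ^ n * (c * q) := by rw [hcdef, inv_mul_cancel_right]
              _ = _ := by rw [← mul_assoc, ← pow_succ]
        have h := hpow p
        rw [← ho, pow_orderOf_eq_one, one_mul, inv_one, mul_one, eq_comm, mul_eq_right, ho] at h
        have h1 : orderOf c ∣ p := orderOf_dvd_of_pow_eq_one h
        have h2 : orderOf c ∣ 3 := orderOf_dvd_of_pow_eq_one (U.exp c hcQ)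
        have hc1 : c = 1 := orderOf_eq_one_iff.1 (Nat.eq_one_of_dvd_coprimes
          ((Nat.coprime_primes hp Nat.prime_three).2 hp3) h1 h2)
        rw [hcdef, mul_inv_eq_one, mul_inv_eq_iff_eq_mul] at hc1
        exact hc1.symm)
      have : p ∣ 3 := ho ▸ orderOf_dvd_of_pow_eq_one (U.exp g hgQ)
      rcases (Nat.dvd_prime Nat.prime_three).1 this with e | e
      · exact hp.one_lt.ne' e
      · exact hp3 e
    rw [IsPGroup.iff_card]
    obtain ⟨n, m, hm, hnm⟩ := Nat.exists_eq_pow_mul_and_not_dvd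
      (n := Nat.card CA) Nat.card_pos.ne' 3 (by norm_num)
    refine ⟨n, ?_⟩
    rcases eq_or_ne m 1 with rfl | hm1
    · rw [hnm, mul_one]
    · obtain ⟨p, hp, hpm⟩ := Nat.exists_prime_and_dvd hm1
      exact absurd (hnm ▸ hpm.mul_left _) (key p hp fun e => hm (e ▸ hpm))
  refine ⟨h3, ?_⟩
  let φ : ↥CA →* SL23 × Two := MonoidHom.mk' (fun g => (U.π g, U.ε g)) fun g h =>
    Prod.ext (U.π_mul _ _ (hCC g g.2) (hCC h h.2)) (U.ε_mul _ _ (hCC g g.2) (hCC h h.2))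
  have hker : Nat.card φ.ker ≤ 27 := by
    rw [← h27]
    have hmem : ∀ g : φ.ker, ((g.1 : CA) : G) ∈ A := fun g => by
      refine U.cent_in_Q hA hc h27 ((U.ker _ (hCC _ g.1.2)).1 (Prod.ext_iff.1 g.2)) fun a ha => ?_
      exact Subgroup.mem_centralizer_iff.1 g.1.2 a ha
    let ψ : φ.ker → A := fun g => ⟨_, hmem g⟩
    exact Nat.card_le_card_of_injective ψ fun g h e =>
      Subtype.ext (Subtype.ext (congrArg (fun a : A => (a : G)) e :))
  have hrange : Nat.card φ.range ≤ 3 := by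
    obtain ⟨k, hk⟩ := IsPGroup.iff_card.1 (h3.of_surjective φ.rangeRestrict φ.rangeRestrict_surjective)
    have hd := Subgroup.card_subgroup_dvd_card φ.range
    rw [Nat.card_prod, card_SL23, Nat.card_eq_fintype_card (α := Two), hk] at hd
    rw [hk]
    rcases k with - | - | k
    · norm_num
    · norm_num
    · have h9 : (9 : ℕ) ∣ 24 * Fintype.card Two := (Nat.pow_dvd_pow 3 (show 2 ≤ k + 2 by omega)).trans hd
      exact absurd h9 (by decide)
  have h := Subgroup.card_mul_index φ.ker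
  rw [Subgroup.index_ker] at h
  rw [← h]
  exact Nat.mul_le_mul hker hrange

end Setup

/-- The configuration before the choice of `g`. -/
structure Elem (G : Type*) [Group G] [Finite G] where
  U : Setup G
  V : Setup G
  vconj : ∃ x, V.z = x * U.z * x⁻¹ ∨ V.z = x * U.z⁻¹ * x⁻¹
  a1 : G
  b1 : G
  a2 : G
  b2 : G
  j : G
  a1_mem : a1 ∈ U.Q1
  b1_mem : b1 ∈ U.Q1
  a2_mem : a2 ∈ U.Q2
  b2_mem : b2 ∈ U.Q2
  a1_t : U.t * a1 * U.t = a1⁻¹
  b1_t : U.t * b1 * U.t = b1⁻¹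
  f1 : U.f b1 a1 = 1
  f2 : U.f b2 a2 = 1
  y_eq : Subgroup.zpowers (a1 * a2) = V.Zs
  z_V : U.z ∈ V.Q
  j_C : U.InC j
  j_t : U.t * j * U.t = j
  j_pi : U.π j ≠ 1
  j_cube : j ^ 3 = 1
  j_a1 : a1 * j = j * a1
  j_a2 : a2 * j = j * a2
  j_b1 : b1 * j * b1⁻¹ = j * a1 * U.z⁻¹
  j_b2 : b2 * j * b2⁻¹ = j * a2⁻¹ * U.z
  j_V : j ∈ V.Q
  /-- an element of the intersection acting as `b₁ b₂⁻¹` -/
  w : G
  w_U : w ∈ U.Q
  w_V : w ∈ V.Q
  w_a1 : U.f w a1 = 1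
  w_a2 : U.f w a2 = -1

theorem sandwich {t s x y : G} (ht : t * t = 1) (hx : t * x * t = y) (hs : Commute s t) :
    t * ⁅x, s⁆ * t = ⁅y, s⁆ := by
  have hti : t⁻¹ = t := inv_eq_of_mul_eq_one_right ht
  have hs' : t * s * t = s := by rw [← hs.eq, mul_assoc, ht, mul_one]
  have e := map_commutatorElement (MulAut.conj t).toMonoidHom x s
  simp only [MulEquiv.coe_toMonoidHom, MulAut.conj_apply, hti] at e
  rwa [hx, hs'] at e

namespace Setup

variable (U : Setup G)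

theorem exists_inverted {a : G} (ha : a ∈ U.Q1) :
    ∃ m : ZMod 3, U.t * (a * U.z ^ m.val) * U.t = (a * U.z ^ m.val)⁻¹ := by
  obtain ⟨m, hm⟩ := U.exists_exp (U.t_inverts ha)
  refine ⟨m, ?_⟩
  have h1 : U.t * a * U.t = a⁻¹ * U.z ^ m.val := by rw [← hm, inv_mul_cancel_left]
  have h2 : U.t * U.z ^ m.val * U.t = U.z ^ m.val := by
    rw [(Commute.pow_right (U.t_C : Commute U.t U.z) _).eq, mul_assoc, U.t_sq, mul_one]
  calc U.t * (a * U.z ^ m.val) * U.t = (U.t * a * U.t) * (U.t * U.z ^ m.val * U.t) := by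
        rw [show (U.t * a * U.t) * (U.t * U.z ^ m.val * U.t) = U.t * a * (U.t * U.t) * U.z ^ m.val * U.t by group,
          U.t_sq, mul_one]
        group
    _ = a⁻¹ * (U.z ^ m.val * U.z ^ m.val) := by rw [h1, h2, mul_assoc]
    _ = _ := by
      have hz3 : U.z ^ m.val * U.z ^ m.val = (U.z ^ m.val)⁻¹ := by
        rw [eq_inv_iff_mul_eq_one, mul_assoc, ← pow_three, U.exp _ (pow_mem U.z_mem _)]
      rw [hz3, mul_inv_rev]
      exact ((Commute.pow_right (U.z_comm a ha.1 : Commute a U.z) _).inv_inv).eq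

theorem comm_s_zero {s a : G} (hsC : U.InC s) (hst : Commute s U.t) (ha : a ∈ U.Q)
    (hat : U.t * a * U.t = a⁻¹) (h : ⁅a, s⁆ ∈ U.Zs) : a * s = s * a := by
  rw [← commutatorElement_eq_one_iff_mul_comm]
  have h1 := sandwich U.t_sq hat hst
  have h2 : U.t * ⁅a, s⁆ * U.t = ⁅a, s⁆ := by
    rw [U.Zs_C h U.inC_t, mul_assoc, U.t_sq, mul_one]
  rw [h2] at h1
  have h3 : ⁅a⁻¹, s⁆ = ⁅a, s⁆⁻¹ := by
    have := U.Zs_central (inv_mem h) (inv_mem ha)
    rw [show ⁅a⁻¹, s⁆ = a⁻¹ * ⁅a, s⁆⁻¹ * a by simp only [commutatorElement_def]; group, this, inv_mul_cancel_right]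
  rw [h3] at h1
  have h4 : ⁅a, s⁆ * ⁅a, s⁆ = 1 := by rw [← eq_inv_iff_mul_eq_one]; exact h1
  calc ⁅a, s⁆ = ⁅a, s⁆ ^ 3 * (⁅a, s⁆ * ⁅a, s⁆)⁻¹ := by rw [pow_three]; group
    _ = 1 := by rw [U.exp _ (U.Zs_le h), h4, inv_one, mul_one]

end Setup

namespace Setup

theorem comm_Zs_mul {s x c : G} (U : Setup G) (hsC : U.InC s) (hc : c ∈ U.Zs) : ⁅x * c, s⁆ = ⁅x, s⁆ := by
  have h := U.Zs_C hc hsC
  simp only [commutatorElement_def]
  calc x * c * s * (x * c)⁻¹ * s⁻¹ = x * (c * s) * c⁻¹ * x⁻¹ * s⁻¹ := by group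
    _ = _ := by rw [← h]; group

theorem mem_Zs_pow (U : Setup G) {n : ℕ} : U.z ^ n ∈ U.Zs := pow_mem (Subgroup.mem_zpowers _) _

theorem inter_trivial (U V : Setup G) (hy : V.z ∉ U.Zs) {x : G} (h1 : x ∈ U.Zs) (h2 : x ∈ V.Zs) : x = 1 := by
  obtain ⟨k, rfl⟩ := V.exists_exp h2
  by_contra hne
  apply hy
  have hk : k ≠ 0 := fun h => hne (by simp [h])
  rcases zmod3_val _ hk with e | e <;> rw [e] at h1
  · simpa using h1
  · have h3 := V.exp _ V.z_mem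
    have := pow_mem h1 2
    rwa [← pow_mul, show 2 * 2 = 3 + 1 by norm_num, pow_add, h3, one_mul, pow_one] at this

theorem conj_eq (U : Setup G) {g q : G} (hg : g ∈ U.Q) (hq : q ∈ U.Q) :
    g * q * g⁻¹ = q * U.z ^ (U.f g q).val := by
  rw [← U.f_spec hg hq]
  have h := U.Zs_central (U.comm g hg q hq) hq
  rw [h]
  simp [commutatorElement_def, mul_assoc]

end Setup

set_option maxHeartbeats 800000 in
theorem Base.exists_elem (B : Base G) : Nonempty (Elem G) := by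
  have : Fact (Nat.Prime 3) := ⟨Nat.prime_three⟩
  set U := B.U with hUdef
  set V := B.L.V with hVdef
  have hsC := B.s_C
  have hti := U.t_inv
  obtain ⟨m, hm⟩ := U.exists_inverted B.p1.mem_a
  obtain ⟨n, hn⟩ := U.exists_inverted B.p1.mem_b
  set A1 := B.a1 * U.z ^ m.val with hA1
  set b1 := B.b1 * U.z ^ n.val with hb1
  set A2 := B.a2 * (U.z ^ m.val)⁻¹ with hA2
  set b2 := B.b2 with hb2
  have hA1m : A1 ∈ U.Q1 := mul_mem B.p1.mem_a (U.Zs_le_Q1 U.mem_Zs_pow)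
  have hb1m : b1 ∈ U.Q1 := mul_mem B.p1.mem_b (U.Zs_le_Q1 U.mem_Zs_pow)
  have hA2m : A2 ∈ U.Q2 := mul_mem B.a2_mem (inv_mem (U.Zs_le_Q2 U.mem_Zs_pow))
  have hb2m : b2 ∈ U.Q2 := B.b2_mem
  have hy : A1 * A2 = B.a1 * B.a2 := by
    have h := U.Zs_central (a := U.z ^ m.val) U.mem_Zs_pow B.a2_mem.1
    rw [hA1, hA2, mul_assoc, ← mul_assoc (U.z ^ m.val), ← h, mul_inv_cancel_right]
  have hyV : Subgroup.zpowers (A1 * A2) = V.Zs := by
    rw [hy]
    refine Subgroup.eq_of_le_of_card_ge (Subgroup.zpowers_le.2 B.y_eq) ?_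
    rw [V.card_Zs, Nat.card_zpowers]
    refine le_of_eq (orderOf_eq_prime (V.exp _ (V.Zs_le B.y_eq)) fun h => B.y_not (h ▸ one_mem _)).symm
  have hyVz : A1 * A2 ∈ V.Zs := hyV ▸ Subgroup.mem_zpowers _
  have f1 : U.f b1 A1 = 1 := by
    rw [hb1, hA1, U.f_congr_right (mul_mem B.p1.mem_b.1 (U.Zs_le U.mem_Zs_pow)) B.p1.mem_a.1
      (by simpa using U.mem_Zs_pow), U.f_congr_left B.p1.mem_b.1 B.p1.mem_a.1 (by simpa using U.mem_Zs_pow)]
    exact B.f1
  have f2 : U.f b2 A2 = 1 := by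
    rw [hA2, U.f_congr_right B.b2_mem.1 B.a2_mem.1 (by simpa using inv_mem U.mem_Zs_pow)]
    exact B.f2
  have o : ∀ p ∈ U.Q1, ∀ q ∈ U.Q2, U.f p q = 0 ∧ U.f q p = 0 := fun p hp q hq => by
    have := (U.mem_Q1.1 hp).2 q hq
    exact ⟨this, by rw [U.f_swap hp.1 hq.1, this, neg_zero]⟩
  have oc : ∀ p ∈ U.Q1, ∀ q ∈ U.Q2, p * q = q * p := fun p hp q hq => (U.f_zero hp.1 hq.1).1 (o p hp q hq).1
  -- the abelian subgroup
  set A := U.Zs ⊔ Subgroup.zpowers A1 ⊔ Subgroup.zpowers A2 with hA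
  have hAQ : A ≤ U.Q :=
    sup_le (sup_le U.Zs_le (Subgroup.zpowers_le.2 hA1m.1)) (Subgroup.zpowers_le.2 hA2m.1)
  have hAc : ∀ u ∈ A, ∀ v ∈ A, u * v = v * u :=
    comm_sup_zpowers (comm_sup_zpowers (fun u hu v hv => (U.Zs_central hu (U.Zs_le hv)).symm)
      fun u hu => (U.Zs_central hu hA1m.1).symm) fun u hu => by
        have : U.Zs ⊔ Subgroup.zpowers A1 ≤ U.Q1 := sup_le U.Zs_le_Q1 (Subgroup.zpowers_le.2 hA1m)
        exact oc u (this hu) A2 hA2m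
  have hzA : U.z ∈ A := Subgroup.mem_sup_left (Subgroup.mem_sup_left (Subgroup.mem_zpowers _))
  have hA1A : A1 ∈ A := Subgroup.mem_sup_left (Subgroup.mem_sup_right (Subgroup.mem_zpowers _))
  have hA2A : A2 ∈ A := Subgroup.mem_sup_right (Subgroup.mem_zpowers _)
  have hA27 : Nat.card A = 27 := by
    refine le_antisymm (U.card_abelian hAQ hAc) ?_
    have h1 : A1 ∉ U.Zs := fun h => by simp [U.f_Zs_right hb1m.1 h] at f1
    have h9 := U.card_sup_zpowers hA1m.1 h1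
    have hlt : U.Zs ⊔ Subgroup.zpowers A1 < A := lt_of_le_not_ge le_sup_left fun h => by
      have hle : U.Zs ⊔ Subgroup.zpowers A1 ≤ U.Q1 := sup_le U.Zs_le_Q1 (Subgroup.zpowers_le.2 hA1m)
      simp [(o A2 (hle (h hA2A)) b2 hb2m).2] at f2
    have h3 : IsPGroup 3 A := fun u => ⟨1, Subtype.ext (by simpa using U.exp u (hAQ u.2))⟩
    obtain ⟨k, hk⟩ := IsPGroup.iff_card.1 h3
    have hlt' : 9 < Nat.card A := h9.trans_lt (lt_of_le_of_ne (Subgroup.card_le_of_le hlt.le) fun h =>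
      hlt.ne (Subgroup.eq_of_le_of_card_ge hlt.le h.ge))
    rw [hk] at hlt' ⊢
    calc (27 : ℕ) = 3 ^ 3 := by norm_num
      _ ≤ 3 ^ k := Nat.pow_le_pow_right (by norm_num) (by
          by_contra h
          have : 3 ^ k ≤ 3 ^ 2 := Nat.pow_le_pow_right (by norm_num) (by omega)
          omega)
  -- coordinates in `A`
  have hAcoord : ∀ u ∈ A, ∃ c ∈ U.Zs, u = A1 ^ (U.f b1 u).val * A2 ^ (U.f b2 u).val * c := by
    intro u hu
    set p := A1 ^ (U.f b1 u).val * A2 ^ (U.f b2 u).val with hp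
    have hpA : p ∈ A := mul_mem (pow_mem hA1A _) (pow_mem hA2A _)
    refine ⟨p⁻¹ * u, ?_, by group⟩
    have hx : p⁻¹ * u ∈ A := mul_mem (inv_mem hpA) hu
    have z0 : ∀ v ∈ A, U.f (p⁻¹ * u) v = 0 := fun v hv =>
      (U.f_zero (hAQ hx) (hAQ hv)).2 (hAc _ hx v hv)
    refine U.mem_Zs_of_four hA1m hb1m hA2m hb2m (by rw [f1]; exact one_ne_zero) (by rw [f2]; exact one_ne_zero) (hAQ hx)
      (z0 A1 hA1A) ?_ (z0 A2 hA2A) ?_
    · rw [U.f_swap hb1m.1 (hAQ hx), U.f_mul_right hb1m.1 (inv_mem (hAQ hpA)) (hAQ hu), U.f_inv_right hb1m.1 (hAQ hpA),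
        hp, U.f_mul_right hb1m.1 (pow_mem hA1m.1 _) (pow_mem hA2m.1 _), U.f_pow_right hb1m.1 hA1m.1,
        U.f_pow_right hb1m.1 hA2m.1, f1, (o b1 hb1m A2 hA2m).1, ZMod.natCast_zmod_val]
      ring
    · rw [U.f_swap hb2m.1 (hAQ hx), U.f_mul_right hb2m.1 (inv_mem (hAQ hpA)) (hAQ hu), U.f_inv_right hb2m.1 (hAQ hpA),
        hp, U.f_mul_right hb2m.1 (pow_mem hA1m.1 _) (pow_mem hA2m.1 _), U.f_pow_right hb2m.1 hA1m.1,
        U.f_pow_right hb2m.1 hA2m.1, f2, (o A1 hA1m b2 hb2m).2, ZMod.natCast_zmod_val, ZMod.natCast_zmod_val]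
      ring
  -- the first element
  have hA1s : A1 * B.s = B.s * A1 := U.comm_s_zero hsC B.s_t hA1m.1 hm (by
    rw [hA1, U.comm_Zs_mul hsC U.mem_Zs_pow]; exact B.p1.fixed)
  obtain ⟨e, he⟩ := U.exists_exp (show ⁅A2, B.s⁆ ∈ U.Zs by
    rw [hA2, U.comm_Zs_mul hsC (inv_mem U.mem_Zs_pow)]; exact B.fixed2)
  set q := b2 ^ e.val with hq
  have hqm : q ∈ U.Q2 := pow_mem hb2m _
  set s1 := q * B.s with hs1
  have hs1C : U.InC s1 := U.inC_mul (U.inC_Q hqm.1) hsC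
  have hs1π : U.π s1 = U.π B.L.d := by
    rw [hs1, U.π_mul _ _ (U.inC_Q hqm.1) hsC, ((U.ker q (U.inC_Q hqm.1)).2 hqm.1).1, one_mul, B.s_pi]
  have hs1t : Commute s1 U.t := Commute.mul_left (U.mem_Q2.1 hqm).2 B.s_t
  have hA1s1 : A1 * s1 = s1 * A1 := by
    rw [hs1, ← mul_assoc, oc A1 hA1m q hqm, mul_assoc, hA1s, ← mul_assoc]
  have hA2s1 : A2 * s1 = s1 * A2 := by
    rw [← commutatorElement_eq_one_iff_mul_comm, hs1, show ⁅A2, q * B.s⁆ = ⁅A2, q⁆ * (q * ⁅A2, B.s⁆ * q⁻¹) by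
      simp only [commutatorElement_def]; group, he, U.Zs_central U.mem_Zs_pow hqm.1, mul_inv_cancel_right,
      U.f_spec hA2m.1 hqm.1, ← pow_add, U.zpow_mod]
    simp [hq, U.f_pow_right hA2m.1 hb2m.1, U.f_swap hb2m.1 hA2m.1, f2]
  obtain ⟨σ, hσ⟩ := U.exists_exp (show ⁅b2, s1⁆ * A2 ∈ U.Zs by
    rw [hs1, show ⁅b2, q * B.s⁆ = ⁅b2, q⁆ * (q * ⁅b2, B.s⁆ * q⁻¹) by simp only [commutatorElement_def]; group,
      mul_assoc]
    refine mul_mem (U.comm _ hb2m.1 _ hqm.1) ?_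
    have hc := U.commutator_mem hsC hb2m.1
    rw [show q * ⁅b2, B.s⁆ * q⁻¹ * A2 = ⁅q, ⁅b2, B.s⁆⁆ * (⁅b2, B.s⁆ * A2) by
      simp only [commutatorElement_def (g₁ := q)]; group]
    refine mul_mem (U.comm _ hqm.1 _ hc) ?_
    rw [hA2, ← mul_assoc]
    exact mul_mem B.step2 (inv_mem U.mem_Zs_pow))
  obtain ⟨δ, hδ⟩ := U.exists_exp (show ⁅b1, s1⁆⁻¹ * A1 ∈ U.Zs by
    rw [hs1, show ⁅b1, q * B.s⁆ = ⁅b1, q⁆ * (q * ⁅b1, B.s⁆ * q⁻¹) by simp only [commutatorElement_def]; group,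
      commutatorElement_eq_one_iff_mul_comm.2 (oc b1 hb1m q hqm), one_mul, hb1, U.comm_Zs_mul hsC U.mem_Zs_pow]
    have hc : ⁅B.b1, B.s⁆ ∈ U.Q1 := by
      rw [show ⁅B.b1, B.s⁆ = B.b1 * (B.s * B.b1⁻¹ * B.s⁻¹) by simp only [commutatorElement_def]; group]
      exact mul_mem B.p1.mem_b (U.Q1_normal hsC (inv_mem B.p1.mem_b))
    rw [← oc _ hc q hqm, mul_inv_cancel_right, hA1, ← mul_assoc]
    exact mul_mem B.p1.step U.mem_Zs_pow)
  set ν := 1 - σ with hν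
  set j := s1 * A2 ^ ν.val with hj
  have hjC : U.InC j := U.inC_mul hs1C (U.inC_Q (pow_mem hA2m.1 _))
  have hjπ : U.π j = U.π B.L.d := by
    rw [hj, U.π_mul _ _ hs1C (U.inC_Q (pow_mem hA2m.1 _)),
      ((U.ker _ (U.inC_Q (pow_mem hA2m.1 _))).2 (pow_mem hA2m.1 _)).1, mul_one, hs1π]
  have hjt : U.t * j * U.t = j := by
    have : Commute j U.t := Commute.mul_left hs1t (Commute.pow_left (U.mem_Q2.1 hA2m).2 _)
    rw [← this.eq, mul_assoc, U.t_sq, mul_one]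
  have hA1j : A1 * j = j * A1 := by
    rw [hj, ← mul_assoc, hA1s1, mul_assoc, oc A1 hA1m _ (pow_mem hA2m _), ← mul_assoc]
  have hA2j : A2 * j = j * A2 := by
    rw [hj, ← mul_assoc, hA2s1, mul_assoc, ← pow_succ', pow_succ, ← mul_assoc]
  have hzc : ∀ (k : ℕ) (g : G), U.InC g → g * U.z ^ k = U.z ^ k * g := fun k g hg =>
    (Commute.pow_right hg k).eq
  -- action of the elements `b`
  have hjb2 : b2 * j * b2⁻¹ = j * A2⁻¹ * U.z := by
    have h1 : b2 * s1 * b2⁻¹ = s1 * A2⁻¹ * U.z ^ σ.val := by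
      have e1 : b2 * s1 * b2⁻¹ = ⁅b2, s1⁆ * s1 := by simp only [commutatorElement_def]; group
      have e2 : ⁅b2, s1⁆ = U.z ^ σ.val * A2⁻¹ := by rw [← hσ, mul_inv_cancel_right]
      rw [e1, e2, mul_assoc, ← (Commute.inv_right (hA2s1.symm : Commute s1 A2)).eq, ← mul_assoc, ← hzc _ _ hs1C,
        mul_assoc, ← hzc _ _ (U.inC_inv (U.inC_Q hA2m.1)), ← mul_assoc]
    have h2 : b2 * A2 ^ ν.val * b2⁻¹ = A2 ^ ν.val * U.z ^ ν.val := by
      rw [U.conj_eq hb2m.1 (pow_mem hA2m.1 _), U.f_pow_right hb2m.1 hA2m.1, f2]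
      simp
    rw [hj, show b2 * (s1 * A2 ^ ν.val) * b2⁻¹ = (b2 * s1 * b2⁻¹) * (b2 * A2 ^ ν.val * b2⁻¹) by group, h1, h2,
      mul_assoc, ← mul_assoc (U.z ^ σ.val), ← hzc _ _ (U.inC_pow (U.inC_Q hA2m.1) _), mul_assoc (A2 ^ ν.val),
      ← pow_add, U.zpow_mod]
    simp only [Nat.cast_add, ZMod.natCast_zmod_val]
    rw [hν, add_sub_cancel, ZMod.val_one, pow_one]
    have hcc : A2⁻¹ * A2 ^ (1 - σ).val = A2 ^ (1 - σ).val * A2⁻¹ :=
      (Commute.pow_right (Commute.inv_left (Commute.refl A2)) _).eq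
    rw [mul_assoc s1 A2⁻¹, ← mul_assoc A2⁻¹, hcc]
    group
  have hjb1 : b1 * j * b1⁻¹ = j * A1 * U.z⁻¹ := by
    have h1 : b1 * s1 * b1⁻¹ = s1 * A1 * (U.z ^ δ.val)⁻¹ := by
      have e1 : b1 * s1 * b1⁻¹ = ⁅b1, s1⁆ * s1 := by simp only [commutatorElement_def]; group
      have e2 : ⁅b1, s1⁆ = A1 * (U.z ^ δ.val)⁻¹ := by rw [← hδ]; group
      rw [e1, e2, mul_assoc, ← (Commute.inv_right (hzc δ.val _ hs1C : Commute s1 (U.z ^ δ.val))).eq, ← mul_assoc,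
        hA1s1]
    have h2 : b1 * A2 ^ ν.val * b1⁻¹ = A2 ^ ν.val := by
      rw [oc b1 hb1m _ (pow_mem hA2m _), mul_inv_cancel_right]
    have h3 : b1 * j * b1⁻¹ = j * A1 * (U.z ^ δ.val)⁻¹ := by
      rw [hj, show b1 * (s1 * A2 ^ ν.val) * b1⁻¹ = (b1 * s1 * b1⁻¹) * (b1 * A2 ^ ν.val * b1⁻¹) by group, h1, h2,
        mul_assoc s1, mul_assoc s1, mul_assoc s1, mul_assoc A1,
        ← (Commute.inv_right (hzc δ.val _ (U.inC_pow (U.inC_Q hA2m.1) ν.val) : Commute (A2 ^ ν.val) (U.z ^ δ.val))).eq,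
        ← mul_assoc A1, oc A1 hA1m _ (pow_mem hA2m _), ← mul_assoc]
    -- apply `t`
    have hzt : U.t * (U.z ^ δ.val)⁻¹ * U.t = (U.z ^ δ.val)⁻¹ := by
      rw [U.Zs_C (inv_mem U.mem_Zs_pow) U.inC_t, mul_assoc, U.t_sq, mul_one]
    have htb : U.t * b1⁻¹ * U.t = b1 := by
      have := congrArg (·⁻¹) hn
      simp only [mul_inv_rev, inv_inv, hti] at this
      rw [mul_assoc]; exact this
    have h4 : b1⁻¹ * j * b1 = j * A1⁻¹ * (U.z ^ δ.val)⁻¹ := by
      have h := congrArg (fun g => U.t * g * U.t) h3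
      have e1 : U.t * (b1 * j * b1⁻¹) * U.t = (U.t * b1 * U.t) * (U.t * j * U.t) * (U.t * b1⁻¹ * U.t) := by
        rw [show (U.t * b1 * U.t) * (U.t * j * U.t) * (U.t * b1⁻¹ * U.t)
          = U.t * b1 * (U.t * U.t) * j * (U.t * U.t) * b1⁻¹ * U.t by group, U.t_sq]
        group
      have e2 : U.t * (j * A1 * (U.z ^ δ.val)⁻¹) * U.t
          = (U.t * j * U.t) * (U.t * A1 * U.t) * (U.t * (U.z ^ δ.val)⁻¹ * U.t) := by
        rw [show (U.t * j * U.t) * (U.t * A1 * U.t) * (U.t * (U.z ^ δ.val)⁻¹ * U.t)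
          = U.t * j * (U.t * U.t) * A1 * (U.t * U.t) * (U.z ^ δ.val)⁻¹ * U.t by group, U.t_sq]
        group
      rw [e1, e2, hjt, hn, hm, hzt, htb] at h
      exact h
    have h5 : (b1⁻¹ * j * b1) * (b1⁻¹ * A1 * b1) * (b1⁻¹ * (U.z ^ δ.val)⁻¹ * b1) = j := by
      calc _ = b1⁻¹ * (j * A1 * (U.z ^ δ.val)⁻¹) * b1 := by group
        _ = j := by rw [← h3]; group
    rw [h4] at h5
    have h6 : b1⁻¹ * A1 * b1 = A1 * U.z ^ (-(1 : ZMod 3)).val := by
      have := U.conj_eq (inv_mem hb1m.1) hA1m.1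
      rw [inv_inv, U.f_inv_left hb1m.1 hA1m.1, f1] at this
      exact this
    have h7 : b1⁻¹ * (U.z ^ δ.val)⁻¹ * b1 = (U.z ^ δ.val)⁻¹ := by
      rw [U.Zs_central (inv_mem U.mem_Zs_pow) (inv_mem hb1m.1), inv_mul_cancel_right]
    rw [h6, h7] at h5
    have h8 : A1⁻¹ * (U.z ^ δ.val)⁻¹ * (A1 * U.z ^ (-(1 : ZMod 3)).val) * (U.z ^ δ.val)⁻¹ = 1 := by
      have h := h5
      rw [mul_assoc j, mul_assoc j, mul_assoc j, mul_eq_left] at h
      exact h
    have h9 : A1⁻¹ * (U.z ^ δ.val)⁻¹ * A1 = (U.z ^ δ.val)⁻¹ := by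
      rw [U.Zs_central (inv_mem U.mem_Zs_pow) (inv_mem hA1m.1), inv_mul_cancel_right]
    rw [← mul_assoc (A1⁻¹ * (U.z ^ δ.val)⁻¹), h9, mul_inv_eq_one, inv_mul_eq_iff_eq_mul, ← pow_add, U.zpow_mod (δ.val + δ.val)] at h8
    have hd := U.exp_inj h8
    push_cast at hd
    simp only [ZMod.natCast_zmod_val] at hd
    have hd1 : δ = 1 := zmod3_double δ hd
    rw [h3, hd1, ZMod.val_one, pow_one]
  have hjz : U.z * j = j * U.z := hjC.symm
  have hjA : ∀ u ∈ A, u * j = j * u := fun u hu => by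
    obtain ⟨c, hc, e⟩ := hAcoord u hu
    rw [e]
    exact (((Commute.pow_left (hA1j : Commute A1 j) _).mul_left (Commute.pow_left (hA2j : Commute A2 j) _)).mul_left
      (U.Zs_C hc hjC).symm).eq
  -- the centraliser of `A`
  obtain ⟨hCA3, hCA⟩ := U.cent_abelian hAQ hAc hA27
  have hjQ : j ∉ U.Q := fun h => B.L.d_π (hjπ ▸ ((U.ker j hjC).2 h).1)
  have gen : ∀ g : G, (∀ u ∈ A, u * g = g * u) → g ∉ U.Q → Subgroup.centralizer (A : Set G) = A ⊔ Subgroup.zpowers g := by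
    intro g hg hgQ
    have hle : A ⊔ Subgroup.zpowers g ≤ Subgroup.centralizer (A : Set G) :=
      sup_le (fun u hu => Subgroup.mem_centralizer_iff.2 fun v hv => hAc v hv u hu)
        (Subgroup.zpowers_le.2 (Subgroup.mem_centralizer_iff.2 fun v hv => hg v hv))
    refine (Subgroup.eq_of_le_of_card_ge hle ?_).symm
    obtain ⟨k, hk⟩ := IsPGroup.iff_card.1 (hCA3.to_le hle)
    have hlt : 27 < Nat.card ↥(A ⊔ Subgroup.zpowers g) := by
      rw [← hA27]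
      refine lt_of_le_of_ne (Subgroup.card_le_of_le le_sup_left) fun h => hgQ ?_
      have he := Subgroup.eq_of_le_of_card_ge le_sup_left h.ge
      exact hAQ (he ▸ Subgroup.mem_sup_right (Subgroup.mem_zpowers g))
    rw [hk] at hlt ⊢
    have : 4 ≤ k := by
      by_contra h
      have : 3 ^ k ≤ 3 ^ 3 := Nat.pow_le_pow_right (by norm_num) (by omega)
      omega
    calc Nat.card ↥(Subgroup.centralizer (A : Set G)) ≤ 81 := hCA
      _ = 3 ^ 4 := by norm_num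
      _ ≤ 3 ^ k := Nat.pow_le_pow_right (by norm_num) this
  -- `D` is not `A`
  have hyd : ∀ u ∈ V.Q, ⁅u, B.L.d⁆ ∈ V.Zs := fun u hu => V.comm u hu _ B.L.d_mem
  have hdf : ∀ u ∈ A, ⁅u, B.L.d⁆ ∈ U.Zs := fun u hu => by
    obtain ⟨c, hc, e⟩ := hAcoord u hu
    have h1 : ⁅u, B.s⁆ ∈ U.Zs := by
      have hjs : B.s = q⁻¹ * j * (A2 ^ ν.val)⁻¹ := by rw [hj, hs1]; group
      rw [hjs, show ⁅u, q⁻¹ * j * (A2 ^ ν.val)⁻¹⁆ = ⁅u, q⁻¹⁆ * (q⁻¹ * ⁅u, j * (A2 ^ ν.val)⁻¹⁆ * q) by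
        simp only [commutatorElement_def]; group]
      refine mul_mem (U.comm u (hAQ hu) _ (inv_mem hqm.1)) ?_
      have : ⁅u, j * (A2 ^ ν.val)⁻¹⁆ = 1 := commutatorElement_eq_one_iff_mul_comm.2
        (Commute.mul_right (hjA u hu : Commute u j) (Commute.inv_right (hAc u hu _ (pow_mem hA2A _)))).eq
      rw [this]
      simp
    have := mul_mem h1 (B.s_d u (hAQ hu))
    rwa [mul_inv_cancel_left] at this
  obtain ⟨w0, hw0, hw0n⟩ : ∃ w ∈ U.Q ⊓ V.Q, U.f w A1 ≠ 0 := by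
    by_contra h
    push Not at h
    have hDA : U.Q ⊓ V.Q ≤ A := fun w hw => by
      refine U.cent_in_Q hAQ hAc hA27 hw.1 fun u hu => ?_
      obtain ⟨c, hc, e⟩ := hAcoord u hu
      have hwA1 : Commute w A1 := (U.f_zero hw.1 hA1m.1).1 (h w hw)
      have hwy : Commute w (A1 * A2) := by
        obtain ⟨k, hk⟩ := Subgroup.mem_zpowers_iff.1 hyVz
        rw [← hk]
        exact Commute.zpow_right (V.z_comm w hw.2) k
      have hwA2 : Commute w A2 := by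
        have := (Commute.inv_right hwA1).mul_right hwy
        rwa [inv_mul_cancel_left] at this
      rw [e]
      exact (((Commute.pow_right hwA1 _).mul_right (Commute.pow_right hwA2 _)).mul_right
        (U.Zs_central hc hw.1)).symm.eq
    have hDeq : U.Q ⊓ V.Q = A := Subgroup.eq_of_le_of_card_ge hDA (by rw [hA27, B.L.inter_card])
    have hdA : ∀ u ∈ A, u * B.L.d = B.L.d * u := fun u hu => commutatorElement_eq_one_iff_mul_comm.1
      (U.inter_trivial V B.L.y_not (hdf u hu) (hyd u (hDeq ▸ hu : u ∈ U.Q ⊓ V.Q).2))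
    have hP : A ⊔ Subgroup.zpowers B.L.d ≤ V.Q :=
      sup_le (hDeq ▸ inf_le_right) (Subgroup.zpowers_le.2 B.L.d_mem)
    have h27 := V.card_abelian hP (comm_sup_zpowers hAc hdA)
    have hdQ : B.L.d ∉ U.Q := fun h => B.L.d_π ((U.ker _ B.L.d_C).2 h).1
    have h81 := gen B.L.d hdA hdQ
    have := Subgroup.eq_of_le_of_card_ge (le_sup_left : A ≤ A ⊔ Subgroup.zpowers B.L.d) (by rw [hA27]; exact h27)
    exact hdQ (hAQ (this ▸ Subgroup.mem_sup_right (Subgroup.mem_zpowers _)))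
  set w := w0 ^ (U.f w0 A1).val with hw
  have hwD : w ∈ U.Q ⊓ V.Q := pow_mem hw0 _
  have hw1 : U.f w A1 = 1 := by
    rw [hw, U.f_pow_left hw0.1 hA1m.1, ZMod.natCast_zmod_val]
    exact zmod3_mul_self _ hw0n
  have hwy : w * (A1 * A2) = A1 * A2 * w := by
    obtain ⟨k, hk⟩ := Subgroup.mem_zpowers_iff.1 hyVz
    rw [← hk]
    exact (Commute.zpow_right (V.z_comm w hwD.2) k).eq
  have hw2 : U.f w A2 = -1 := by
    have h := (U.f_zero hwD.1 (mul_mem hA1m.1 hA2m.1)).2 hwy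
    rw [U.f_mul_right hwD.1 hA1m.1 hA2m.1, hw1] at h
    linear_combination h
  -- an element of the second group centralising `A`
  obtain ⟨μ, hμ⟩ := U.exists_exp (hdf A1 hA1A)
  set x1 := w ^ μ.val * B.L.d with hx1
  have hwμ := pow_mem hwD μ.val
  have hx1C : U.InC x1 := U.inC_mul (U.inC_Q hwμ.1) B.L.d_C
  have hx1π : U.π x1 = U.π B.L.d := by
    rw [hx1, U.π_mul _ _ (U.inC_Q hwμ.1) B.L.d_C, ((U.ker _ (U.inC_Q hwμ.1)).2 hwμ.1).1, one_mul]
  have hx1V : x1 ∈ V.Q := mul_mem hwμ.2 B.L.d_mem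
  have hx1A1 : A1 * x1 = x1 * A1 := by
    rw [← commutatorElement_eq_one_iff_mul_comm, hx1, show ⁅A1, w ^ μ.val * B.L.d⁆
      = ⁅A1, w ^ μ.val⁆ * (w ^ μ.val * ⁅A1, B.L.d⁆ * (w ^ μ.val)⁻¹) by simp only [commutatorElement_def]; group,
      hμ, U.Zs_central U.mem_Zs_pow hwμ.1, mul_inv_cancel_right, U.f_spec hA1m.1 hwμ.1, ← pow_add, U.zpow_mod]
    simp [U.f_pow_right hA1m.1 hwD.1, U.f_swap hwD.1 hA1m.1, hw1]
  have hx1y : A1 * A2 * x1 = x1 * (A1 * A2) := by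
    obtain ⟨k, hk⟩ := Subgroup.mem_zpowers_iff.1 hyVz
    rw [← hk]
    exact ((Commute.zpow_right (V.z_comm x1 hx1V) k).eq).symm
  have hx1A2 : A2 * x1 = x1 * A2 := by
    have := (Commute.inv_left (hx1A1 : Commute A1 x1)).mul_left (hx1y : Commute (A1 * A2) x1)
    rwa [inv_mul_cancel_left] at this
  have hx1A : ∀ u ∈ A, u * x1 = x1 * u := fun u hu => by
    obtain ⟨c, hc, e⟩ := hAcoord u hu
    rw [e]
    exact (((Commute.pow_left (hx1A1 : Commute A1 x1) _).mul_left (Commute.pow_left (hx1A2 : Commute A2 x1) _)).mul_left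
      (U.Zs_C hc hx1C).symm).eq
  have hx1Q : x1 ∉ U.Q := fun h => B.L.d_π (hx1π ▸ ((U.ker _ hx1C).2 h).1)
  have hCAj := gen x1 hx1A hx1Q
  have hjCA : j ∈ Subgroup.centralizer (A : Set G) := Subgroup.mem_centralizer_iff.2 fun u hu => hjA u hu
  have hjx : Commute j x1 := by
    rw [hCAj] at hjCA
    exact comm_sup_zpowers hAc hx1A j hjCA x1 (Subgroup.mem_sup_right (Subgroup.mem_zpowers _))
  have hεj : U.ε j = U.ε x1 := by
    obtain ⟨k, hk⟩ := hCA3 ⟨j, hjCA⟩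
    obtain ⟨l, hl⟩ := hCA3 ⟨x1, Subgroup.mem_centralizer_iff.2 fun u hu => hx1A u hu⟩
    rw [U.eps_of_three hjC (n := k) (by simpa using congrArg Subtype.val hk),
      U.eps_of_three hx1C (n := l) (by simpa using congrArg Subtype.val hl)]
  set a := x1⁻¹ * j with ha
  have haQ : a ∈ U.Q := U.mem_of_eq hx1C hjC (hx1π.trans hjπ.symm) hεj.symm
  have haA : a ∈ A := U.cent_in_Q hAQ hAc hA27 haQ fun u hu =>
    (Commute.mul_right (Commute.inv_right (hx1A u hu : Commute u x1)) (hjA u hu)).eq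
  have hjcube : j ^ 3 = 1 := by
    have hxa : Commute x1 a := (hx1A a haA).symm
    rw [show j = x1 * a by rw [ha, mul_inv_cancel_left], hxa.mul_pow, V.exp x1 hx1V, U.exp a haQ, mul_one]
  -- the action of `w`
  have hwj : w * j * w⁻¹ = j * (A1 * A2) := by
    set w' := (b1 * b2⁻¹)⁻¹ * w with hw'
    have hp : b1 * b2⁻¹ ∈ U.Q := mul_mem hb1m.1 (inv_mem hb2m.1)
    have hw'Q : w' ∈ U.Q := mul_mem (inv_mem hp) hwD.1
    have e1 : U.f w' A1 = 0 := by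
      rw [hw', U.f_mul_left (inv_mem hp) hwD.1 hA1m.1, U.f_inv_left hp hA1m.1, U.f_mul_left hb1m.1 (inv_mem hb2m.1) hA1m.1,
        U.f_inv_left hb2m.1 hA1m.1, f1, (o A1 hA1m b2 hb2m).2, hw1]
      ring
    have e2 : U.f w' A2 = 0 := by
      rw [hw', U.f_mul_left (inv_mem hp) hwD.1 hA2m.1, U.f_inv_left hp hA2m.1, U.f_mul_left hb1m.1 (inv_mem hb2m.1) hA2m.1,
        U.f_inv_left hb2m.1 hA2m.1, f2, (o b1 hb1m A2 hA2m).1, hw2]
      ring
    have hw'A : w' ∈ A := U.cent_in_Q hAQ hAc hA27 hw'Q fun u hu => by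
      obtain ⟨c, hc, e⟩ := hAcoord u hu
      rw [e]
      exact (((Commute.pow_left (((U.f_zero hw'Q hA1m.1).1 e1).symm : Commute A1 w') _).mul_left
        (Commute.pow_left (((U.f_zero hw'Q hA2m.1).1 e2).symm : Commute A2 w') _)).mul_left
        (U.Zs_central hc hw'Q).symm).eq
    have hwe : w = b1 * b2⁻¹ * w' := by rw [hw', mul_inv_cancel_left]
    have hj2 : b2⁻¹ * j * b2 = j * A2 * U.z := by
      have h6 : b2⁻¹ * A2 * b2 = A2 * U.z ^ (-(1 : ZMod 3)).val := by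
        have := U.conj_eq (inv_mem hb2m.1) hA2m.1
        rw [inv_inv, U.f_inv_left hb2m.1 hA2m.1, f2] at this
        exact this
      have h7 : b2⁻¹ * U.z⁻¹ * b2 = U.z⁻¹ := by
        rw [U.Zs_central (inv_mem (Subgroup.mem_zpowers _)) (inv_mem hb2m.1), inv_mul_cancel_right]
      have h := congrArg (fun g => b2⁻¹ * g * b2) hjb2
      have h' : j = (b2⁻¹ * j * b2) * (b2⁻¹ * A2 * b2)⁻¹ * (b2⁻¹ * U.z⁻¹ * b2)⁻¹ := by
        calc j = b2⁻¹ * (b2 * j * b2⁻¹) * b2 := by group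
          _ = _ := by rw [hjb2]; group
      rw [h6, h7, inv_inv] at h'
      have hz2 : U.z ^ (-(1 : ZMod 3)).val = U.z * U.z := by rw [show (-(1 : ZMod 3)).val = 2 from rfl, pow_two]
      rw [hz2] at h'
      calc b2⁻¹ * j * b2 = (b2⁻¹ * j * b2) * (A2 * (U.z * U.z))⁻¹ * U.z * U.z⁻¹ * (A2 * (U.z * U.z)) := by group
        _ = j * U.z⁻¹ * (A2 * (U.z * U.z)) := by rw [← h']
        _ = j * A2 * U.z := by
          rw [mul_assoc, ← mul_assoc U.z⁻¹, ← U.Zs_central (inv_mem (Subgroup.mem_zpowers _)) hA2m.1]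
          group
    have h8 : b1 * A2 * b1⁻¹ = A2 := by rw [oc b1 hb1m A2 hA2m, mul_inv_cancel_right]
    have h9 : b1 * U.z * b1⁻¹ = U.z := by rw [U.z_comm b1 hb1m.1, mul_inv_cancel_right]
    calc w * j * w⁻¹ = b1 * (b2⁻¹ * (w' * j * w'⁻¹) * b2) * b1⁻¹ := by rw [hwe]; group
      _ = (b1 * j * b1⁻¹) * (b1 * A2 * b1⁻¹) * (b1 * U.z * b1⁻¹) := by
          rw [hjA w' hw'A, mul_inv_cancel_right, hj2]; group
      _ = j * (A1 * A2) := by
          rw [hjb1, h8, h9, mul_assoc (j * A1), ← U.Zs_central (inv_mem (Subgroup.mem_zpowers _)) hA2m.1]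
          group
  have hjV : j ∈ V.Q := by
    have hje : j = x1 * a := by rw [ha, mul_inv_cancel_left]
    have hc1 : (j * (A1 * A2)) = (w * x1 * w⁻¹) * (a * U.z ^ (U.f w a).val) := by
      rw [← hwj, ← U.conj_eq hwD.1 haQ, hje]; group
    have h2 : U.z ^ (U.f w a).val = ((a⁻¹ * ⁅w, x1⁆ * a) : G)⁻¹ * (A1 * A2) := by
      have h := hc1
      rw [show w * x1 * w⁻¹ = ⁅w, x1⁆ * x1 by simp only [commutatorElement_def]; group, hje] at h
      have hxc : ⁅w, x1⁆ * x1 = x1 * ⁅w, x1⁆ := (V.Zs_central (V.comm w hwD.2 x1 hx1V) hx1V).symm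
      rw [hxc, mul_assoc x1, mul_assoc x1, mul_right_inj] at h
      calc U.z ^ (U.f w a).val = (⁅w, x1⁆ * a)⁻¹ * (⁅w, x1⁆ * (a * U.z ^ (U.f w a).val)) := by group
        _ = _ := by rw [← h]; group
    have hza : a⁻¹ * ⁅w, x1⁆ * a = ⁅w, x1⁆ := by
      have hcm : ⁅w, x1⁆ ∈ V.Zs := V.comm w hwD.2 x1 hx1V
      rw [← hyV] at hcm
      obtain ⟨k, hk⟩ := Subgroup.mem_zpowers_iff.1 hcm
      have hc : Commute a ⁅w, x1⁆ := by
        rw [← hk]; exact Commute.zpow_right (hAc a haA _ (mul_mem hA1A hA2A)) k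
      rw [mul_assoc, ← hc.eq, inv_mul_cancel_left]
    have h0 : U.f w a = 0 := by
      have hone : U.z ^ (U.f w a).val = 1 := U.inter_trivial V B.L.y_not U.mem_Zs_pow (by
        rw [h2, hza]
        exact mul_mem (inv_mem (V.comm w hwD.2 x1 hx1V)) hyVz)
      exact U.exp_inj (by simpa using hone)
    obtain ⟨c, hc, hae⟩ := hAcoord a haA
    have hcV : c ∈ V.Q := (Subgroup.zpowers_le.2 B.L.z_mem') hc
    have hk : U.f b1 a = U.f b2 a := by
      rw [hae, U.f_mul_right hwD.1 (mul_mem (pow_mem hA1m.1 _) (pow_mem hA2m.1 _)) (U.Zs_le hc),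
        U.f_mul_right hwD.1 (pow_mem hA1m.1 _) (pow_mem hA2m.1 _), U.f_pow_right hwD.1 hA1m.1,
        U.f_pow_right hwD.1 hA2m.1, hw1, hw2, U.f_Zs_right hwD.1 hc, ZMod.natCast_zmod_val,
        ZMod.natCast_zmod_val] at h0
      linear_combination h0
    rw [hje, hae, hk, ← (Commute.mul_pow (hAc A1 hA1A A2 hA2A) _)]
    exact mul_mem hx1V (mul_mem (pow_mem (V.Zs_le hyVz) _) hcV)
  exact ⟨⟨U, V, B.L.conj, A1, b1, A2, b2, j, hA1m, hb1m, hA2m, hb2m, hm, hn, f1, f2, hyV, B.L.z_mem', hjC,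
    hjt, hjπ ▸ B.L.d_π, hjcube, hA1j, hA2j, hjb1, hjb2, hjV, w, hwD.1, hwD.2, hw1, hw2⟩⟩

end Cfsg.Agent.OEightThree
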