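/-
The end of the recognition of O8+(2):3 and O8+(2):S3 (S3372, piece F; helper29).

* `iso_omega`          : a normal subgroup with the centraliser `2^{1+8}.S₃³` of a non weakly closed involution
                         is `Ω⁺₈(2)` and has trivial centraliser;
* `iso_omega_quotient` : the same, the quotient given by an isomorphism;
* `conclusion`         : the statement of S3372 from such a subgroup of index 3 or 6.
-/
import Cfsg.Agent.Lib.OmegaEight.Global
import Cfsg.Agent.Lib.OmegaEight.Fusion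

set_option autoImplicit false
set_option linter.unusedSectionVars false

namespace Cfsg.Agent.OEightThree

open Subgroup Cfsg.Agent.LargeExtraspecial

universe u

variable {G : Type u} [Group G] [Finite G]

/-- `Ω⁺₈(2)` from the centraliser of an involution in a normal subgroup. -/
theorem iso_omega (N1 : Subgroup G) [N1.Normal] {t : G} (ht : orderOf t = 2) (htN : t ∈ N1) (M : Subgroup G)
    (hM : Cfsg.IsExtraspecial 2 ↥M) (hMc : Nat.card M = 2 ^ 9) (hMN : M ≤ N1)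
    (hMt : ∀ x ∈ M, Commute x t) (hCM : centralizer (M : Set G) ≤ M)
    (ρ : ↥(N1 ⊓ centralizer ({t} : Set G)) →* OmegaEight.S33) (hρs : Function.Surjective ρ)
    (hρk : ρ.ker = M.subgroupOf (N1 ⊓ centralizer ({t} : Set G)))
    (hnwc : ∃ g ∈ N1, g * t * g⁻¹ ≠ t ∧ Commute (g * t * g⁻¹) t) :
    Nonempty (↥N1 ≃* ↥(Cfsg.Omega (ZMod 2) (Cfsg.quadFormPlus 4 (ZMod 2)))) ∧
      centralizer (N1 : Set G) = ⊥ := by
  classical
  have htM : t ∈ M := hCM (mem_centralizer_iff.2 fun x hx => (hMt x hx).eq)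
  have ht1 : t ≠ 1 := fun e => by simp [e] at ht
  -- the centre of `M`
  have hzM : ∀ x : G, (∀ q ∈ M, q * x = x * q) → x = 1 ∨ x = t := by
    obtain ⟨y, hy, hy2, -⟩ := exists_gen_zc hM
    have hyy : y * y = 1 := by rw [← pow_two, ← hy2, pow_orderOf_eq_one]
    have hty : t = y := (mem_zpowers_two hyy (hy ▸ mem_zc.mpr ⟨htM, fun q hq => (hMt q hq).eq⟩)).resolve_left ht1
    intro x hx
    rw [hty]
    exact mem_zpowers_two hyy (hy ▸ mem_zc.mpr ⟨hCM (mem_centralizer_iff.2 hx), hx⟩)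
  set tN : ↥N1 := ⟨t, htN⟩ with htN'
  set Q : Subgroup ↥N1 := M.subgroupOf N1 with hQ
  have hmem : ∀ g : ↥N1, g * tN = tN * g → (g : G) ∈ N1 ⊓ centralizer ({t} : Set G) := fun g hg =>
    mem_inf.2 ⟨g.2, mem_centralizer_singleton_iff.2 (congrArg Subtype.val hg)⟩
  have hnorm : ∀ c : ↥N1, c * tN = tN * c → ∀ q ∈ Q, c * q * c⁻¹ ∈ Q := by
    intro c hc q hq
    rw [hQ, mem_subgroupOf] at hq ⊢
    have hq' : (⟨(q : G), mem_inf.2 ⟨q.2, mem_centralizer_singleton_iff.2 (hMt _ hq).eq⟩⟩ :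
        ↥(N1 ⊓ centralizer ({t} : Set G))) ∈ ρ.ker := by rw [hρk]; exact mem_subgroupOf.2 hq
    have h2 := (MonoidHom.normal_ker ρ).conj_mem _ hq' ⟨(c : G), hmem c hc⟩
    rw [hρk, mem_subgroupOf] at h2
    exact h2
  have hex : Cfsg.IsExtraspecial 2 ↥Q := isExtraspecial_congr (subgroupOfEquivOfLe hMN).symm hM
  obtain ⟨yQ, hyQ, hyQ2, -⟩ := exists_gen_zc hex
  have hyQ' : tN = yQ := by
    refine (mem_zpowers_two (by rw [← pow_two, ← hyQ2, pow_orderOf_eq_one])
      (hyQ ▸ mem_zc.mpr ⟨mem_subgroupOf.2 htM, fun q hq => Subtype.ext (hMt _ (mem_subgroupOf.1 hq)).eq⟩)).resolve_left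
      fun e => ht1 (congrArg Subtype.val e)
  have hz : zc Q = zpowers tN := hyQ' ▸ hyQ
  have hcentQ : ∀ x : ↥N1, (∀ q ∈ Q, q * x = x * q) → x = 1 ∨ x = tN := fun x hx =>
    (hzM x fun q hq => congrArg Subtype.val (hx ⟨q, hMN hq⟩ (mem_subgroupOf.2 hq))).imp
      (fun e => Subtype.ext e) fun e => Subtype.ext e
  have hL2 : centralizer (Q : Set ↥N1) = zc Q := le_antisymm (fun x hx => by
    rcases hcentQ x fun q hq => mem_centralizer_iff.1 hx q hq with e | e <;> rw [e]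
    · exact one_mem _
    · rw [hz]; exact mem_zpowers _) fun x hx => mem_centralizer_iff.2 (mem_zc.mp hx).2
  have hL3 : centralizer (zc Q : Set ↥N1) ≤ normalizer (Q : Set ↥N1) := fun c hc => by
    have hct : c * tN = tN * c := (mem_centralizer_iff.1 hc tN (hz ▸ mem_zpowers tN)).symm
    refine Subgroup.mem_normalizer_fintype fun q hq => hnorm c hct q hq
  have hD : Data Q tN := Data.of_extraspecial hex hL2 hL3 hz (by rw [htN', Subgroup.orderOf_mk]; exact ht)
  have hcard : Nat.card Q = 512 := by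
    rw [hQ, Nat.card_congr (subgroupOfEquivOfLe hMN).toEquiv, hMc]; norm_num
  let H : OmegaEight.Hyp ↥N1 :=
    ⟨tN, Q, fun g => if hg : g * tN = tN * g then ρ ⟨g, hmem g hg⟩ else 1, hD, hex, hcard,
      fun a b ha hb => by
        have hab : a * b * tN = tN * (a * b) := (Commute.mul_left (ha : Commute a tN) hb).eq
        rw [dif_pos ha, dif_pos hb, dif_pos hab, ← map_mul]
        rfl,
      fun a ha => by
        rw [dif_pos ha, ← MonoidHom.mem_ker, hρk, mem_subgroupOf, hQ, mem_subgroupOf],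
      fun r => by
        obtain ⟨x, hx⟩ := hρs r
        have hxt : (⟨(x : G), x.2.1⟩ : ↥N1) * tN = tN * ⟨(x : G), x.2.1⟩ :=
          Subtype.ext (mem_centralizer_singleton_iff.1 x.2.2)
        exact ⟨⟨(x : G), x.2.1⟩, hxt, by rw [dif_pos hxt]; exact hx⟩⟩
  obtain ⟨g0, hg0N, hne0, hc0⟩ := hnwc
  obtain ⟨g, hg, hne⟩ := OmegaEight.exists_linked H
    ⟨⟨g0, hg0N⟩, Subtype.ext hc0.eq, fun e => hne0 (congrArg Subtype.val e)⟩
  obtain ⟨F, -, -⟩ := OmegaEight.exists_fr H hg hne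
  obtain ⟨D, -⟩ := F.exists_fd
  obtain ⟨V⟩ := D.exists_cover
  refine ⟨⟨(topEquiv.symm.trans (MulEquiv.subgroupCongr V.top.symm)).trans
    (MonoidHom.ofInjective V.inj).symm⟩, (eq_bot_iff_forall _).2 fun x hx => ?_⟩
  refine (hzM x fun q hq => mem_centralizer_iff.1 hx q (hMN hq)).resolve_right fun e => hne0 ?_
  have h := mem_centralizer_iff.1 hx g0 hg0N
  rw [e] at h
  rw [h, mul_inv_cancel_right]

/-- The same with the quotient given by an isomorphism. -/
theorem iso_omega_quotient (N1 : Subgroup G) [N1.Normal] {t : G} (ht : orderOf t = 2) (htN : t ∈ N1)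
    (M : Subgroup G) (hM : Cfsg.IsExtraspecial 2 ↥M) (hMc : Nat.card M = 2 ^ 9)
    (hMle : M ≤ N1 ⊓ centralizer ({t} : Set G)) [(M.subgroupOf (N1 ⊓ centralizer ({t} : Set G))).Normal]
    (e : ↥(N1 ⊓ centralizer ({t} : Set G)) ⧸ M.subgroupOf (N1 ⊓ centralizer ({t} : Set G)) ≃* OmegaEight.S33)
    (hCM : centralizer (M : Set G) ≤ M) (hnwc : ∃ g ∈ N1, g * t * g⁻¹ ≠ t ∧ Commute (g * t * g⁻¹) t) :
    Nonempty (↥N1 ≃* ↥(Cfsg.Omega (ZMod 2) (Cfsg.quadFormPlus 4 (ZMod 2)))) ∧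
      centralizer (N1 : Set G) = ⊥ :=
  iso_omega N1 ht htN M hM hMc (hMle.trans inf_le_left)
    (fun x hx => mem_centralizer_singleton_iff.1 (hMle hx).2) hCM
    (e.toMonoidHom.comp (QuotientGroup.mk' _))
    (e.surjective.comp (QuotientGroup.mk'_surjective _))
    (by ext x; simp) hnwc

/-- The conclusion of S3372. -/
theorem conclusion (N1 : Subgroup G) [N1.Normal] (hidx : N1.index = 3 ∨ N1.index = 6) {t : G}
    (ht : orderOf t = 2) (htN : t ∈ N1) (M : Subgroup G) (hM : Cfsg.IsExtraspecial 2 ↥M)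
    (hMc : Nat.card M = 2 ^ 9) (hMN : M ≤ N1) (hMt : ∀ x ∈ M, Commute x t)
    (hCM : centralizer (M : Set G) ≤ M)
    (ρ : ↥(N1 ⊓ centralizer ({t} : Set G)) →* OmegaEight.S33) (hρs : Function.Surjective ρ)
    (hρk : ρ.ker = M.subgroupOf (N1 ⊓ centralizer ({t} : Set G)))
    (hnwc : ∃ g ∈ N1, g * t * g⁻¹ ≠ t ∧ Commute (g * t * g⁻¹) t) :
    ∃ N : Subgroup G, N.Normal ∧ Nonempty (N ≃* Cfsg.Omega (ZMod 2) (Cfsg.quadFormPlus 4 (ZMod 2))) ∧
      Subgroup.centralizer (N : Set G) = ⊥ ∧ (N.index = 3 ∨ N.index = 6) :=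
  have h := iso_omega N1 ht htN M hM hMc hMN hMt hCM ρ hρs hρk hnwc
  ⟨N1, inferInstance, h.1, h.2, hidx⟩

end Cfsg.Agent.OEightThree
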