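import Cfsg.Agent.Lib.OEightThree.FrameData

/-
`Elem.exists_frameData`: the coordinates on `J = ⟨z,a₁,a₂,j⟩` and the element `g` of the second extraspecial group
with the normalised action.
-/

set_option autoImplicit false
set_option maxRecDepth 10000

namespace Cfsg.Agent.OEightThree

open scoped commutatorElement

variable {G : Type*} [Group G] [Finite G]

theorem coeff_basis : (cZ zv = 1 ∧ zv 0 = 0 ∧ cA2 zv = 0 ∧ cJ zv = 0) ∧ (cZ av = 0 ∧ av 0 = 1 ∧ cA2 av = 0 ∧ cJ av = 0) ∧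
    (cZ a2v = 0 ∧ a2v 0 = 0 ∧ cA2 a2v = 1 ∧ cJ a2v = 0) ∧ (cZ jv = 0 ∧ jv 0 = 0 ∧ cA2 jv = 0 ∧ cJ jv = 1) ∧
    (cZ yv = 0 ∧ yv 0 = 1 ∧ cA2 yv = 1 ∧ cJ yv = 0) := by decide +kernel

theorem basis_images :
    (fT zv = zv ∧ fT av = -av ∧ fT a2v = a2v ∧ fT jv = jv) ∧
    (fB1 zv = zv ∧ fB1 av = av + zv ∧ fB1 a2v = a2v ∧ fB1 jv = jv + av + -zv) ∧
    (fB2 zv = zv ∧ fB2 av = av ∧ fB2 a2v = a2v + zv ∧ fB2 jv = jv + -a2v + zv) ∧
    fW jv = yv + jv ∧ av + a2v = yv := by decide +kernel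

theorem fGk_basis : ∀ κ ρ : ZMod 3, fGk κ ρ zv = zv + yv ∧ fGk κ ρ av = av + jv + κ • zv + ρ • yv ∧
    fGk κ ρ a2v = yv + -(av + jv + κ • zv + ρ • yv) ∧ fGk κ ρ jv = jv := by decide +kernel

theorem fGk_add (κ ρ : ZMod 3) (x y : V4) : fGk κ ρ (x + y) = fGk κ ρ x + fGk κ ρ y := by
  simp only [fGk, Pi.add_apply, (coeff_add x y).1, (coeff_add x y).2.1, (coeff_add x y).2.2, add_smul]
  abel

theorem gauge_jv : ∀ μ : ZMod 3, cJ (gauge μ jv) = 1 := by decide +kernel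

theorem second_span : ∀ x : V4, x 0 = cA2 x → x = cZ x • zv + x 0 • yv + cJ x • jv := by decide +kernel

/-- The vectors of `⟨z,a₁,a₂⟩`. -/
def planeU : AddSubgroup V4 where
  carrier := {x | dot x zv = 0}
  zero_mem' := by decide
  add_mem' := fun {x y} hx hy => plane_add x y hx hy
  neg_mem' := fun {x} hx => plane_neg x hx

/-- The vectors of `⟨z,y,j⟩`. -/
def planeV : AddSubgroup V4 where
  carrier := {x | x 0 = cA2 x}
  zero_mem' := by decide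
  add_mem' := fun {x y} (hx : x 0 = cA2 x) (hy : y 0 = cA2 y) => by
    show (x + y) 0 = cA2 (x + y)
    rw [(coeff_add x y).2.1, Pi.add_apply, hx, hy]
  neg_mem' := fun {x} hx => (show ∀ x : V4, x 0 = cA2 x → (-x) 0 = cA2 (-x) by decide +kernel) x hx

theorem mem_planeU {x : V4} : x ∈ planeU ↔ dot x zv = 0 := Iff.rfl

theorem mem_planeV {x : V4} : x ∈ planeV ↔ x 0 = cA2 x := Iff.rfl

theorem planeU_card : Nat.card planeU = 27 := by
  show Nat.card {x : V4 // dot x zv = 0} = 27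
  rw [Nat.card_eq_fintype_card]
  decide +kernel

theorem planeV_card : Nat.card planeV = 27 := by
  show Nat.card {x : V4 // x 0 = cA2 x} = 27
  rw [Nat.card_eq_fintype_card]
  decide +kernel

theorem four_pow_mul {a b c d : G} (ha : a ^ 3 = 1) (hb : b ^ 3 = 1) (hc : c ^ 3 = 1) (hd : d ^ 3 = 1)
    (hab : Commute a b) (hac : Commute a c) (had : Commute a d) (hbc : Commute b c) (hbd : Commute b d)
    (hcd : Commute c d) (i k l m i' k' l' m' : ZMod 3) :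
    a ^ (i + i').val * b ^ (k + k').val * c ^ (l + l').val * d ^ (m + m').val =
      a ^ i.val * b ^ k.val * c ^ l.val * d ^ m.val * (a ^ i'.val * b ^ k'.val * c ^ l'.val * d ^ m'.val) := by
  rw [pow_val_add ha, pow_val_add hb, pow_val_add hc, pow_val_add hd]
  have h1 : Commute (d ^ m.val) (a ^ i'.val * b ^ k'.val * c ^ l'.val) :=
    (((had.symm.pow_pow _ _)).mul_right (hbd.symm.pow_pow _ _)).mul_right (hcd.symm.pow_pow _ _)
  have h2 : Commute (c ^ l.val) (a ^ i'.val * b ^ k'.val) := (hac.symm.pow_pow _ _).mul_right (hbc.symm.pow_pow _ _)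
  have h3 : Commute (b ^ k.val) (a ^ i'.val) := hab.symm.pow_pow _ _
  rw [h1.mul_mul_mul_comm, h2.mul_mul_mul_comm, h3.mul_mul_mul_comm]

/-- The frame with `j` changed by a multiple of `z`. -/
def FrameBase.gauged (F : FrameBase G) (μ : ZMod 3) : FrameBase G where
  U := F.U
  v x := F.v (gauge μ x)
  v_add x y := by rw [gauge_add, F.v_add]
  v_inj x y h := by rw [← gauge_inv μ x, ← gauge_inv μ y, F.v_inj h]
  v_z := by
    show F.v (gauge μ zv) = _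
    rw [(gauge_comm μ zv).2.2.2.2, F.v_z]
  v_mem x hx := F.v_mem _ (by rw [(gauge_comm μ x).2.2.2.1]; exact hx)
  v_C x := F.v_C _
  j_pi := by
    show F.U.π (F.v (gauge μ jv)) ≠ 1
    rw [gauge, F.v_add, F.U.π_mul _ _ (F.v_C _) (F.v_C _), ((F.U.ker _ (F.v_C ((μ * cJ jv) • zv))).2 ?_).1, mul_one]
    · exact F.j_pi
    · rw [F.v_smul, F.v_z]
      exact pow_mem F.U.z_mem _
  cent_A g hg := by
    obtain ⟨x, rfl⟩ := F.cent_A g fun x hx => by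
      have h := gauge_inv (-μ) x
      rw [neg_neg] at h
      have := hg (gauge (-μ) x) (by rw [(gauge_comm (-μ) x).2.2.2.1]; exact hx)
      rwa [h] at this
    refine ⟨gauge (-μ) x, ?_⟩
    have h := gauge_inv (-μ) x
    rw [neg_neg] at h
    rw [h]
  b1 := F.b1
  b2 := F.b2
  b1_mem := F.b1_mem
  b2_mem := F.b2_mem
  b_span q hq := by
    obtain ⟨i, k, x, rfl⟩ := F.b_span q hq
    refine ⟨i, k, gauge (-μ) x, ?_⟩
    have h := gauge_inv (-μ) x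
    rw [neg_neg] at h
    rw [h]
  t_act x := by rw [F.t_act, (gauge_comm μ x).1]
  b1_act x := by rw [F.b1_act, (gauge_comm μ x).2.1]
  b2_act x := by rw [F.b2_act, (gauge_comm μ x).2.2.1]

theorem h2k_comp (κ ρ : ZMod 3) :
    h2k κ ρ = (⇑fB1 ∘ ⇑fB1 ∘ fGk κ ρ) ∘ (⇑fB1 ∘ ⇑fB1 ∘ fGk κ ρ) := rfl

theorem FrameBase.act_bb (F : FrameBase G) (x : V4) : F.Act (F.b1 * F.b2 ^ 2 * F.v x) fW := by
  have hb1 : F.Act F.b1 (⇑fB1) := F.b1_act
  have hb2 : F.Act F.b2 (⇑fB2) := F.b2_act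
  have h := F.act_mul (F.act_mul hb1 (F.act_pow hb2 2)) (F.act_v x)
  exact h

theorem FrameBase.rho_eq (F : FrameBase G) {g : G} {κ ρ : ZMod 3} (hg : F.Act g (fGk κ ρ)) : ρ = -κ := by
  by_contra hne
  obtain ⟨h9, x, hx⟩ := h2k_order κ ρ fun h => hne (eq_neg_of_add_eq_zero_right h)
  have hb : F.Act F.b1 (⇑fB1) := F.b1_act
  have h1 := F.act_mul hb (F.act_mul hb hg)
  have hh := F.act_mul h1 h1
  rw [← h2k_comp] at hh
  exact hx (F.act_cube hh h9 x)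

theorem FrameBase.exists_normalised (F : FrameBase G) {g w : G} {κ ρ : ZMod 3} (hg : F.Act g (fGk κ ρ))
    (hw : F.Act w fW) : Nonempty (FrameData G) := by
  obtain rfl := F.rho_eq hg
  have hg' := F.act_mul hg (F.act_pow hw κ.val)
  exact ⟨{ F.gauged (-κ) with
    g := g * w ^ κ.val
    g_act := fun x => (hg' (gauge (-κ) x)).trans (congrArg F.v (gauge_g κ x)) }⟩

namespace Elem

variable (E : Elem G)

/-- The map from coordinates to `J`. -/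
def v0 (x : V4) : G := E.U.z ^ (cZ x).val * E.a1 ^ (x 0).val * E.a2 ^ (cA2 x).val * E.j ^ (cJ x).val

theorem v0_add (x y : V4) : E.v0 (x + y) = E.v0 x * E.v0 y := by
  have hz : ∀ q ∈ E.U.Q, Commute E.U.z q := fun q hq => (E.U.z_comm q hq).symm
  rw [v0, v0, v0, (coeff_add x y).1, (coeff_add x y).2.1, (coeff_add x y).2.2, Pi.add_apply]
  exact four_pow_mul (E.U.exp _ E.U.z_mem) (E.U.exp _ E.a1_mem.1) (E.U.exp _ E.a2_mem.1) E.j_cube
    (hz _ E.a1_mem.1) (hz _ E.a2_mem.1) (E.j_C : Commute E.j E.U.z).symm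
    (Subgroup.mem_centralizer_iff.1 E.a1_mem.2 _ E.a2_mem).symm E.j_a1 E.j_a2 _ _ _ _ _ _ _ _

theorem v0_zero : E.v0 0 = 1 := by simpa using E.v0_add 0 0

theorem v0_neg (x : V4) : E.v0 (-x) = (E.v0 x)⁻¹ :=
  eq_inv_of_mul_eq_one_left (by rw [← E.v0_add, neg_add_cancel, E.v0_zero])

theorem v0_comm (x y : V4) : E.v0 x * E.v0 y = E.v0 y * E.v0 x := by rw [← E.v0_add, add_comm, E.v0_add]

theorem v0_smul (c : ZMod 3) (x : V4) : E.v0 (c • x) = E.v0 x ^ c.val := by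
  fin_cases c
  · show E.v0 ((0 : ZMod 3) • x) = E.v0 x ^ 0
    rw [zero_smul, pow_zero, E.v0_zero]
  · show E.v0 ((1 : ZMod 3) • x) = E.v0 x ^ 1
    rw [one_smul, pow_one]
  · show E.v0 ((2 : ZMod 3) • x) = E.v0 x ^ 2
    rw [pow_two, ← E.v0_add, ← two_smul (ZMod 3) x]

theorem v0_zv : E.v0 zv = E.U.z := by
  obtain ⟨h1, h2, h3, h4⟩ := coeff_basis.1
  rw [v0, h1, h2, h3, h4]; simp [show (1 : ZMod 3).val = 1 from rfl]

theorem v0_av : E.v0 av = E.a1 := by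
  obtain ⟨h1, h2, h3, h4⟩ := coeff_basis.2.1
  rw [v0, h1, h2, h3, h4]; simp [show (1 : ZMod 3).val = 1 from rfl]

theorem v0_a2v : E.v0 a2v = E.a2 := by
  obtain ⟨h1, h2, h3, h4⟩ := coeff_basis.2.2.1
  rw [v0, h1, h2, h3, h4]; simp [show (1 : ZMod 3).val = 1 from rfl]

theorem v0_jv : E.v0 jv = E.j := by
  obtain ⟨h1, h2, h3, h4⟩ := coeff_basis.2.2.2.1
  rw [v0, h1, h2, h3, h4]; simp [show (1 : ZMod 3).val = 1 from rfl]

theorem v0_yv : E.v0 yv = E.a1 * E.a2 := by rw [← basis_images.2.2.2.2, E.v0_add, E.v0_av, E.v0_a2v]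

theorem v0_C (x : V4) : E.U.InC (E.v0 x) :=
  E.U.inC_mul (E.U.inC_mul (E.U.inC_mul (E.U.inC_pow (E.U.inC_Q E.U.z_mem) _)
    (E.U.inC_pow (E.U.inC_Q E.a1_mem.1) _)) (E.U.inC_pow (E.U.inC_Q E.a2_mem.1) _)) (E.U.inC_pow E.j_C _)

theorem v0_mem {x : V4} (hx : cJ x = 0) : E.v0 x ∈ E.U.Q := by
  rw [v0, hx]
  simpa using mul_mem (mul_mem (pow_mem E.U.z_mem (cZ x).val) (pow_mem E.a1_mem.1 (x 0).val))
    (pow_mem E.a2_mem.1 (cA2 x).val)

theorem π_v0 (x : V4) : E.U.π (E.v0 x) = E.U.π E.j ^ (cJ x).val := by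
  have h : E.U.z ^ (cZ x).val * E.a1 ^ (x 0).val * E.a2 ^ (cA2 x).val ∈ E.U.Q :=
    mul_mem (mul_mem (pow_mem E.U.z_mem _) (pow_mem E.a1_mem.1 _)) (pow_mem E.a2_mem.1 _)
  rw [v0, E.U.π_mul _ _ (E.U.inC_Q h) (E.U.inC_pow E.j_C _), ((E.U.ker _ (E.U.inC_Q h)).2 h).1, one_mul,
    E.U.π_pow E.j_C]

theorem f_cross {p q : G} (hp : p ∈ E.U.Q1) (hq : q ∈ E.U.Q2) : E.U.f p q = 0 ∧ E.U.f q p = 0 := by
  have := (E.U.mem_Q1.1 hp).2 q hq
  exact ⟨this, by rw [E.U.f_swap hp.1 hq.1, this, neg_zero]⟩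

theorem v0_inj : Function.Injective E.v0 := by
  suffices h : ∀ x, E.v0 x = 1 → x = 0 by
    intro x y e
    refine sub_eq_zero.1 (h _ ?_)
    rw [sub_eq_add_neg, E.v0_add, E.v0_neg, e, mul_inv_cancel]
  intro x hx
  have h0 : cJ x = 0 := by
    by_contra hne
    have h := E.π_v0 x
    rw [hx, E.U.π_one] at h
    apply E.j_pi
    rcases zmod3_val _ hne with e | e <;> rw [e] at h
    · simpa using h.symm
    · have h3 : E.U.π E.j ^ 3 = 1 := by rw [← E.U.π_pow E.j_C, E.j_cube, E.U.π_one]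
      rwa [pow_succ, ← h, one_mul] at h3
  have hx' : E.U.z ^ (cZ x).val * E.a1 ^ (x 0).val * E.a2 ^ (cA2 x).val = 1 := by
    simpa [v0, h0] using hx
  have hz := pow_mem E.U.z_mem (cZ x).val
  have hzs : E.U.z ^ (cZ x).val ∈ E.U.Zs := E.U.mem_Zs_pow
  have h1 : x 0 = 0 := by
    have h := congrArg (E.U.f E.b1) hx'
    rw [E.U.f_mul_right E.b1_mem.1 (mul_mem hz (pow_mem E.a1_mem.1 _)) (pow_mem E.a2_mem.1 _),
      E.U.f_mul_right E.b1_mem.1 hz (pow_mem E.a1_mem.1 _), E.U.f_Zs_right E.b1_mem.1 hzs,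
      E.U.f_pow_right E.b1_mem.1 E.a1_mem.1, E.U.f_pow_right E.b1_mem.1 E.a2_mem.1, E.f1,
      (E.f_cross E.b1_mem E.a2_mem).1, E.U.f_Zs_right E.b1_mem.1 (one_mem _)] at h
    simpa using h
  have h2 : cA2 x = 0 := by
    have h := congrArg (E.U.f E.b2) hx'
    rw [E.U.f_mul_right E.b2_mem.1 (mul_mem hz (pow_mem E.a1_mem.1 _)) (pow_mem E.a2_mem.1 _),
      E.U.f_mul_right E.b2_mem.1 hz (pow_mem E.a1_mem.1 _), E.U.f_Zs_right E.b2_mem.1 hzs,
      E.U.f_pow_right E.b2_mem.1 E.a1_mem.1, E.U.f_pow_right E.b2_mem.1 E.a2_mem.1, E.f2,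
      (E.f_cross E.a1_mem E.b2_mem).2, E.U.f_Zs_right E.b2_mem.1 (one_mem _)] at h
    simpa using h
  have h3 : cZ x = 0 := E.U.exp_inj (by simpa [h1, h2] using hx')
  rw [coeff_expand x, h0, h1, h2, h3]
  simp

/-- The image of a subgroup of coordinates. -/
def img (S : AddSubgroup V4) : Subgroup G where
  carrier := E.v0 '' S
  one_mem' := ⟨0, S.zero_mem, E.v0_zero⟩
  mul_mem' := by rintro _ _ ⟨x, hx, rfl⟩ ⟨y, hy, rfl⟩; exact ⟨x + y, S.add_mem hx hy, E.v0_add x y⟩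
  inv_mem' := by rintro _ ⟨x, hx, rfl⟩; exact ⟨-x, S.neg_mem hx, E.v0_neg x⟩

theorem img_comm (S : AddSubgroup V4) : ∀ a ∈ E.img S, ∀ b ∈ E.img S, a * b = b * a := by
  rintro _ ⟨x, -, rfl⟩ _ ⟨y, -, rfl⟩; exact E.v0_comm x y

theorem img_card (S : AddSubgroup V4) : Nat.card (E.img S) = Nat.card S :=
  Nat.card_image_of_injective E.v0_inj (S : Set V4)

/-- The centraliser of a plane is `J`. -/
theorem cent_img (W : Setup G) {S : AddSubgroup V4} (hS : E.img S ≤ W.Q) (h27 : Nat.card S = 27) {g : G}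
    (hg : ∀ x ∈ S, g * E.v0 x = E.v0 x * g) : ∃ x, E.v0 x = g := by
  obtain ⟨-, hle⟩ := W.cent_abelian hS (E.img_comm S) ((E.img_card S).trans h27)
  have hJ : E.img ⊤ = Subgroup.centralizer (E.img S : Set G) := by
    refine Subgroup.eq_of_le_of_card_ge ?_ ?_
    · rintro _ ⟨x, -, rfl⟩
      exact Subgroup.mem_centralizer_iff.2 fun u ⟨y, _, e⟩ => e ▸ E.v0_comm y x
    · rw [E.img_card]
      refine hle.trans (le_of_eq ?_)
      rw [AddSubgroup.card_top]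
      simp [V4]
  have hmem : g ∈ E.img ⊤ := hJ ▸ Subgroup.mem_centralizer_iff.2 fun u ⟨y, hy, e⟩ => e ▸ (hg y hy).symm
  obtain ⟨x, -, hx⟩ := hmem
  exact ⟨x, hx⟩

theorem mem_plane_of_mem (W : Setup G) {S : AddSubgroup V4} (hS : E.img S ≤ W.Q) (h27 : Nat.card S = 27) {x : V4}
    (hx : E.v0 x ∈ W.Q) : x ∈ S := by
  obtain ⟨y, hy, e⟩ := W.cent_in_Q hS (E.img_comm S) ((E.img_card S).trans h27) hx
    fun a ⟨y, _, e⟩ => e ▸ E.v0_comm y x
  exact E.v0_inj e ▸ hy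

theorem planeU_le : E.img planeU ≤ E.U.Q := by
  rintro _ ⟨x, hx, rfl⟩
  exact E.v0_mem ((fB_mem_plane x).1 hx)

theorem exists_of_comm {q : G} (hq : q ∈ E.U.Q) (h1 : E.U.f q E.a1 = 0) (h2 : E.U.f q E.a2 = 0) :
    ∃ x, E.v0 x = q := by
  have c1 : Commute q E.a1 := (E.U.f_zero hq E.a1_mem.1).1 h1
  have c2 : Commute q E.a2 := (E.U.f_zero hq E.a2_mem.1).1 h2
  refine E.cent_img E.U E.planeU_le planeU_card fun x hx => ?_
  rw [v0, (fB_mem_plane x).1 hx]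
  exact ((((Commute.pow_right (E.U.z_comm q hq : Commute q E.U.z) _)).mul_right (c1.pow_right _)).mul_right
    (c2.pow_right _)).mul_right (by simp)

/-- An action is determined on the basis. -/
theorem act_of_basis (g : G) (f : V4 → V4) (hf : ∀ x y, f (x + y) = f x + f y)
    (h1 : g * E.U.z * g⁻¹ = E.v0 (f zv)) (h2 : g * E.a1 * g⁻¹ = E.v0 (f av))
    (h3 : g * E.a2 * g⁻¹ = E.v0 (f a2v)) (h4 : g * E.j * g⁻¹ = E.v0 (f jv)) (x : V4) :
    g * E.v0 x * g⁻¹ = E.v0 (f x) := by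
  have hs : ∀ (c : ZMod 3) (y : V4), f (c • y) = c • f y := ZMod.map_smul (AddMonoidHom.mk' f hf)
  conv_rhs => rw [coeff_expand x]
  rw [hf, hf, hf, hs, hs, hs, hs, E.v0_add, E.v0_add, E.v0_add, E.v0_smul, E.v0_smul, E.v0_smul, E.v0_smul,
    ← h1, ← h2, ← h3, ← h4, conj_pow, conj_pow, conj_pow, conj_pow, v0]
  group

/-- The coordinates from the configuration. -/
def base0 : FrameBase G where
  U := E.U
  v := E.v0
  v_add := E.v0_add
  v_inj := E.v0_inj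
  v_z := E.v0_zv
  v_mem x hx := E.v0_mem ((fB_mem_plane x).1 hx)
  v_C := E.v0_C
  j_pi := by rw [E.v0_jv]; exact E.j_pi
  cent_A g hg := E.cent_img E.U E.planeU_le planeU_card hg
  b1 := E.b1
  b2 := E.b2
  b1_mem := E.b1_mem.1
  b2_mem := E.b2_mem.1
  b_span q hq := by
    set i := E.U.f q E.a1 with hi
    set k := E.U.f q E.a2 with hk
    have hp : E.b1 ^ i.val * E.b2 ^ k.val ∈ E.U.Q := mul_mem (pow_mem E.b1_mem.1 _) (pow_mem E.b2_mem.1 _)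
    obtain ⟨x, hx⟩ := E.exists_of_comm (q := (E.b1 ^ i.val * E.b2 ^ k.val)⁻¹ * q) (mul_mem (inv_mem hp) hq) (by
        rw [E.U.f_mul_left (inv_mem hp) hq E.a1_mem.1, E.U.f_inv_left hp E.a1_mem.1,
          E.U.f_mul_left (pow_mem E.b1_mem.1 _) (pow_mem E.b2_mem.1 _) E.a1_mem.1,
          E.U.f_pow_left E.b1_mem.1 E.a1_mem.1, E.U.f_pow_left E.b2_mem.1 E.a1_mem.1, E.f1,
          (E.f_cross E.a1_mem E.b2_mem).2, ZMod.natCast_zmod_val, ← hi]
        ring) (by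
        rw [E.U.f_mul_left (inv_mem hp) hq E.a2_mem.1, E.U.f_inv_left hp E.a2_mem.1,
          E.U.f_mul_left (pow_mem E.b1_mem.1 _) (pow_mem E.b2_mem.1 _) E.a2_mem.1,
          E.U.f_pow_left E.b1_mem.1 E.a2_mem.1, E.U.f_pow_left E.b2_mem.1 E.a2_mem.1, E.f2,
          (E.f_cross E.b1_mem E.a2_mem).1, ZMod.natCast_zmod_val, ZMod.natCast_zmod_val, ← hk]
        ring)
    exact ⟨⟨i.val, ZMod.val_lt i⟩, ⟨k.val, ZMod.val_lt k⟩, x, by rw [hx, mul_inv_cancel_left]⟩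
  t_act x := by
    obtain ⟨e1, e2, e3, e4⟩ := basis_images.1
    refine E.act_of_basis E.U.t fT (map_add fT) ?_ ?_ ?_ ?_ x
    · rw [e1, E.v0_zv, E.U.t_C, mul_inv_cancel_right]
    · rw [e2, E.v0_neg, E.v0_av, E.U.t_inv, E.a1_t]
    · rw [e3, E.v0_a2v, ← (E.U.mem_Q2.1 E.a2_mem).2, mul_inv_cancel_right]
    · rw [e4, E.v0_jv, E.U.t_inv, E.j_t]
  b1_act x := by
    obtain ⟨e1, e2, e3, e4⟩ := basis_images.2.1
    refine E.act_of_basis E.b1 fB1 (map_add fB1) ?_ ?_ ?_ ?_ x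
    · rw [e1, E.v0_zv, E.U.z_comm _ E.b1_mem.1, mul_inv_cancel_right]
    · rw [e2, E.v0_add, E.v0_av, E.v0_zv, E.U.conj_eq E.b1_mem.1 E.a1_mem.1, E.f1, ZMod.val_one, pow_one]
    · rw [e3, E.v0_a2v, E.U.conj_eq E.b1_mem.1 E.a2_mem.1, (E.f_cross E.b1_mem E.a2_mem).1]
      simp
    · rw [e4, E.v0_add, E.v0_add, E.v0_neg, E.v0_jv, E.v0_av, E.v0_zv, E.j_b1]
  b2_act x := by
    obtain ⟨e1, e2, e3, e4⟩ := basis_images.2.2.1
    refine E.act_of_basis E.b2 fB2 (map_add fB2) ?_ ?_ ?_ ?_ x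
    · rw [e1, E.v0_zv, E.U.z_comm _ E.b2_mem.1, mul_inv_cancel_right]
    · rw [e2, E.v0_av, E.U.conj_eq E.b2_mem.1 E.a1_mem.1, (E.f_cross E.a1_mem E.b2_mem).2]
      simp
    · rw [e3, E.v0_add, E.v0_a2v, E.v0_zv, E.U.conj_eq E.b2_mem.1 E.a2_mem.1, E.f2, ZMod.val_one, pow_one]
    · rw [e4, E.v0_add, E.v0_add, E.v0_neg, E.v0_jv, E.v0_a2v, E.v0_zv, E.j_b2]

theorem w_act : E.base0.Act E.w fW := by
  have hp : E.b1 * E.b2⁻¹ ∈ E.U.Q := mul_mem E.b1_mem.1 (inv_mem E.b2_mem.1)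
  have hi : E.b2⁻¹ ∈ E.U.Q := inv_mem E.b2_mem.1
  obtain ⟨x, hx⟩ := E.exists_of_comm (q := (E.b1 * E.b2⁻¹)⁻¹ * E.w) (mul_mem (inv_mem hp) E.w_U) (by
      rw [E.U.f_mul_left (inv_mem hp) E.w_U E.a1_mem.1, E.U.f_inv_left hp E.a1_mem.1,
        E.U.f_mul_left E.b1_mem.1 hi E.a1_mem.1, E.U.f_inv_left E.b2_mem.1 E.a1_mem.1, E.f1,
        (E.f_cross E.a1_mem E.b2_mem).2, E.w_a1]
      ring) (by
      rw [E.U.f_mul_left (inv_mem hp) E.w_U E.a2_mem.1, E.U.f_inv_left hp E.a2_mem.1,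
        E.U.f_mul_left E.b1_mem.1 hi E.a2_mem.1, E.U.f_inv_left E.b2_mem.1 E.a2_mem.1, E.f2,
        (E.f_cross E.b1_mem E.a2_mem).1, E.w_a2]
      ring)
  have hw : E.w = E.b1 * E.b2 ^ 2 * E.v0 x := by
    rw [hx, show E.b2 ^ 2 = E.b2⁻¹ from eq_inv_of_mul_eq_one_left (by
      rw [← pow_succ, E.U.exp _ E.b2_mem.1]), mul_inv_cancel_left]
  rw [hw]
  exact E.base0.act_bb x

theorem y_mem : E.a1 * E.a2 ∈ E.V.Zs := E.y_eq ▸ Subgroup.mem_zpowers _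

theorem planeV_le : E.img planeV ≤ E.V.Q := by
  rintro _ ⟨x, hx, rfl⟩
  rw [second_span x hx, E.v0_add, E.v0_add, E.v0_smul, E.v0_smul, E.v0_smul, E.v0_zv, E.v0_yv, E.v0_jv]
  exact mul_mem (mul_mem (pow_mem E.z_V _) (pow_mem (E.V.Zs_le E.y_mem) _)) (pow_mem E.j_V _)

theorem y_not : E.a1 * E.a2 ∉ E.U.Zs := fun h => by
  have h' := E.U.f_Zs_right E.b1_mem.1 h
  rw [E.U.f_mul_right E.b1_mem.1 E.a1_mem.1 E.a2_mem.1, E.f1, (E.f_cross E.b1_mem E.a2_mem).1, add_zero] at h'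
  exact one_ne_zero h'

theorem z_not : E.U.z ∉ E.V.Zs := fun h => E.y_not <| by
  have e : E.U.Zs = E.V.Zs :=
    Subgroup.eq_of_le_of_card_ge (Subgroup.zpowers_le.2 h) (by rw [E.U.card_Zs, E.V.card_Zs])
  rw [e]
  exact E.y_mem

/-- The element `g` before normalisation. -/
theorem exists_g : ∃ g : G, ∃ κ ρ : ZMod 3, E.base0.Act g (fGk κ ρ) := by
  set U := E.U
  set V := E.V
  obtain ⟨ζ, hζ⟩ := V.exists_exp E.y_mem
  have hζ0 : ζ ≠ 0 := fun h => E.y_not (by rw [hζ, h]; simp)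
  have hwj : ⁅E.w, E.j⁆ = E.a1 * E.a2 := by
    have h := E.w_act jv
    change E.w * E.v0 jv * E.w⁻¹ = E.v0 (fW jv) at h
    rw [basis_images.2.2.2.1, E.v0_add, E.v0_jv, E.v0_yv] at h
    rw [commutatorElement_def, h, mul_inv_cancel_right]
  have fwj : V.f E.w E.j = ζ := V.f_eq E.w_V E.j_V (hwj.trans hζ)
  have fwz : V.f E.w U.z = 0 := (V.f_zero E.w_V E.z_V).2 (U.z_comm _ E.w_U)
  obtain ⟨g1, hg1, hg1n⟩ : ∃ g1 ∈ V.Q, V.f g1 U.z ≠ 0 := by
    by_contra h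
    push Not at h
    exact E.z_not (V.mem_Zs_of_f E.z_V fun q hq => by rw [V.f_swap hq E.z_V, h q hq, neg_zero])
  set p := g1 ^ (ζ * V.f g1 U.z).val with hpdef
  have hp : p ∈ V.Q := pow_mem hg1 _
  have fpz : V.f p U.z = ζ := by
    rw [hpdef, V.f_pow_left hg1 E.z_V, ZMod.natCast_zmod_val, mul_assoc, zmod3_mul_self _ hg1n, mul_one]
  set g := p * E.w ^ (-(V.f p E.j) * ζ).val with hgdef
  have hgV : g ∈ V.Q := mul_mem hp (pow_mem E.w_V _)
  have fgz : V.f g U.z = ζ := by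
    rw [hgdef, V.f_mul_left hp (pow_mem E.w_V _) E.z_V, V.f_pow_left E.w_V E.z_V, fwz, fpz]
    ring
  have fgj : V.f g E.j = 0 := by
    rw [hgdef, V.f_mul_left hp (pow_mem E.w_V _) E.j_V, V.f_pow_left E.w_V E.j_V, fwj, ZMod.natCast_zmod_val,
      mul_assoc, zmod3_mul_self _ hζ0]
    ring
  have gz : g * U.z * g⁻¹ = U.z * (E.a1 * E.a2) := by rw [V.conj_eq hgV E.z_V, fgz, ← hζ]
  have gy : g * (E.a1 * E.a2) * g⁻¹ = E.a1 * E.a2 := by rw [V.Zs_central E.y_mem hgV, mul_inv_cancel_right]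
  have gj : g * E.j * g⁻¹ = E.j := by rw [(V.f_zero hgV E.j_V).1 fgj, mul_inv_cancel_right]
  -- the image of `a₁` commutes with the second plane
  have cz : Commute E.a1 U.z := U.z_comm _ E.a1_mem.1
  have cy : Commute E.a1 (E.a1 * E.a2) :=
    (Commute.refl _).mul_right (Subgroup.mem_centralizer_iff.1 E.a1_mem.2 _ E.a2_mem).symm
  have cj : Commute E.a1 E.j := E.j_a1
  have ha1C : V.InC E.a1 := by
    have hz : V.z ∈ Subgroup.zpowers (E.a1 * E.a2) := E.y_eq ▸ Subgroup.mem_zpowers _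
    obtain ⟨k, hk⟩ := Subgroup.mem_zpowers_iff.1 hz
    show Commute E.a1 V.z
    rw [← hk]
    exact cy.zpow_right k
  obtain ⟨pv, hpv⟩ : ∃ x, E.v0 x = g * E.a1 * g⁻¹ := by
    refine E.cent_img V E.planeV_le planeV_card fun x hx => ?_
    have cy' : Commute (g * E.a1 * g⁻¹) (E.a1 * E.a2) := by rw [← gy]; exact (Commute.conj_iff g).2 cy
    have cj' : Commute (g * E.a1 * g⁻¹) E.j := by rw [← gj]; exact (Commute.conj_iff g).2 cj
    have cz' : Commute (g * E.a1 * g⁻¹) U.z := by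
      have h : Commute (g * E.a1 * g⁻¹) (U.z * (E.a1 * E.a2)) := by rw [← gz]; exact (Commute.conj_iff g).2 cz
      have h' := h.mul_right cy'.inv_right
      rwa [mul_inv_cancel_right] at h'
    rw [second_span x hx, E.v0_add, E.v0_add, E.v0_smul, E.v0_smul, E.v0_smul, E.v0_zv, E.v0_yv, E.v0_jv]
    exact ((cz'.pow_right _).mul_right (cy'.pow_right _)).mul_right (cj'.pow_right _)
  set d := pv + -av with hd
  have hvd : E.v0 d = g * E.a1 * g⁻¹ * E.a1⁻¹ := by rw [hd, E.v0_add, E.v0_neg, hpv, E.v0_av]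
  have hdV : E.v0 d ∈ V.Q := by
    rw [hvd, show g * E.a1 * g⁻¹ * E.a1⁻¹ = g * (E.a1 * g⁻¹ * E.a1⁻¹) by group]
    exact mul_mem hgV (V.normal _ ha1C _ (inv_mem hgV))
  have hdS : d ∈ planeV := E.mem_plane_of_mem V E.planeV_le planeV_card hdV
  -- the coefficient of `j`
  have fwd : V.f E.w (E.v0 d) = cJ d * ζ := by
    rw [second_span d hdS, E.v0_add, E.v0_add, E.v0_smul, E.v0_smul, E.v0_smul, E.v0_zv, E.v0_yv, E.v0_jv,
      V.f_mul_right E.w_V (mul_mem (pow_mem E.z_V _) (pow_mem (V.Zs_le E.y_mem) _)) (pow_mem E.j_V _),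
      V.f_mul_right E.w_V (pow_mem E.z_V _) (pow_mem (V.Zs_le E.y_mem) _),
      V.f_Zs_right E.w_V (pow_mem E.y_mem _), V.f_pow_right E.w_V E.z_V, V.f_pow_right E.w_V E.j_V, fwz, fwj,
      ← second_span d hdS, ZMod.natCast_zmod_val, ZMod.natCast_zmod_val]
    ring
  have fzd : V.f U.z (E.v0 d) = 0 := (V.f_zero E.z_V hdV).2 (by rw [← E.v0_zv]; exact E.v0_comm _ _)
  have eg : E.a1 * g * E.a1⁻¹ = (E.v0 d)⁻¹ * g := by rw [hvd]; group
  have ew : E.a1 * E.w * E.a1⁻¹ = U.z⁻¹ * E.w := by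
    have h := U.conj_eq E.w_U E.a1_mem.1
    rw [E.w_a1, ZMod.val_one, pow_one] at h
    have hw : E.w * E.a1 = E.a1 * U.z * E.w := by rw [← h]; group
    have hw2 : E.a1 * E.w = U.z⁻¹ * (E.w * E.a1) := by
      rw [hw, cz.eq]; group
    rw [hw2]; group
  have hν : cJ d = 1 := by
    have h := V.f_conj ha1C E.w_V hgV
    rw [ew, eg, V.f_mul_left (inv_mem E.z_V) E.w_V (mul_mem (inv_mem hdV) hgV), V.f_inv_left E.z_V (mul_mem (inv_mem hdV) hgV),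
      V.f_mul_right E.z_V (inv_mem hdV) hgV, V.f_mul_right E.w_V (inv_mem hdV) hgV, V.f_inv_right E.z_V hdV,
      V.f_inv_right E.w_V hdV, fzd, fwd, V.f_swap hgV E.z_V, fgz] at h
    exact (show ∀ ν c e : ZMod 3, c ≠ 0 → -(-0 + -c) + (-(ν * c) + e) = e → ν = 1 by decide) _ _ _ hζ0 h
  refine ⟨g, cZ d, d 0, fun x => E.act_of_basis g _ (fGk_add _ _) ?_ ?_ ?_ ?_ x⟩
  · rw [(fGk_basis _ _).1, E.v0_add, E.v0_zv, E.v0_yv, gz]
  · rw [(fGk_basis _ _).2.1, ← hpv]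
    congr 1
    have h := second_span d hdS
    rw [hν, one_smul] at h
    rw [show pv = d + av by rw [hd, neg_add_cancel_right]]
    nth_rw 1 [h]
    abel
  · rw [(fGk_basis _ _).2.2.1, E.v0_add, E.v0_neg, E.v0_yv]
    have h : E.v0 (av + jv + cZ d • zv + d 0 • yv) = g * E.a1 * g⁻¹ := by
      rw [← hpv]
      congr 1
      have h := second_span d hdS
      rw [hν, one_smul] at h
      rw [show pv = d + av by rw [hd, neg_add_cancel_right]]
      nth_rw 3 [h]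
      abel
    rw [h]
    calc g * E.a2 * g⁻¹ = (g * E.a1 * g⁻¹)⁻¹ * (g * (E.a1 * E.a2) * g⁻¹) := by group
      _ = (g * E.a1 * g⁻¹)⁻¹ * (E.a1 * E.a2) := by rw [gy]
      _ = _ := by
        refine (Commute.inv_left ?_).eq
        rw [← hpv, ← E.v0_yv]
        exact E.v0_comm _ _
  · rw [(fGk_basis _ _).2.2.2, E.v0_jv, gj]

/-- The configuration has coordinates in which `g` acts by `fG`. -/
theorem exists_frameData (E : Elem G) : Nonempty (FrameData G) := by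
  obtain ⟨g, κ, ρ, hg⟩ := E.exists_g
  exact FrameBase.exists_normalised E.base0 hg E.w_act

end Elem

end Cfsg.Agent.OEightThree
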