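import Cfsg.Agent.Lib.OEightThree.Elem
import Cfsg.Agent.Lib.OEightThree.CoordTwo

/-
`FrameData`: coordinates `v : V4 → G` on `J = C_G(⟨z,a₁,a₂⟩)` with the actions of `t, b₁, b₂, g`.
-/

set_option autoImplicit false
set_option maxRecDepth 10000

namespace Cfsg.Agent.OEightThree

open scoped commutatorElement Pointwise

variable {G : Type*} [Group G] [Finite G]

theorem pow_val_add {g : G} (hg : g ^ 3 = 1) (k l : ZMod 3) : g ^ (k + l).val = g ^ k.val * g ^ l.val := by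
  rw [ZMod.val_add, ← pow_add, ← pow_eq_pow_mod _ hg]

/-- The coordinates before the choice of `g`. -/
structure FrameBase (G : Type*) [Group G] [Finite G] where
  U : Setup G
  v : V4 → G
  v_add : ∀ x y, v (x + y) = v x * v y
  v_inj : Function.Injective v
  v_z : v zv = U.z
  v_mem : ∀ x, dot x zv = 0 → v x ∈ U.Q
  v_C : ∀ x, U.InC (v x)
  j_pi : U.π (v jv) ≠ 1
  cent_A : ∀ g : G, (∀ x, dot x zv = 0 → g * v x = v x * g) → ∃ x, v x = g
  b1 : G
  b2 : G
  b1_mem : b1 ∈ U.Q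
  b2_mem : b2 ∈ U.Q
  b_span : ∀ q ∈ U.Q, ∃ i k : Fin 3, ∃ x, q = b1 ^ i.val * b2 ^ k.val * v x
  t_act : ∀ x, U.t * v x * U.t⁻¹ = v (fT x)
  b1_act : ∀ x, b1 * v x * b1⁻¹ = v (fB1 x)
  b2_act : ∀ x, b2 * v x * b2⁻¹ = v (fB2 x)

/-- The configuration with coordinates. -/
structure FrameData (G : Type*) [Group G] [Finite G] extends FrameBase G where
  g : G
  g_act : ∀ x, g * v x * g⁻¹ = v (fG x)

namespace FrameBase

variable (F : FrameBase G)

/-- `g` acts on `J` by `f`. -/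
def Act (g : G) (f : V4 → V4) : Prop := ∀ x, g * F.v x * g⁻¹ = F.v (f x)

theorem v_zero : F.v 0 = 1 := by simpa using F.v_add 0 0

theorem v_neg (x : V4) : F.v (-x) = (F.v x)⁻¹ :=
  eq_inv_of_mul_eq_one_left (by rw [← F.v_add, neg_add_cancel, F.v_zero])

theorem v_comm (x y : V4) : F.v x * F.v y = F.v y * F.v x := by rw [← F.v_add, add_comm, F.v_add]

theorem v_cube (x : V4) : F.v x ^ 3 = 1 := by
  rw [pow_three, ← F.v_add, ← F.v_add, ← F.v_zero]
  congr 1
  funext i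
  exact (show ∀ u : ZMod 3, u + (u + u) = 0 by decide) (x i)

theorem v_smul (c : ZMod 3) (x : V4) : F.v (c • x) = F.v x ^ c.val := by
  fin_cases c
  · show F.v ((0 : ZMod 3) • x) = F.v x ^ 0
    rw [zero_smul, pow_zero, F.v_zero]
  · show F.v ((1 : ZMod 3) • x) = F.v x ^ 1
    rw [one_smul, pow_one]
  · show F.v ((2 : ZMod 3) • x) = F.v x ^ 2
    rw [pow_two, ← F.v_add, ← two_smul (ZMod 3) x]

/-- The subgroup `J`. -/
def J : Subgroup G where
  carrier := Set.range F.v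
  one_mem' := ⟨0, F.v_zero⟩
  mul_mem' := by rintro _ _ ⟨x, rfl⟩ ⟨y, rfl⟩; exact ⟨x + y, F.v_add x y⟩
  inv_mem' := by rintro _ ⟨x, rfl⟩; exact ⟨-x, F.v_neg x⟩

theorem mem_J {g : G} : g ∈ F.J ↔ ∃ x, F.v x = g := Iff.rfl

theorem v_mem_J (x : V4) : F.v x ∈ F.J := ⟨x, rfl⟩

theorem J_comm : ∀ a ∈ F.J, ∀ b ∈ F.J, a * b = b * a := by
  rintro _ ⟨x, rfl⟩ _ ⟨y, rfl⟩; exact F.v_comm x y

theorem J_card : Nat.card F.J = 81 := by
  show Nat.card (Set.range F.v) = 81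
  rw [Nat.card_congr (Equiv.ofInjective F.v F.v_inj).symm, Nat.card_eq_fintype_card]
  simp [V4]

theorem J_three : IsPGroup 3 F.J := fun a => by
  obtain ⟨x, hx⟩ := a.2
  exact ⟨1, Subtype.ext (by simpa [← hx] using F.v_cube x)⟩

theorem act_one : F.Act 1 id := fun x => by simp

theorem act_mul {g h : G} {f f' : V4 → V4} (hg : F.Act g f) (hh : F.Act h f') : F.Act (g * h) (f ∘ f') :=
  fun x => by
    rw [Function.comp_apply, ← hg, ← hh]; group

theorem act_pow {g : G} {f : V4 → V4} (hg : F.Act g f) : ∀ n : ℕ, F.Act (g ^ n) (f^[n])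
  | 0 => by simpa using F.act_one
  | n + 1 => by
    rw [pow_succ, Function.iterate_succ]
    exact F.act_mul (act_pow hg n) hg

theorem act_v (y : V4) : F.Act (F.v y) id := fun x => by rw [F.v_comm, id, mul_inv_cancel_right]

theorem act_unique {g : G} {f f' : V4 → V4} (h : F.Act g f) (h' : F.Act g f') : f = f' :=
  funext fun x => F.v_inj ((h x).symm.trans (h' x))

theorem mem_J_of_act {g : G} (h : F.Act g id) : g ∈ F.J :=
  F.cent_A g fun x _ => mul_inv_eq_iff_eq_mul.1 (h x)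

theorem act_B (i k : Fin 3) : F.Act (F.b1 ^ i.val * F.b2 ^ k.val) (fB i k) :=
  F.act_mul (F.act_pow F.b1_act _) (F.act_pow F.b2_act _)

theorem mem_norm {g : G} {f : V4 → V4} (h : F.Act g f) : g ∈ Subgroup.normalizer (F.J : Set G) := by
  rw [Subgroup.mem_normalizer_iff]
  have hinj : Function.Injective f := fun a b e => F.v_inj (by
    have := (h a).trans ((congrArg F.v e).trans (h b).symm)
    simpa using this)
  have hsurj := Finite.surjective_of_injective hinj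
  intro y
  constructor
  · rintro ⟨x, rfl⟩; exact ⟨f x, (h x).symm⟩
  · rintro ⟨x, hx⟩
    obtain ⟨x', rfl⟩ := hsurj x
    refine ⟨x', ?_⟩
    rw [← h] at hx
    simpa using hx

theorem Q_norm : F.U.Q ≤ Subgroup.normalizer (F.J : Set G) := fun q hq => by
  obtain ⟨i, k, x, rfl⟩ := F.b_span q hq
  exact F.mem_norm (F.act_mul (F.act_B i k) (F.act_v x))

/-- The Sylow subgroup `Q J`. -/
def S : Subgroup G := F.U.Q ⊔ F.J

theorem mem_S {s : G} : s ∈ F.S ↔ ∃ q ∈ F.U.Q, ∃ u ∈ F.J, q * u = s := by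
  have h : ((F.S : Subgroup G) : Set G) = (F.U.Q : Set G) * (F.J : Set G) := by
    refine Subgroup.coe_mul_of_right_le_normalizer_left F.U.Q F.J ?_
    rintro u ⟨x, rfl⟩
    have hx := F.v_C x
    rw [Subgroup.mem_normalizer_iff]
    intro q
    refine ⟨fun hq => F.U.normal _ hx q hq, fun hq => ?_⟩
    have := F.U.normal _ (F.U.inC_inv hx) _ hq
    simpa [mul_assoc] using this
  rw [← SetLike.mem_coe, h, Set.mem_mul]
  simp only [SetLike.mem_coe]

theorem S_cube {s : G} (hs : s ∈ F.S) : s ^ 3 ∈ F.J := by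
  obtain ⟨q, hq, u, hu, rfl⟩ := F.mem_S.1 hs
  have hn := Subgroup.mem_normalizer_iff.1 (F.Q_norm hq)
  have h1 := (hn u).1 hu
  have h2 := (hn _).1 h1
  have e : (q * u) ^ 3 = (q * u * q⁻¹) * (q * (q * u * q⁻¹) * q⁻¹) * (q ^ 3 * u) := by
    rw [pow_three, pow_three]; group
  rw [e, F.U.exp q hq, one_mul]
  exact mul_mem (mul_mem h1 h2) hu

theorem S_three : IsPGroup 3 F.S := fun s => by
  obtain ⟨u, hu⟩ := F.S_cube s.2
  refine ⟨2, Subtype.ext ?_⟩
  rw [SubgroupClass.coe_pow, show (3 : ℕ) ^ 2 = 3 * 3 by norm_num, pow_mul, ← hu, F.v_cube]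
  rfl

theorem v_jv_not_Q : F.v jv ∉ F.U.Q := fun h => F.j_pi ((F.U.ker _ (F.v_C jv)).2 h).1

theorem S_card : Nat.card F.S = 729 := by
  have : Fact (Nat.Prime 3) := ⟨Nat.prime_three⟩
  refine le_antisymm (F.U.three _ F.S_three) ?_
  obtain ⟨k, hk⟩ := IsPGroup.iff_card.1 F.S_three
  have hlt : 243 < Nat.card F.S := by
    rw [← F.U.card]
    refine lt_of_le_of_ne (Subgroup.card_le_of_le le_sup_left) fun h => F.v_jv_not_Q ?_
    have e := Subgroup.eq_of_le_of_card_ge (le_sup_left : F.U.Q ≤ F.S) h.ge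
    rw [e]; exact Subgroup.mem_sup_right (F.v_mem_J jv)
  rw [hk] at hlt ⊢
  calc (729 : ℕ) = 3 ^ 6 := by norm_num
    _ ≤ 3 ^ k := Nat.pow_le_pow_right (by norm_num) (by
      by_contra h
      have : 3 ^ k ≤ 3 ^ 5 := Nat.pow_le_pow_right (by norm_num) (by omega)
      omega)

/-- `J` is the only abelian subgroup of order 81 of `S`. -/
theorem abelian_S {K : Subgroup G} (hK : K ≤ F.S) (hc : ∀ a ∈ K, ∀ b ∈ K, a * b = b * a)
    (h81 : Nat.card K = 81) : K = F.J := by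
  refine Subgroup.eq_of_le_of_card_ge ?_ (by rw [F.J_card, h81])
  obtain ⟨s, hs, hsQ⟩ : ∃ s ∈ K, s ∉ F.U.Q := by
    by_contra h
    push Not at h
    have := F.U.card_abelian h hc
    omega
  have inter : ∀ q ∈ K, q ∈ F.U.Q → ∃ x, dot x zv = 0 ∧ F.v x = q := by
    intro q hqK hq
    obtain ⟨i, k, x, hx⟩ := F.b_span q hq
    obtain ⟨q', hq', _, ⟨y, rfl⟩, rfl⟩ := F.mem_S.1 (hK hs)
    have hy : cJ y ≠ 0 := fun h => hsQ (mul_mem hq' (F.v_mem y ((fB_mem_plane y).2 h)))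
    -- conjugating the `J` part
    have hc' : ⁅q', q⁆ ∈ F.U.Zs := F.U.comm q' hq' q hq
    have e : q * F.v y * q⁻¹ = ⁅q, q'⁻¹⁆ * F.v y := by
      have h := hc q hqK _ hs
      calc q * F.v y * q⁻¹ = q * q'⁻¹ * (q' * F.v y) * q⁻¹ := by group
        _ = q * q'⁻¹ * q⁻¹ * (q * (q' * F.v y)) * q⁻¹ := by group
        _ = _ := by rw [h]; simp only [commutatorElement_def]; group
    obtain ⟨m, hm⟩ := F.U.exists_exp (F.U.comm q hq q'⁻¹ (inv_mem hq'))
    have hact := F.act_mul (F.act_B i k) (F.act_v x) y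
    rw [← hx, e, hm, ← F.v_z, ← F.v_smul, ← F.v_add] at hact
    have hz := F.v_inj hact
    obtain ⟨rfl, rfl⟩ : i = 0 ∧ k = 0 := plane_move i k m y hy hz.symm
    have hxq : F.v x = q := by rw [hx]; simp
    refine ⟨x, ?_, hxq⟩
    rw [fB_mem_plane]
    by_contra hx0
    apply F.v_jv_not_Q
    have hsm : F.v (cJ x • jv) ∈ F.U.Q := by
      have hd : dot (x - cJ x • jv) zv = 0 := plane_sub x
      have := mul_mem (inv_mem (F.v_mem _ hd)) (hxq ▸ hq)
      rwa [← F.v_neg, ← F.v_add, neg_sub, sub_add_cancel] at this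
    rw [F.v_smul] at hsm
    rcases zmod3_val _ hx0 with e' | e' <;> rw [e'] at hsm
    · simpa using hsm
    · have := pow_mem hsm 2
      rwa [← pow_mul, show 2 * 2 = 3 + 1 by norm_num, pow_add, F.v_cube, one_mul, pow_one] at this
  intro w hw
  refine F.mem_J.2 (F.cent_A w fun x hx => ?_)
  -- `K` meets `Q` in all of the plane
  have hQ27 : 27 ≤ Nat.card ↥(K ⊓ F.U.Q) := by
    let φ : ↥K →* SL23 := MonoidHom.mk' (fun p => F.U.π p) fun p r => by
      obtain ⟨q1, hq1, _, ⟨y1, rfl⟩, e1⟩ := F.mem_S.1 (hK p.2)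
      obtain ⟨q2, hq2, _, ⟨y2, rfl⟩, e2⟩ := F.mem_S.1 (hK r.2)
      exact F.U.π_mul _ _ (e1 ▸ F.U.inC_mul (F.U.inC_Q hq1) (F.v_C y1))
        (e2 ▸ F.U.inC_mul (F.U.inC_Q hq2) (F.v_C y2))
    have hKC : ∀ p ∈ K, F.U.InC p := fun p hp => by
      obtain ⟨q1, hq1, _, ⟨y1, rfl⟩, e1⟩ := F.mem_S.1 (hK hp)
      exact e1 ▸ F.U.inC_mul (F.U.inC_Q hq1) (F.v_C y1)
    have : Fact (Nat.Prime 3) := ⟨Nat.prime_three⟩
    have hK3 := F.S_three.to_le hK
    obtain ⟨k, hk⟩ := IsPGroup.iff_card.1 (hK3.of_surjective φ.rangeRestrict φ.rangeRestrict_surjective)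
    have hd := Subgroup.card_subgroup_dvd_card φ.range
    rw [Setup.card_SL23, hk] at hd
    have hk1 : k ≤ 1 := by
      by_contra h
      have h9 : (9 : ℕ) ∣ 24 := (Nat.pow_dvd_pow 3 (show 2 ≤ k by omega)).trans hd
      norm_num at h9
    have h := Subgroup.card_mul_index φ.ker
    rw [Subgroup.index_ker, hk, h81] at h
    have hle : Nat.card φ.ker ≤ Nat.card ↥(K ⊓ F.U.Q) := by
      refine Nat.card_le_card_of_injective (fun p => (⟨p.1.1, p.1.2, ?_⟩ : ↥(K ⊓ F.U.Q))) fun p r h =>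
        Subtype.ext (Subtype.ext (congrArg (fun u : ↥(K ⊓ F.U.Q) => (u : G)) h :))
      refine (F.U.ker _ (hKC _ p.1.2)).1 ⟨p.2, ?_⟩
      exact F.U.eps_of_three (n := 2) (hKC _ p.1.2) (by
        obtain ⟨u, hu⟩ := F.S_cube (hK p.1.2)
        rw [show (3 : ℕ) ^ 2 = 3 * 3 by norm_num, pow_mul, ← hu, F.v_cube])
    interval_cases k <;> omega
  let A : Subgroup G :=
    { carrier := {u | ∃ x, dot x zv = 0 ∧ F.v x = u}
      one_mem' := ⟨0, by decide, F.v_zero⟩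
      mul_mem' := by
        rintro _ _ ⟨x, hx, rfl⟩ ⟨y, hy, rfl⟩
        exact ⟨x + y, plane_add x y hx hy, F.v_add x y⟩
      inv_mem' := by
        rintro _ ⟨x, hx, rfl⟩
        exact ⟨-x, plane_neg x hx, F.v_neg x⟩ }
  have hAle : K ⊓ F.U.Q ≤ A := fun q hq => inter q hq.1 hq.2
  have hA27 : Nat.card A ≤ 27 := by
    refine (Nat.card_le_card_of_surjective (fun x : {x : V4 // dot x zv = 0} => (⟨F.v x, x, x.2, rfl⟩ : A)) ?_).trans ?_
    · rintro ⟨u, y, hy, rfl⟩; exact ⟨⟨y, hy⟩, rfl⟩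
    · rw [Nat.card_eq_fintype_card]; decide +kernel
  have hmem : F.v x ∈ K ⊓ F.U.Q := by
    rw [Subgroup.eq_of_le_of_card_ge hAle (hA27.trans hQ27)]
    exact ⟨x, hx, rfl⟩
  exact hc w hw _ hmem.1

/-- An abelian subgroup of order 81 in a 3-group containing `J` is `J`. -/
theorem abelian81 {P K : Subgroup G} (hP : IsPGroup 3 P) (hJP : F.J ≤ P) (hK : K ≤ P)
    (hc : ∀ a ∈ K, ∀ b ∈ K, a * b = b * a) (h81 : Nat.card K = 81) : K = F.J := by
  have : Fact (Nat.Prime 3) := ⟨Nat.prime_three⟩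
  obtain ⟨R, hR⟩ := hP.exists_le_sylow
  have hS : ∀ T : Subgroup G, IsPGroup 3 T → F.S ≤ T → T = F.S := fun T hT hle =>
    (Subgroup.eq_of_le_of_card_ge hle (by rw [F.S_card]; exact F.U.three T hT)).symm
  let S0 : Sylow 3 G := ⟨F.S, F.S_three, fun {T} hT hle => hS T hT hle⟩
  obtain ⟨x, hx⟩ := MulAction.exists_smul_eq G R S0
  have key : ∀ L : Subgroup G, L ≤ P → (∀ a ∈ L, ∀ b ∈ L, a * b = b * a) → Nat.card L = 81 →
      L.map (MulAut.conj x).toMonoidHom = F.J := by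
    intro L hL hLc hL81
    refine F.abelian_S ?_ ?_ ((Subgroup.card_map_of_injective (MulAut.conj x).injective).trans hL81)
    · have hsub : L.map (MulAut.conj x).toMonoidHom ≤ ((x • R : Sylow 3 G) : Subgroup G) := by
        rintro _ ⟨l, hl, rfl⟩
        rw [Sylow.coe_subgroup_smul]
        exact Subgroup.smul_mem_pointwise_smul l (MulAut.conj x) _ (hR (hL hl))
      rw [hx] at hsub
      exact hsub
    · rintro _ ⟨a, ha, rfl⟩ _ ⟨b, hb, rfl⟩
      rw [← map_mul, ← map_mul, hLc a ha b hb]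
  exact Subgroup.map_injective (MulAut.conj x).injective
    ((key K hK hc h81).trans (key F.J hJP F.J_comm F.J_card).symm)

theorem act_cube {h : G} {f : V4 → V4} (hf : F.Act h f) (h9 : ∀ x, f^[9] x = x) (x : V4) : f^[3] x = x := by
  have : Fact (Nat.Prime 3) := ⟨Nat.prime_three⟩
  have hid : f^[9] = id := funext h9
  have hJ9 : h ^ 9 ∈ F.J := F.mem_J_of_act (hid ▸ F.act_pow hf 9)
  obtain ⟨y, hy⟩ := hJ9
  have h27 : h ^ (3 ^ 3) = 1 := by
    rw [show (3 : ℕ) ^ 3 = 9 * 3 by norm_num, pow_mul, ← hy, F.v_cube]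
  have hz : IsPGroup 3 ↥(Subgroup.zpowers h) := by
    obtain ⟨k, -, hk⟩ := (Nat.dvd_prime_pow Nat.prime_three).1 (orderOf_dvd_of_pow_eq_one h27)
    exact IsPGroup.iff_card.2 ⟨k, by rw [Nat.card_zpowers, hk]⟩
  have hP := IsPGroup.to_sup_of_normal_right' hz F.J_three (Subgroup.zpowers_le.2 (F.mem_norm hf))
  obtain ⟨R, hR⟩ := hP.exists_le_sylow
  have hS : ∀ T : Subgroup G, IsPGroup 3 T → F.S ≤ T → T = F.S := fun T hT hle =>
    (Subgroup.eq_of_le_of_card_ge hle (by rw [F.S_card]; exact F.U.three T hT)).symm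
  let S0 : Sylow 3 G := ⟨F.S, F.S_three, fun {T} hT hle => hS T hT hle⟩
  obtain ⟨c, hc⟩ := MulAction.exists_smul_eq G R S0
  have hmem : ∀ p ∈ Subgroup.zpowers h ⊔ F.J, c * p * c⁻¹ ∈ F.S := by
    intro p hp
    have : (MulAut.conj c) • p ∈ ((c • R : Sylow 3 G) : Subgroup G) := by
      rw [Sylow.coe_subgroup_smul]
      exact Subgroup.smul_mem_pointwise_smul p (MulAut.conj c) _ (hR hp)
    rw [hc] at this
    exact this
  have hcJ : F.J.map (MulAut.conj c).toMonoidHom = F.J := by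
    refine F.abelian_S ?_ ?_ ((Subgroup.card_map_of_injective (MulAut.conj c).injective).trans F.J_card)
    · rintro _ ⟨u, hu, rfl⟩; exact hmem u (Subgroup.mem_sup_right hu)
    · rintro _ ⟨a, ha, rfl⟩ _ ⟨b, hb, rfl⟩
      rw [← map_mul, ← map_mul, F.J_comm a ha b hb]
  have h3 := F.S_cube (hmem h (Subgroup.mem_sup_left (Subgroup.mem_zpowers h)))
  rw [conj_pow, ← hcJ] at h3
  obtain ⟨u, hu, hue⟩ := h3
  have : h ^ 3 = u := ((MulAut.conj c).injective (show (MulAut.conj c) u = (MulAut.conj c) (h ^ 3) from hue)).symm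
  obtain ⟨w, rfl⟩ := hu
  exact congrFun (F.act_unique (this ▸ F.act_pow hf 3) (F.act_v w)) x

end FrameBase

end Cfsg.Agent.OEightThree
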