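import Cfsg.Agent.Lib.OEightThree.Pair

/-
A conjugate `y` of `z` in `Q`: the intersection `D` of the two extraspecial groups, an element of the second
centralising `z` outside `Q`, and the resulting symplectic basis `a₁, b₁, a₂, b₂` of `Q` modulo `⟨z⟩`.
-/

set_option autoImplicit false
set_option maxRecDepth 10000

namespace Cfsg.Agent.OEightThree

open scoped commutatorElement

theorem zmod3_val : ∀ k : ZMod 3, k ≠ 0 → k.val = 1 ∨ k.val = 2 := by decide

variable {G : Type*} [Group G] [Finite G]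

/-- Transport to a conjugate. -/
def Setup.conj (U : Setup G) (x : G) : Setup G where
  z := x * U.z * x⁻¹
  Q := U.Q.map (MulAut.conj x).toMonoidHom
  π g := U.π (x⁻¹ * g * x)
  ε g := U.ε (x⁻¹ * g * x)
  z_ne h := U.z_ne (by simpa using h)
  z_mem := ⟨U.z, U.z_mem, rfl⟩
  centre := by
    rintro _ ⟨q, hq, rfl⟩ h
    obtain ⟨k, hk⟩ := Subgroup.mem_zpowers_iff.1 (U.centre q hq fun r hr =>
      (MulAut.conj x).injective (by simpa using h _ ⟨r, hr, rfl⟩))
    exact Subgroup.mem_zpowers_iff.2 ⟨k, by rw [conj_zpow, hk]; rfl⟩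
  z_comm := by
    rintro _ ⟨q, hq, rfl⟩
    simp only [MulEquiv.coe_toMonoidHom, MulAut.conj_apply]
    have h := U.z_comm q hq
    calc x * q * x⁻¹ * (x * U.z * x⁻¹) = x * (q * U.z) * x⁻¹ := by group
      _ = _ := by rw [h]; group
  comm := by
    rintro _ ⟨q, hq, rfl⟩ _ ⟨r, hr, rfl⟩
    obtain ⟨k, hk⟩ := Subgroup.mem_zpowers_iff.1 (U.comm q hq r hr)
    refine Subgroup.mem_zpowers_iff.2 ⟨k, ?_⟩
    rw [conj_zpow, hk]
    simp [commutatorElement_def, mul_assoc]
  exp := by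
    rintro _ ⟨q, hq, rfl⟩
    rw [← map_pow, U.exp q hq, map_one]
  card := (Subgroup.card_map_of_injective (MulAut.conj x).injective).trans U.card
  cent g hg := by
    refine ⟨x⁻¹ * g * x, U.cent (Subgroup.mem_centralizer_iff.2 fun q hq => ?_), by simp [mul_assoc]⟩
    have h := Subgroup.mem_centralizer_iff.1 hg _ ⟨q, hq, rfl⟩
    simp only [MulEquiv.coe_toMonoidHom, MulAut.conj_apply] at h
    calc q * (x⁻¹ * g * x) = x⁻¹ * (x * q * x⁻¹ * g) * x := by group
      _ = _ := by rw [h]; group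
  normal g hg := by
    rintro _ ⟨q, hq, rfl⟩
    refine ⟨(x⁻¹ * g * x) * q * (x⁻¹ * g * x)⁻¹, U.normal _ ?_ q hq, by simp [mul_assoc]⟩
    calc x⁻¹ * g * x * U.z = x⁻¹ * (g * (x * U.z * x⁻¹)) * x := by group
      _ = _ := by rw [hg]; group
  π_mul g h hg hh := by
    rw [show x⁻¹ * (g * h) * x = (x⁻¹ * g * x) * (x⁻¹ * h * x) by group]
    exact U.π_mul _ _
      (by calc x⁻¹ * g * x * U.z = x⁻¹ * (g * (x * U.z * x⁻¹)) * x := by group
            _ = _ := by rw [hg]; group)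
      (by calc x⁻¹ * h * x * U.z = x⁻¹ * (h * (x * U.z * x⁻¹)) * x := by group
            _ = _ := by rw [hh]; group)
  ε_mul g h hg hh := by
    rw [show x⁻¹ * (g * h) * x = (x⁻¹ * g * x) * (x⁻¹ * h * x) by group]
    exact U.ε_mul _ _
      (by calc x⁻¹ * g * x * U.z = x⁻¹ * (g * (x * U.z * x⁻¹)) * x := by group
            _ = _ := by rw [hg]; group)
      (by calc x⁻¹ * h * x * U.z = x⁻¹ * (h * (x * U.z * x⁻¹)) * x := by group
            _ = _ := by rw [hh]; group)
  ker g hg := by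
    have hg' : x⁻¹ * g * x * U.z = U.z * (x⁻¹ * g * x) := by
      calc x⁻¹ * g * x * U.z = x⁻¹ * (g * (x * U.z * x⁻¹)) * x := by group
        _ = _ := by rw [hg]; group
    rw [U.ker _ hg']
    exact ⟨fun h => ⟨_, h, by simp [mul_assoc]⟩, by rintro ⟨q, hq, rfl⟩; simpa [mul_assoc] using hq⟩
  surj A := by
    obtain ⟨g, hg, h1, h2⟩ := U.surj A
    refine ⟨x * g * x⁻¹, ?_, by rw [show x⁻¹ * (x * g * x⁻¹) * x = g by group]; exact h1,
      by rw [show x⁻¹ * (x * g * x⁻¹) * x = g by group]; exact h2⟩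
    calc x * g * x⁻¹ * (x * U.z * x⁻¹) = x * (g * U.z) * x⁻¹ := by group
      _ = _ := by rw [hg]; group
  three := U.three
  fused := by
    obtain ⟨y, hy, hyn⟩ := U.fused
    refine ⟨x * y * x⁻¹, ⟨y * U.z * y⁻¹, hy, by simp [mul_assoc]⟩, fun h => hyn ?_⟩
    obtain ⟨k, hk⟩ := Subgroup.mem_zpowers_iff.1 h
    refine Subgroup.mem_zpowers_iff.2 ⟨k, ?_⟩
    rw [show U.z ^ k = x⁻¹ * (x * U.z ^ k * x⁻¹) * x by group, ← conj_zpow, hk]
    group
  t := x * U.t * x⁻¹
  t_C := by
    calc x * U.t * x⁻¹ * (x * U.z * x⁻¹) = x * (U.t * U.z) * x⁻¹ := by group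
      _ = _ := by rw [U.t_C]; group
  t_sq := by rw [show x * U.t * x⁻¹ * (x * U.t * x⁻¹) = x * (U.t * U.t) * x⁻¹ by group, U.t_sq]; group
  t_π := by rw [show x⁻¹ * (x * U.t * x⁻¹) * x = U.t by group]; exact U.t_π
  t_ε := by rw [show x⁻¹ * (x * U.t * x⁻¹) * x = U.t by group]; exact U.t_ε
  t_card := by
    rw [← U.t_card]
    conv_rhs => rw [← Subgroup.card_map_of_injective (f := (MulAut.conj x).toMonoidHom) (MulAut.conj x).injective]
    congr 1
    refine congrArg (fun H : Subgroup G => ↥H) ?_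
    ext g
    constructor
    · rintro ⟨⟨q, hq, rfl⟩, hc⟩
      refine ⟨q, ⟨hq, ?_⟩, rfl⟩
      have h := Subgroup.mem_centralizer_singleton_iff.1 hc
      simp only [MulEquiv.coe_toMonoidHom, MulAut.conj_apply] at h
      refine Subgroup.mem_centralizer_singleton_iff.2 ?_
      calc q * U.t = x⁻¹ * (x * q * x⁻¹ * (x * U.t * x⁻¹)) * x := by group
        _ = _ := by rw [h]; group
    · rintro ⟨q, ⟨hq, hc⟩, rfl⟩
      refine ⟨⟨q, hq, rfl⟩, Subgroup.mem_centralizer_singleton_iff.2 ?_⟩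
      have h := Subgroup.mem_centralizer_singleton_iff.1 hc
      simp only [MulEquiv.coe_toMonoidHom, MulAut.conj_apply]
      calc x * q * x⁻¹ * (x * U.t * x⁻¹) = x * (q * U.t) * x⁻¹ := by group
        _ = _ := by rw [h]; group

namespace Setup

variable (U : Setup G)

theorem card_SL23 : Nat.card SL23 = 24 := by rw [Nat.card_eq_fintype_card]; decide +kernel

theorem eps_of_three {g : G} (hg : U.InC g) {n : ℕ} (h : g ^ (3 ^ n) = 1) : U.ε g = 1 := by
  have h1 := congrArg U.ε h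
  rw [U.ε_pow hg, U.ε_one] at h1
  have hd : orderOf (U.ε g) ∣ 3 ^ n := orderOf_dvd_of_pow_eq_one h1
  have h2 : orderOf (U.ε g) ∣ 2 := orderOf_dvd_of_pow_eq_one ((show ∀ x : Two, x ^ 2 = 1 by decide) _)
  exact orderOf_eq_one_iff.1 (Nat.eq_one_of_dvd_coprimes ((by norm_num : Nat.Coprime 3 2).pow_left n) hd h2)

/-- The centraliser in `Q` of an element outside `⟨z⟩` has order 81. -/
theorem card_cent {q : G} (hq : q ∈ U.Q) (hqz : q ∉ U.Zs) :
    Nat.card ↥(U.Q ⊓ Subgroup.centralizer ({q} : Set G)) = 81 := by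
  let φ : ↥U.Q →* Multiplicative (ZMod 3) := MonoidHom.mk' (fun r => Multiplicative.ofAdd (U.f q r))
    fun a b => congrArg Multiplicative.ofAdd (U.f_mul_right hq a.2 b.2)
  have hker : φ.ker = (U.Q ⊓ Subgroup.centralizer ({q} : Set G)).subgroupOf U.Q := by
    ext r
    rw [MonoidHom.mem_ker, Subgroup.mem_subgroupOf, Subgroup.mem_inf, Subgroup.mem_centralizer_singleton_iff]
    show Multiplicative.ofAdd (U.f q r) = 1 ↔ _
    rw [ofAdd_eq_one, U.f_zero hq r.2]
    exact ⟨fun h => ⟨r.2, h.symm⟩, fun h => h.2.symm⟩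
  have hrange : φ.range ≠ ⊥ := fun hb => hqz (U.mem_Zs_of_f hq fun r hr => by
    have : φ ⟨r, hr⟩ ∈ φ.range := ⟨_, rfl⟩
    rw [hb, Subgroup.mem_bot] at this
    exact ofAdd_eq_one.1 this)
  have h3 : Nat.card φ.range = 3 := by
    have hd : Nat.card φ.range ∣ 3 := by
      simpa [Nat.card_eq_fintype_card] using Subgroup.card_subgroup_dvd_card φ.range
    rcases (Nat.dvd_prime Nat.prime_three).1 hd with h | h
    · exact absurd (Subgroup.eq_bot_of_card_eq _ h) hrange
    · exact h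
  have h := Subgroup.card_mul_index φ.ker
  rw [Subgroup.index_ker, h3, hker, Nat.card_congr (Subgroup.subgroupOfEquivOfLe inf_le_left).toEquiv, U.card] at h
  omega

/-- An abelian subgroup of `Q` has order at most 27. -/
theorem card_abelian {A : Subgroup G} (hA : A ≤ U.Q) (hc : ∀ a ∈ A, ∀ b ∈ A, a * b = b * a) : Nat.card A ≤ 27 := by
  have : Fact (Nat.Prime 3) := ⟨Nat.prime_three⟩
  have h := Extraspecial.relIndex_centralizer_eq A U.Q U.Zs U.card_Zs
    (fun k hk g hg => (U.Zs_central hk ((sup_le (b := U.Q) hA le_rfl : A ⊔ U.Q ≤ U.Q) hg)).symm)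
    (fun a ha b hb => U.comm a (hA ha) b hb)
  have hle : A ⊓ Subgroup.centralizer (U.Q : Set G) ≤ U.Zs := fun a ha =>
    U.centre a (hA ha.1) fun r hr => (Subgroup.mem_centralizer_iff.1 ha.2 r hr).symm
  have hAc : A ≤ U.Q ⊓ Subgroup.centralizer (A : Set G) := fun a ha =>
    ⟨hA ha, Subgroup.mem_centralizer_iff.2 fun b hb => hc b hb a ha⟩
  have h1 := Subgroup.card_mul_index ((A ⊓ Subgroup.centralizer (U.Q : Set G)).subgroupOf A)
  have h2 := Subgroup.card_mul_index ((U.Q ⊓ Subgroup.centralizer (A : Set G)).subgroupOf U.Q)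
  rw [Nat.card_congr (Subgroup.subgroupOfEquivOfLe inf_le_left).toEquiv] at h1 h2
  rw [U.card] at h2
  change _ * (A ⊓ Subgroup.centralizer (U.Q : Set G)).relIndex A = Nat.card A at h1
  change _ * (U.Q ⊓ Subgroup.centralizer (A : Set G)).relIndex U.Q = 243 at h2
  rw [h] at h1
  have hc1 := (Subgroup.card_le_of_le hle).trans U.card_Zs.le
  have hc2 := Subgroup.card_le_of_le hAc
  have h3 := Nat.mul_le_mul_right ((U.Q ⊓ Subgroup.centralizer (A : Set G)).relIndex U.Q) hc1
  rw [h1] at h3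
  have h4 : Nat.card A * Nat.card A ≤ 729 := by
    calc Nat.card A * Nat.card A ≤ 3 * (U.Q ⊓ Subgroup.centralizer (A : Set G)).relIndex U.Q *
          Nat.card ↥(U.Q ⊓ Subgroup.centralizer (A : Set G)) := Nat.mul_le_mul h3 hc2
      _ = 729 := by rw [mul_assoc, mul_comm ((U.Q ⊓ Subgroup.centralizer (A : Set G)).relIndex U.Q), h2]; norm_num
  by_contra hlt
  nlinarith

/-- Three-subgroups of `C` have abelian image. -/
theorem commutator_mem_of_three {P : Subgroup G} (hP : IsPGroup 3 P) (hPC : ∀ p ∈ P, U.InC p) {a b : G}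
    (ha : a ∈ P) (hb : b ∈ P) : ⁅a, b⁆ ∈ U.Q := by
  let φ : ↥P →* SL23 := MonoidHom.mk' (fun p => U.π p) fun p q => U.π_mul _ _ (hPC p p.2) (hPC q q.2)
  have hc : Nat.card φ.range ≤ 3 := by
    have : Fact (Nat.Prime 3) := ⟨Nat.prime_three⟩
    obtain ⟨k, hk⟩ := IsPGroup.iff_card.1 (hP.of_surjective φ.rangeRestrict φ.rangeRestrict_surjective)
    have hd := Subgroup.card_subgroup_dvd_card φ.range
    rw [card_SL23, hk] at hd
    rw [hk]
    rcases k with - | - | k
    · norm_num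
    · norm_num
    · have h9 : (9 : ℕ) ∣ 24 := (Nat.pow_dvd_pow 3 (show 2 ≤ k + 2 by omega)).trans hd
      norm_num at h9
  have hcy : IsCyclic φ.range := by
    have : Fact (Nat.Prime 3) := ⟨Nat.prime_three⟩
    rcases Nat.lt_or_ge (Nat.card φ.range) 2 with h | h
    · have : Subsingleton φ.range := (Nat.card_eq_one_iff_unique.1 (by
        have := Nat.card_pos (α := φ.range); omega)).1
      infer_instance
    · rcases Nat.lt_or_ge (Nat.card φ.range) 3 with h' | h'
      · have : Fact (Nat.Prime 2) := ⟨Nat.prime_two⟩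
        exact isCyclic_of_prime_card (p := 2) (by omega)
      · exact isCyclic_of_prime_card (p := 3) (by omega)
  let _ : CommGroup φ.range := IsCyclic.commGroup
  have hπ : φ ⁅(⟨a, ha⟩ : P), ⟨b, hb⟩⁆ = 1 := by
    rw [map_commutatorElement, commutatorElement_eq_one_iff_mul_comm]
    exact congrArg Subtype.val (mul_comm (φ.rangeRestrict ⟨a, ha⟩) (φ.rangeRestrict ⟨b, hb⟩))
  have hmem : U.InC ⁅a, b⁆ := hPC _ (by
    rw [commutatorElement_def]
    exact mul_mem (mul_mem (mul_mem ha hb) (inv_mem ha)) (inv_mem hb))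
  rw [← U.ker _ hmem]
  refine ⟨hπ, ?_⟩
  obtain ⟨n, hn⟩ := hP ⟨⁅a, b⁆, by
    rw [commutatorElement_def]
    exact mul_mem (mul_mem (mul_mem ha hb) (inv_mem ha)) (inv_mem hb)⟩
  exact U.eps_of_three hmem (by simpa using congrArg Subtype.val hn)

end Setup

/-- Two conjugate setups, each centre inside the other extraspecial group. -/
structure Link (U : Setup G) where
  V : Setup G
  conj : ∃ x, V.z = x * U.z * x⁻¹ ∨ V.z = x * U.z⁻¹ * x⁻¹
  y_mem : V.z ∈ U.Q
  y_not : V.z ∉ U.Zs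
  z_mem' : U.z ∈ V.Q
  z_not : U.z ∉ V.Zs
  inter_comm : ∀ a ∈ U.Q ⊓ V.Q, ∀ b ∈ U.Q ⊓ V.Q, a * b = b * a
  inter_card : Nat.card ↥(U.Q ⊓ V.Q) = 27
  d : G
  d_mem : d ∈ V.Q
  d_C : U.InC d
  d_π : U.π d ≠ 1

theorem Setup.exists_link (U : Setup G) : Nonempty (Link U) := by
  have : Fact (Nat.Prime 3) := ⟨Nat.prime_three⟩
  obtain ⟨x, hx1, hx2⟩ := U.fused
  set V := U.conj x with hV
  have hy : V.z ∈ U.Q := hx1
  have hyn : V.z ∉ U.Zs := hx2
  set L := U.Q ⊓ Subgroup.centralizer ({V.z} : Set G) with hL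
  have hL81 : Nat.card L = 81 := U.card_cent hy hyn
  have hLC : ∀ a ∈ L, V.InC a := fun a ha => Subgroup.mem_centralizer_singleton_iff.1 ha.2
  have hL3 : IsPGroup 3 L := fun a => ⟨1, Subtype.ext (by simpa using U.exp a a.2.1)⟩
  -- `z` lies in the second group
  obtain ⟨a, ha, b, hb, hab⟩ : ∃ a ∈ L, ∃ b ∈ L, a * b ≠ b * a := by
    by_contra h
    push Not at h
    have := U.card_abelian inf_le_left h
    rw [hL81] at this
    norm_num at this
  have hzV : U.z ∈ V.Q := by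
    have h := V.commutator_mem_of_three hL3 hLC ha hb
    rw [U.f_spec ha.1 hb.1] at h
    have hne : U.f a b ≠ 0 := fun h0 => hab ((U.f_zero ha.1 hb.1).1 h0)
    rcases zmod3_val _ hne with e | e <;> rw [e] at h
    · simpa using h
    · have h3 := U.exp _ U.z_mem
      have := pow_mem h 2
      rwa [← pow_mul, show 2 * 2 = 3 + 1 by norm_num, pow_add, h3, one_mul, pow_one] at this
  have hzn : U.z ∉ V.Zs := by
    intro h
    apply hyn
    obtain ⟨k, hk⟩ := Subgroup.mem_zpowers_iff.1 h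
    have : Subgroup.zpowers U.z = Subgroup.zpowers V.z := Subgroup.eq_of_le_of_card_ge
      (Subgroup.zpowers_le.2 h) (by rw [Nat.card_zpowers, Nat.card_zpowers, U.z_order, V.z_order])
    show V.z ∈ Subgroup.zpowers U.z
    rw [this]; exact Subgroup.mem_zpowers _
  -- the intersection
  set D := U.Q ⊓ V.Q with hD
  have hDc : ∀ a ∈ D, ∀ b ∈ D, a * b = b * a := by
    intro a ha b hb
    rw [← commutatorElement_eq_one_iff_mul_comm]
    obtain ⟨k, hk⟩ := U.exists_exp (U.comm a ha.1 b hb.1)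
    by_contra hne
    rw [hk] at hne
    apply hzn
    have hk0 : k ≠ 0 := fun h => hne (by simp [h])
    have hmem : U.z ^ k.val ∈ V.Zs := hk ▸ V.comm a ha.2 b hb.2
    rcases zmod3_val _ hk0 with e | e <;> rw [e] at hmem
    · simpa using hmem
    · have h3 := U.exp _ U.z_mem
      have := pow_mem hmem 2
      rwa [← pow_mul, show 2 * 2 = 3 + 1 by norm_num, pow_add, h3, one_mul, pow_one] at this
  have hD27 : Nat.card D = 27 := by
    refine le_antisymm (U.card_abelian inf_le_left hDc) ?_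
    let φ : ↥L →* SL23 := MonoidHom.mk' (fun p => V.π p) fun p q => V.π_mul _ _ (hLC p p.2) (hLC q q.2)
    obtain ⟨k, hk⟩ := IsPGroup.iff_card.1 (hL3.of_surjective φ.rangeRestrict φ.rangeRestrict_surjective)
    have hd := Subgroup.card_subgroup_dvd_card φ.range
    rw [Setup.card_SL23, hk] at hd
    have hk1 : k ≤ 1 := by
      by_contra h
      have h9 : (9 : ℕ) ∣ 24 := (Nat.pow_dvd_pow 3 (show 2 ≤ k by omega)).trans hd
      norm_num at h9
    have h := Subgroup.card_mul_index φ.ker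
    rw [Subgroup.index_ker, hk, hL81] at h
    have hle : Nat.card φ.ker ≤ Nat.card D := by
      refine Nat.card_le_card_of_injective (fun p => (⟨p.1.1, p.1.2.1, ?_⟩ : D)) fun p q h =>
        Subtype.ext (Subtype.ext (congrArg (fun u : D => (u : G)) h :))
      refine (V.ker _ (hLC _ p.1.2)).1 ?_
      exact ⟨p.2, V.eps_of_three (n := 1) (hLC _ p.1.2) (by simpa using U.exp _ p.1.2.1)⟩
    interval_cases k <;> omega
  -- an element of the second group outside the first
  obtain ⟨d, hd, hdD⟩ : ∃ d ∈ V.Q ⊓ Subgroup.centralizer ({U.z} : Set G), d ∉ D := by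
    by_contra h
    push Not at h
    have := Subgroup.card_le_of_le (fun u hu => h u hu :
      V.Q ⊓ Subgroup.centralizer ({U.z} : Set G) ≤ D)
    rw [V.card_cent hzV hzn, hD27] at this
    norm_num at this
  have hdC : U.InC d := Subgroup.mem_centralizer_singleton_iff.1 hd.2
  refine ⟨⟨V, ⟨x, Or.inl rfl⟩, hy, hyn, hzV, hzn, hDc, hD27, d, hd.1, hdC, fun hπ => hdD ⟨?_, hd.1⟩⟩⟩
  refine (U.ker _ hdC).1 ?_
  exact ⟨hπ, U.eps_of_three (n := 1) hdC (by simpa using V.exp d hd.1)⟩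

end Cfsg.Agent.OEightThree
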