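import Cfsg.Agent.Lib.ThreeCubed.Model
import Cfsg.Agent.Lib.Char.Induced
import Cfsg.Agent.Lib.Char.Virtual
import Cfsg.Agent.Lib.Char.ClassMult
import Cfsg.Agent.Lib.Char.Eigen

/-
The character argument of sections D and E of the recognition of `Ω⁺₈(2)` extensions (helper60, S3372).

`exists_normal_avoiding`: if the elements of a subgroup `M` lying over three-cycles of a map `M →* Sym(3)`
have their fusion in `M`, a normal subgroup avoids all of them and contains every `v` of central square of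
order at most two whose conjugates in `M` map to `1`.
-/

set_option autoImplicit false

namespace Cfsg.Agent.OEightThree

open Equiv Cfsg.Agent.Char Cfsg.Agent.ThreeCubed Cfsg
open scoped ComplexConjugate

/-- The elements over the three-cycles. -/
def Supp {G : Type*} [Group G] {M : Subgroup G} (π : M →* Perm (Fin 3)) (g : G) : Prop :=
  ∃ h : g ∈ M, Perm.sign (π ⟨g, h⟩) = 1 ∧ π ⟨g, h⟩ ≠ 1

theorem supp_inv {G : Type*} [Group G] {M : Subgroup G} {π : M →* Perm (Fin 3)} {g : G}
    (h : Supp π g) : Supp π g⁻¹ := by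
  obtain ⟨hg, h1, h2⟩ := h
  refine ⟨inv_mem hg, ?_⟩
  rw [show (⟨g⁻¹, inv_mem hg⟩ : M) = ⟨g, hg⟩⁻¹ from rfl, map_inv]
  exact ⟨by simp [h1], by simpa using h2⟩

/-- Fusion control for the three-parts gives it for the whole elements. -/
theorem mem_of_supp_conj {G : Type*} [Group G] [Finite G] {M : Subgroup G} {π : M →* Perm (Fin 3)}
    (hTI : ∀ y x : G, Supp π y → (∃ a, y ^ 3 ^ a = 1) → Supp π (x * y * x⁻¹) → x ∈ M)
    {g x : G} (hg : Supp π g) (hx : Supp π (x * g * x⁻¹)) : x ∈ M := by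
  obtain ⟨a, m, hm, hn⟩ := Nat.exists_eq_pow_mul_and_not_dvd (orderOf_pos g).ne' 3 (by norm_num)
  set k := if m % 3 = 1 then m else 2 * m with hk
  have hk3 : k % 3 = 1 := by
    rw [hk]; split_ifs with h
    · exact h
    · omega
  have hmk : m ∣ k := by
    rw [hk]; split_ifs
    · exact dvd_rfl
    · exact dvd_mul_left _ _
  have key : ∀ z : G, Supp π z → Supp π (z ^ k) := by
    rintro z ⟨hz, h1, h2⟩
    refine ⟨pow_mem hz k, ?_⟩
    have e : π ⟨z ^ k, pow_mem hz k⟩ = π ⟨z, hz⟩ := by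
      rw [show (⟨z ^ k, pow_mem hz k⟩ : M) = ⟨z, hz⟩ ^ k from rfl, map_pow, ← Nat.mod_add_div k 3,
        hk3, pow_add, pow_mul, pow_one, pow_succ, pow_two, cube_of_sign _ h1, one_pow, mul_one]
    rw [e]; exact ⟨h1, h2⟩
  refine hTI (g ^ k) x (key g hg) ⟨a, ?_⟩ ?_
  · obtain ⟨c, hc⟩ := hmk
    rw [← pow_mul, hc, show m * c * 3 ^ a = 3 ^ a * m * c by ring, ← hn, pow_mul, pow_orderOf_eq_one,
      one_pow]
  · rw [← conj_pow]; exact key _ hx

theorem exists_kernel {G : Type*} [Group G] [Finite G] {χ : G → ℂ} (hχ : IsCharacter G χ) :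
    ∃ N : Subgroup G, N.Normal ∧ ∀ g, g ∈ N ↔ χ g = χ 1 := by
  obtain ⟨n, ρ, rfl⟩ := hχ
  refine ⟨MonoidHom.ker ρ, inferInstance, fun g => ?_⟩
  rw [MonoidHom.mem_ker, Representation.char_one, character_eq_finrank_iff]
  rfl

theorem two_term_identity {n m x y : ℂ} (hn : n ≠ 0) (hm : m ≠ 0) (h1 : 1 + n + m = 0)
    (h2 : 1 + x + y = 0) (h3 : 1 + x * x / n + y * y / m = 0) : x = n ∧ y = m := by
  have em : m = -1 - n := by linear_combination h1
  have ey : y = -1 - x := by linear_combination h2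
  subst em ey
  field_simp at h3
  have : (x - n) * (x - n) = 0 := by linear_combination -h3
  have hx : x = n := sub_eq_zero.1 (mul_self_eq_zero.1 this)
  exact ⟨hx, by rw [hx]⟩

/-- The normal subgroup of the character argument. -/
theorem exists_normal_avoiding {G : Type*} [Group G] [Finite G] (M : Subgroup G)
    (π : M →* Perm (Fin 3))
    (hTI : ∀ y x : G, Supp π y → (∃ a, y ^ 3 ^ a = 1) → Supp π (x * y * x⁻¹) → x ∈ M) :
    ∃ N : Subgroup G, N.Normal ∧ (∀ g, Supp π g → g ∉ N) ∧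
      ∀ v : G, (∀ w : G, Commute (v * v) w) → v * v * (v * v) = 1 →
        (∀ x : G, ∀ h : x * v * x⁻¹ ∈ M, π ⟨x * v * x⁻¹, h⟩ = 1) → v ∈ N := by
  classical
  by_cases hne : ∃ f, Supp π f
  swap
  · exact ⟨⊤, inferInstance, fun g hg => absurd ⟨g, hg⟩ hne, fun _ _ _ _ => Subgroup.mem_top _⟩
  obtain ⟨f₀, hf₀M, hf₀s, hf₀1⟩ := hne
  have := Fintype.ofFinite G
  have := Fintype.ofFinite (IrrCharacter G)
  have := Fintype.ofFinite M
  let A : Subgroup G :=
    { carrier := {g | ∃ h : g ∈ M, Perm.sign (π ⟨g, h⟩) = 1}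
      one_mem' := ⟨M.one_mem, by rw [show (⟨1, M.one_mem⟩ : M) = 1 from rfl, map_one, map_one]⟩
      mul_mem' := fun {a b} ⟨ha, ha'⟩ ⟨hb, hb'⟩ => ⟨mul_mem ha hb, by
        rw [show (⟨a * b, mul_mem ha hb⟩ : M) = ⟨a, ha⟩ * ⟨b, hb⟩ from rfl, map_mul, map_mul, ha', hb',
          mul_one]⟩
      inv_mem' := fun {a} ⟨ha, ha'⟩ => ⟨inv_mem ha, by
        rw [show (⟨a⁻¹, inv_mem ha⟩ : M) = ⟨a, ha⟩⁻¹ from rfl, map_inv, map_inv, ha', inv_one]⟩ }
  have := Fintype.ofFinite A
  have hAM : A ≤ M := fun g hg => hg.1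
  let ψ : A →* Perm (Fin 3) := π.comp (Subgroup.inclusion hAM)
  have hψs : ∀ a : A, Perm.sign (ψ a) = 1 := fun a => a.2.2
  obtain ⟨ζ, hζ⟩ : ∃ z : ℂ, IsPrimitiveRoot z 3 := ⟨_, Complex.isPrimitiveRoot_exp 3 (by norm_num)⟩
  have hζ3 : ζ ^ 3 = 1 := hζ.pow_eq_one
  have hζs : 1 + ζ + ζ ^ 2 = 0 := by
    have := hζ.geom_sum_eq_zero (by norm_num)
    simpa [Finset.sum_range_succ] using this
  let φ : Perm (Fin 3) → ℂ := fun a => if a = 1 then 1 else if a = rot then ζ else ζ ^ 2
  have hrr : rot * rot ≠ 1 ∧ rot * rot ≠ rot := by decide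
  have hφ1 : φ 1 = 1 := by simp [φ]
  have hφr : φ rot = ζ := by simp [φ, rot_ne_one]
  have hφr2 : φ (rot * rot) = ζ ^ 2 := by simp [φ, hrr.1, hrr.2]
  have hφm : ∀ a b : Perm (Fin 3), Perm.sign a = 1 → Perm.sign b = 1 → φ (a * b) = φ a * φ b := by
    intro a b ha hb
    rcases three_cases a ha with rfl | rfl | rfl <;> rcases three_cases b hb with rfl | rfl | rfl
    · simp [hφ1]
    · simp [hφ1]
    · simp [hφ1]
    · simp [hφ1]
    · rw [hφr2, hφr]; ring
    · rw [← mul_assoc, rot_cube, hφ1, hφr, hφr2]; linear_combination -hζ3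
    · simp [hφ1]
    · rw [rot_cube, hφ1, hφr, hφr2]; linear_combination -hζ3
    · rw [show rot * rot * (rot * rot) = rot by decide, hφr, hφr2]; linear_combination -ζ * hζ3
  have hφi : ∀ a : Perm (Fin 3), Perm.sign a = 1 → a ≠ 1 → (1 - φ a) + (1 - φ a⁻¹) = 3 := by
    intro a ha h1
    rcases three_cases a ha with rfl | rfl | rfl
    · exact absurd rfl h1
    · rw [show rot⁻¹ = rot * rot by decide, hφr, hφr2]; linear_combination -hζs
    · rw [show (rot * rot)⁻¹ = rot by decide, hφr, hφr2]; linear_combination -hζs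
  have hφne : ∀ a : Perm (Fin 3), Perm.sign a = 1 → a ≠ 1 → φ a ≠ 1 := by
    intro a ha h1
    rcases three_cases a ha with rfl | rfl | rfl
    · exact absurd rfl h1
    · rw [hφr]; exact hζ.ne_one (by norm_num)
    · rw [hφr2]; exact hζ.pow_ne_one_of_pos_of_lt two_ne_zero (by norm_num)
  have hζc : conj ζ = ζ ^ 2 := by
    rw [← Complex.inv_eq_conj (Complex.norm_eq_one_of_pow_eq_one hζ3 three_ne_zero)]
    exact inv_eq_of_mul_eq_one_right (by linear_combination hζ3)
  have hφc : ∀ a : Perm (Fin 3), Perm.sign a = 1 → conj (φ a) = φ a⁻¹ := by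
    intro a ha
    rcases three_cases a ha with rfl | rfl | rfl
    · simp [hφ1]
    · rw [show rot⁻¹ = rot * rot by decide, hφr, hφr2, hζc]
    · rw [show (rot * rot)⁻¹ = rot by decide, hφr, hφr2, map_pow, hζc]; linear_combination ζ * hζ3
  let ω : A →* ℂ :=
    { toFun := fun a => φ (ψ a)
      map_one' := by simp [hφ1]
      map_mul' := fun a b => by rw [map_mul, hφm _ _ (hψs a) (hψs b)] }
  let θ : A → ℂ := fun a => 1 - ω a
  have hθ0 : ∀ a : A, ψ a = 1 → θ a = 0 := fun a ha => by simp [θ, ω, ha, hφ1]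
  have hθsupp : ∀ a : A, ψ a ≠ 1 → Supp π (a : G) := fun a ha => ⟨hAM a.2, a.2.2, ha⟩
  have hsum : ∑ a : A, θ a = (Nat.card A : ℂ) := by
    have hf : f₀ ∈ A := ⟨hf₀M, hf₀s⟩
    have hz : ∑ a : A, ω a = 0 := by
      have hωf : ω ⟨f₀, hf⟩ ≠ 1 := hφne _ hf₀s hf₀1
      have e : ∑ a : A, ω a = ω ⟨f₀, hf⟩ * ∑ a : A, ω a := by
        rw [Finset.mul_sum]
        exact Fintype.sum_equiv (Equiv.mulLeft (⟨f₀, hf⟩ : A)⁻¹) _ _ fun a => by
          rw [← map_mul]; simp
      exact (mul_eq_zero.1 (show (1 - ω ⟨f₀, hf⟩) * ∑ a : A, ω a = 0 by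
        linear_combination e)).resolve_left (sub_ne_zero.2 hωf.symm)
    simp [θ, Finset.sum_sub_distrib, hz, Nat.card_eq_fintype_card]
  have hA0 : (Nat.card A : ℂ) ≠ 0 := Nat.cast_ne_zero.2 Nat.card_pos.ne'
  let F : G → ℂ := indFun A θ
  have hFcl : IsClassFunction G F := indFun_isClassFunction A θ
  have hFne : ∀ g, F g ≠ 0 → ∃ x, Supp π (x⁻¹ * g * x) := by
    intro g hg
    by_contra hno
    push Not at hno
    apply hg
    show indFun A θ g = 0
    unfold indFun
    rw [Finset.sum_eq_zero fun x _ => ?_, mul_zero]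
    rw [extendByZero_eq]
    split_ifs with h
    · by_contra hne
      exact hno x (hθsupp ⟨_, h⟩ fun e => hne (hθ0 _ e))
    · rfl
  let f : G → M → ℂ := fun a x => extendByZero A θ ((x : G)⁻¹ * a * x)
  have hFsum : ∀ a, Supp π a → F a = (Nat.card A : ℂ)⁻¹ * ∑ x : M, f a x := by
    intro a ha
    have hout : ∀ x : G, x ∉ M → extendByZero A θ (x⁻¹ * a * x) = 0 := by
      intro x hx
      rw [extendByZero_eq]
      split_ifs with h
      · by_contra hne
        refine hx (mem_of_supp_conj hTI (hθsupp ⟨_, h⟩ fun e => hne (hθ0 _ e)) ?_)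
        show Supp π (x * (x⁻¹ * a * x) * x⁻¹)
        rwa [show x * (x⁻¹ * a * x) * x⁻¹ = a by group]
      · rfl
    show indFun A θ a = _
    unfold indFun
    rw [← Finset.sum_filter_add_sum_filter_not Finset.univ (· ∈ M),
      Finset.sum_eq_zero (s := Finset.univ.filter fun x => ¬ x ∈ M) fun x hx =>
        hout x (Finset.mem_filter.1 hx).2, add_zero,
      Finset.sum_subtype (p := (· ∈ M)) _ (fun x => by simp)
        (fun x => extendByZero A θ (x⁻¹ * a * x))]
  have hfval : ∀ (a : G) (haM : a ∈ M), Perm.sign (π ⟨a, haM⟩) = 1 → ∀ x : M,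
      f a x = 1 - φ (if Perm.sign (π x) = 1 then π ⟨a, haM⟩ else (π ⟨a, haM⟩)⁻¹) := by
    intro a haM hs x
    have hc : π ⟨(x : G)⁻¹ * a * x, mul_mem (mul_mem (inv_mem x.2) haM) x.2⟩ =
        if Perm.sign (π x) = 1 then π ⟨a, haM⟩ else (π ⟨a, haM⟩)⁻¹ := by
      rw [show (⟨(x : G)⁻¹ * a * x, mul_mem (mul_mem (inv_mem x.2) haM) x.2⟩ : M) =
        x⁻¹ * ⟨a, haM⟩ * x from rfl, map_mul, map_mul, map_inv]
      exact conj_eq _ _ hs
    have hmem : (x : G)⁻¹ * a * x ∈ A := by
      refine ⟨mul_mem (mul_mem (inv_mem x.2) haM) x.2, ?_⟩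
      rw [hc]; split_ifs <;> simp [hs]
    show extendByZero A θ _ = _
    rw [extendByZero_mem A θ hmem]
    show 1 - φ (π ⟨_, hAM hmem⟩) = _
    rw [hc]
  have hgen : IsGeneralizedCharacter G F := by
    refine IsGeneralizedCharacter.indFun (H := A) ⟨1, ω, isCharacter_one, isCharacter_of_hom ω, ?_⟩
    rfl
  have hone : classInner F (1 : G → ℂ) = 1 := by
    rw [frobenius_reciprocity A θ (IsCharacter.isClassFunction isCharacter_one), classInner]
    simp [hsum]
  have hF1 : F 1 = 0 := by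
    show indFun A θ 1 = 0
    rw [indFun_one_apply, hθ0 1 (map_one ψ), mul_zero]
  have hFv : ∀ v : G, (∀ x : G, ∀ h : x * v * x⁻¹ ∈ M, π ⟨x * v * x⁻¹, h⟩ = 1) → F v = 0 := by
    intro v hv
    by_contra h
    obtain ⟨x, hxM, -, hx1⟩ := hFne v h
    refine hx1 ?_
    have e : x⁻¹ * v * x = x⁻¹ * v * x⁻¹⁻¹ := by rw [inv_inv]
    simp only [e]
    exact hv x⁻¹ (e ▸ hxM)
  obtain ⟨m, hm, hmi, hmn⟩ := IsGeneralizedCharacter.exists_coeffs hgen
  let triv : IrrCharacter G := ⟨1, isIrrCharacter_one⟩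
  have hmt : m triv = 1 := by
    have := hmi triv
    rw [show ((triv : IrrCharacter G) : G → ℂ) = 1 from rfl, hone] at this
    exact_mod_cast this.symm
  let S : Finset (IrrCharacter G) := (Finset.univ.erase triv).filter (fun χ => m χ ≠ 0)
  have hge : ∀ χ ∈ S, 1 ≤ m χ ^ 2 := fun χ hχ => by
    have := sq_pos_of_ne_zero (Finset.mem_filter.1 hχ).2
    omega
  have hSsum : ∀ k : ℤ, ∑ χ, m χ ^ 2 = k → ∑ χ ∈ S, m χ ^ 2 = k - 1 := by
    intro k hk
    have e := Finset.add_sum_erase Finset.univ (fun χ => m χ ^ 2) (Finset.mem_univ triv)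
    have e2 : ∑ χ ∈ S, m χ ^ 2 = ∑ χ ∈ Finset.univ.erase triv, m χ ^ 2 :=
      Finset.sum_filter_of_ne fun χ _ h h0 => h (by simp [h0])
    simp only [hk, hmt] at e
    omega
  have hexp : ∀ f : IrrCharacter G → ℂ,
      ∑ χ, (m χ : ℂ) * f χ = f triv + ∑ χ ∈ S, (m χ : ℂ) * f χ := by
    intro f
    rw [← Finset.add_sum_erase Finset.univ _ (Finset.mem_univ triv), hmt, Int.cast_one, one_mul]
    congr 1
    rw [← Finset.sum_filter_of_ne (p := fun χ => m χ ≠ 0) (fun χ _ h h0 => h (by simp [h0]))]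
  have hval : ∀ g, F g = 1 + ∑ χ ∈ S, (m χ : ℂ) * (χ : G → ℂ) g := by
    intro g
    rw [show (1 : ℂ) = ((triv : IrrCharacter G) : G → ℂ) g from rfl,
      ← hexp fun χ => (χ : G → ℂ) g]
    conv_lhs => rw [hm]
    simp [Finset.sum_apply]
  have hunit : ∀ χ : IrrCharacter G, m χ ^ 2 = 1 → (m χ : ℂ) * (m χ : ℂ) = 1 := fun χ h => by
    exact_mod_cast (by rw [← sq]; exact h)
  by_cases hodd : ∃ w : M, Perm.sign (π w) = -1
  · -- the image is the symmetric group
    obtain ⟨w, hw⟩ := hodd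
    have hidx : Nat.card M = 2 * Nat.card A := by
      have hs : Function.Surjective (Perm.sign.comp π) := by
        intro u
        rcases Int.units_eq_one_or u with rfl | rfl
        · exact ⟨1, map_one _⟩
        · exact ⟨w, hw⟩
      have e : A.subgroupOf M = (Perm.sign.comp π).ker := by
        ext h
        exact ⟨fun hh => hh.2, fun hh => ⟨h.2, hh⟩⟩
      rw [← Subgroup.index_mul_card (A.subgroupOf M),
        Nat.card_congr (Subgroup.subgroupOfEquivOfLe hAM).toEquiv,
        e, Subgroup.index_ker, MonoidHom.range_eq_top.2 hs]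
      congr 1
      simp [Nat.card_eq_fintype_card]
    have hFA : ∀ a, Supp π a → F a = 3 := by
      intro a ha
      rw [hFsum a ha]
      obtain ⟨haM, has, ha1⟩ := ha
      have hpair : ∀ x : M, f a x + f a (x * w) = 3 := by
        intro x
        rw [hfval a haM has, hfval a haM has, map_mul, map_mul, hw]
        rcases Int.units_eq_one_or (Perm.sign (π x)) with hu | hu <;> rw [hu]
        · simpa using hφi _ has ha1
        · simpa [add_comm] using hφi _ has ha1
      have hS : ∑ x : M, f a x = (Nat.card A : ℂ) * 3 := by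
        have e : ∑ x : M, f a (x * w) = ∑ x : M, f a x :=
          Fintype.sum_equiv (Equiv.mulRight w) _ _ fun x => rfl
        have := Finset.sum_congr rfl fun x (_ : x ∈ (Finset.univ : Finset M)) => hpair x
        rw [Finset.sum_add_distrib, e, Finset.sum_const, Finset.card_univ,
          ← Nat.card_eq_fintype_card, hidx, nsmul_eq_mul] at this
        push_cast at this
        linear_combination this / 2
      rw [hS]; field_simp
    have hnorm : classInner F F = 3 := by
      rw [frobenius_reciprocity A θ hFcl, classInner]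
      have e : ∀ a : A, θ a * (starRingEnd ℂ) (indFun A θ a) = θ a * 3 := by
        intro a
        by_cases h : ψ a = 1
        · rw [hθ0 a h, zero_mul, zero_mul]
        · rw [show indFun A θ a = 3 from hFA a (hθsupp a h), map_ofNat]
      rw [Finset.sum_congr rfl fun a _ => e a, ← Finset.sum_mul, hsum]
      field_simp
    have hsum3 : ∑ χ, m χ ^ 2 = 3 := by rw [hnorm] at hmn; exact_mod_cast hmn.symm
    have hS2 : ∑ χ ∈ S, m χ ^ 2 = 2 := by rw [hSsum 3 hsum3]; norm_num
    have hcardS : S.card = 2 := by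
      have h := Finset.card_nsmul_le_sum S (fun χ => m χ ^ 2) 1 hge
      rw [nsmul_one, hS2] at h
      have h' : S.card ≤ 2 := by exact_mod_cast h
      rcases (by omega : S.card = 0 ∨ S.card = 1 ∨ S.card = 2) with h0 | h0 | h0
      · rw [Finset.card_eq_zero.1 h0] at hS2; simp at hS2
      · obtain ⟨a, ha⟩ := Finset.card_eq_one.1 h0
        rw [ha, Finset.sum_singleton] at hS2
        have h1 : -2 < m a := by nlinarith
        have h2 : m a < 2 := by nlinarith
        interval_cases m a <;> omega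
      · exact h0
    obtain ⟨a, b, hab, hSab⟩ := Finset.card_eq_two.1 hcardS
    rw [hSab, Finset.sum_pair hab] at hS2
    have haS : a ∈ S := by rw [hSab]; simp
    have hbS : b ∈ S := by rw [hSab]; simp
    have hea := hunit a (by have := hge a haS; have := hge b hbS; omega)
    have heb := hunit b (by have := hge a haS; have := hge b hbS; omega)
    have han : (a : G → ℂ) 1 ≠ 0 := IsIrrCharacter.apply_one_ne_zero a.2
    have hbn : (b : G → ℂ) 1 ≠ 0 := IsIrrCharacter.apply_one_ne_zero b.2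
    have hma : (m a : ℂ) ≠ 0 := left_ne_zero_of_mul_eq_one hea
    have hmb : (m b : ℂ) ≠ 0 := left_ne_zero_of_mul_eq_one heb
    have hval' : ∀ g, F g = 1 + ((m a : ℂ) * (a : G → ℂ) g + (m b : ℂ) * (b : G → ℂ) g) := fun g => by
      rw [hval g, hSab, Finset.sum_pair hab]
    obtain ⟨Na, hNa, hNa'⟩ := exists_kernel (IsIrrCharacter.isCharacter a.2)
    obtain ⟨Nb, hNb, hNb'⟩ := exists_kernel (IsIrrCharacter.isCharacter b.2)
    refine ⟨Na ⊓ Nb, inferInstance, fun g hg hgN => ?_, fun v hvc hvv hv => ?_⟩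
    · have h3 := hFA g hg
      rw [hval', (hNa' g).1 hgN.1, (hNb' g).1 hgN.2, ← hval', hF1] at h3
      norm_num at h3
    · -- products of two conjugates of `v` avoid the support
      have hpairs : ∀ g, F g ≠ 0 →
          Nat.card {p : G × G // IsConj v p.1 ∧ IsConj v p.2 ∧ p.1 * p.2 = g} = 0 := by
        intro g hg
        rw [Nat.card_eq_zero]
        refine Or.inl ⟨?_⟩
        rintro ⟨⟨u₀, w₀⟩, hu₀, hw₀, rfl⟩
        obtain ⟨x, hx⟩ := hFne _ hg
        obtain ⟨y, rfl⟩ := isConj_iff.1 hu₀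
        obtain ⟨z, rfl⟩ := isConj_iff.1 hw₀
        set u := x⁻¹ * y * v * (x⁻¹ * y)⁻¹ with hu
        set t := x⁻¹ * z * v * (x⁻¹ * z)⁻¹ with ht
        have e : x⁻¹ * (y * v * y⁻¹ * (z * v * z⁻¹)) * x = u * t := by simp only [hu, ht]; group
        rw [e] at hx
        have hsq : ∀ r : G, r * v * r⁻¹ * (r * v * r⁻¹) = v * v := fun r => by
          calc _ = r * (v * v) * r⁻¹ := by group
            _ = _ := by rw [(hvc r).symm.eq, mul_inv_cancel_right]
        have hti : t⁻¹ = v * v * t := by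
          refine inv_eq_of_mul_eq_one_right ?_
          rw [← mul_assoc, (hvc t).symm.eq, mul_assoc, hsq, hvv]
        have hu2 : u * u = v * v := hsq _
        have hinv : u * (u * t) * u⁻¹ = (u * t)⁻¹ := by
          calc u * (u * t) * u⁻¹ = u * u * t * u⁻¹ := by simp only [mul_assoc]
            _ = t⁻¹ * u⁻¹ := by rw [hu2, ← hti]
            _ = (u * t)⁻¹ := (mul_inv_rev u t).symm
        have huM : u ∈ M := mem_of_supp_conj hTI hx (hinv ▸ supp_inv hx)
        obtain ⟨hutM, hs, h1⟩ := hx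
        refine h1 (eq_one_of_sq _ hs ?_)
        have hu1 : π ⟨u, huM⟩ = 1 := hv _ huM
        have := congrArg π (Subtype.ext hinv :
          (⟨u, huM⟩ : M) * ⟨u * t, hutM⟩ * ⟨u, huM⟩⁻¹ = ⟨u * t, hutM⟩⁻¹)
        rw [map_mul, map_mul, map_inv, map_inv, hu1, one_mul, inv_one, mul_one] at this
        nth_rewrite 1 [this]
        rw [inv_mul_cancel]
      have hrel : ∑ χ : IrrCharacter G, (m χ : ℂ) *
          ((χ : G → ℂ) v * (χ : G → ℂ) v / (χ : G → ℂ) 1) = 0 := by
        have h0 : ∀ g, F g * (Nat.card {p : G × G // IsConj v p.1 ∧ IsConj v p.2 ∧ p.1 * p.2 = g} : ℂ) = 0 := by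
          intro g
          by_cases hg : F g = 0
          · rw [hg, zero_mul]
          · rw [hpairs g hg]; simp
        have h1 : ∑ g, F g * ∑ χ : IrrCharacter G,
            (χ : G → ℂ) v * (χ : G → ℂ) v * (starRingEnd ℂ) ((χ : G → ℂ) g) / (χ : G → ℂ) 1 = 0 := by
          refine Finset.sum_eq_zero fun g _ => ?_
          have := h0 g
          rw [class_mult_formula v v g] at this
          have hc : (Nat.card {x : G // IsConj v x} : ℂ) ≠ 0 := by
            have : Nonempty {x : G // IsConj v x} := ⟨⟨v, IsConj.refl v⟩⟩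
            exact Nat.cast_ne_zero.2 Nat.card_pos.ne'
          have hG : (Nat.card G : ℂ) ≠ 0 := Nat.cast_ne_zero.2 Nat.card_pos.ne'
          rcases mul_eq_zero.1 this with h | h
          · rw [h, zero_mul]
          · exact mul_eq_zero_of_right _ ((mul_eq_zero.1 h).resolve_left
              (div_ne_zero (mul_ne_zero hc hc) hG))
        simp only [Finset.mul_sum] at h1
        rw [Finset.sum_comm] at h1
        have h2 : ∀ χ : IrrCharacter G, ∑ g, F g * ((χ : G → ℂ) v * (χ : G → ℂ) v *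
            (starRingEnd ℂ) ((χ : G → ℂ) g) / (χ : G → ℂ) 1) =
            (Nat.card G : ℂ) * ((m χ : ℂ) * ((χ : G → ℂ) v * (χ : G → ℂ) v / (χ : G → ℂ) 1)) := by
          intro χ
          rw [← hmi χ, ← mul_assoc, card_mul_classInner, Finset.sum_mul]
          exact Finset.sum_congr rfl fun g _ => by ring
        rw [Finset.sum_congr rfl fun χ _ => h2 χ, ← Finset.mul_sum] at h1
        exact (mul_eq_zero.1 h1).resolve_left (Nat.cast_ne_zero.2 Nat.card_pos.ne')
      rw [hexp, hSab, Finset.sum_pair hab] at hrel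
      obtain ⟨hav, hbv⟩ := two_term_identity (mul_ne_zero hma han) (mul_ne_zero hmb hbn)
        (by have := hval' 1; rw [hF1] at this; linear_combination -this)
        (x := (m a : ℂ) * (a : G → ℂ) v) (y := (m b : ℂ) * (b : G → ℂ) v)
        (by have := hval' v; rw [hFv v hv] at this; linear_combination -this)
        (by
          have e : ∀ (e n z : ℂ), e * e = 1 → n ≠ 0 → e * (z * z / n) = e * z * (e * z) / (e * n) := by
            intro e n z he hn
            have : e ≠ 0 := left_ne_zero_of_mul_eq_one he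
            field_simp
          rw [e _ _ _ hea han, e _ _ _ heb hbn] at hrel
          simp only [triv, Pi.one_apply] at hrel
          linear_combination hrel)
      exact ⟨(hNa' v).2 (mul_left_cancel₀ hma hav), (hNb' v).2 (mul_left_cancel₀ hmb hbv)⟩
  · -- the image is cyclic
    have hall : ∀ x : M, Perm.sign (π x) = 1 := fun x =>
      (Int.units_eq_one_or _).resolve_right fun e => hodd ⟨x, e⟩
    have hcard : Nat.card M = Nat.card A := by
      rw [show A = M from le_antisymm hAM fun g hg => ⟨hg, hall _⟩]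
    have hFA : ∀ a : G, ∀ ha : Supp π a, F a = θ ⟨a, ha.1, ha.2.1⟩ := by
      intro a ha
      rw [hFsum a ha, Finset.sum_congr rfl fun x _ => hfval a ha.1 ha.2.1 x]
      simp only [hall, if_true, Finset.sum_const, Finset.card_univ, ← Nat.card_eq_fintype_card,
        nsmul_eq_mul, hcard]
      rw [← mul_assoc, inv_mul_cancel₀ hA0, one_mul]
      rfl
    have hnorm : classInner F F = 2 := by
      rw [frobenius_reciprocity A θ hFcl, classInner]
      have e : ∀ a : A, θ a * (starRingEnd ℂ) (indFun A θ a) = θ a + θ a⁻¹ := by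
        intro a
        by_cases h : ψ a = 1
        · rw [hθ0 a h, hθ0 a⁻¹ (by rw [map_inv, h, inv_one]), zero_mul, add_zero]
        · rw [show indFun A θ a = θ a from hFA a (hθsupp a h)]
          show (1 - φ (ψ a)) * conj (1 - φ (ψ a)) = (1 - φ (ψ a)) + (1 - φ (ψ a⁻¹))
          rw [map_inv, map_sub, map_one, hφc _ (hψs a)]
          have e1 : φ (ψ a) * φ (ψ a)⁻¹ = 1 := by
            rw [← hφm _ _ (hψs a) (by simp [hψs a]), mul_inv_cancel, hφ1]
          linear_combination e1
      rw [Finset.sum_congr rfl fun a _ => e a, Finset.sum_add_distrib,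
        show ∑ a : A, θ a⁻¹ = ∑ a : A, θ a from Fintype.sum_equiv (Equiv.inv A) _ _ fun a => rfl, hsum]
      field_simp
      ring
    have hsum2 : ∑ χ, m χ ^ 2 = 2 := by rw [hnorm] at hmn; exact_mod_cast hmn.symm
    have hS1 : ∑ χ ∈ S, m χ ^ 2 = 1 := by rw [hSsum 2 hsum2]; norm_num
    have hcardS : S.card = 1 := by
      have h := Finset.card_nsmul_le_sum S (fun χ => m χ ^ 2) 1 hge
      rw [nsmul_one, hS1] at h
      have h' : S.card ≤ 1 := by exact_mod_cast h
      rcases (by omega : S.card = 0 ∨ S.card = 1) with h0 | h0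
      · rw [Finset.card_eq_zero.1 h0] at hS1; simp at hS1
      · exact h0
    obtain ⟨a, hSa⟩ := Finset.card_eq_one.1 hcardS
    rw [hSa, Finset.sum_singleton] at hS1
    have hma : (m a : ℂ) ≠ 0 := left_ne_zero_of_mul_eq_one (hunit a hS1)
    have hval' : ∀ g, F g = 1 + (m a : ℂ) * (a : G → ℂ) g := fun g => by
      rw [hval g, hSa, Finset.sum_singleton]
    obtain ⟨Na, hNa, hNa'⟩ := exists_kernel (IsIrrCharacter.isCharacter a.2)
    refine ⟨Na, hNa, fun g hg hgN => ?_, fun v _ _ hv => ?_⟩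
    · have h3 := hFA g hg
      rw [hval', (hNa' g).1 hgN, ← hval', hF1] at h3
      exact hφne _ hg.2.1 hg.2.2 (sub_eq_zero.1 h3.symm).symm
    · refine (hNa' v).2 (mul_left_cancel₀ hma ?_)
      have h1 := hval' 1
      have h2 := hval' v
      rw [hF1] at h1
      rw [hFv v hv] at h2
      linear_combination h1 - h2

end Cfsg.Agent.OEightThree
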