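import Cfsg.Agent.EqLemmas
import Cfsg.Agent.Lib.OEightThree.Machine
import Cfsg.Agent.Lib.Coprime.Generation

/-
Local lemmas for the sections D and E of the recognition of `Ω⁺₈(2)` extensions (helper3, S3372):
fusion of an abelian Sylow three-subgroup, normality of the core, the involution lemma.
-/

set_option autoImplicit false

namespace Cfsg.Agent.OEightThree

open Equiv Subgroup
open scoped Pointwise

/-- A three-element of a subgroup `M` is conjugate in `M` into a Sylow three-subgroup lying in `M`. -/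
theorem exists_conj_mem_sylow {G : Type*} [Group G] [Finite G] {M : Subgroup G} (S : Sylow 3 G)
    (hSM : (S : Subgroup G) ≤ M) {y : G} (hy : y ∈ M) (h3 : ∃ a, y ^ 3 ^ a = 1) :
    ∃ m ∈ M, m * y * m⁻¹ ∈ S := by
  have : Fact (Nat.Prime 3) := ⟨Nat.prime_three⟩
  obtain ⟨a, ha⟩ := h3
  have hp : IsPGroup 3 (zpowers (⟨y, hy⟩ : M)) := by
    intro z
    obtain ⟨i, hi⟩ := mem_zpowers_iff.1 z.2
    refine ⟨a, Subtype.ext ?_⟩
    rw [coe_pow, ← hi, coe_one, ← zpow_natCast, zpow_comm, zpow_natCast,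
      show (⟨y, hy⟩ : M) ^ 3 ^ a = 1 from Subtype.ext ha, one_zpow]
  obtain ⟨Q, hQ⟩ := hp.exists_le_sylow
  obtain ⟨m, hm⟩ := MulAction.exists_smul_eq M Q (S.subtype hSM)
  refine ⟨m, m.2, ?_⟩
  have h1 : MulAut.conj m (⟨y, hy⟩ : M) ∈ MulAut.conj m • (Q : Subgroup M) :=
    smul_mem_pointwise_smul _ _ _ (hQ (mem_zpowers _))
  rw [← Sylow.pointwise_smul_def, show MulAut.conj m • Q = m • Q from rfl, hm] at h1
  exact h1

/-- L1: fusion in an abelian Sylow three-subgroup gives trivial intersection of `M` on three-elements. -/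
theorem ti_of_abelian_sylow {G : Type*} [Group G] [Finite G] (M : Subgroup G) (S : Sylow 3 G)
    (hab : ∀ a ∈ S, ∀ b ∈ S, a * b = b * a) (hSM : (S : Subgroup G) ≤ M)
    (hN : normalizer ((S : Subgroup G) : Set G) ≤ M)
    (hC : ∀ y ∈ S, y ≠ 1 → centralizer ({y} : Set G) ≤ M) :
    ∀ y x : G, y ∈ M → (∃ a, y ^ 3 ^ a = 1) → y ≠ 1 → x * y * x⁻¹ ∈ M → x ∈ M := by
  intro y x hy h3 hy1 hx
  have : Fact (Nat.Prime 3) := ⟨Nat.prime_three⟩
  have : IsMulCommutative (S : Subgroup G) :=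
    ⟨⟨fun a b => Subtype.ext (hab a a.2 b b.2)⟩⟩
  obtain ⟨m, hm, hmS⟩ := exists_conj_mem_sylow S hSM hy h3
  obtain ⟨l, hl, hlS⟩ := exists_conj_mem_sylow S hSM hx (by
    obtain ⟨a, ha⟩ := h3
    exact ⟨a, by rw [conj_pow, ha, mul_one, mul_inv_cancel]⟩)
  set g := l * x * m⁻¹ with hg
  have e : g⁻¹⁻¹ * (m * y * m⁻¹) * g⁻¹ = l * (x * y * x⁻¹) * l⁻¹ := by rw [hg]; group
  obtain ⟨n, hn, hn2⟩ := S.conj_eq_normalizer_conj_of_mem (m * y * m⁻¹) g⁻¹ hmS (e ▸ hlS)
  have hc : n * g ∈ centralizer ({m * y * m⁻¹} : Set G) := by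
    refine mem_centralizer_singleton_iff.2 ?_
    have h := congrArg (fun z => n * z * g) hn2
    calc n * g * (m * y * m⁻¹) = n * (g⁻¹⁻¹ * (m * y * m⁻¹) * g⁻¹) * g := by group
      _ = n * (n⁻¹ * (m * y * m⁻¹) * n) * g := h
      _ = m * y * m⁻¹ * (n * g) := by group
  have hngM : n * g ∈ M := hC _ hmS (by simpa using hy1) hc
  have hgM : g ∈ M := by simpa using mul_mem (inv_mem (hN hn)) hngM
  rw [show x = l⁻¹ * g * m by rw [hg]; group]
  exact mul_mem (mul_mem (inv_mem hl) hgM) hm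

/-- The subgroups of order prime to three normalised by `A` lie in `K`. -/
theorem le_of_sig {G : Type*} [Group G] [Finite G] {A K : Subgroup G} (hA : IsPGroup 3 A)
    (hab : ∀ a ∈ A, ∀ b ∈ A, a * b = b * a) (hnc : ¬ IsCyclic A)
    (hsig : ∀ y ∈ A, y ≠ 1 → ∀ L : Subgroup G, (Nat.card L).Coprime 3 →
      L ≤ centralizer ({y} : Set G) → A ≤ normalizer (L : Set G) → L ≤ K)
    {N : Subgroup G} (hN3 : (Nat.card N).Coprime 3) (hAN : A ≤ normalizer (N : Set G)) :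
    N ≤ K := by
  have : Fact (Nat.Prime 3) := ⟨Nat.prime_three⟩
  have : IsMulCommutative A := ⟨⟨fun a b => Subtype.ext (hab a a.2 b b.2)⟩⟩
  obtain ⟨k, hk⟩ := IsPGroup.iff_card.1 hA
  refine Coprime.le_of_noncyclic hnc hAN (hk ▸ (hN3.pow_right k).symm) fun a ha ha1 => ?_
  refine hsig a ha ha1 _ (Nat.Coprime.coprime_dvd_left (card_dvd_of_le inf_le_left) hN3) inf_le_right
    fun b hb => Coprime.mem_normalizer_of_forall fun z hz => mem_inf.2 ⟨?_, ?_⟩
  · exact (mem_normalizer_iff.1 (hAN hb) z).1 (mem_inf.1 hz).1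
  · have hba : b ∈ centralizer ({a} : Set G) := mem_centralizer_singleton_iff.2 (hab b hb a ha)
    exact mul_mem (mul_mem hba (mem_inf.1 hz).2) (inv_mem hba)

/-- L2: the normal subgroup of the character argument is the core `K`. -/
theorem normal_core {G : Type*} [Group G] [Finite G] (M K : Subgroup G) (hKM : K ≤ M)
    (hKn : M ≤ normalizer (K : Set G)) (hK3 : (Nat.card K).Coprime 3) (S : Sylow 3 G)
    (hab : ∀ a ∈ S, ∀ b ∈ S, a * b = b * a) (hSM : (S : Subgroup G) ≤ M)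
    (hN : normalizer ((S : Subgroup G) : Set G) ≤ M)
    (hC : ∀ y ∈ S, y ≠ 1 → centralizer ({y} : Set G) ≤ M)
    (hnc : ¬ IsCyclic S) {n : ℕ} (π : Fin n → (M →* Perm (Fin 3)))
    (hsep : ∀ y, ∀ hy : y ∈ S, y ≠ 1 → ∃ i, π i ⟨y, hSM hy⟩ ≠ 1)
    (Γ : Set G) (hΓK : Γ ⊆ K) (hΓ : K ≤ closure Γ)
    (hv : ∀ v ∈ Γ, (∀ w : G, Commute (v * v) w) ∧ v * v * (v * v) = 1 ∧
      ∀ (x : G) (h : x * v * x⁻¹ ∈ M) (i : Fin n), π i ⟨x * v * x⁻¹, h⟩ = 1)
    (hsig : ∀ y ∈ S, y ≠ 1 → ∀ L : Subgroup G, (Nat.card L).Coprime 3 →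
      L ≤ centralizer ({y} : Set G) → (S : Subgroup G) ≤ normalizer (L : Set G) → L ≤ K) :
    K.Normal := by
  have : Fact (Nat.Prime 3) := ⟨Nat.prime_three⟩
  have hTI := ti_of_abelian_sylow M S hab hSM hN hC
  have hex := fun i => exists_normal_avoiding M (π i) (fun y x hy h3 hx => by
    obtain ⟨hyM, hys, hy1⟩ := hy
    obtain ⟨hxM, -, -⟩ := hx
    refine hTI y x hyM h3 (fun e => hy1 ?_) hxM
    subst e
    exact map_one (π i))
  choose N hNn havoid hmem using hex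
  have hNN : (⨅ i, N i).Normal := normal_iInf_normal hNn
  have hK : K ≤ ⨅ i, N i := hΓ.trans ((closure_le _).2 fun v hvΓ => mem_iInf.2 fun i =>
    hmem i v (hv v hvΓ).1 (hv v hvΓ).2.1 fun x h => (hv v hvΓ).2.2 x h i)
  have hSN : ∀ y ∈ S, y ∈ (⨅ i, N i) → y = 1 := by
    intro y hy hyN
    by_contra hy1
    obtain ⟨i, hi⟩ := hsep y hy hy1
    refine havoid i y ⟨hSM hy, ?_, hi⟩ (mem_iInf.1 hyN i)
    obtain ⟨a, ha⟩ := S.2 ⟨y, hy⟩
    have ha' : y ^ 3 ^ a = 1 := by simpa [Subtype.ext_iff] using ha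
    have e : Perm.sign (π i ⟨y, hSM hy⟩) ^ 3 ^ a = 1 := by
      rw [← map_pow, ← map_pow, show (⟨y, hSM hy⟩ : M) ^ 3 ^ a = 1 from
        Subtype.ext ha', map_one, map_one]
    rcases Int.units_eq_one_or (Perm.sign (π i ⟨y, hSM hy⟩)) with h | h
    · exact h
    · rw [h, Odd.neg_one_pow (Odd.pow (by decide))] at e
      exact absurd e (by decide)
  have h3 : (Nat.card (⨅ i, N i : Subgroup G)).Coprime 3 := by
    refine ((Nat.Prime.coprime_iff_not_dvd Nat.prime_three).2 fun hd => ?_).symm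
    obtain ⟨z, hz⟩ := exists_prime_orderOf_dvd_card' 3 hd
    rw [← orderOf_coe] at hz
    obtain ⟨g, -, hg⟩ := exists_conj_mem_sylow (M := ⊤) S le_top (mem_top (z : G))
      ⟨1, by rw [pow_one, ← hz]; exact pow_orderOf_eq_one _⟩
    have h1 := hSN _ hg (hNN.conj_mem _ z.2 g)
    rw [conj_eq_one_iff] at h1
    rw [h1, orderOf_one] at hz
    omega
  have hle : (⨅ i, N i) ≤ K := le_of_sig S.2 hab hnc hsig h3 (by
    rw [normalizer_eq_top]; exact le_top)
  rwa [le_antisymm hK hle]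

theorem sq_of_mem_zpowers {G : Type*} [Group G] {t z : G} (htt : t * t = 1) (hz : z ∈ zpowers t) :
    z * z = 1 := by
  obtain ⟨i, rfl⟩ := mem_zpowers_iff.1 hz
  rw [← (Commute.refl t).mul_zpow, htt, one_zpow]

theorem commute_of_mem_zpowers {G : Type*} [Group G] {t z : G} (htc : ∀ g : G, Commute t g)
    (hz : z ∈ zpowers t) (g : G) : Commute z g := by
  obtain ⟨i, rfl⟩ := mem_zpowers_iff.1 hz
  exact (htc g).zpow_left i

/-- L3: the involution lemma, for a single element `u`. -/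
theorem sq_eq_one_of_inverting {G : Type*} [Group G] {t τ c u : G} (htc : ∀ g : G, Commute t g)
    (htt : t * t = 1) (hτ : τ * τ = 1) (hc : c ^ 3 = 1) (hinv : τ * c * τ = c⁻¹)
    (huu : u * u ∈ zpowers t)
    (hprod : u * (c * u * c⁻¹) * (c ^ 2 * u * (c ^ 2)⁻¹) ∈ zpowers t)
    (hu : (u * τ) * (u * τ) ∈ zpowers t) : (u * τ) * (u * τ) = 1 := by
  have hcen := fun {z : G} (hz : z ∈ zpowers t) => commute_of_mem_zpowers htc hz
  set w := c * u * c⁻¹ with hwdef
  set r := c ^ 2 * u * (c ^ 2)⁻¹ with hrdef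
  have hww : w * w = u * u := by
    calc w * w = c * (u * u) * c⁻¹ := by rw [hwdef]; group
      _ = u * u := by rw [← (hcen huu c).eq, mul_inv_cancel_right]
  have hrr : r * r = u * u := by
    calc r * r = c ^ 2 * (u * u) * (c ^ 2)⁻¹ := by rw [hrdef]; group
      _ = u * u := by rw [← (hcen huu (c ^ 2)).eq, mul_inv_cancel_right]
  have hτi : τ⁻¹ = τ := inv_eq_of_mul_eq_one_right hτ
  have hc2 : c ^ 2 = c⁻¹ := eq_inv_of_mul_eq_one_left (by rw [← pow_succ, hc])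
  -- the image of `w` under `τ` is `r` modulo `t`
  have hτu : τ * u * τ = u⁻¹ * (u * τ * (u * τ)) := by group
  have hτw : τ * w * τ = r * ((u * u)⁻¹ * (u * τ * (u * τ))) := by
    calc τ * w * τ = τ * w * τ⁻¹ := by rw [hτi]
      _ = (τ * c * τ⁻¹) * (τ * u * τ⁻¹) * (τ * c * τ⁻¹)⁻¹ := by rw [hwdef]; group
      _ = c⁻¹ * (u * ((u * u)⁻¹ * (u * τ * (u * τ)))) * c := by
          rw [hτi, hinv, inv_inv, hτu]; group
      _ = c⁻¹ * u * c * ((u * u)⁻¹ * (u * τ * (u * τ))) := by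
          rw [mul_assoc (c⁻¹) _ c, mul_assoc u _ c,
            (hcen (mul_mem (inv_mem huu) hu) c).eq]; group
      _ = r * ((u * u)⁻¹ * (u * τ * (u * τ))) := by rw [hrdef, hc2, inv_inv]
  -- so `u` is `w * (τ * w * τ)` modulo `t`
  obtain ⟨z, hz, huw⟩ : ∃ z ∈ zpowers t, u = w * (τ * w * τ) * z := by
    refine ⟨(w * (τ * w * τ))⁻¹ * u, ?_, (mul_inv_cancel_left _ _).symm⟩
    set a := (u * u)⁻¹ * (u * τ * (u * τ)) with hadef
    have ha : a ∈ zpowers t := mul_mem (inv_mem huu) hu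
    have e : (w * (τ * w * τ))⁻¹ * u = a⁻¹ * (r⁻¹ * w⁻¹ * u) := by rw [hτw]; group
    have e2 : r⁻¹ * w⁻¹ * u = (u * w * r)⁻¹ * (u * u) := by group
    rw [e, e2]
    exact mul_mem (inv_mem ha) (mul_mem (inv_mem hprod) huu)
  have hwwz : w * w ∈ zpowers t := hww ▸ huu
  calc u * τ * (u * τ) = u * (τ * u * τ) := by group
    _ = w * (τ * w * τ) * z * (τ * (w * (τ * w * τ) * z) * τ) := by rw [← huw]
    _ = w * (τ * w * τ) * z * ((τ * w * τ) * w * z) := by
        congr 1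
        calc τ * (w * (τ * w * τ) * z) * τ = τ * w * τ * w * (τ * z * τ) := by group
          _ = τ * w * τ * w * z := by rw [← (hcen hz τ).eq, mul_assoc z, hτ, mul_one]
    _ = w * (τ * w * τ) * ((τ * w * τ) * w) * (z * z) := by
        rw [show w * (τ * w * τ) * z * (τ * w * τ * w * z) =
          w * (τ * w * τ) * (z * (τ * w * τ * w)) * z by group, (hcen hz _).eq]
        group
    _ = w * (τ * (w * w) * τ) * w := by
        rw [sq_of_mem_zpowers htt hz, mul_one]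
        calc w * (τ * w * τ) * (τ * w * τ * w) = w * (τ * w * (τ * τ) * w * τ) * w := by group
          _ = w * (τ * (w * w) * τ) * w := by rw [hτ, mul_one]; group
    _ = w * (w * w) * w := by rw [← (hcen hwwz τ).eq, mul_assoc (w * w) τ τ, hτ, mul_one]
    _ = (w * w) * (w * w) := by group
    _ = 1 := sq_of_mem_zpowers htt hwwz

/-- L3': an element commuting with `c` fixes what `c` moves freely. -/
theorem commute_of_fpf {G : Type*} [Group G] {t c r w : G} (htc : ∀ g : G, Commute t g)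
    (htt : t * t = 1) (hrc : Commute r c) (hw : r * w * r⁻¹ * w⁻¹ ∈ zpowers t)
    (hprod : w * (c * w * c⁻¹) * (c ^ 2 * w * (c ^ 2)⁻¹) ∈ zpowers t) : Commute r w := by
  have hcen := fun {z : G} (hz : z ∈ zpowers t) => commute_of_mem_zpowers htc hz
  set l := r * w * r⁻¹ * w⁻¹ with hl
  have hrw : r * w * r⁻¹ = l * w := by rw [hl]; group
  have hconj : ∀ d : G, Commute r d → r * (d * w * d⁻¹) * r⁻¹ = l * (d * w * d⁻¹) := by
    intro d hd
    calc r * (d * w * d⁻¹) * r⁻¹ = (r * d) * w * (r * d)⁻¹ := by group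
      _ = d * (r * w * r⁻¹) * d⁻¹ := by rw [hd.eq]; group
      _ = d * l * w * d⁻¹ := by rw [hrw]; group
      _ = l * (d * w * d⁻¹) := by rw [← (hcen hw d).eq]; group
  have h : r * (w * (c * w * c⁻¹) * (c ^ 2 * w * (c ^ 2)⁻¹)) * r⁻¹ =
      w * (c * w * c⁻¹) * (c ^ 2 * w * (c ^ 2)⁻¹) := by
    rw [← (hcen hprod r).eq, mul_inv_cancel_right]
  have h2 : r * (w * (c * w * c⁻¹) * (c ^ 2 * w * (c ^ 2)⁻¹)) * r⁻¹ =
      (r * w * r⁻¹) * (r * (c * w * c⁻¹) * r⁻¹) * (r * (c ^ 2 * w * (c ^ 2)⁻¹) * r⁻¹) := by group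
  rw [h2, hrw, hconj c hrc, hconj (c ^ 2) (hrc.pow_right 2)] at h
  set p := c * w * c⁻¹
  set q := c ^ 2 * w * (c ^ 2)⁻¹
  have hl1 : l = 1 := by
    have e : l * w * (l * p) * (l * q) = l * (l * l) * (w * p * q) := by
      rw [show l * w * (l * p) * (l * q) = l * (w * l) * p * l * q by group, ← (hcen hw w).eq,
        show l * (l * w) * p * l * q = l * (l * w * p * l) * q by group, ← (hcen hw (l * w * p)).eq]
      group
    rw [e, sq_of_mem_zpowers htt hw, mul_one] at h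
    exact mul_eq_right.1 h
  exact mul_inv_eq_iff_eq_mul.1 (hrw.trans (by rw [hl1, one_mul]))

/-- L3' for a subgroup `K`: `τ` centralises `K`. -/
theorem centralises_of_fpf {G : Type*} [Group G] {t c τ : G} (K : Subgroup G)
    (htc : ∀ g : G, Commute t g) (htt : t * t = 1) (hτc : Commute τ c)
    (hτ : τ * τ = 1) (hK : ∀ w ∈ K, w⁻¹ * (τ * w * τ) ∈ zpowers t)
    (hfpf : ∀ w ∈ K, w * (c * w * c⁻¹) * (c ^ 2 * w * (c ^ 2)⁻¹) ∈ zpowers t) :
    ∀ w ∈ K, Commute τ w := fun w hw => commute_of_fpf htc htt hτc (by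
      rw [inv_eq_of_mul_eq_one_right hτ]
      have h : τ * w * τ * w⁻¹ = w⁻¹ * (τ * w * τ) := by
        rw [show τ * w * τ * w⁻¹ = w * (w⁻¹ * (τ * w * τ)) * w⁻¹ by group,
          ← (commute_of_mem_zpowers htc (hK w hw) w).eq, mul_inv_cancel_right]
      rw [h]
      exact hK w hw)
    (hfpf w hw)

end Cfsg.Agent.OEightThree
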