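import Cfsg.Agent.Lib.OEightThree.Local
import Cfsg.Agent.Lib.NineSylow.Main
import Cfsg.Agent.Lib.GLOrder.Basic
import Cfsg.Agent.S3331

/-
The two recognitions of `M = ⊤` from a centre-free abelian Sylow three-subgroup of order nine
(helper3, S3372): `eq_top_of_klein` and `eq_top_of_two`.
-/

set_option autoImplicit false
set_option maxRecDepth 10000

namespace Cfsg.Agent.OEightThree

open Subgroup
open scoped Pointwise IsMulCommutative

theorem centralizer_zpowers_eq {G : Type*} [Group G] (a : G) :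
    centralizer (zpowers a : Set G) = centralizer ({a} : Set G) := by
  refine le_antisymm (centralizer_le (by simp)) fun g hg b hb => ?_
  obtain ⟨i, rfl⟩ := mem_zpowers_iff.1 hb
  exact ((Commute.symm (mem_centralizer_singleton_iff.1 hg)).zpow_left i).eq

/-- A subgroup normalised modulo `K` lifts to an element normalising it. -/
theorem exists_lift_normalizer {G : Type*} [Group G] [Finite G] (K : Subgroup G) [K.Normal]
    (A : Subgroup G) [IsMulCommutative A] (hcop : (Nat.card A).Coprime (Nat.card K)) {x : G}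
    (hx : ∀ a ∈ A, x * a * x⁻¹ ∈ K ⊔ A) : ∃ n ∈ K, n⁻¹ * x ∈ normalizer (A : Set G) := by
  have hle : MulAut.conj x • A ≤ K ⊔ A := fun z hz => by
    have := hx _ (Coprime.mem_conj.1 hz)
    group at this
    simpa using this
  obtain ⟨n, hn, h⟩ := Coprime.exists_conj_eq_of_le_sup (by rw [normalizer_eq_top]; exact le_top)
    hcop (Or.inl inferInstance) hle (Coprime.card_conj x A)
  refine ⟨n, hn, Coprime.mem_normalizer_of_conj_eq ?_⟩
  rw [map_mul, mul_smul, ← h, ← mul_smul, ← map_mul, inv_mul_cancel, map_one, one_smul]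

/-- The centraliser modulo a normal subgroup of coprime order is the image of the centraliser. -/
theorem centralizer_map_le {G : Type*} [Group G] [Finite G] (K : Subgroup G) [K.Normal]
    (A : Subgroup G) [IsMulCommutative A] (hcop : (Nat.card A).Coprime (Nat.card K)) :
    centralizer ((A.map (QuotientGroup.mk' K) : Subgroup (G ⧸ K)) : Set (G ⧸ K)) ≤
      (centralizer (A : Set G)).map (QuotientGroup.mk' K) := by
  intro z hz
  obtain ⟨x, rfl⟩ := QuotientGroup.mk'_surjective K z
  have hxa : ∀ a ∈ A, x * a * x⁻¹ * a⁻¹ ∈ K := fun a ha => by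
    rw [← QuotientGroup.eq_one_iff]
    have := hz _ (mem_map_of_mem _ ha)
    simp only [QuotientGroup.mk'_apply] at this
    simp only [QuotientGroup.mk_mul, QuotientGroup.mk_inv]
    rw [← this]
    group
  obtain ⟨n, hn, hnx⟩ := exists_lift_normalizer K A hcop (x := x) fun a ha => by
    rw [show x * a * x⁻¹ = x * a * x⁻¹ * a⁻¹ * a by group]
    exact mul_mem_sup (hxa a ha) ha
  refine ⟨n⁻¹ * x, fun a ha => ?_, ?_⟩
  · set y := n⁻¹ * x with hy
    have h1 : y * a * y⁻¹ * a⁻¹ ∈ A :=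
      mul_mem ((mem_normalizer_iff.1 hnx a).1 ha) (inv_mem ha)
    have h2 : y * a * y⁻¹ * a⁻¹ ∈ K := by
      rw [← QuotientGroup.eq_one_iff]
      have e : (y : G ⧸ K) = x := by
        rw [hy, QuotientGroup.mk_mul, QuotientGroup.mk_inv, (QuotientGroup.eq_one_iff n).2 hn,
          inv_one, one_mul]
      have := (QuotientGroup.eq_one_iff _).2 (hxa a ha)
      simp only [QuotientGroup.mk_mul, QuotientGroup.mk_inv] at this ⊢
      rw [e, this]
    have h3 := Coprime.eq_one_of_mem_of_mem hcop h1 h2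
    rw [mul_inv_eq_one, mul_inv_eq_iff_eq_mul] at h3
    exact h3.symm
  · simp [(QuotientGroup.eq_one_iff n).2 hn]

/-- The normaliser modulo a normal subgroup of coprime order is the image of the normaliser. -/
theorem normalizer_map_le {G : Type*} [Group G] [Finite G] (K : Subgroup G) [K.Normal]
    (A : Subgroup G) [IsMulCommutative A] (hcop : (Nat.card A).Coprime (Nat.card K)) :
    normalizer ((A.map (QuotientGroup.mk' K) : Subgroup (G ⧸ K)) : Set (G ⧸ K)) ≤
      (normalizer (A : Set G)).map (QuotientGroup.mk' K) := by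
  intro z hz
  obtain ⟨x, rfl⟩ := QuotientGroup.mk'_surjective K z
  obtain ⟨n, hn, hnx⟩ := exists_lift_normalizer K A hcop (x := x) fun a ha => by
    have h := (mem_normalizer_iff.1 hz _).1 (mem_map_of_mem _ ha)
    rw [← map_inv, ← map_mul, ← map_mul, ← mem_comap, comap_map_eq, QuotientGroup.ker_mk'] at h
    rwa [sup_comm]
  exact ⟨n⁻¹ * x, hnx, by simp [(QuotientGroup.eq_one_iff n).2 hn]⟩

/-- What both recognitions know about the quotient by `K`. -/
theorem quotient_setting {G : Type*} [Group G] [Finite G] {M K T : Subgroup G} [K.Normal]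
    (hKM : K ≤ M) (hK3 : (Nat.card K).Coprime 3) (hab : ∀ a ∈ T, ∀ b ∈ T, a * b = b * a)
    (hT9 : Nat.card T = 9) (hTM : T ≤ M) (hN : normalizer (T : Set G) ≤ M)
    (hC : ∀ d ∈ T, d ≠ 1 → centralizer ({d} : Set G) ≤ M) {m : ℕ}
    (hM : Nat.card M = m * Nat.card K) (h27 : ¬ 27 ∣ m) :
    Nat.card (T.map (QuotientGroup.mk' K)) = 9 ∧
      normalizer ((T.map (QuotientGroup.mk' K) : Subgroup (G ⧸ K)) : Set (G ⧸ K)) ≤
        M.map (QuotientGroup.mk' K) ∧
      (∀ d ∈ T.map (QuotientGroup.mk' K), d ≠ 1 →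
        centralizer ({d} : Set (G ⧸ K)) ≤ M.map (QuotientGroup.mk' K)) ∧
      Nat.card (M.map (QuotientGroup.mk' K)) = m ∧ ¬ 27 ∣ Nat.card (G ⧸ K) := by
  have : Fact (Nat.Prime 3) := ⟨Nat.prime_three⟩
  have hTc : IsMulCommutative T := ⟨⟨fun a b => Subtype.ext (hab a a.2 b b.2)⟩⟩
  have hcop : (Nat.card T).Coprime (Nat.card K) := by
    rw [hT9, show (9 : ℕ) = 3 ^ 2 by norm_num]
    exact (hK3.pow_right 2).symm
  have hinj : ∀ a ∈ T, QuotientGroup.mk' K a = 1 → a = 1 := fun a ha h =>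
    Coprime.eq_one_of_mem_of_mem hcop ha ((QuotientGroup.eq_one_iff a).1 h)
  have h9 : Nat.card (T.map (QuotientGroup.mk' K)) = 9 := by
    rw [← hT9]
    refine (Nat.card_congr (Equiv.ofBijective
      (fun a : T => (⟨QuotientGroup.mk' K a, mem_map_of_mem _ a.2⟩ : T.map (QuotientGroup.mk' K)))
      ⟨fun a b h => Subtype.ext ?_, ?_⟩)).symm
    · have h' : QuotientGroup.mk' K (a : G) = QuotientGroup.mk' K b := congrArg Subtype.val h
      exact inv_mul_eq_one.1 (hinj _ (mul_mem (inv_mem a.2) b.2)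
        (by rw [map_mul, map_inv, h', inv_mul_cancel]))
    · rintro ⟨_, a, ha, rfl⟩
      exact ⟨⟨a, ha⟩, rfl⟩
  have hMc : Nat.card (M.map (QuotientGroup.mk' K)) = m := by
    have e1 := card_mul_index (((QuotientGroup.mk' K).comp M.subtype).ker)
    rw [index_ker, show ((QuotientGroup.mk' K).comp M.subtype).ker = K.subgroupOf M by
        rw [← MonoidHom.comap_ker, QuotientGroup.ker_mk']; rfl,
      Nat.card_congr (subgroupOfEquivOfLe hKM).toEquiv, hM, MonoidHom.range_comp,
      range_subtype, mul_comm m] at e1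
    exact Nat.eq_of_mul_eq_mul_left Nat.card_pos e1
  have hNW := (normalizer_map_le K T hcop).trans (map_mono hN)
  refine ⟨h9, hNW, fun d hd hd1 => ?_, hMc, fun h27W => h27 ?_⟩
  · obtain ⟨a, ha, rfl⟩ := hd
    have hA : zpowers a ≤ T := zpowers_le.2 ha
    refine le_trans (le_of_eq ?_) ((centralizer_map_le K (zpowers a)
      (hcop.coprime_dvd_left (card_dvd_of_le hA))).trans (map_mono ?_))
    · rw [MonoidHom.map_zpowers, centralizer_zpowers_eq]
    · rw [centralizer_zpowers_eq]
      exact hC a ha fun e => hd1 (by rw [e, map_one])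
  · rw [← hMc]
    exact (Sylow.prime_pow_dvd_card_normalizer (p := 3) (n := 2) h27W
      (h9.trans (by norm_num))).trans (card_dvd_of_le hNW)

/-- A subgroup of order nine of a group with no twenty-seven in its order is a Sylow subgroup. -/
theorem exists_sylow_eq {W : Type*} [Group W] [Finite W] (T : Subgroup W) (hT : Nat.card T = 9)
    (h27 : ¬ 27 ∣ Nat.card W) : ∃ P : Sylow 3 W, (P : Subgroup W) = T := by
  have : Fact (Nat.Prime 3) := ⟨Nat.prime_three⟩
  obtain ⟨P, hP⟩ := (IsPGroup.of_card (p := 3) (n := 2) (hT.trans (by norm_num))).exists_le_sylow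
  refine ⟨P, (eq_of_le_of_card_ge hP ?_).symm⟩
  obtain ⟨k, hk⟩ := IsPGroup.iff_card.1 P.2
  have hd := card_subgroup_dvd_card (P : Subgroup W)
  rw [hk] at hd
  rw [hT, hk]
  rcases le_or_gt k 2 with hk2 | hk2
  · exact le_trans (Nat.pow_le_pow_right (by norm_num) hk2) (by norm_num)
  · exact absurd (dvd_trans (pow_dvd_pow 3 hk2) hd) h27

/-- L4: the Klein case. -/
theorem eq_top_of_klein {G : Type*} [Group G] [Finite G] {M K T : Subgroup G} [K.Normal]
    (hKM : K ≤ M) (hK3 : (Nat.card K).Coprime 3) (hab : ∀ a ∈ T, ∀ b ∈ T, a * b = b * a)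
    (hexp : ∀ a ∈ T, a ^ 3 = 1) (hT9 : Nat.card T = 9) (hTM : T ≤ M)
    (hN : normalizer (T : Set G) ≤ M) (hC : ∀ d ∈ T, d ≠ 1 → centralizer ({d} : Set G) ≤ M)
    (hM : Nat.card M = 36 * Nat.card K) (hsq : ∀ m ∈ M, m * m ∈ K ⊔ T)
    (hCT : centralizer (T : Set G) ≤ K ⊔ T) : M = ⊤ := by
  obtain ⟨h9, hNW, hCW, hMc, h27⟩ := quotient_setting hKM hK3 hab hT9 hTM hN hC hM (by norm_num)
  set f := QuotientGroup.mk' K with hf
  set U := T.map f with hU
  set V := M.map f with hV
  have hTc : IsMulCommutative T := ⟨⟨fun a b => Subtype.ext (hab a a.2 b b.2)⟩⟩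
  have hUV : U ≤ V := map_mono hTM
  have hKT : (K ⊔ T).map f = U := by
    rw [Subgroup.map_sup, hf, (Subgroup.map_eq_bot_iff _).2 (le_of_eq (QuotientGroup.ker_mk' K).symm)]
    exact bot_sup_eq _
  have hUe : Cfsg.IsElementaryAbelian 3 U := by
    refine ⟨⟨⟨?_⟩⟩, ?_⟩
    · rintro ⟨_, a, ha, rfl⟩ ⟨_, b, hb, rfl⟩
      exact Subtype.ext (by show f a * f b = f b * f a; rw [← map_mul, ← map_mul, hab a ha b hb])
    · rintro _ ⟨a, ha, rfl⟩
      rw [← map_pow, hexp a ha, map_one]
  have hsq' : ∀ v ∈ V, v * v ∈ U := by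
    rintro _ ⟨m, hm, rfl⟩
    rw [← map_mul, ← hKT]
    exact mem_map_of_mem _ (hsq m hm)
  -- the subgroup `U` consists of squares, so it is normal in `V`
  have hVN : normalizer (U : Set (G ⧸ K)) = V := by
    refine le_antisymm hNW fun v hv => Coprime.mem_normalizer_of_forall fun u hu => ?_
    have e : u = u ^ 2 * u ^ 2 := by
      rw [← pow_add, pow_succ, hUe.2 u hu, one_mul]
    rw [e, show v * (u ^ 2 * u ^ 2) * v⁻¹ = (v * u ^ 2 * v⁻¹) * (v * u ^ 2 * v⁻¹) by group]
    exact hsq' _ (mul_mem (mul_mem hv (pow_mem (hUV hu) 2)) (inv_mem hv))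
  have hCU : centralizer (U : Set (G ⧸ K)) = U := by
    refine le_antisymm ?_ fun u hu a ha => congrArg Subtype.val (hUe.1.is_comm.comm ⟨a, ha⟩ ⟨u, hu⟩)
    rw [← hKT]
    refine le_trans ?_ (map_mono hCT)
    rw [hKT]
    refine centralizer_map_le K T ?_
    rw [hT9, show (9 : ℕ) = 3 ^ 2 by norm_num]
    exact (hK3.pow_right 2).symm
  obtain ⟨P, hP⟩ := exists_sylow_eq U h9 h27
  rw [← hP] at h9 hUe hVN hCU hsq'
  set Nz := normalizer ((P : Subgroup (G ⧸ K)) : Set (G ⧸ K)) with hNz
  have hn : ((P : Subgroup (G ⧸ K)).subgroupOf Nz).Normal := normal_in_normalizer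
  have hcard : Nat.card (Nz ⧸ (P : Subgroup (G ⧸ K)).subgroupOf Nz) = 4 := by
    have h := card_mul_index ((P : Subgroup (G ⧸ K)).subgroupOf Nz)
    rw [Nat.card_congr (subgroupOfEquivOfLe (show (P : Subgroup (G ⧸ K)) ≤ Nz from le_normalizer)).toEquiv, hVN, hMc] at h
    show ((P : Subgroup (G ⧸ K)).subgroupOf Nz).index = 4
    rw [hVN]
    change Nat.card (P : Subgroup (G ⧸ K)) * _ = 36 at h
    rw [h9] at h
    omega
  have hexp2 : Monoid.exponent (Nz ⧸ (P : Subgroup (G ⧸ K)).subgroupOf Nz) ∣ 2 := by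
    refine Monoid.exponent_dvd_of_forall_pow_eq_one fun z => ?_
    obtain ⟨n, rfl⟩ := QuotientGroup.mk_surjective z
    rw [pow_two, ← QuotientGroup.mk_mul, QuotientGroup.eq_one_iff, mem_subgroupOf]
    exact hsq' _ (hVN ▸ n.2)
  have hK4 : IsKleinFour (Nz ⧸ (P : Subgroup (G ⧸ K)).subgroupOf Nz) := by
    refine ⟨hcard, ?_⟩
    rcases (Nat.dvd_prime Nat.prime_two).1 hexp2 with h | h
    · have := Monoid.exp_eq_one_iff.1 h
      rw [Nat.card_eq_one_iff_unique.2 ⟨this, inferInstance⟩] at hcard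
      omega
    · exact h
  have htop := NineSylow.normalizer_eq_top_of_klein P hUe h9 hCU hK4
    (fun t ht ht1 => le_of_le_of_eq (hCW t (hP ▸ ht) ht1) hVN.symm)
  replace htop : V = ⊤ := hVN.symm.trans htop
  have := congrArg (comap f) htop
  rwa [hV, comap_map_eq, hf, QuotientGroup.ker_mk', comap_top, sup_eq_left.2 hKM] at this

/-- A normal subgroup of index three gives no invariant Sylow subgroup with three in its normaliser. -/
theorem not_three_dvd_normalizer {W : Type*} [Group W] [Finite W] (T : Subgroup W) (hT : Nat.card T = 9)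
    (h27 : ¬ 27 ∣ Nat.card W) (W1 : Subgroup W) [W1.Normal] (hi : W1.index = 3)
    (triv : ∀ Q : Subgroup W, (Nat.card Q).Coprime 3 → T ≤ normalizer (Q : Set W) → Q = ⊥)
    {q : ℕ} (hq : q.Prime) (hq3 : q ≠ 3) (hd : q ∣ Nat.card W1) (P : Sylow q W1) :
    ¬ 3 ∣ Nat.card (normalizer ((P : Subgroup W1) : Set W1)) := by
  intro h3
  have : Fact (Nat.Prime 3) := ⟨Nat.prime_three⟩
  have : Fact q.Prime := ⟨hq⟩
  set Q := (P : Subgroup W1).map W1.subtype with hQ
  set R := normalizer (Q : Set W)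
  have h1 : 3 ∣ Nat.card (R ⊓ W1 : Subgroup W) := by
    refine h3.trans ?_
    rw [← card_map_of_injective W1.subtype_injective]
    exact card_dvd_of_le (le_inf (le_normalizer_map _) (map_subtype_le _))
  have h9 : 3 ^ 2 ∣ Nat.card R := by
    have h2 : W1.relIndex R = 3 := by
      rw [← relIndex_sup_right, Sylow.normalizer_sup_eq_top P, relIndex_top_right, hi]
    have h := card_mul_index (W1.subgroupOf R)
    rw [show (W1.subgroupOf R).index = 3 from h2, ← inf_subgroupOf_right,
      Nat.card_congr (subgroupOfEquivOfLe inf_le_right).toEquiv, inf_comm] at h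
    rw [← h, pow_two]
    exact Nat.mul_dvd_mul h1 dvd_rfl
  obtain ⟨B, hB⟩ := Sylow.exists_subgroup_card_pow_prime 3 h9
  obtain ⟨S, hS⟩ := exists_sylow_eq (B.map R.subtype)
    (by rw [card_map_of_injective R.subtype_injective, hB]; norm_num) h27
  obtain ⟨P0, hP0⟩ := exists_sylow_eq T hT h27
  obtain ⟨g, hg⟩ := MulAction.exists_smul_eq W P0 S
  have hgT : ∀ x ∈ T, g * x * g⁻¹ ∈ R := fun x hx => by
    have h : MulAut.conj g x ∈ MulAut.conj g • (P0 : Subgroup W) :=
      smul_mem_pointwise_smul _ _ _ (hP0 ▸ hx)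
    rw [← Sylow.pointwise_smul_def, show MulAut.conj g • P0 = g • P0 from rfl, hg, hS] at h
    exact map_subtype_le _ h
  have hcop : (Nat.card (MulAut.conj g⁻¹ • Q : Subgroup W)).Coprime 3 := by
    rw [Coprime.card_conj, hQ, card_map_of_injective W1.subtype_injective]
    obtain ⟨k, hk⟩ := IsPGroup.iff_card.1 P.2
    rw [hk]
    exact Nat.Coprime.pow_left _ ((Nat.coprime_primes hq Nat.prime_three).2 hq3)
  have hbot := triv _ hcop fun x hx => Coprime.mem_normalizer_of_conj_eq (by
    rw [← mul_smul, ← map_mul, show x * g⁻¹ = g⁻¹ * (g * x * g⁻¹) by group, map_mul, mul_smul,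
      Coprime.conj_eq_of_mem_normalizer (hgT x hx)])
  have hP1 : Nat.card (P : Subgroup W1) = 1 := by
    rw [← card_map_of_injective W1.subtype_injective, ← hQ, ← Coprime.card_conj g⁻¹ Q, hbot,
      card_bot]
  exact P.ne_bot_of_dvd_card hd (eq_bot_of_card_eq _ hP1)

theorem exists_four_normalizer :
    ∃ (V : Subgroup (alternatingGroup (Fin 5))) (c : alternatingGroup (Fin 5)),
      Nat.card V = 4 ∧ orderOf c = 3 ∧ c ∈ normalizer (V : Set (alternatingGroup (Fin 5))) := by
  let a : alternatingGroup (Fin 5) := ⟨Equiv.swap 0 1 * Equiv.swap 2 3, Equiv.Perm.mem_alternatingGroup.2 (by decide)⟩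
  let b : alternatingGroup (Fin 5) := ⟨Equiv.swap 0 2 * Equiv.swap 1 3, Equiv.Perm.mem_alternatingGroup.2 (by decide)⟩
  let c : alternatingGroup (Fin 5) := ⟨Equiv.swap 0 1 * Equiv.swap 1 2, Equiv.Perm.mem_alternatingGroup.2 (by decide)⟩
  let s : Finset (alternatingGroup (Fin 5)) := {1, a, b, a * b}
  have hm : ∀ x ∈ s, ∀ y ∈ s, x * y ∈ s := by decide
  have hi : ∀ x ∈ s, x⁻¹ ∈ s := by decide
  let V : Subgroup (alternatingGroup (Fin 5)) :=
    { carrier := s
      one_mem' := by simp [s]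
      mul_mem' := fun hx hy => hm _ hx _ hy
      inv_mem' := fun hx => hi _ hx }
  refine ⟨V, c, ?_, orderOf_eq_prime (by decide) (by decide), ?_⟩
  · show Nat.card (s : Set (alternatingGroup (Fin 5))) = 4
    rw [Nat.card_coe_set_eq, Set.ncard_coe_finset]
    decide
  · have hc : ∀ x ∈ s, c * x * c⁻¹ ∈ s := by decide
    exact Coprime.mem_normalizer_of_forall fun x hx => hc x hx

/-- L5: the case of a single involution. -/
theorem eq_top_of_two {G : Type*} [Group G] [Finite G] {M K T : Subgroup G} [K.Normal]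
    (hKM : K ≤ M) (hK3 : (Nat.card K).Coprime 3) (hab : ∀ a ∈ T, ∀ b ∈ T, a * b = b * a)
    (hexp : ∀ a ∈ T, a ^ 3 = 1) (hT9 : Nat.card T = 9) (hTM : T ≤ M)
    (hN : normalizer (T : Set G) ≤ M) (hC : ∀ d ∈ T, d ≠ 1 → centralizer ({d} : Set G) ≤ M)
    (hM : Nat.card M = 18 * Nat.card K) {s c1 c3 : G} (hs : s ∈ M) (hss : s * s ∈ K)
    (hc1 : c1 ∈ T) (hc3 : c3 ∈ T) (hgen : T ≤ closure {c1, c3})
    (hs1 : s * c1 * s⁻¹ = c1) (hs3 : s * c3 * s⁻¹ = c3⁻¹)
    (hC3 : centralizer ({c3} : Set G) ≤ K ⊔ T)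
    (hsig : ∀ y ∈ T, y ≠ 1 → ∀ L : Subgroup G, (Nat.card L).Coprime 3 →
      L ≤ centralizer ({y} : Set G) → T ≤ normalizer (L : Set G) → L ≤ K) : M = ⊤ := by
  classical
  have : Fact (Nat.Prime 3) := ⟨Nat.prime_three⟩
  have : Fact (Nat.Prime 2) := ⟨Nat.prime_two⟩
  obtain ⟨h9, hNW, -, hMc, h27⟩ := quotient_setting hKM hK3 hab hT9 hTM hN hC hM (by norm_num)
  set f := QuotientGroup.mk' K with hf
  set U := T.map f with hU
  set V := M.map f with hV
  have hTp : IsPGroup 3 T := IsPGroup.of_card (n := 2) (hT9.trans (by norm_num))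
  have hcop : (Nat.card T).Coprime (Nat.card K) := by
    rw [hT9, show (9 : ℕ) = 3 ^ 2 by norm_num]
    exact (hK3.pow_right 2).symm
  have hTc : IsMulCommutative T := ⟨⟨fun a b => Subtype.ext (hab a a.2 b b.2)⟩⟩
  have hnc : ¬ IsCyclic T := fun hcyc => by
    have h : Monoid.exponent T = 9 := hT9 ▸ IsCyclic.exponent_eq_card
    have h3 : Monoid.exponent T ∣ 3 :=
      Monoid.exponent_dvd_of_forall_pow_eq_one fun a => Subtype.ext (hexp a a.2)
    rw [h] at h3
    omega
  have hcy : ∀ d ∈ T, ¬ T ≤ zpowers d := fun d hd hle => hnc (isCyclic_of_le hle)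
  -- no subgroup of order prime to three is invariant under `U`
  have triv : ∀ Q : Subgroup (G ⧸ K), (Nat.card Q).Coprime 3 →
      U ≤ normalizer (Q : Set (G ⧸ K)) → Q = ⊥ := by
    intro Q hQ hUQ
    have hcard : Nat.card (Q.comap f) = Nat.card K * Nat.card Q := by
      have e1 := card_mul_index ((f.comp (Q.comap f).subtype).ker)
      rw [index_ker, show (f.comp (Q.comap f).subtype).ker = K.subgroupOf (Q.comap f) by
          rw [← MonoidHom.comap_ker, hf, QuotientGroup.ker_mk']; rfl,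
        Nat.card_congr (subgroupOfEquivOfLe (show K ≤ Q.comap f from fun k hk => by
          rw [mem_comap, hf, QuotientGroup.mk'_apply, (QuotientGroup.eq_one_iff k).2 hk]
          exact one_mem Q)).toEquiv,
        MonoidHom.range_comp, range_subtype,
        map_comap_eq_self_of_surjective (QuotientGroup.mk'_surjective K)] at e1
      exact e1.symm
    have hle := le_of_sig hTp hab hnc hsig (N := Q.comap f) (by rw [hcard]; exact hK3.mul_left hQ)
      fun a ha => Coprime.mem_normalizer_of_forall fun z hz => by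
        rw [mem_comap, map_mul, map_mul, map_inv]
        exact (mem_normalizer_iff.1 (hUQ (mem_map_of_mem _ ha)) _).1 hz
    refine (eq_bot_iff_forall _).2 fun z hz => ?_
    obtain ⟨x, rfl⟩ := QuotientGroup.mk'_surjective K z
    exact (QuotientGroup.eq_one_iff x).2 (hle hz)
  have hinj : ∀ a ∈ T, f a = 1 → a = 1 := fun a ha h =>
    Coprime.eq_one_of_mem_of_mem hcop ha ((QuotientGroup.eq_one_iff a).1 h)
  have hc31 : c3 ≠ 1 := fun h => hcy c1 hc1 (hgen.trans ((closure_le _).2 (by
    rintro z (rfl | rfl)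
    · exact mem_zpowers _
    · rw [h]; exact one_mem _)))
  have hc11 : c1 ≠ 1 := fun h => hcy c3 hc3 (hgen.trans ((closure_le _).2 (by
    rintro z (rfl | rfl)
    · rw [h]; exact one_mem _
    · exact mem_zpowers _)))
  have hUV : U ≤ V := map_mono hTM
  have hsU : f s ∉ U := by
    rintro ⟨a, ha, h⟩
    have e : f (c3 * c3) = 1 := by
      have := congrArg f hs3
      rw [map_mul, map_mul, map_inv, ← h, ← map_inv, ← map_mul, ← map_mul, hab a ha c3 hc3,
        mul_inv_cancel_right, map_inv, ← mul_eq_one_iff_eq_inv, ← map_mul] at this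
      exact this
    have h1 := hinj _ (mul_mem hc3 hc3) e
    refine hc31 ?_
    have h3 := hexp c3 hc3
    rw [pow_succ, pow_two, h1, one_mul] at h3
    exact h3
  -- `f c1` is central in `V`
  have hVc : V ≤ centralizer ({f c1} : Set (G ⧸ K)) := by
    set H := U ⊔ zpowers (f s) with hH
    have hHV : H ≤ V := sup_le hUV (zpowers_le.2 (mem_map_of_mem _ hs))
    have h1 : 9 ∣ Nat.card H := h9 ▸ card_dvd_of_le le_sup_left
    have h2 : Nat.card H ∣ 18 := hMc ▸ card_dvd_of_le hHV
    have h3 : Nat.card H ≠ 9 := fun h => hsU (by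
      have e := eq_of_le_of_card_ge (le_sup_left : U ≤ H) (by rw [h, h9])
      rw [e]
      exact mem_sup_right (mem_zpowers _))
    have h4' : Nat.card V ≤ Nat.card H := by
      have := Nat.le_of_dvd (by norm_num) h2
      have hpos : 0 < Nat.card H := Nat.card_pos
      rw [hMc]
      obtain ⟨k, hk⟩ := h1
      omega
    have h4 : V = H := (eq_of_le_of_card_ge hHV h4').symm
    rw [h4]
    refine sup_le ?_ (zpowers_le.2 (mem_centralizer_singleton_iff.2 ?_))
    · rintro _ ⟨a, ha, rfl⟩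
      rw [mem_centralizer_singleton_iff, ← map_mul, ← map_mul, hab a ha c1 hc1]
    · rw [← map_mul, ← map_mul, mul_inv_eq_iff_eq_mul.1 hs1]
  obtain ⟨P, hP⟩ := exists_sylow_eq U h9 h27
  have hUc : IsMulCommutative U := by
    refine ⟨⟨?_⟩⟩
    rintro ⟨_, a, ha, rfl⟩ ⟨_, b, hb, rfl⟩
    exact Subtype.ext (by show f a * f b = f b * f a; rw [← map_mul, ← map_mul, hab a ha b hb])
  have hPc : IsMulCommutative (P : Subgroup (G ⧸ K)) := hP ▸ hUc
  -- the transfer into `U`
  let τ : (G ⧸ K) →* U := MonoidHom.transfer (MonoidHom.id U)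
  have hidx : ¬ 3 ∣ U.index := fun h => h27 (by
    rw [← card_mul_index U, h9]
    exact Nat.mul_dvd_mul_left 9 h)
  have hτ1 : τ (f c1) ≠ 1 := by
    intro h
    rw [show τ = MonoidHom.transfer (MonoidHom.id U) from rfl,
      MonoidHom.transfer_eq_pow (MonoidHom.id U) (f c1) (fun k g₀ hk => by
        obtain ⟨n, hn, e⟩ := P.conj_eq_normalizer_conj_of_mem (f c1 ^ k) g₀
          (show f c1 ^ k ∈ (P : Subgroup (G ⧸ K)) from hP.symm ▸ pow_mem (mem_map_of_mem f hc1) k)
          (show g₀⁻¹ * f c1 ^ k * g₀ ∈ (P : Subgroup (G ⧸ K)) from hP.symm ▸ hk)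
        rw [e]
        have hnc1 : Commute n (f c1) :=
          mem_centralizer_singleton_iff.1 (hVc (hNW (by rwa [← hP])))
        rw [mul_assoc, ← (hnc1.pow_right k).eq, inv_mul_cancel_left]),
      MonoidHom.id_apply, Subtype.ext_iff, coe_one] at h
    refine hc11 (hinj c1 hc1 ?_)
    have h3 : orderOf (f c1) ∣ 3 :=
      orderOf_dvd_of_pow_eq_one (by rw [← map_pow, hexp c1 hc1, map_one])
    have h4 := Nat.dvd_gcd h3 (orderOf_dvd_of_pow_eq_one h)
    rw [(Nat.Prime.coprime_iff_not_dvd Nat.prime_three).2 hidx] at h4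
    exact orderOf_eq_one_iff.1 (Nat.dvd_one.1 h4)
  have hτ3 : τ (f c3) = 1 := by
    have e : c3 = s * c3 * s⁻¹ * c3⁻¹ := by
      rw [hs3]
      have h3 := hexp c3 hc3
      rw [← mul_inv_rev, eq_inv_iff_mul_eq_one, ← mul_assoc, ← pow_two, ← pow_succ, h3]
    rw [e]
    simp only [map_mul, map_inv]
    rw [mul_comm (τ (f s)), mul_assoc (τ (f c3)), mul_inv_cancel, mul_one, mul_inv_cancel]
  set W1 := τ.ker with hW1
  have hc3W : f c3 ∈ W1 := hτ3
  have hc1W : f c1 ∉ W1 := hτ1
  have hfc3 : f c3 ≠ 1 := fun h => hc31 (hinj c3 hc3 h)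
  have ho3 : orderOf (f c3) = 3 :=
    orderOf_eq_prime (by rw [← map_pow, hexp c3 hc3, map_one]) hfc3
  have hW13 : 3 ∣ Nat.card W1 :=
    ho3 ▸ (Nat.card_zpowers (f c3) ▸ card_dvd_of_le (zpowers_le.2 hc3W))
  have hi : W1.index = 3 := by
    rw [hW1, index_ker]
    have hd : Nat.card τ.range ∣ 3 ^ 2 := by
      rw [show (3 : ℕ) ^ 2 = Nat.card U by rw [h9]; norm_num]
      exact card_subgroup_dvd_card _
    obtain ⟨k, hk, hk'⟩ := (Nat.dvd_prime_pow Nat.prime_three).1 hd
    have hmul := card_mul_index W1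
    rw [hW1, index_ker, hk'] at hmul
    interval_cases k
    · exfalso
      have h := (card_eq_one.1 hk')
      exact hτ1 (mem_bot.1 (h ▸ MonoidHom.mem_range.2 ⟨f c1, rfl⟩))
    · rw [hk', pow_one]
    · exact absurd (hmul ▸ Nat.mul_dvd_mul hW13 dvd_rfl) h27
  -- `f c3` is self-centralising in `W1`
  let y : W1 := ⟨f c3, hc3W⟩
  have hy : SelfCentThree.SC y := by
    refine ⟨by rw [← Subgroup.orderOf_coe]; exact ho3, fun g hg => ?_⟩
    have hgU : (g : G ⧸ K) ∈ U := by
      have h : (g : G ⧸ K) ∈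
          centralizer (((zpowers c3).map f : Subgroup (G ⧸ K)) : Set (G ⧸ K)) := by
        rw [MonoidHom.map_zpowers, centralizer_zpowers_eq,
          mem_centralizer_singleton_iff]
        exact congrArg Subtype.val hg.eq
      obtain ⟨x, hx, hxg⟩ := centralizer_map_le K (zpowers c3)
        (hcop.coprime_dvd_left (card_dvd_of_le (zpowers_le.2 hc3))) h
      rw [centralizer_zpowers_eq] at hx
      rw [← hxg]
      have h2 := mem_map_of_mem f (hC3 hx)
      rw [Subgroup.map_sup, (Subgroup.map_eq_bot_iff _).2 (le_of_eq (QuotientGroup.ker_mk' K).symm),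
        bot_sup_eq] at h2
      exact h2
    have hle : zpowers (f c3) ≤ U ⊓ W1 := le_inf (zpowers_le.2 (mem_map_of_mem f hc3))
      (zpowers_le.2 hc3W)
    have h3 : Nat.card (U ⊓ W1 : Subgroup (G ⧸ K)) ∣ 3 ^ 2 :=
      (card_dvd_of_le inf_le_left).trans (by rw [h9]; norm_num)
    obtain ⟨k, hk, hk'⟩ := (Nat.dvd_prime_pow Nat.prime_three).1 h3
    have hk1 : k ≤ 1 := by
      by_contra hk2
      obtain rfl : k = 2 := by omega
      have e := eq_of_le_of_card_ge (inf_le_left : U ⊓ W1 ≤ U) (by rw [hk', h9]; norm_num)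
      refine hc1W (inf_le_right (a := U) ?_)
      rw [e]
      exact mem_map_of_mem f hc1
    have heq := eq_of_le_of_card_ge hle (by
      rw [Nat.card_zpowers, ho3, hk']
      exact le_trans (Nat.pow_le_pow_right (by norm_num) hk1) (by norm_num))
    obtain ⟨i, hi⟩ := mem_zpowers_iff.1 (heq ▸ mem_inf.2 ⟨hgU, g.2⟩)
    exact mem_zpowers_iff.2 ⟨i, Subtype.ext (by rw [SubgroupClass.coe_zpow]; exact hi)⟩
  -- the normal subgroups of order prime to three of `W1` are trivial
  have hcore : ∀ N : Subgroup W1, N.Normal → (Nat.card N).Coprime 3 → N = ⊥ := by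
    intro N hNn hN3
    have := SelfCentPrime.pPrimeCore_characteristic 3 W1
    have hb := triv ((Cfsg.pPrimeCore 3 W1).map W1.subtype) (by
      rw [card_map_of_injective W1.subtype_injective]
      exact SelfCentPrime.card_pPrimeCore_coprime 3 W1) (by rw [normalizer_eq_top]; exact le_top)
    rw [map_eq_bot_iff_of_injective _ W1.subtype_injective] at hb
    exact eq_bot_iff.2 (hb ▸ le_sSup (show N ∈ {N : Subgroup W1 | N.Normal ∧ (Nat.card N).Coprime 3}
      from ⟨hNn, hN3⟩))
  have hbad := fun {q : ℕ} (hq : q.Prime) (hq3 : q ≠ 3) (hd : q ∣ Nat.card W1) (Q : Sylow q W1) =>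
    not_three_dvd_normalizer U h9 h27 W1 hi triv hq hq3 hd Q
  rcases S3331.main hy with ⟨N, hNn, -, hN3, hq⟩ | ⟨N, hNn, -, hN2, ⟨e⟩⟩ | he
  · obtain rfl := hcore N hNn hN3
    have hW16 : Nat.card W1 ≤ 6 := by
      rw [← Nat.card_congr (QuotientGroup.quotientBot (G := W1)).toEquiv]
      rcases hq with h | ⟨⟨e⟩⟩
      · omega
      · rw [Nat.card_congr e.toEquiv, Nat.card_eq_fintype_card, Fintype.card_perm]
        decide
    have hW : Nat.card (G ⧸ K) ≤ Nat.card V := by
      rw [hMc, ← card_mul_index W1, hi]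
      omega
    have htop : V = ⊤ := eq_top_of_le_card _ hW
    have := congrArg (comap f) htop
    rwa [hV, comap_map_eq, hf, QuotientGroup.ker_mk', comap_top, sup_eq_left.2 hKM] at this
  · exfalso
    have hNp : IsPGroup 2 N := fun n => ⟨1, Subtype.ext (by simpa using hN2 n n.2)⟩
    obtain ⟨k, hk⟩ := IsPGroup.iff_card.1 hNp
    obtain rfl := hcore N hNn (by rw [hk]; exact Nat.Coprime.pow_left _ (by decide))
    set ε := (QuotientGroup.quotientBot (G := W1)).symm.trans e
    have h60 : Nat.card W1 = 60 := by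
      rw [Nat.card_congr ε.toEquiv, nat_card_alternatingGroup, Nat.card_fin]
      rfl
    obtain ⟨X, c, hX, hco, hcX⟩ := exists_four_normalizer
    have hXc : Nat.card (X.map ε.symm.toMonoidHom) = 4 := by
      rw [card_map_of_injective (f := ε.symm.toMonoidHom) ε.symm.injective, hX]
    obtain ⟨Q, hQ⟩ := (IsPGroup.of_card (p := 2) (n := 2)
      (hXc.trans (by norm_num))).exists_le_sylow
    have hQe : (Q : Subgroup W1) = X.map ε.symm.toMonoidHom := by
      refine (eq_of_le_of_card_ge hQ ?_).symm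
      obtain ⟨j, hj⟩ := IsPGroup.iff_card.1 Q.2
      have hd := card_subgroup_dvd_card (Q : Subgroup W1)
      rw [hj, h60] at hd
      rw [hj, hXc]
      rcases le_or_gt j 2 with hj2 | hj2
      · exact le_trans (Nat.pow_le_pow_right (by norm_num) hj2) (by norm_num)
      · exact absurd (dvd_trans (pow_dvd_pow 2 hj2) hd) (by norm_num)
    refine hbad Nat.prime_two (by norm_num) (by rw [h60]; norm_num) Q ?_
    rw [hQe, ← hco, ← ε.symm.orderOf_eq c, ← Nat.card_zpowers]
    exact card_dvd_of_le (zpowers_le.2 (le_normalizer_map _ (mem_map_of_mem _ hcX)))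
  · exfalso
    have : Fact (Nat.Prime 7) := ⟨by norm_num⟩
    obtain ⟨e⟩ := he
    have h168 : Nat.card W1 = 168 := by
      rw [Nat.card_congr e.toEquiv, GLOrder.card_PSL_two, Nat.card_zmod]
      norm_num
    obtain ⟨Q⟩ := (inferInstance : Nonempty (Sylow 7 W1))
    refine hbad (by norm_num) (by norm_num) (by rw [h168]; norm_num) Q ?_
    by_contra h3
    have hmod := card_sylow_modEq_one 7 W1
    have hmul := card_mul_index (normalizer ((Q : Subgroup W1) : Set W1))
    rw [show (normalizer ((Q : Subgroup W1) : Set W1)).index = Nat.card (Sylow 7 W1) from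
      Q.card_eq_index_normalizer.symm, h168] at hmul
    set n := Nat.card (Sylow 7 W1)
    have hn3 : 3 ∣ n := ((Nat.Prime.dvd_mul Nat.prime_three).1 (hmul ▸ (by norm_num : 3 ∣ 168))).resolve_left h3
    have hnm : n ∈ Nat.divisors 168 := Nat.mem_divisors.2 ⟨Dvd.intro_left _ hmul, by norm_num⟩
    have hall : ∀ n ∈ Nat.divisors 168, n % 7 = 1 → ¬ 3 ∣ n := by decide
    exact hall n hnm hmod hn3

end Cfsg.Agent.OEightThree
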