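import Cfsg.Agent.Lib.OEightThree.Norm

/-
The normaliser of `J` inside the centraliser of `t`: monomial maps on the coordinates `c₁, c₂, c₃`, and lifts
of the sign changes, of the cyclic permutation and (in the second case) of a transposition that commute with `t`.
-/

set_option autoImplicit false
set_option maxRecDepth 20000
set_option maxHeartbeats 1000000

namespace Cfsg.Agent.OEightThree

/-- The coordinate vectors `c₁, c₂, c₃`. -/
def cv : Fin 3 → V4 := ![![0, 1, 0, 0], ![0, 0, 1, 0], ![0, 0, 0, 1]]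

/-- The sign change at `c_i`. -/
def sgC (i : Fin 3) (x : V4) : V4 := fun k => if k = i.succ then -x k else x k

/-- Words for the sign changes. -/
def sgWord : Fin 3 → List (Fin 4) := ![[1, 3, 3, 0, 3, 1, 1], [3, 1, 0, 3, 3], [3, 3, 0, 1, 3]]

theorem sgWord_eq : ∀ i : Fin 3, ∀ x : V4, evalW (sgWord i) x = sgC i x := by decide +kernel

theorem sgC_facts : ∀ i : Fin 3, sgC i av = av ∧ (∀ x : V4, sgC i (fT x) = fT (sgC i x)) ∧
    (∀ x : V4, sgC i (sgC i x) = x) := by decide +kernel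

theorem fU_facts : fU av = av ∧ (∀ x : V4, fU (fT x) = fT (fU x)) ∧ (∀ x : V4, fU (fU x) = x) := by decide +kernel

theorem fB2_facts : fB2 av = av ∧ (∀ x : V4, fB2 (fT x) = fT (fB2 x)) ∧
    ∀ i : Fin 3, fB2 (cv i) = cv (i + 1) := by decide +kernel

theorem cv_facts : (∀ i : Fin 3, qf (cv i) = 1 ∧ qf (av + cv i) = 2 ∧ cls (av + cv i) = (i.val : ZMod 3)) ∧
    qf av = 1 ∧ fT av = -av ∧ ∀ i : Fin 3, fT (cv i) = cv i := by decide +kernel

theorem fix_fT : ∀ x : V4, fT x = x → qf x = 1 → ∃ (i : Fin 3) (e : ZMod 3), e ≠ 0 ∧ x = e • cv i := by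
  decide +kernel

theorem neg_fT : ∀ x : V4, fT x = -x → ∃ e : ZMod 3, x = e • av := by decide +kernel

theorem fix_fT_plus : ∀ x : V4, x + fT x = 0 → ∃ e : ZMod 3, x = e • av := by decide +kernel

theorem cls_axis : ∀ e d : ZMod 3, ∀ i : Fin 3, e ≠ 0 → d ≠ 0 → cls (e • av + d • cv i) = (i.val : ZMod 3) := by
  decide +kernel

theorem expand_cv : ∀ x : V4, x = x 0 • av + x 1 • cv 0 + x 2 • cv 1 + x 3 • cv 2 := by decide +kernel

/-- The central sign change of `c₁, c₂, c₃`. -/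
def fD (x : V4) : V4 := sgC 0 (sgC 1 (sgC 2 x))

theorem fD_facts : fD av = av ∧ (∀ x : V4, fD (fT x) = fT (fD x)) ∧ (∀ x : V4, fD (fD x) = x) ∧
    (∀ x : V4, x 0 = 0 → fD x = -x) ∧ (∀ x : V4, fD x = x → x 0 = 0 → x = 0) := by decide +kernel

theorem fD_comm : (∀ i : Fin 3, ∀ x : V4, sgC i (fD x) = fD (sgC i x)) ∧ (∀ x : V4, fU (fD x) = fD (fU x)) ∧
    (∀ x : V4, fB2 (fD x) = fD (fB2 x)) := by decide +kernel

theorem fT_fix_coord : ∀ x : V4, fT x = x → x 0 = 0 := by decide +kernel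

theorem half_neg : ∀ y : V4, -(-y) + y = -y := by decide +kernel

namespace FrameData

variable {G : Type*} [Group G] [Finite G] (F : FrameData G)

theorem t_inv : F.U.t⁻¹ = F.U.t := inv_eq_of_mul_eq_one_right F.U.t_sq

theorem comm_fT {g : G} {f : V4 → V4} (hf : F.Act g f) (ht : Commute g F.U.t) (x : V4) : f (fT x) = fT (f x) := by
  have h' : F.Act (g * F.U.t) (fT ∘ f) := by rw [ht.eq]; exact F.act_mul F.t_act hf
  exact congrFun (F.act_unique (F.act_mul hf F.t_act) h') x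

/-- The elements of the normaliser of `J` that commute with `t` act monomially. -/
theorem mono_cases {g : G} {f : V4 → V4} (hf : F.Act g f) (ht : Commute g F.U.t) :
    ∃ (ea : ZMod 3) (ε : Fin 3 → ZMod 3) (p : Fin 3 → Fin 3), ea ≠ 0 ∧ (∀ i, ε i ≠ 0) ∧ f av = ea • av ∧
      (∀ i, f (cv i) = ε i • cv (p i)) ∧
      ((∃ k, ∀ i, p i = i + k) ∨ (F.HasTwo ∧ ∃ k, ∀ i, p i = k - i)) := by
  have hq := (F.act_cases hf).1
  obtain ⟨ea, hea⟩ := neg_fT (f av) (by
    rw [← F.comm_fT hf ht, cv_facts.2.2.1, show (-av : V4) = (-1 : ZMod 3) • av by simp, F.act_smul hf]; simp)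
  have hea0 : ea ≠ 0 := fun h => by
    rw [h, zero_smul] at hea
    exact absurd (F.act_inj hf (hea.trans (F.act_zero hf).symm)) (by decide)
  choose p ε hε hp using fun i => fix_fT (f (cv i))
    (by rw [← F.comm_fT hf ht, cv_facts.2.2.2]) (by rw [hq]; exact (cv_facts.1 i).1)
  refine ⟨ea, ε, p, hea0, hε, hea, hp, ?_⟩
  have hcls : ∀ i, cls (f (av + cv i)) = ((p i).val : ZMod 3) := fun i => by
    rw [F.act_add hf, hea, hp]; exact cls_axis _ _ _ hea0 (hε i)
  rcases (F.act_cases hf).2 with ⟨c, hc⟩ | ⟨⟨c, hc⟩, h2⟩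
  · refine Or.inl ⟨p 0, fun i => ?_⟩
    have h0 := hc _ (cv_facts.1 0).2.1
    have hi := hc _ (cv_facts.1 i).2.1
    rw [hcls, (cv_facts.1 0).2.2] at h0
    rw [hcls, (cv_facts.1 i).2.2] at hi
    exact (show ∀ (a b i : Fin 3) (c : ZMod 3), (a.val : ZMod 3) = ((0 : Fin 3).val : ZMod 3) + c →
      (b.val : ZMod 3) = (i.val : ZMod 3) + c → b = i + a by decide +kernel) _ _ _ _ h0 hi
  · refine Or.inr ⟨h2, p 0, fun i => ?_⟩
    have h0 := hc _ (cv_facts.1 0).2.1
    have hi := hc _ (cv_facts.1 i).2.1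
    rw [hcls, (cv_facts.1 0).2.2] at h0
    rw [hcls, (cv_facts.1 i).2.2] at hi
    exact (show ∀ (a b i : Fin 3) (c : ZMod 3), (a.val : ZMod 3) = c - ((0 : Fin 3).val : ZMod 3) →
      (b.val : ZMod 3) = c - (i.val : ZMod 3) → b = a - i by decide +kernel) _ _ _ _ h0 hi

theorem exists_t_lift {g : G} {f : V4 → V4} (hf : F.Act g f) (hfa : f av = av)
    (hfT : ∀ x, f (fT x) = fT (f x)) : ∃ m : ZMod 3, Commute (F.v (m • av) * g) F.U.t := by
  set w := F.U.t * g * F.U.t * g⁻¹ with hw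
  obtain ⟨f', hf', hl, hr⟩ := F.act_inv hf
  have hwact : F.Act w id := by
    intro x
    rw [hw, F.act_mul (F.act_mul (F.act_mul F.t_act hf) F.t_act) hf' x]
    refine congrArg F.v ?_
    simp only [Function.comp_apply, hfT, hr, id_eq]
    exact gen_periods.2.2.1 x
  obtain ⟨y, hy⟩ := F.mem_J_of_act hwact
  have hy2 : F.U.t * g * F.U.t = F.v y * g := by rw [hy, hw, inv_mul_cancel_right]
  have hsum : y + fT y = 0 := by
    have e : F.v (fT y) * F.v y = 1 := by
      have h1 : F.U.t * (F.v y * g) * F.U.t = g := by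
        rw [← hy2, show F.U.t * (F.U.t * g * F.U.t) * F.U.t = (F.U.t * F.U.t) * g * (F.U.t * F.U.t) by group,
          F.U.t_sq, one_mul, mul_one]
      rw [← F.t_act, F.t_inv]
      calc F.U.t * F.v y * F.U.t * F.v y = F.U.t * F.v y * F.U.t * (F.v y * g) * g⁻¹ := by group
        _ = (F.U.t * (F.v y * g) * F.U.t) * g⁻¹ := by
            nth_rw 1 [← hy2]
            rw [show F.U.t * F.v y * F.U.t * (F.U.t * g * F.U.t) = F.U.t * F.v y * (F.U.t * F.U.t) * g * F.U.t by group,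
              F.U.t_sq]
            group
        _ = 1 := by rw [h1, mul_inv_cancel]
    rw [← F.v_add, ← F.v_zero] at e
    rw [add_comm]
    exact F.v_inj e
  obtain ⟨k, rfl⟩ := fix_fT_plus y hsum
  refine ⟨-k, ?_⟩
  show F.v (-k • av) * g * F.U.t = F.U.t * (F.v (-k • av) * g)
  have ht : F.U.t * F.v (-k • av) = F.v (k • av) * F.U.t := by
    have := F.t_act (-k • av)
    rw [map_zsmul_aux k] at this
    rw [← this]; group
  have hgt : g * F.U.t = F.U.t * (F.v (k • av) * g) := by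
    rw [← hy2]; simp only [← mul_assoc, F.U.t_sq, one_mul]
  have ht' : F.v (-k • av) * F.U.t = F.U.t * F.v (k • av) := by
    have := F.t_act (k • av)
    rw [map_zsmul_aux' k, F.t_inv] at this
    rw [← this, show F.U.t * F.v (k • av) * F.U.t * F.U.t = F.U.t * F.v (k • av) * (F.U.t * F.U.t) by group, F.U.t_sq,
      mul_one]
  rw [mul_assoc, hgt, ← mul_assoc, ht', mul_assoc, ← mul_assoc (F.v (k • av)), ← F.v_add, ← add_smul]
  rw [show k + k = -k by exact (show ∀ k : ZMod 3, k + k = -k by decide) k]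
where
  map_zsmul_aux : ∀ k : ZMod 3, fT (-k • av) = k • av := by decide +kernel
  map_zsmul_aux' : ∀ k : ZMod 3, fT (k • av) = -k • av := by decide +kernel

theorem exists_invol_lift {g : G} {f : V4 → V4} (hf : F.Act g f) (hfa : f av = av)
    (hfT : ∀ x, f (fT x) = fT (f x)) (hinv : ∀ x, f (f x) = x) :
    ∃ h : G, h * h = 1 ∧ Commute h F.U.t ∧ F.Act h f := by
  obtain ⟨m, hm⟩ := F.exists_t_lift hf hfa hfT
  set h0 := F.v (m • av) * g
  have h0act : F.Act h0 f := fun x => F.act_mul (F.act_v _) hf x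
  refine ⟨h0 ^ 3, ?_, hm.pow_left 3, fun x => ?_⟩
  · obtain ⟨y, hy⟩ := F.mem_J_of_act (show F.Act (h0 ^ 2) id from fun x => by
      rw [F.act_pow h0act 2 x]; exact congrArg F.v (hinv x))
    rw [← pow_add, show 3 + 3 = 2 * 3 by norm_num, pow_mul, ← hy, F.v_cube]
  · rw [F.act_pow h0act 3 x]
    exact congrArg F.v (show f (f (f x)) = f x from hinv _)

theorem exists_sign (i : Fin 3) : ∃ h : G, h * h = 1 ∧ Commute h F.U.t ∧ F.Act h (sgC i) := by
  obtain ⟨g, hg⟩ := F.exists_word (sgWord i)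
  obtain ⟨h1, h2, h3⟩ := sgC_facts i
  exact F.exists_invol_lift (f := sgC i) (fun x => by rw [hg x, sgWord_eq]) h1 h2 h3

theorem exists_cycle : ∃ h : G, h ^ 3 = 1 ∧ Commute h F.U.t ∧ F.Act h fB2 := by
  obtain ⟨m, hm⟩ := F.exists_t_lift F.b2_act fB2_facts.1 fB2_facts.2.1
  refine ⟨_, ?_, hm, fun x => F.act_mul (F.act_v _) F.b2_act x⟩
  have hc : Commute (F.v (m • av)) F.b2 := by
    have e := F.b2_act (m • av)
    rw [map_smul_aux m] at e
    exact (mul_inv_eq_iff_eq_mul.1 e).symm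
  rw [hc.mul_pow, F.v_cube, F.U.exp _ F.b2_mem, one_mul]
where
  map_smul_aux : ∀ m : ZMod 3, fB2 (m • av) = m • av := by decide +kernel

theorem exists_swap (h2 : F.HasTwo) : ∃ h : G, h * h = 1 ∧ Commute h F.U.t ∧ F.Act h fU := by
  obtain ⟨u, -, hu⟩ := F.exists_U h2
  exact F.exists_invol_lift hu fU_facts.1 fU_facts.2.1 fU_facts.2.2

theorem exists_delta : ∃ d : G, d * d = 1 ∧ Commute d F.U.t ∧ F.Act d fD := by
  obtain ⟨h0, -, t0, a0⟩ := F.exists_sign 0
  obtain ⟨h1, -, t1, a1⟩ := F.exists_sign 1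
  obtain ⟨h2, -, t2, a2⟩ := F.exists_sign 2
  exact F.exists_invol_lift (F.act_mul a0 (F.act_mul a1 a2)) fD_facts.1 fD_facts.2.1 fD_facts.2.2.1

/-- The involution inverting `E` and centralising `a₁`. -/
noncomputable def delta : G := F.exists_delta.choose

theorem delta_spec : F.delta * F.delta = 1 ∧ Commute F.delta F.U.t ∧ F.Act F.delta fD := F.exists_delta.choose_spec

/-- The elements of the normaliser of `J` commuting with `t` and `delta`. -/
def InD (g : G) : Prop := g ∈ F.N ∧ Commute g F.U.t ∧ Commute g F.delta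

theorem inD_mul {g h : G} (hg : F.InD g) (hh : F.InD h) : F.InD (g * h) :=
  ⟨mul_mem hg.1 hh.1, hg.2.1.mul_left hh.2.1, hg.2.2.mul_left hh.2.2⟩

theorem inD_inv {g : G} (hg : F.InD g) : F.InD g⁻¹ := ⟨inv_mem hg.1, hg.2.1.inv_left, hg.2.2.inv_left⟩

theorem inD_one : F.InD 1 := ⟨one_mem _, Commute.one_left _, Commute.one_left _⟩

theorem inD_t : F.InD F.U.t := ⟨F.mem_norm F.t_act, Commute.refl _, F.delta_spec.2.1.symm⟩

theorem inD_delta : F.InD F.delta := ⟨F.mem_norm F.delta_spec.2.2, F.delta_spec.2.1, Commute.refl _⟩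

/-- An element of `D` is determined by its action. -/
theorem inD_unique {g h : G} (hg : F.InD g) (hh : F.InD h) {f : V4 → V4} (ag : F.Act g f) (ah : F.Act h f) :
    g = h := by
  obtain ⟨f', hf', hl, -⟩ := F.act_inv ag
  obtain ⟨y, hy⟩ := F.mem_J_of_act (g := g⁻¹ * h) (fun x => by
    rw [F.act_mul hf' ah x]; exact congrArg F.v (hl x))
  have hD := F.inD_mul (F.inD_inv hg) hh
  rw [← hy] at hD
  have e0 : fT y = y := by
    refine F.v_inj ?_
    rw [← F.t_act, ← hD.2.1.eq, mul_inv_cancel_right]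
  have e1 : fD y = y := by
    refine F.v_inj ?_
    rw [← F.delta_spec.2.2, ← hD.2.2.eq, mul_inv_cancel_right]
  rw [fD_facts.2.2.2.2 y e1 (fT_fix_coord y e0), F.v_zero, eq_comm, inv_mul_eq_one] at hy
  exact hy

/-- Existence of the element of `D` with a given monomial action. -/
theorem exists_inD {g : G} {f : V4 → V4} (hf : F.Act g f) (hfa : f av = av)
    (hfT : ∀ x, f (fT x) = fT (f x)) (hfD : ∀ x, f (fD x) = fD (f x)) : ∃ d, F.InD d ∧ F.Act d f := by
  obtain ⟨m, hm⟩ := F.exists_t_lift hf hfa hfT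
  set h := F.v (m • av) * g with hh
  have hact : F.Act h f := fun x => F.act_mul (F.act_v _) hf x
  set δ := F.delta with hδ
  obtain ⟨hd2, hdt, hda⟩ := F.delta_spec
  obtain ⟨f', hf', -, hr⟩ := F.act_inv hact
  have hδi : δ⁻¹ = δ := inv_eq_of_mul_eq_one_right hd2
  obtain ⟨y, hy⟩ := F.mem_J_of_act (g := δ * h * δ * h⁻¹) (fun x => by
    rw [F.act_mul (F.act_mul (F.act_mul hda hact) hda) hf' x]
    refine congrArg F.v ?_
    simp only [Function.comp_apply, hfD, hr, id_eq]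
    exact fD_facts.2.2.1 x)
  have hyt : Commute (F.v y) F.U.t := by
    rw [hy]; exact ((hdt.mul_left hm).mul_left hdt).mul_left hm.inv_left
  have hy0 : y 0 = 0 := by
    refine fT_fix_coord y (F.v_inj ?_)
    rw [← F.t_act, ← hyt.eq, mul_inv_cancel_right]
  have hy0' : (-y) 0 = 0 := by simp [hy0]
  refine ⟨F.v (-y) * h, ⟨mul_mem (F.mem_norm (F.act_v _)) (F.mem_norm hact), ?_, ?_⟩,
    fun x => F.act_mul (F.act_v _) hact x⟩
  · have : Commute (F.v (-y)) F.U.t := by rw [F.v_neg]; exact hyt.inv_left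
    exact this.mul_left hm
  · show F.v (-y) * h * δ = δ * (F.v (-y) * h)
    have e1 : δ * F.v (-y) * δ = F.v (-(-y)) := by
      nth_rw 2 [← hδi]
      rw [hda, fD_facts.2.2.2.1 _ hy0']
    have e2 : δ * h * δ = F.v y * h := by rw [hy]; group
    calc F.v (-y) * h * δ = F.v (-(-y) + y) * h * δ := by rw [half_neg]
      _ = (δ * F.v (-y) * δ) * (δ * h * δ) * δ := by rw [F.v_add, e1, e2]; group
      _ = δ * F.v (-y) * (δ * δ) * h * (δ * δ) := by group
      _ = _ := by rw [hd2]; group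

theorem exists_D_sign (i : Fin 3) : ∃ d, F.InD d ∧ d * d = 1 ∧ F.Act d (sgC i) := by
  obtain ⟨g, -, -, hg⟩ := F.exists_sign i
  obtain ⟨d, hd, hda⟩ := F.exists_inD hg (sgC_facts i).1 (sgC_facts i).2.1 (fD_comm.1 i)
  refine ⟨d, hd, F.inD_unique (F.inD_mul hd hd) F.inD_one (f := id) (fun x => ?_) F.act_one, hda⟩
  rw [F.act_mul hda hda x]; exact congrArg F.v ((sgC_facts i).2.2 x)

theorem exists_D_swap (h2 : F.HasTwo) : ∃ d, F.InD d ∧ d * d = 1 ∧ F.Act d fU := by
  obtain ⟨g, -, -, hg⟩ := F.exists_swap h2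
  obtain ⟨d, hd, hda⟩ := F.exists_inD hg fU_facts.1 fU_facts.2.1 fD_comm.2.1
  refine ⟨d, hd, F.inD_unique (F.inD_mul hd hd) F.inD_one (f := id) (fun x => ?_) F.act_one, hda⟩
  rw [F.act_mul hda hda x]; exact congrArg F.v (fU_facts.2.2 x)

theorem exists_D_cycle : ∃ d, F.InD d ∧ d ^ 3 = 1 ∧ F.Act d fB2 := by
  obtain ⟨d, hd, hda⟩ := F.exists_inD F.b2_act fB2_facts.1 fB2_facts.2.1 fD_comm.2.2
  have h3 : F.InD (d ^ 3) := by rw [pow_three]; exact F.inD_mul hd (F.inD_mul hd hd)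
  refine ⟨d, hd, F.inD_unique h3 F.inD_one (f := id) (fun x => ?_) F.act_one, hda⟩
  rw [F.act_pow hda 3 x]; exact congrArg F.v (gen_periods.2.1 x)

end FrameData

end Cfsg.Agent.OEightThree
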