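import Cfsg.Agent.Lib.OEightThree.FrameData
import Cfsg.Agent.Lib.OEightThree.CoordThree
import Cfsg.Agent.Lib.OEightThree.Local

/-
The normaliser of `J`: it is generated by `t, b₁, b₂, g` and at most one further element, acts by isometries,
and controls fusion in `J`; centralisers of subgroups of `J` with a singular and a non-orthogonal vector lie in it.
-/

set_option autoImplicit false
set_option maxRecDepth 10000

namespace Cfsg.Agent.OEightThree

open scoped commutatorElement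

variable {G : Type*} [Group G] [Finite G]

/-- The induced map shifts the three classes. -/
def Shift (f : V4 → V4) : Prop := ∃ c, ∀ x, qf x = 2 → cls (f x) = cls x + c

/-- The induced map reverses the three classes. -/
def Anti (f : V4 → V4) : Prop := ∃ c, ∀ x, qf x = 2 → cls (f x) = c - cls x

theorem evalW_qf : ∀ (w : List (Fin 4)) (x : V4), qf (evalW w x) = qf x
  | [], _ => rfl
  | i :: w, x => by rw [evalW, gen_qf, evalW_qf w x]

theorem evalW_cls : ∀ w : List (Fin 4), Shift (evalW w)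
  | [] => ⟨0, fun x _ => by simp [evalW]⟩
  | i :: w => by
    obtain ⟨c, hc⟩ := evalW_cls w
    refine ⟨c + (![0, 0, 1, 1] : Fin 4 → ZMod 3) i, fun x hx => ?_⟩
    rw [evalW, gen_cls i _ (by rw [evalW_qf, hx]), hc x hx, add_assoc]

theorem not_shift_anti {f : V4 → V4} (hs : Shift f) (ha : Anti f) : False := by
  obtain ⟨c, hc⟩ := hs
  obtain ⟨d, hd⟩ := ha
  have h0 : qf ![1, 1, 0, 0] = 2 ∧ qf ![1, 0, 1, 0] = 2 := by decide
  have e0 := (hc _ h0.1).symm.trans (hd _ h0.1)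
  have e1 := (hc _ h0.2).symm.trans (hd _ h0.2)
  have : cls ![1, 1, 0, 0] = 0 ∧ cls ![1, 0, 1, 0] = 1 := by decide
  rw [this.1] at e0
  rw [this.2] at e1
  exact (show ∀ c d : ZMod 3, 0 + c = d - 0 → ¬ (1 + c = d - 1) by decide) c d e0 e1

namespace FrameData

variable (F : FrameData G)

/-- There is an element of `C` outside the kernel of `ε`. -/
def HasTwo : Prop := ∃ h, F.U.InC h ∧ F.U.ε h ≠ 1

/-- The normaliser of `J`. -/
abbrev N : Subgroup G := Subgroup.normalizer (F.J : Set G)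

theorem exists_word (w : List (Fin 4)) : ∃ h : G, F.Act h (evalW w) := by
  induction w with
  | nil => exact ⟨1, F.act_one⟩
  | cons i w ih =>
    obtain ⟨h, hh⟩ := ih
    have : ∃ k : G, F.Act k (genA i) := by
      fin_cases i
      exacts [⟨_, F.t_act⟩, ⟨_, F.b1_act⟩, ⟨_, F.b2_act⟩, ⟨_, F.g_act⟩]
    obtain ⟨k, hk⟩ := this
    exact ⟨k * h, F.act_mul hk hh⟩

theorem act_of_mem {g : G} (hg : g ∈ F.N) : ∃ f, F.Act g f := by
  choose f hf using fun x => F.mem_J.1 ((Subgroup.mem_normalizer_iff.1 hg _).1 (F.v_mem_J x))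
  exact ⟨f, fun x => (hf x).symm⟩

theorem act_add {g : G} {f : V4 → V4} (h : F.Act g f) (x y : V4) : f (x + y) = f x + f y :=
  F.v_inj (by rw [F.v_add, ← h, ← h, ← h, F.v_add]; group)

theorem act_zero {g : G} {f : V4 → V4} (h : F.Act g f) : f 0 = 0 :=
  F.v_inj (by rw [← h, F.v_zero]; group)

theorem act_smul {g : G} {f : V4 → V4} (h : F.Act g f) (c : ZMod 3) (x : V4) : f (c • x) = c • f x :=
  F.v_inj (by rw [← h, F.v_smul, F.v_smul, ← h, conj_pow])

theorem act_inj {g : G} {f : V4 → V4} (h : F.Act g f) : Function.Injective f := fun a b e =>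
  F.v_inj (by
    have := (h a).trans ((congrArg F.v e).trans (h b).symm)
    simpa using this)

theorem act_inv {g : G} {f : V4 → V4} (h : F.Act g f) :
    ∃ f', F.Act g⁻¹ f' ∧ (∀ x, f' (f x) = x) ∧ ∀ x, f (f' x) = x := by
  obtain ⟨f', hf'⟩ := F.act_of_mem (inv_mem (F.mem_norm h))
  refine ⟨f', hf', fun x => ?_, fun x => ?_⟩
  · exact congrFun (F.act_unique (by simpa using F.act_mul hf' h) F.act_one) x
  · exact congrFun (F.act_unique (by simpa using F.act_mul h hf') F.act_one) x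

theorem act_zv {g : G} {f : V4 → V4} (h : F.Act g f) (hC : F.U.InC g) : f zv = zv :=
  F.v_inj (by rw [← h, F.v_z, hC, mul_inv_cancel_right])

theorem act_mkF {g : G} {f : V4 → V4} (h : F.Act g f) (hz : f zv = zv) (x : V4) :
    f x = mkF (f av) (f a2v) (f jv) x := by
  conv_lhs => rw [coeff_expand x]
  rw [F.act_add h, F.act_add h, F.act_add h, F.act_smul h, F.act_smul h, F.act_smul h, F.act_smul h, hz]
  rfl

theorem v_mem_Q_iff {x : V4} : F.v x ∈ F.U.Q ↔ cJ x = 0 := by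
  refine ⟨fun h => ?_, fun h => F.v_mem x ((fB_mem_plane x).2 h)⟩
  by_contra hne
  apply F.v_jv_not_Q
  have h1 : F.v (cJ x • jv) ∈ F.U.Q := by
    have := mul_mem (inv_mem (F.v_mem _ (plane_sub x))) h
    rwa [← F.v_neg, ← F.v_add, neg_sub, sub_add_cancel] at this
  rw [F.v_smul] at h1
  rcases zmod3_val _ hne with e | e <;> rw [e] at h1
  · simpa using h1
  · have := pow_mem h1 2
    rwa [← pow_mul, show 2 * 2 = 3 + 1 by norm_num, pow_add, F.v_cube, one_mul, pow_one] at this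

theorem pi_v (x : V4) : F.U.π (F.v x) = F.U.π (F.v jv) ^ (cJ x).val := by
  have hd := F.v_mem _ (plane_sub x)
  rw [show F.v x = F.v (x - cJ x • jv) * F.v jv ^ (cJ x).val by rw [← F.v_smul, ← F.v_add, sub_add_cancel],
    F.U.π_mul _ _ (F.U.inC_Q hd) (F.U.inC_pow (F.v_C jv) _), ((F.U.ker _ (F.U.inC_Q hd)).2 hd).1, one_mul,
    F.U.π_pow (F.v_C jv)]

theorem pi_jv_cube : F.U.π (F.v jv) ^ 3 = 1 := by rw [← F.U.π_pow (F.v_C jv), F.v_cube, F.U.π_one]

theorem eps_v (x : V4) : F.U.ε (F.v x) = 1 := F.U.eps_of_three (n := 1) (F.v_C x) (by simpa using F.v_cube x)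

/-- An element of `C` normalising the image of `J` normalises `J`. -/
theorem mem_N_of_pi {g : G} (hg : F.U.InC g)
    (h : ∃ c : ℕ, F.U.π g * F.U.π (F.v jv) * (F.U.π g)⁻¹ = F.U.π (F.v jv) ^ c) : g ∈ F.N := by
  obtain ⟨c, hc⟩ := h
  have hS : ∀ x, g * F.v x * g⁻¹ ∈ F.S := by
    intro x
    set e := g * F.v x * g⁻¹ with he
    set w := F.v jv ^ (c * (cJ x).val) with hw
    have heC : F.U.InC e := F.U.inC_mul (F.U.inC_mul hg (F.v_C x)) (F.U.inC_inv hg)
    have hwC := F.U.inC_pow (F.v_C jv) (c * (cJ x).val)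
    have hπ : F.U.π e = F.U.π w := by
      rw [he, F.U.π_mul _ _ (F.U.inC_mul hg (F.v_C x)) (F.U.inC_inv hg), F.U.π_mul _ _ hg (F.v_C x),
        F.U.π_inv hg, F.pi_v, ← conj_pow, hc, F.U.π_pow (F.v_C jv), ← pow_mul]
    have hε : F.U.ε e = F.U.ε w := by
      rw [he, F.U.ε_mul _ _ (F.U.inC_mul hg (F.v_C x)) (F.U.inC_inv hg), F.U.ε_mul _ _ hg (F.v_C x),
        F.U.ε_inv hg, F.eps_v, mul_one, mul_inv_cancel, F.U.ε_pow (F.v_C jv), F.eps_v, one_pow]
    have hq := F.U.mem_of_eq hwC heC hπ.symm hε.symm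
    have : e = w * (w⁻¹ * e) := by group
    rw [this]
    exact mul_mem (Subgroup.mem_sup_right (pow_mem (F.v_mem_J jv) _)) (Subgroup.mem_sup_left hq)
  have hJ : F.J.map (MulAut.conj g).toMonoidHom = F.J := by
    refine F.abelian_S ?_ ?_ ((Subgroup.card_map_of_injective (MulAut.conj g).injective).trans F.J_card)
    · rintro _ ⟨_, ⟨x, rfl⟩, rfl⟩; exact hS x
    · rintro _ ⟨a, ha, rfl⟩ _ ⟨b, hb, rfl⟩
      rw [← map_mul, ← map_mul, F.J_comm a ha b hb]
  choose f hf using fun x : V4 => F.mem_J.1 (hJ.le ⟨_, F.v_mem_J x, rfl⟩)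
  exact F.mem_norm (f := f) fun x => (hf x).symm

/-- The actions of the elements of `C` normalising `J`. -/
theorem act_C {g : G} (hg : F.U.InC g) (hN : g ∈ F.N) :
    ∃ e u : Fin 2, ∃ p r : Fin 3, F.Act g (fC e u p r) ∧ (u ≠ 0 → F.HasTwo) ∧
      (F.U.ε g ≠ 1 → u = 1) ∧ (F.U.ε g = 1 → u = 0) := by
  obtain ⟨f, hf⟩ := F.act_of_mem hN
  have hS1 := F.pi_jv_cube
  have hconj : F.U.π g * F.U.π (F.v jv) * (F.U.π g)⁻¹ = F.U.π (F.v (f jv)) := by
    rw [← hf, F.U.π_mul _ _ (F.U.inC_mul hg (F.v_C jv)) (F.U.inC_inv hg), F.U.π_mul _ _ hg (F.v_C jv), F.U.π_inv hg]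
  have hcases : F.U.π g * F.U.π (F.v jv) * (F.U.π g)⁻¹ = F.U.π (F.v jv) ∨
      F.U.π g * F.U.π (F.v jv) * (F.U.π g)⁻¹ = F.U.π (F.v jv) * F.U.π (F.v jv) := by
    rw [hconj, F.pi_v (f jv)]
    have hne : cJ (f jv) ≠ 0 := fun h0 => F.j_pi (by
      have := hconj
      rw [F.pi_v (f jv), h0, ZMod.val_zero, pow_zero, mul_inv_eq_one, mul_eq_left] at this
      exact this)
    rcases zmod3_val _ hne with e | e <;> rw [e]
    · exact Or.inl (pow_one _)
    · exact Or.inr (pow_two _)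
  obtain ⟨i, hi⟩ := sl23_norm _ _ hS1 F.j_pi hcases
  obtain ⟨e0, k, hk, hkC, hkπ, hkε⟩ : ∃ e0 : Fin 2, ∃ k : G, F.Act k (fT^[e0.val]) ∧ F.U.InC k ∧
      F.U.π g = F.U.π k * F.U.π (F.v jv) ^ i.val ∧ F.U.ε k = 1 := by
    rcases hi with h | h
    · exact ⟨0, 1, F.act_one, F.U.inC_one, by rw [F.U.π_one, one_mul, h], F.U.ε_one⟩
    · exact ⟨1, F.U.t, F.t_act, F.U.inC_t, by rw [F.U.t_π, h], F.U.t_ε⟩
  set m := k * F.v jv ^ i.val with hm
  have hmC : F.U.InC m := F.U.inC_mul hkC (F.U.inC_pow (F.v_C jv) _)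
  have hmε : F.U.ε m = 1 := by
    rw [hm, F.U.ε_mul _ _ hkC (F.U.inC_pow (F.v_C jv) _), hkε, F.U.ε_pow (F.v_C jv), F.eps_v, one_pow, one_mul]
  have hmact : F.Act m (fT^[e0.val]) := by
    have := F.act_mul hk (F.act_pow (F.act_v jv) i.val)
    rwa [Function.iterate_id, Function.comp_id] at this
  set h := m⁻¹ * g with hh
  have hhC : F.U.InC h := F.U.inC_mul (F.U.inC_inv hmC) hg
  have hhπ : F.U.π h = 1 := by
    rw [hh, F.U.π_mul _ _ (F.U.inC_inv hmC) hg, F.U.π_inv hmC, hm, F.U.π_mul _ _ hkC (F.U.inC_pow (F.v_C jv) _),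
      F.U.π_pow (F.v_C jv), hkπ, inv_mul_cancel]
  have hhN : h ∈ F.N := mul_mem (inv_mem (F.mem_norm hmact)) hN
  have hgm : g = m * h := by rw [hh, mul_inv_cancel_left]
  have hgε : F.U.ε g = F.U.ε h := by rw [hgm, F.U.ε_mul _ _ hmC hhC, hmε, one_mul]
  have hQ : ∀ q ∈ F.U.Q, ∃ p r : Fin 3, F.Act q (fB p r) := fun q hq => by
    obtain ⟨p, r, x, rfl⟩ := F.b_span q hq
    exact ⟨p, r, by simpa using F.act_mul (F.act_B p r) (F.act_v x)⟩
  by_cases hε : F.U.ε h = 1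
  · obtain ⟨p, r, hpr⟩ := hQ h ((F.U.ker h hhC).1 ⟨hhπ, hε⟩)
    refine ⟨e0, 0, p, r, ?_, fun h0 => absurd rfl h0, fun h0 => absurd (hgε.trans hε) h0, fun _ => rfl⟩
    rw [hgm]
    exact F.act_mul hmact hpr
  -- the extra coset
  have hεsq : ∀ u : Two, u ≠ 1 → u ^ 2 = 1 ∧ u ^ 3 = u := by decide
  obtain ⟨hs2, hs3⟩ := hεsq _ hε
  set h0 := h ^ 3 with hh0
  have h0C : F.U.InC h0 := F.U.inC_pow hhC 3
  have h0π : F.U.π h0 = 1 := by rw [hh0, F.U.π_pow hhC, hhπ, one_pow]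
  have h0ε : F.U.ε h0 ≠ 1 := by rw [hh0, F.U.ε_pow hhC, hs3]; exact hε
  have hsqQ : h ^ 2 ∈ F.U.Q := (F.U.ker _ (F.U.inC_pow hhC 2)).1
    ⟨by rw [F.U.π_pow hhC, hhπ, one_pow], by rw [F.U.ε_pow hhC, hs2]⟩
  have h0sq : h0 * h0 = 1 := by
    rw [hh0, ← pow_add, show 3 + 3 = 2 * 3 by norm_num, pow_mul, F.U.exp _ hsqQ]
  obtain ⟨f0, hf0⟩ := F.act_of_mem (pow_mem hhN 3 : h0 ∈ F.N)
  have h0inv : h0⁻¹ = h0 := inv_eq_of_mul_eq_one_right h0sq
  have hinv : ∀ x, f0 (f0 x) = x := fun x =>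
    congrFun (F.act_unique (h0sq ▸ F.act_mul hf0 hf0) F.act_one) x
  have hz0 := F.act_zv hf0 h0C
  have hplane : ∀ x, cJ x = 0 → cJ (f0 x) = 0 := fun x hx => by
    rw [← F.v_mem_Q_iff, ← hf0]
    exact F.U.normal h0 h0C _ (F.v_mem_Q_iff.2 hx)
  have hj : cJ (f0 jv) = 1 := by
    have h1 : F.U.π (F.v (f0 jv)) = F.U.π (F.v jv) := by
      rw [← hf0, F.U.π_mul _ _ (F.U.inC_mul h0C (F.v_C jv)) (F.U.inC_inv h0C), F.U.π_mul _ _ h0C (F.v_C jv),
        F.U.π_inv h0C, h0π, one_mul, inv_one, mul_one]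
    rw [F.pi_v] at h1
    by_contra hne
    rcases (show ∀ u : ZMod 3, u ≠ 1 → u = 0 ∨ u = 2 by decide) _ hne with e | e <;> rw [e] at h1
    · exact F.j_pi (by simpa using h1.symm)
    · exact F.j_pi (by
        rw [show (2 : ZMod 3).val = 2 from rfl, pow_two, mul_eq_left] at h1
        exact h1)
  have hnorm : ∀ b ∈ F.U.Q, ∀ fb, F.Act b fb → ∃ p r, ∀ x, f0 (fb x) = fB p r (f0 x) := by
    intro b hb fb hfb
    obtain ⟨p, r, hpr⟩ := hQ _ (F.U.normal h0 h0C b hb)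
    refine ⟨p, r, fun x => ?_⟩
    have e : h0 * b = h0 * b * h0⁻¹ * h0 := by group
    have h' : F.Act (h0 * b) (fB p r ∘ f0) := by rw [e]; exact F.act_mul hpr hf0
    exact congrFun (F.act_unique (F.act_mul hf0 hfb) h') x
  obtain ⟨p1, r1, hc1⟩ := hnorm _ F.b1_mem _ F.b1_act
  obtain ⟨p2, r2, hc2⟩ := hnorm _ F.b2_mem _ F.b2_act
  have hk0 : ∀ pj x, cJ x = 0 → f0 x = mkF (f0 av) (f0 a2v) pj x := fun pj x hx => by
    rw [F.act_mkF hf0 hz0 x]; simp [mkF, hx]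
  have hmk : ∀ x, f0 x = mkF (f0 av) (f0 a2v) (f0 jv) x := F.act_mkF hf0 hz0
  have c0 : cJ av = 0 ∧ cJ a2v = 0 ∧ cJ (fB1 av) = 0 ∧ cJ (fB1 a2v) = 0 ∧ cJ (fB2 av) = 0 ∧ cJ (fB2 a2v) = 0 := by
    decide
  obtain ⟨e, u, p, r, ea, ea2, ej⟩ := invol_class (f0 av) (hplane _ c0.1) (f0 a2v) (hplane _ c0.2.1)
    (by rw [← hk0 0 _ (hplane _ c0.1), hinv]) (by rw [← hk0 0 _ (hplane _ c0.2.1), hinv])
    p1 r1 (by rw [← hk0 0 _ c0.2.2.1, hc1]) (by rw [← hk0 0 _ c0.2.2.2.1, hc1])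
    p2 r2 (by rw [← hk0 0 _ c0.2.2.2.2.1, hc2]) (by rw [← hk0 0 _ c0.2.2.2.2.2, hc2])
    (f0 jv) hj (by rw [← hmk, hinv]) (by rw [← hmk, hc1]) (by rw [← hmk, hc2])
  have hf0eq : f0 = fC e u p r := funext fun x => by rw [hmk, ← ea, ← ea2, ← ej, fC_mkF]
  have hu : u = 1 := by
    rcases (show ∀ u : Fin 2, u = 0 ∨ u = 1 by decide) u with rfl | rfl
    · exfalso
      obtain ⟨k', hk', hk'ε, hk'C⟩ : ∃ k', F.Act k' (fC e 0 p r) ∧ F.U.ε k' = 1 ∧ F.U.InC k' := by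
        have hBC : F.U.InC (F.b1 ^ p.val * F.b2 ^ r.val) :=
          F.U.inC_Q (mul_mem (pow_mem F.b1_mem _) (pow_mem F.b2_mem _))
        have hBε : F.U.ε (F.b1 ^ p.val * F.b2 ^ r.val) = 1 :=
          ((F.U.ker _ hBC).2 (mul_mem (pow_mem F.b1_mem _) (pow_mem F.b2_mem _))).2
        refine ⟨F.U.t ^ e.val * (F.b1 ^ p.val * F.b2 ^ r.val), F.act_mul (F.act_pow F.t_act _) (F.act_B p r), ?_,
          F.U.inC_mul (F.U.inC_pow F.U.inC_t _) hBC⟩
        rw [F.U.ε_mul _ _ (F.U.inC_pow F.U.inC_t _) hBC, hBε, F.U.ε_pow F.U.inC_t, F.U.t_ε, one_pow, one_mul]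
      obtain ⟨f', hf', -, hff⟩ := F.act_inv hk'
      have hfe : f' ∘ f0 = f' ∘ fC e 0 p r := by rw [hf0eq]
      have hid : f' ∘ fC e 0 p r = id := F.act_unique (by simpa using F.act_mul hf' hk') F.act_one
      have hmem : k'⁻¹ * h0 ∈ F.J := F.mem_J_of_act (hid ▸ hfe ▸ F.act_mul hf' hf0)
      obtain ⟨y, hy⟩ := hmem
      refine h0ε ?_
      rw [show h0 = k' * F.v y by rw [hy, mul_inv_cancel_left], F.U.ε_mul _ _ hk'C (F.v_C y), hk'ε, F.eps_v, one_mul]
    · rfl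
  subst hu
  -- back to `g`
  have hTwo : F.HasTwo := ⟨h, hhC, hε⟩
  have hh2 : h = h0 * (h ^ 2)⁻¹ := by rw [hh0, eq_mul_inv_iff_mul_eq, ← pow_succ']
  obtain ⟨p', r', hpr⟩ := hQ _ (inv_mem hsqQ)
  obtain ⟨e', p'', r'', hfin⟩ : ∃ (e' : Fin 2) (p'' r'' : Fin 3),
      ∀ x, (fT)^[e0.val] (fC e 1 p r (fB p' r' x)) = fC e' 1 p'' r'' x := fC_compose e0 e p r p' r'
  refine ⟨e', 1, p'', r'', ?_, fun _ => hTwo, fun _ => rfl, fun h1 => absurd (hgε ▸ h1) hε⟩
  rw [hgm, hh2]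
  intro x
  rw [F.act_mul hmact (F.act_mul (hf0eq ▸ hf0) hpr) x]
  exact congrArg F.v (hfin x)

theorem exists_U (h2 : F.HasTwo) : ∃ u, F.U.InC u ∧ F.Act u fU := by
  obtain ⟨h, hC, hε⟩ := h2
  obtain ⟨k, hkC, hkπ, hkε⟩ := F.U.surj ((F.U.π h)⁻¹)
  set h' := h * k
  have h'C : F.U.InC h' := F.U.inC_mul hC hkC
  have h'π : F.U.π h' = 1 := by rw [F.U.π_mul _ _ hC hkC, hkπ, mul_inv_cancel]
  have h'ε : F.U.ε h' ≠ 1 := by rw [F.U.ε_mul _ _ hC hkC, hkε, mul_one]; exact hε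
  obtain ⟨e, u, p, r, hact, -, hu, -⟩ := F.act_C h'C (F.mem_N_of_pi h'C ⟨1, by rw [h'π]; simp⟩)
  obtain rfl := hu h'ε
  have hBC : F.U.InC (F.b1 ^ p.val * F.b2 ^ r.val) := F.U.inC_Q (mul_mem (pow_mem F.b1_mem _) (pow_mem F.b2_mem _))
  obtain ⟨f', hf', -, hff⟩ := F.act_inv (F.act_B p r)
  refine ⟨(F.U.t ^ e.val)⁻¹ * h' * (F.b1 ^ p.val * F.b2 ^ r.val)⁻¹,
    F.U.inC_mul (F.U.inC_mul (F.U.inC_inv (F.U.inC_pow F.U.inC_t _)) h'C) (F.U.inC_inv hBC), ?_⟩
  obtain ⟨ft, hft, hft', -⟩ := F.act_inv (F.act_pow F.t_act e.val)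
  intro x
  rw [F.act_mul (F.act_mul hft hact) hf' x]
  refine congrArg F.v ?_
  simp only [Function.comp_apply, fC]
  rw [hft', hff]
  rfl

theorem exists_base_vec (x : V4) (hx : x ≠ 0) : ∃ h : G, ∃ f, F.Act h f ∧ (∃ w, f = evalW w) ∧
    f (if qf x = 0 then zv else if qf x = 1 then av else a2v) = x := by
  obtain ⟨h, hh⟩ := F.exists_word (wordOf x)
  refine ⟨h, _, hh, ⟨_, rfl⟩, ?_⟩
  rcases (show ∀ u : ZMod 3, u = 0 ∨ u = 1 ∨ u = 2 by decide) (qf x) with e | e | e 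
  · rw [if_pos e]; exact word_zero x e hx
  · rw [if_neg (by rw [e]; decide), if_pos e]; exact word_one x e
  · rw [if_neg (by rw [e]; decide), if_neg (by rw [e]; decide)]; exact word_two x e

theorem not_fixed_base {g : G} {f : V4 → V4} (hf : F.Act g f) {base : V4} (hfz : f zv = base)
    {b : G} {fb : V4 → V4} (hb : F.Act b fb) (hb3 : b ^ 3 = 1) (hbase : fb base = base)
    (hadd : ∀ x y, fb (x + y) = fb x + fb y)
    (him : ∀ x, ∃ m : ZMod 3, fb (fb x) - fb x - (fb x - x) = m • zv)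
    (himz : ∃ x, fb (fb x) - fb x - (fb x - x) = zv) : base = zv ∨ base = -zv := by
  obtain ⟨f', hf', hl, hr⟩ := F.act_inv hf
  set c := g⁻¹ * b * g with hc
  have hcact : F.Act c (f' ∘ fb ∘ f) := fun x => F.act_mul (F.act_mul hf' hb) hf x
  have hcC : F.U.InC c := by
    have e := hcact zv
    have e' : f' (fb (f zv)) = zv := by
      rw [hfz, hbase, ← hfz, hl]
    rw [Function.comp_apply, Function.comp_apply, e', F.v_z] at e
    exact (mul_inv_eq_iff_eq_mul.1 e)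
  have hc3 : c ^ 3 = 1 := by
    rw [hc, show g⁻¹ * b * g = g⁻¹ * b * g⁻¹⁻¹ by rw [inv_inv], conj_pow, hb3]; group
  obtain ⟨e, u, p, r, hce, -, -, -⟩ := F.act_C hcC (F.mem_norm hcact)
  have hid := F.act_unique (F.act_pow hce 3) (by rw [hc3]; exact F.act_one)
  obtain ⟨rfl, rfl⟩ := fC_cube e u p r (congrFun hid av) (congrFun hid a2v) (congrFun hid jv)
  have hB : ∀ x, f' (fb (f x)) = fB p r x := fun x => congrFun (F.act_unique hcact hce) x
  -- conjugates of the two unipotent maps commute with `fb`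
  have key : ∀ (n : V4 → V4), (∀ x, n (fB p r x) = fB p r (n x)) → (∀ x y, n (x + y) = n x + n y) →
      ∃ m : ZMod 3, n (f' zv) = m • f' zv := by
    intro n hn hnadd
    set φ := fun y => f (n (f' y)) with hφ
    have hφadd : ∀ x y, φ (x + y) = φ x + φ y := fun x y => by
      simp only [hφ]; rw [F.act_add hf', hnadd, F.act_add hf]
    have hcomm : ∀ y, fb (φ y) = φ (fb y) := fun y => by
      simp only [hφ]
      have h1 : fb (f (n (f' y))) = f (fB p r (n (f' y))) := by rw [← hB, hr]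
      have h2 : f' (fb y) = fB p r (f' y) := by rw [← hB, hr]
      rw [h1, ← hn, h2]
    let φh : V4 →+ V4 := AddMonoidHom.mk' φ hφadd
    obtain ⟨x0, hx0⟩ := himz
    obtain ⟨m, hm⟩ := him (φ x0)
    refine ⟨m, ?_⟩
    have e1 : φ zv = m • zv := by
      conv_lhs => rw [← hx0]
      rw [← hm, hcomm, hcomm]
      show φh (fb (fb x0) - fb x0 - (fb x0 - x0)) = _
      rw [map_sub, map_sub, map_sub]
      rfl
    have := congrArg f' e1
    simp only [hφ, hl, F.act_smul hf'] at this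
    exact this
  have hu0 : f' zv ≠ 0 := fun h => by
    have := congrArg f h
    rw [hr, F.act_zero hf] at this
    exact absurd this (by decide)
  obtain ⟨m1, h1⟩ := key fB1 (fun x => fB1_comm p r x) (map_add fB1)
  obtain ⟨m2, h2⟩ := key fB2 (fun x => fB2_comm p r x) (map_add fB2)
  rcases fixed_line _ ((eig_one _ m1 hu0).1 h1) ((eig_one _ m2 hu0).2 h2) with h | h | h
  · exact absurd h hu0
  · left
    rw [← hfz]
    conv_lhs => rw [← h, hr]
  · right
    have h' := congrArg f h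
    rw [hr, F.act_zero hf |> fun z0 => (show f (-zv) = -f zv from eq_neg_of_add_eq_zero_left
      (by rw [← F.act_add hf, neg_add_cancel, z0])), hfz] at h'
    rw [h', neg_neg]

theorem image_singular {g : G} {f : V4 → V4} (hf : F.Act g f) : qf (f zv) = 0 := by
  by_contra hne
  have hx0 : f zv ≠ 0 := fun h => hne (by rw [h]; decide)
  obtain ⟨h, fw, hh, ⟨w, rfl⟩, hw⟩ := F.exists_base_vec (f zv) hx0
  obtain ⟨fi, hfi, hl, -⟩ := F.act_inv hh
  have hg' := F.act_mul hfi hf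
  rw [if_neg hne] at hw
  have hz : (fi ∘ f) zv = (if qf (f zv) = 1 then av else a2v) := by
    rw [Function.comp_apply]
    conv_lhs => rw [← hw, hl]
  split_ifs at hz with h1
  · rcases F.not_fixed_base hg' hz F.b2_act (F.U.exp _ F.b2_mem) fB2_av (map_add fB2)
      (fun x => (sq_image x).1) sq_image_z.1 with e | e <;> exact absurd e (by decide)
  · rcases F.not_fixed_base hg' hz F.b1_act (F.U.exp _ F.b1_mem) fB1_a2v (map_add fB1)
      (fun x => (sq_image x).2) sq_image_z.2 with e | e <;> exact absurd e (by decide)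

/-- Every element of the normaliser is an isometry, and reverses the classes only in the second case. -/
theorem act_cases {g : G} {f : V4 → V4} (hf : F.Act g f) :
    (∀ x, qf (f x) = qf x) ∧ (Shift f ∨ (Anti f ∧ F.HasTwo)) := by
  have hz0 := F.image_singular hf
  have hx0 : f zv ≠ 0 := fun h => by
    have := F.act_inj hf (h.trans (F.act_zero hf).symm)
    exact absurd this (by decide)
  obtain ⟨h, fw, hh, ⟨w, rfl⟩, hw⟩ := F.exists_base_vec (f zv) hx0
  rw [if_pos hz0] at hw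
  obtain ⟨fi, hfi, hl, hr⟩ := F.act_inv hh
  have hg' := F.act_mul hfi hf
  have hC : F.U.InC (h⁻¹ * g) := by
    have e := hg' zv
    rw [Function.comp_apply] at e
    conv_rhs at e => rw [← hw, hl, F.v_z]
    rw [F.v_z] at e
    exact mul_inv_eq_iff_eq_mul.1 e
  obtain ⟨e, u, p, r, hc, h2, -, -⟩ := F.act_C hC (F.mem_norm hg')
  have hfe : ∀ x, f x = evalW w (fC e u p r x) := fun x => by
    have := congrFun (F.act_unique hg' hc) x
    rw [← this, Function.comp_apply, hr]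
  have hq : ∀ x, qf (fC e u p r x) = qf x := fun x => (fC_props e u p r x).1
  refine ⟨fun x => by rw [hfe, evalW_qf, hq], ?_⟩
  obtain ⟨c, hc'⟩ := evalW_cls w
  rcases (show ∀ u : Fin 2, u = 0 ∨ u = 1 by decide) u with rfl | rfl
  · refine Or.inl ⟨(r.val : ZMod 3) + c, fun x hx => ?_⟩
    rw [hfe, hc' _ (by rw [hq, hx]), fC_cls e 0 p r x hx]
    simp [add_assoc]
  · refine Or.inr ⟨⟨-(r.val : ZMod 3) + c, fun x hx => ?_⟩, h2 (by decide)⟩
    rw [hfe, hc' _ (by rw [hq, hx]), fC_cls e 1 p r x hx]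
    simp
    ring

theorem act_dot {g : G} {f : V4 → V4} (hf : F.Act g f) (x y : V4) : dot (f x) (f y) = dot x y := by
  have h := (F.act_cases hf).1
  rw [dot_qf, dot_qf x y, ← F.act_add hf, h, h, h]

/-- Fusion in `J`. -/
theorem fuse {h : G} {x y : V4} (e : h * F.v x * h⁻¹ = F.v y) : ∃ n, ∃ f, F.Act n f ∧ f x = y := by
  have : Fact (Nat.Prime 3) := ⟨Nat.prime_three⟩
  set C := Subgroup.centralizer ({F.v y} : Set G)
  set J' := F.J.map (MulAut.conj h).toMonoidHom with hJ'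
  have h1 : F.J ≤ C := fun u hu => Subgroup.mem_centralizer_singleton_iff.2 (F.J_comm u hu _ (F.v_mem_J y))
  have h2 : J' ≤ C := by
    rintro _ ⟨u, hu, rfl⟩
    refine Subgroup.mem_centralizer_singleton_iff.2 ?_
    rw [← e, show h * F.v x * h⁻¹ = MulAut.conj h (F.v x) from rfl]
    show MulAut.conj h u * MulAut.conj h (F.v x) = MulAut.conj h (F.v x) * MulAut.conj h u
    rw [← map_mul, ← map_mul, F.J_comm u hu _ (F.v_mem_J x)]
  have hJ3 : IsPGroup 3 (F.J.subgroupOf C) := F.J_three.of_equiv (Subgroup.subgroupOfEquivOfLe h1).symm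
  have hJ'3 : IsPGroup 3 (J'.subgroupOf C) :=
    (F.J_three.map _).of_equiv (Subgroup.subgroupOfEquivOfLe h2).symm
  obtain ⟨P, hP⟩ := hJ3.exists_le_sylow
  obtain ⟨P', hP'⟩ := hJ'3.exists_le_sylow
  obtain ⟨c, hc⟩ := MulAction.exists_smul_eq C P' P
  have hP3 : IsPGroup 3 ((P : Subgroup C).map C.subtype) := P.2.map _
  have hle : F.J ≤ (P : Subgroup C).map C.subtype := fun u hu => ⟨⟨u, h1 hu⟩, hP hu, rfl⟩
  set n := (c : G) * h with hn
  have hmap : F.J.map (MulAut.conj n).toMonoidHom = F.J := by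
    refine F.abelian81 hP3 hle ?_ ?_ ((Subgroup.card_map_of_injective (MulAut.conj n).injective).trans F.J_card)
    · rintro _ ⟨u, hu, rfl⟩
      refine ⟨c * ⟨h * u * h⁻¹, h2 ⟨u, hu, rfl⟩⟩ * c⁻¹, ?_, by simp [hn, mul_assoc]⟩
      rw [← hc, Sylow.coe_subgroup_smul]
      exact Subgroup.smul_mem_pointwise_smul (⟨h * u * h⁻¹, h2 ⟨u, hu, rfl⟩⟩ : C) (MulAut.conj c) _
        (hP' (show (⟨h * u * h⁻¹, _⟩ : C) ∈ J'.subgroupOf C from ⟨u, hu, rfl⟩))
    · rintro _ ⟨a, ha, rfl⟩ _ ⟨b, hb, rfl⟩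
      rw [← map_mul, ← map_mul, F.J_comm a ha b hb]
  choose f hf using fun u : V4 => F.mem_J.1 (hmap.le ⟨_, F.v_mem_J u, rfl⟩)
  refine ⟨n, f, fun u => (hf u).symm, F.v_inj ?_⟩
  rw [hf]
  show n * F.v x * n⁻¹ = _
  rw [hn, show (c : G) * h * F.v x * ((c : G) * h)⁻¹ = (c : G) * (h * F.v x * h⁻¹) * (c : G)⁻¹ by group, e,
    Subgroup.mem_centralizer_singleton_iff.1 c.2, mul_inv_cancel_right]

theorem qf_eq_of_conj {h : G} {x y : V4} (e : h * F.v x * h⁻¹ = F.v y) : qf x = qf y := by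
  obtain ⟨n, f, hf, rfl⟩ := F.fuse e
  rw [(F.act_cases hf).1]

/-- `P` contains a singular vector and one not orthogonal to it. -/
def Good (P : Subgroup G) : Prop := ∃ x y, F.v x ∈ P ∧ F.v y ∈ P ∧ qf x = 0 ∧ x ≠ 0 ∧ dot x y ≠ 0

theorem mem_N_of_cent {c : G} {x y : V4} (hx : qf x = 0) (hx0 : x ≠ 0) (hxy : dot x y ≠ 0)
    (h1 : Commute c (F.v x)) (h2 : Commute c (F.v y)) : c ∈ F.N := by
  obtain ⟨h, fw, hh, -, hw⟩ := F.exists_base_vec x hx0
  rw [if_pos hx] at hw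
  obtain ⟨fi, hfi, hl, hr⟩ := F.act_inv hh
  set y' := fi y with hy'
  have hd : dot y' zv ≠ 0 := by
    rw [← F.act_dot hh, hy', hr, hw]
    intro h0
    exact hxy (by rw [← h0]; simp only [dot]; ring)
  have main : ∀ d : G, Commute d (F.v zv) → Commute d (F.v y') → d ∈ F.N := by
    intro d hd1 hd2
    have hdC : F.U.InC d := by rw [F.v_z] at hd1; exact hd1
    have hA : ∀ x, dot x zv = 0 → ∃ x', dot x' zv = 0 ∧ d * F.v x * d⁻¹ = F.v x' := by
      intro x hx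
      have hq := F.U.normal d hdC _ (F.v_mem x hx)
      obtain ⟨p, r, x', he⟩ := F.b_span _ hq
      have hcom : Commute (d * F.v x * d⁻¹) (F.v y') :=
        ((hd2.mul_left (F.v_comm x y' : Commute (F.v x) (F.v y'))).mul_left hd2.inv_left)
      have hact := F.act_mul (F.act_B p r) (F.act_v x') y'
      rw [← he, hcom.eq, mul_inv_cancel_right] at hact
      obtain ⟨rfl, rfl⟩ := fB_fix p r y' hd (F.v_inj hact).symm
      rw [show F.b1 ^ (0 : Fin 3).val * F.b2 ^ (0 : Fin 3).val * F.v x' = F.v x' by simp] at he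
      exact ⟨x', (fB_mem_plane x').2 (F.v_mem_Q_iff.1 (he ▸ hq)), he⟩
    -- the plane is mapped onto itself
    choose φ hφ1 hφ2 using hA
    let φ' : {x : V4 // dot x zv = 0} → {x : V4 // dot x zv = 0} := fun x => ⟨φ x x.2, hφ1 x x.2⟩
    have hφinj : Function.Injective φ' := fun a b e => by
      have e' : φ a a.2 = φ b b.2 := congrArg Subtype.val e
      refine Subtype.ext (F.v_inj ?_)
      have := (hφ2 a a.2).trans ((congrArg F.v e').trans (hφ2 b b.2).symm)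
      simpa using this
    have hφsurj := Finite.surjective_of_injective hφinj
    have hconj : ∀ u : V4, d * F.v u * d⁻¹ ∈ F.J := fun u => F.cent_A _ fun x hx => by
      obtain ⟨⟨x', hx'⟩, he⟩ := hφsurj ⟨x, hx⟩
      have e' : φ x' hx' = x := congrArg Subtype.val he
      rw [← e', ← hφ2 x' hx']
      show MulAut.conj d (F.v u) * MulAut.conj d (F.v x') = MulAut.conj d (F.v x') * MulAut.conj d (F.v u)
      rw [← map_mul, ← map_mul, F.v_comm]
    choose f hf using fun u => F.mem_J.1 (hconj u)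
    exact F.mem_norm (f := f) fun u => (hf u).symm
  have hx' : F.v x = h * F.v zv * h⁻¹ := by rw [hh, hw]
  have hy2 : F.v y = h * F.v y' * h⁻¹ := by rw [hh, hr]
  have hmem := main (h⁻¹ * c * h)
    (by
      rw [hx'] at h1
      have := h1.map (MulAut.conj h⁻¹).toMonoidHom
      simpa [mul_assoc] using this)
    (by
      rw [hy2] at h2
      have := h2.map (MulAut.conj h⁻¹).toMonoidHom
      simpa [mul_assoc] using this)
  have hn := F.mem_norm hh
  have := mul_mem (mul_mem hn hmem) (inv_mem hn)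
  rwa [show h * (h⁻¹ * c * h) * h⁻¹ = c by group] at this

theorem centralizer_le {P : Subgroup G} (hP : F.Good P) : Subgroup.centralizer (P : Set G) ≤ F.N := by
  obtain ⟨x, y, hx, hy, h1, h2, h3⟩ := hP
  exact fun c hc => F.mem_N_of_cent h1 h2 h3 (Subgroup.mem_centralizer_iff.1 hc _ hx).symm
    (Subgroup.mem_centralizer_iff.1 hc _ hy).symm

theorem normalizer_le {P : Subgroup G} (hPJ : P ≤ F.J) (hP : F.Good P) :
    Subgroup.normalizer (P : Set G) ≤ F.N := by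
  intro g hg
  have hcent : F.J.map (MulAut.conj g).toMonoidHom ≤ F.N := by
    refine le_trans ?_ (F.centralizer_le hP)
    rintro _ ⟨u, hu, rfl⟩
    refine Subgroup.mem_centralizer_iff.2 fun p hp => ?_
    have hp' : g⁻¹ * p * g ∈ P := by simpa using (Subgroup.mem_normalizer_iff.1 (inv_mem hg) p).1 hp
    have := F.J_comm _ (hPJ hp') u hu
    show p * (g * u * g⁻¹) = g * u * g⁻¹ * p
    calc p * (g * u * g⁻¹) = g * (g⁻¹ * p * g * u) * g⁻¹ := by group
      _ = _ := by rw [this]; group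
  have h3 : IsPGroup 3 ↥(F.J.map (MulAut.conj g).toMonoidHom ⊔ F.J) :=
    IsPGroup.to_sup_of_normal_right' (F.J_three.map _) F.J_three hcent
  have hmap : F.J.map (MulAut.conj g).toMonoidHom = F.J := by
    refine F.abelian81 h3 le_sup_right le_sup_left ?_
      ((Subgroup.card_map_of_injective (MulAut.conj g).injective).trans F.J_card)
    rintro _ ⟨a, ha, rfl⟩ _ ⟨b, hb, rfl⟩
    rw [← map_mul, ← map_mul, F.J_comm a ha b hb]
  choose f hf using fun u : V4 => F.mem_J.1 (hmap.le ⟨_, F.v_mem_J u, rfl⟩)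
  exact F.mem_norm (f := f) fun u => (hf u).symm

theorem kill_good {L : Subgroup G} (hL : (Nat.card L).Coprime 3) (hJ : F.J ≤ Subgroup.normalizer (L : Set G))
    {x y : V4} (h1 : qf x = 0) (h2 : x ≠ 0) (h3 : dot x y ≠ 0)
    (hx : ∀ l ∈ L, Commute l (F.v x)) (hy : ∀ l ∈ L, Commute l (F.v y)) : L = ⊥ := by
  refine (Subgroup.eq_bot_iff_forall _).2 fun l hl => ?_
  have hlN : l ∈ F.N := F.mem_N_of_cent h1 h2 h3 (hx l hl) (hy l hl)
  have hdisj : L ⊓ F.J = ⊥ := Subgroup.inf_eq_bot_of_coprime (by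
    rw [F.J_card, show (81 : ℕ) = 3 ^ 4 by norm_num]; exact hL.pow_right 4)
  have hlJ : l ∈ F.J := F.cent_A l fun u _ => by
    have hmem : l * F.v u * l⁻¹ * (F.v u)⁻¹ ∈ L ⊓ F.J := by
      refine ⟨?_, ?_⟩
      swap
      · show _ ∈ F.J
        exact mul_mem ((Subgroup.mem_normalizer_iff.1 hlN _).1 (F.v_mem_J u)) (inv_mem (F.v_mem_J u))
      show _ ∈ L
      rw [show l * F.v u * l⁻¹ * (F.v u)⁻¹ = l * (F.v u * l⁻¹ * (F.v u)⁻¹) by group]
      exact mul_mem hl ((Subgroup.mem_normalizer_iff.1 (hJ (F.v_mem_J u)) _).1 (inv_mem hl))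
    rw [hdisj, Subgroup.mem_bot, mul_inv_eq_one, mul_inv_eq_iff_eq_mul] at hmem
    exact hmem
  exact Subgroup.mem_bot.1 (hdisj.le ⟨hl, hlJ⟩)

/-- `J` normalises no non-trivial `3'`-subgroup. -/
theorem sig {K : Subgroup G} (hK : (Nat.card K).Coprime 3) (hJ : F.J ≤ Subgroup.normalizer (K : Set G)) : K = ⊥ := by
  have : IsMulCommutative F.J := ⟨⟨fun a b => Subtype.ext (F.J_comm a a.2 b b.2)⟩⟩
  have hcop : (Nat.card F.J).Coprime (Nat.card K) := by
    rw [F.J_card, show (81 : ℕ) = 3 ^ 4 by norm_num]; exact (hK.pow_right 4).symm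
  refine le_bot_iff.1 (Coprime.le_of_cyclic_quotient hJ hcop fun B hBJ hcyc => ?_)
  obtain ⟨_, ⟨γ, rfl⟩, hle⟩ := hcyc
  have hrep : ∀ u : V4, ∃ m : ZMod 3, F.v (u - m • γ) ∈ B := by
    intro u
    have h := hle (F.v_mem_J u)
    have hn : Subgroup.zpowers (F.v γ) ≤ Subgroup.normalizer (B : Set G) :=
      Subgroup.zpowers_le.2 (Coprime.mem_normalizer_of_forall fun b hb => by
        rwa [F.J_comm _ (F.v_mem_J γ) b (hBJ hb), mul_inv_cancel_right])
    rw [← SetLike.mem_coe, Subgroup.coe_mul_of_right_le_normalizer_left _ _ hn] at h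
    obtain ⟨b, hb, c, hc, e⟩ := h
    obtain ⟨k, rfl⟩ := Subgroup.mem_zpowers_iff.1 hc
    refine ⟨(k : ZMod 3), ?_⟩
    have hk : F.v γ ^ k = F.v ((k : ZMod 3) • γ) := by
      rw [F.v_smul, ← zpow_natCast, ZMod.val_intCast, ← zpow_eq_zpow_emod k (by
        rw [zpow_natCast]; exact F.v_cube γ)]
    have hb' : F.v (u - (k : ZMod 3) • γ) = b := by
      have e' : b * F.v γ ^ k = F.v u := e
      rw [sub_eq_add_neg, F.v_add, F.v_neg, ← hk, ← e', mul_inv_cancel_right]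
    rw [hb']
    exact hb
  choose m hm using fun i : Fin 4 => hrep (unitV i)
  have hsm : ∀ (c : ZMod 3) (w : V4), F.v w ∈ B → F.v (c • w) ∈ B := fun c w hw => by
    rw [F.v_smul]; exact pow_mem hw _
  obtain ⟨n, hn0, hn⟩ : ∃ n : V4, n ≠ 0 ∧ ∀ u, dot n u = 0 → F.v u ∈ B := by
    have key : ∀ u : V4, F.v (u - dot (fun i => m i) u • γ) ∈ B := by
      intro u
      have e : u - dot (fun i => m i) u • γ = u 0 • (unitV 0 - m 0 • γ) + u 1 • (unitV 1 - m 1 • γ)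
          + u 2 • (unitV 2 - m 2 • γ) + u 3 • (unitV 3 - m 3 • γ) := by
        conv_lhs => arg 1; rw [unit_expand u]
        simp only [dot, smul_sub, smul_smul, add_smul]
        simp only [mul_comm (u 0), mul_comm (u 1), mul_comm (u 2), mul_comm (u 3)]
        abel
      rw [e, F.v_add, F.v_add, F.v_add]
      exact mul_mem (mul_mem (mul_mem (hsm _ _ (hm 0)) (hsm _ _ (hm 1))) (hsm _ _ (hm 2))) (hsm _ _ (hm 3))
    by_cases h0 : (fun i => m i) = (0 : V4)
    · refine ⟨zv, by decide, fun u _ => ?_⟩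
      have h := key u
      rw [h0] at h
      simpa [dot] using h
    · exact ⟨_, h0, fun u hu => by simpa [hu] using key u⟩
  obtain ⟨x, y, hx, hy, hq, hx0, hd⟩ := good_hyperplane n hn0
  refine le_bot_iff.2 (F.kill_good (Nat.Coprime.coprime_dvd_left (Subgroup.card_dvd_of_le inf_le_left) hK) ?_ hq hx0 hd
    (fun l hl => (Subgroup.mem_centralizer_iff.1 hl.2 _ (hn x hx)).symm)
    (fun l hl => (Subgroup.mem_centralizer_iff.1 hl.2 _ (hn y hy)).symm))
  refine fun b hb => Coprime.mem_normalizer_of_forall fun z hz => Subgroup.mem_inf.2 ⟨?_, ?_⟩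
  · exact (Subgroup.mem_normalizer_iff.1 (hJ hb) z).1 (Subgroup.mem_inf.1 hz).1
  · have hbB : b ∈ Subgroup.centralizer (B : Set G) :=
      Subgroup.mem_centralizer_iff.2 fun w hw => F.J_comm w (hBJ hw) b hb
    exact mul_mem (mul_mem hbB (Subgroup.mem_inf.1 hz).2) (inv_mem hbB)

end FrameData

end Cfsg.Agent.OEightThree
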