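/-
Subgroups of order three of `PΩ₈⁺(3)` and their images under triality and the graph automorphism.

Main results: `exists_conj_sub`, `eq_of_conj_sub`, `exists_thirteen`, `sub_triality`, `sub_graph`.
-/
import Cfsg.Agent.Lib.OEightThree.Classes

set_option autoImplicit false
open Cfsg

namespace Cfsg.Agent.OEightThree

open Data
open AutPOmega (om om_mul om_inv om_one om_eq_iff exists_om om_of_mem)

attribute [local irreducible] mkElt elt gen eval code gens targets targetWords tauMap graphMap fixCert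
  graphMat targetMat

/-- The group `PΩ₈⁺(3)`. -/
abbrev P8 : Type := POmega (ZMod 3) ⇑Q8

/-- Two subgroups are conjugate. -/
def Rel {X : Type*} [Group X] (A B : Subgroup X) : Prop :=
  ∃ g : X, A.map (MulAut.conj g).toMonoidHom = B

theorem Rel.refl {X : Type*} [Group X] (A : Subgroup X) : Rel A A := ⟨1, by ext; simp⟩

theorem Rel.trans {X : Type*} [Group X] {A B C : Subgroup X} (h : Rel A B) (h' : Rel B C) :
    Rel A C := by
  obtain ⟨g, rfl⟩ := h
  obtain ⟨g', rfl⟩ := h'
  exact ⟨g' * g, by rw [Subgroup.map_map]; congr 1; ext; simp [mul_assoc]⟩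

theorem Rel.symm {X : Type*} [Group X] {A B : Subgroup X} (h : Rel A B) : Rel B A := by
  obtain ⟨g, rfl⟩ := h
  exact ⟨g⁻¹, by rw [Subgroup.map_map]; ext; simp [mul_assoc]⟩

theorem Rel.map {X Y : Type*} [Group X] [Group Y] {A B : Subgroup X} (f : X →* Y) (h : Rel A B) :
    Rel (A.map f) (B.map f) := by
  obtain ⟨g, rfl⟩ := h
  exact ⟨f g, by rw [Subgroup.map_map, Subgroup.map_map]; congr 1; ext; simp⟩

theorem om_inj_cube {g h : O8} (hg : g ∈ Om8) (hh : h ∈ Om8) (g3 : g ^ 3 = 1) (h3 : h ^ 3 = 1)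
    (e : om g = om h) : g = h := by
  obtain ⟨a, ha, hx⟩ := (om_eq_iff Triality.base4 hg hh).1 e
  have key : ∀ a : ZMod 3, a * a = 1 → a = 1 ∨ a = -1 := by decide
  rcases key a ha with rfl | rfl
  · exact Orth.ext_ap fun x => by rw [hx, one_smul]
  · exfalso
    have hy : ∀ x, Orth.ap (h ^ 3) x = (-1 : ZMod 3) • Orth.ap (g ^ 3) x := fun x => by
      simp only [pow_three, Orth.ap_mul, hx, map_smul, smul_smul]
      norm_num
    have := hy (Pi.single (.inl 0) 1)
    rw [g3, h3, Orth.ap_one] at this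
    have := congrFun this (.inl 0)
    simp at this
    exact absurd this (by decide)

theorem om_pow {g : O8} (hg : g ∈ Om8) : ∀ n : ℕ, om (g ^ n) = om g ^ n
  | 0 => by rw [pow_zero, pow_zero, om_one]
  | n + 1 => by rw [pow_succ, pow_succ, om_mul (pow_mem hg n) hg, om_pow hg n]

theorem om_conj {g u : O8} (hu : u ∈ Om8) (hg : g ∈ Om8) :
    om (u * g * u⁻¹) = om u * om g * (om u)⁻¹ := by
  rw [om_mul (mul_mem hu hg) (inv_mem hu), om_mul hu hg, om_inv hu]

/-- The representative subgroups. -/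
noncomputable def sub (b : ℕ) : Subgroup P8 := Subgroup.zpowers (om (rep b))

theorem orderOf_rep {b : ℕ} (hb : b < 13) : orderOf (om (rep b)) = 3 := by
  obtain ⟨-, -, hO, hne, h3⟩ := rep_spec hb
  have : Fact (Nat.Prime 3) := ⟨Nat.prime_three⟩
  refine orderOf_eq_prime (by rw [← om_pow hO, h3, om_one]) fun h => hne ?_
  exact om_inj_cube hO (one_mem _) h3 (one_pow _) (h.trans om_one.symm)

theorem card_sub {b : ℕ} (hb : b < 13) : Nat.card (sub b) = 3 := by
  rw [sub, Nat.card_zpowers, orderOf_rep hb]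

theorem zpowers_map {X Y : Type*} [Group X] [Group Y] (f : X →* Y) (x : X) :
    (Subgroup.zpowers x).map f = Subgroup.zpowers (f x) := MonoidHom.map_zpowers f x

theorem rel_of_conj {g u : O8} {b : ℕ} (hu : u ∈ Om8) (hg : g ∈ Om8) (e : u * g * u⁻¹ = rep b) :
    Rel (Subgroup.zpowers (om g)) (sub b) := by
  refine ⟨om u, ?_⟩
  rw [zpowers_map, sub, ← e, om_conj hu hg]
  rfl

/-- Each subgroup of order three is conjugate to a representative. -/
theorem exists_conj_sub (X : Subgroup P8) (hX : Nat.card X = 3) : ∃ b < 13, Rel X (sub b) := by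
  have : Fact (Nat.Prime 3) := ⟨Nat.prime_three⟩
  have : Nontrivial X := by rw [← Finite.one_lt_card_iff_nontrivial, hX]; norm_num
  obtain ⟨z', hz'⟩ := exists_ne (1 : X)
  obtain ⟨z, hzX, hz⟩ : ∃ z ∈ X, z ≠ 1 := ⟨z', z'.2, fun h => hz' (Subtype.ext h)⟩
  have hz3 : z ^ 3 = 1 := by
    have := congrArg Subtype.val (pow_card_eq_one' (G := X) (x := ⟨z, hzX⟩))
    rw [hX] at this
    exact this
  have hXz : X = Subgroup.zpowers z := by
    refine (Subgroup.eq_of_le_of_card_ge ((Subgroup.zpowers_le).2 hzX) ?_).symm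
    rw [hX, Nat.card_zpowers, orderOf_eq_prime hz3 hz]
  obtain ⟨g₀, hg₀, rfl⟩ := exists_om z
  have h6 : (g₀ ^ 3) ^ 2 = 1 := by
    obtain ⟨a, ha, hx⟩ := (om_eq_iff Triality.base4 (one_mem _) (pow_mem hg₀ 3)).1
      (by rw [om_one, om_pow hg₀, hz3])
    refine Orth.ext_ap fun x => ?_
    simp only [sq, Orth.ap_mul, hx, Orth.ap_one, smul_smul, ha, one_smul]
  have hg : g₀ ^ 4 ∈ Om8 := pow_mem hg₀ 4
  have e : om g₀ = om (g₀ ^ 4) := by rw [om_pow hg₀, pow_succ (om g₀) 3, hz3, one_mul]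
  have h3 : (g₀ ^ 4) ^ 3 = 1 := by
    rw [← pow_mul, show 4 * 3 = 3 * 2 * 2 from rfl, pow_mul, pow_mul, h6, one_pow]
  have hne : g₀ ^ 4 ≠ 1 := fun h => hz (by rw [e, h, om_one])
  obtain ⟨b, hb, u, hu, hue⟩ := exists_conj_rep hg hne h3
  exact ⟨b, hb, by rw [hXz, e]; exact rel_of_conj hu hg hue⟩

theorem cc_rep {b : ℕ} (hb : b < 13) : cc (rep b) = ccAt b := by
  obtain ⟨-, hm, -⟩ := rep_spec hb
  exact cc_eq_of_check hm (List.all_eq_true.mp fixesCheck b (List.mem_range.mpr hb))

/-- The numbers of singular and of norm-one fixed vectors of the representatives. -/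
def ccVals : List (ℕ × ℕ) :=
  [(243, 270), (81, 0), (81, 0), (243, 216), (81, 0), (81, 0), (27, 0), (27, 0), (27, 54), (27, 54),
    (297, 216), (45, 18), (9, 36)]

theorem ccVals_spec : ((List.range 13).all fun b => ccAt b == ccVals.getD b (0, 0)) = true := by
  decide +kernel

theorem cc_rep' {b : ℕ} (hb : b < 13) : cc (rep b) = ccVals.getD b (0, 0) := by
  rw [cc_rep hb]
  exact beq_iff_eq.1 (List.all_eq_true.mp ccVals_spec b (List.mem_range.mpr hb))

theorem cc_eq_of_rel {a b : ℕ} (ha : a < 13) (hb : b < 13) (h : Rel (sub a) (sub b)) :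
    cc (rep a) = cc (rep b) := by
  obtain ⟨x, hx⟩ := h
  obtain ⟨u, hu, rfl⟩ := exists_om x
  obtain ⟨-, -, hOa, -, ha3⟩ := rep_spec ha
  obtain ⟨-, -, hOb, -, hb3⟩ := rep_spec hb
  have hmem : om (u * rep a * u⁻¹) ∈ sub b := by
    rw [← hx, om_conj hu hOa]
    exact Subgroup.mem_map.2 ⟨_, Subgroup.mem_zpowers _, rfl⟩
  rw [sub] at hmem
  have hfin : IsOfFinOrder (om (rep b)) := isOfFinOrder_of_finite _
  obtain ⟨n, hn, hne⟩ : ∃ n, n < orderOf (om (rep b)) ∧
      om (rep b) ^ n = om (u * rep a * u⁻¹) := by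
    classical
    obtain ⟨n, hn, e⟩ := Finset.mem_image.1 (hfin.mem_zpowers_iff_mem_range_orderOf.1 hmem)
    exact ⟨n, Finset.mem_range.1 hn, e⟩
  rw [orderOf_rep hb] at hn
  rw [← om_pow hOb] at hne
  have he := om_inj_cube (pow_mem hOb n) (mul_mem (mul_mem hu hOa) (inv_mem hu))
    (by rw [← pow_mul, mul_comm, pow_mul, hb3, one_pow])
    (by rw [conj_pow, ha3, mul_one, mul_inv_cancel]) hne
  rw [← cc_conj u (rep a), ← he]
  interval_cases n
  · exfalso
    rw [pow_zero] at he
    exact (rep_spec ha).2.2.2.1 (conj_eq_one_iff.1 he.symm)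
  · rw [pow_one]
  · rw [pow_two, cc_sq hb3]

/-- The index of the image of a representative under triality. -/
def tauIdx (b : ℕ) : ℕ := (tauMap.getD b (13, 0)).1

/-- The index of the image of a representative under the graph automorphism. -/
def graphIdx (b : ℕ) : ℕ := (graphMap.getD b (13, 0)).1

theorem tauIdx_lt {b : ℕ} (hb : b < 13) : tauIdx b < 13 := by
  have h := List.all_eq_true.mp tauCheck b (List.mem_range.mpr hb)
  simp only [Bool.and_eq_true, Nat.blt_eq] at h
  exact h.1.2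

theorem graphIdx_lt {b : ℕ} (hb : b < 13) : graphIdx b < 13 := by
  have h := List.all_eq_true.mp graphCheck b (List.mem_range.mpr hb)
  simp only [Bool.and_eq_true, Nat.blt_eq] at h
  exact h.1.2

theorem rel_map_of_check {img : ℕ → List ℕ} {M : List (ℕ × ℕ)} (hM : checkMap img M = true)
    (f : P8 →* P8) {b : ℕ} (hb : b < 13) {g : O8} (hg : g ∈ Om8) (hm : mat g = toMat (img b))
    (hok : okMat (img b) = true) (hf : f (om (rep b)) = om g) :
    Rel ((sub b).map f) (sub (M.getD b (13, 0)).1) := by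
  have h := List.all_eq_true.mp hM b (List.mem_range.mpr hb)
  simp only [Bool.and_eq_true, beq_iff_eq, List.all_eq_true, Nat.blt_eq] at h
  obtain ⟨⟨hw, hb'⟩, he⟩ := h
  obtain ⟨-, hm', -⟩ := rep_spec hb'
  have ht := List.all_eq_true.mp targetsCheck _ (List.mem_range.mpr hb')
  simp only [Bool.and_eq_true, beq_iff_eq] at ht
  rw [sub, zpowers_map, hf]
  exact rel_of_conj (eval_mem_om hw) hg (mat_conj hok (ht.1.1.2 ▸ okMat_code _) hm hm' he)

theorem triple_mem {w : List ℕ} (hw : ∀ l ∈ w, l < 24) :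
    (eval gens w, eval gens (w.map triLetter), eval gens ((w.map triLetter).map triLetter)) ∈
      Triality.TriK (ZMod 3) := by
  induction w with
  | nil => simp only [List.map_nil, eval_nil]; exact one_mem _
  | cons l w ih =>
    simp only [List.forall_mem_cons] at hw
    have h := List.all_eq_true.mp triCheckLetters l (List.mem_range.mpr hw.1)
    simp only [Bool.and_eq_true, Nat.blt_eq] at h
    have h' := List.all_eq_true.mp triCheckLetters _ (List.mem_range.mpr h.1)
    simp only [Bool.and_eq_true, Nat.blt_eq] at h'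
    simp only [List.map_cons, eval_cons]
    have hl : (gen gens l, gen gens (triLetter l), gen gens (triLetter (triLetter l))) ∈
        Triality.TriK (ZMod 3) :=
      ⟨⟨gen_mem_om (by omega), gen_mem_om (by omega), gen_mem_om (by omega)⟩,
        triEq_of_check (mat_gen okGens _) (mat_gen okGens _) (mat_gen okGens _) h.2⟩
    have hm := (Triality.TriK (ZMod 3)).mul_mem hl (ih hw.2)
    simp only [Prod.mk_mul_mk] at hm
    exact hm

theorem sub_triality {b : ℕ} (hb : b < 13) :
    Rel ((sub b).map (Triality.triality (ZMod 3)).toMonoidHom) (sub (tauIdx b)) := by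
  obtain ⟨hl, -⟩ := rep_spec hb
  have h := triple_mem hl
  refine rel_map_of_check tauCheck (Triality.triality (ZMod 3)).toMonoidHom hb h.1.2.1
    (mat_eval okGens _) (okMat_code _) ?_
  exact Triality.triality_om h

theorem sub_graph {b : ℕ} (hb : b < 13) :
    Rel ((sub b).map (Triality.graphAut (ZMod 3)).toMonoidHom) (sub (graphIdx b)) := by
  obtain ⟨-, hm, hO, -, -⟩ := rep_spec hb
  have hC : mat (Triality.cIso (ZMod 3)) = toMat graphMat := toMat_graphMat.symm
  have hokC : okMat graphMat = true := by decide +kernel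
  have ht := List.all_eq_true.mp targetsCheck b (List.mem_range.mpr hb)
  simp only [Bool.and_eq_true, beq_iff_eq] at ht
  have hok : okMat (targetMat b) = true := ht.1.1.2 ▸ okMat_code _
  refine rel_map_of_check graphCheck (Triality.graphAut (ZMod 3)).toMonoidHom hb
    (Triality.isoConj_mem_omega _ hO) ?_ (okMat_mul _ _) (Triality.conjAut_om _ hO)
  rw [graphImg, toMat_mul hokC (okMat_mul _ _), toMat_mul hok hokC, ← hm, ← hC, ← mul_assoc]
  rfl

/-- The invariant that separates the classes. -/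
def invAt (b : ℕ) : (ℕ × ℕ) × (ℕ × ℕ) × (ℕ × ℕ) :=
  (ccVals.getD b (0, 0), ccVals.getD (tauIdx b) (0, 0), ccVals.getD (tauIdx (tauIdx b)) (0, 0))

theorem invAt_injective : ∀ a < 13, ∀ b < 13, invAt a = invAt b → a = b := by decide +kernel

theorem rel_tau {a b : ℕ} (ha : a < 13) (hb : b < 13) (h : Rel (sub a) (sub b)) :
    Rel (sub (tauIdx a)) (sub (tauIdx b)) :=
  (sub_triality ha).symm.trans ((h.map _).trans (sub_triality hb))

theorem eq_of_rel {a b : ℕ} (ha : a < 13) (hb : b < 13) (h : Rel (sub a) (sub b)) : a = b := by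
  have h1 := rel_tau ha hb h
  have h2 := rel_tau (tauIdx_lt ha) (tauIdx_lt hb) h1
  refine invAt_injective a ha b hb ?_
  simp only [invAt]
  rw [← cc_rep' ha, ← cc_rep' hb, ← cc_rep' (tauIdx_lt ha), ← cc_rep' (tauIdx_lt hb),
    ← cc_rep' (tauIdx_lt (tauIdx_lt ha)), ← cc_rep' (tauIdx_lt (tauIdx_lt hb)),
    cc_eq_of_rel ha hb h, cc_eq_of_rel (tauIdx_lt ha) (tauIdx_lt hb) h1,
    cc_eq_of_rel (tauIdx_lt (tauIdx_lt ha)) (tauIdx_lt (tauIdx_lt hb)) h2]

/-- `PΩ₈⁺(3)` has thirteen classes of subgroups of order three. -/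
theorem exists_thirteen :
    ∃ Y : Fin 13 → Subgroup P8, (∀ i, Nat.card (Y i) = 3) ∧ (∀ i j, Rel (Y i) (Y j) → i = j) ∧
      ∀ X : Subgroup P8, Nat.card X = 3 → ∃ i, Rel X (Y i) :=
  ⟨fun i => sub i, fun i => card_sub i.2, fun i j h => Fin.ext (eq_of_rel i.2 j.2 h), fun X hX => by
    obtain ⟨b, hb, h⟩ := exists_conj_sub X hX
    exact ⟨⟨b, hb⟩, h⟩⟩

end Cfsg.Agent.OEightThree
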