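/-
The seven orbits of an extension of `PΩ₈⁺(3)` by the symmetric group of degree three on the
subgroups of order three of `PΩ₈⁺(3)`.

Main result: `exists_seven`.
-/
import Cfsg.Agent.Lib.OEightThree.Subgroups
import Cfsg.Agent.Lib.Triality.Out
import Cfsg.Agent.S5515

set_option autoImplicit false
open Cfsg

namespace Cfsg.Agent.OEightThree

open Triality (triality graphAut tOut iOut)

attribute [local irreducible] rep sub tauIdx graphIdx

/-- The orbit of a representative under triality and the graph automorphism. -/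
def orbIdx (b : ℕ) : ℕ := if b < 9 then b / 3 else b - 6

/-- A representative of each orbit. -/
def orbRep (i : ℕ) : ℕ := if i < 3 then 3 * i else i + 6

theorem orb_facts : ∀ b < 13, orbIdx (tauIdx b) = orbIdx b ∧ orbIdx (graphIdx b) = orbIdx b ∧
    orbIdx b < 7 ∧ (b = orbRep (orbIdx b) ∨ b = tauIdx (orbRep (orbIdx b)) ∨
      b = tauIdx (tauIdx (orbRep (orbIdx b)))) := by
  unfold tauIdx graphIdx
  decide +kernel

theorem orbRep_spec : ∀ i < 7, orbRep i < 13 ∧ orbIdx (orbRep i) = i := by decide +kernel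

theorem move_facts : tauIdx 0 ≠ 0 ∧ graphIdx 1 ≠ 1 := by
  unfold tauIdx graphIdx
  decide +kernel

theorem rel_map_inner {f : MulAut P8} (hf : f ∈ Inn P8) (A : Subgroup P8) :
    Rel A (A.map f.toMonoidHom) := by
  obtain ⟨k, rfl⟩ := hf
  exact ⟨k, rfl⟩

theorem map_aut_mul (f g : MulAut P8) (A : Subgroup P8) :
    A.map (f * g).toMonoidHom = (A.map g.toMonoidHom).map f.toMonoidHom := by
  rw [Subgroup.map_map]; rfl

/-- An automorphism keeps the orbits of the representatives. -/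
def Keeps (f : MulAut P8) : Prop :=
  ∀ a < 13, ∃ b < 13, orbIdx b = orbIdx a ∧ Rel ((sub a).map f.toMonoidHom) (sub b)

theorem keeps_one : Keeps 1 := fun a ha =>
  ⟨a, ha, rfl, by rw [show (sub a).map (1 : MulAut P8).toMonoidHom = sub a from Subgroup.map_id _]; exact Rel.refl _⟩

theorem keeps_mul {f g : MulAut P8} (hf : Keeps f) (hg : Keeps g) : Keeps (f * g) := fun a ha => by
  obtain ⟨b, hb, hbo, hbr⟩ := hg a ha
  obtain ⟨c, hc, hco, hcr⟩ := hf b hb
  exact ⟨c, hc, hco.trans hbo, by rw [map_aut_mul]; exact (hbr.map _).trans hcr⟩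

theorem keeps_pow {f : MulAut P8} (hf : Keeps f) : ∀ n : ℕ, Keeps (f ^ n)
  | 0 => by rw [pow_zero]; exact keeps_one
  | n + 1 => by rw [pow_succ]; exact keeps_mul (keeps_pow hf n) hf

theorem keeps_inner {f : MulAut P8} (hf : f ∈ Inn P8) : Keeps f := fun a ha =>
  ⟨a, ha, rfl, (rel_map_inner hf _).symm⟩

theorem keeps_triality : Keeps (triality (ZMod 3)) := fun _ ha =>
  ⟨_, tauIdx_lt ha, (orb_facts _ ha).1, sub_triality ha⟩

theorem keeps_graph : Keeps (graphAut (ZMod 3)) := fun _ ha =>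
  ⟨_, graphIdx_lt ha, (orb_facts _ ha).2.1, sub_graph ha⟩

theorem tOut_ne_one : tOut (ZMod 3) ≠ 1 := fun h => by
  have hr := rel_map_inner ((QuotientGroup.eq_one_iff _).1 h) (sub 0)
  exact move_facts.1 (eq_of_rel (tauIdx_lt (by norm_num)) (by norm_num)
    ((hr.trans (sub_triality (by norm_num))).symm))

theorem iOut_ne_one : iOut (ZMod 3) ≠ 1 := fun h => by
  have h' : (QuotientGroup.mk (graphAut (ZMod 3)) : Cfsg.Out P8) = 1 := h
  have hr := rel_map_inner ((QuotientGroup.eq_one_iff _).1 h') (sub 1)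
  exact move_facts.2 (eq_of_rel (graphIdx_lt (by norm_num)) (by norm_num)
    ((hr.trans (sub_graph (by norm_num))).symm))

theorem s4_pairs : ∀ a b : Equiv.Perm (Fin 4), a * a * a = 1 → a ≠ 1 → b * b = 1 → b ≠ 1 →
    a * b * a = b → ∃ i : Fin 4, a i = i ∧ ∀ h : Equiv.Perm (Fin 4), h i = i →
      h = 1 ∨ h = a ∨ h = a * a ∨ h = b ∨ h = a * b ∨ h = a * a * b := by
  decide +kernel

theorem exists_aut_rep {G : Type*} [Group G] (L : Subgroup G) [L.Normal] (e₀ : L ≃* P8)
    (hC : Subgroup.centralizer (L : Set G) ≤ L) (q : G ⧸ L ≃* Equiv.Perm (Fin 3)) :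
    ∃ (e : L ≃* P8) (φ : G →* MulAut P8), (∀ g l, φ g (e l) = e (MulAut.conjNormal g l)) ∧
      (∀ g, ∃ k : MulAut P8, k ∈ Inn P8 ∧ ∃ c d : ℕ,
        φ g = k * (triality (ZMod 3) ^ c * graphAut (ZMod 3) ^ d)) ∧
      triality (ZMod 3) ∈ φ.range := by
  haveI : Fact (Nat.Prime 3) := ⟨by norm_num⟩
  obtain ⟨eO⟩ := Triality.out_eight_odd (F := ZMod 3) (p := 3) (f := 1) le_rfl (by simp) (by norm_num)
  have e4 : Cfsg.Out P8 ≃* Equiv.Perm (Fin 4) := eO.trans MulEquiv.prodUnique
  haveI : IsSimpleGroup P8 :=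
    Orth.isSimpleGroup_pomega (Q := Orth.quadPlus 4 (ZMod 3)) (Orth.quadPlus_nondeg 4) (by simp)
  have hZ : Subgroup.center P8 = ⊥ :=
    (Subgroup.Normal.eq_bot_or_eq_top inferInstance).resolve_right fun h =>
      S5515.not_comm e4 fun a b => ((Subgroup.mem_center_iff.1 (h ▸ Subgroup.mem_top b)) a)
  set φ₀ : G →* MulAut P8 := (MulAut.congr e₀).toMonoidHom.comp MulAut.conjNormal with hφ₀
  have hap : ∀ g l, φ₀ g (e₀ l) = e₀ (MulAut.conjNormal g l) := fun g l => by
    show e₀ (MulAut.conjNormal g (e₀.symm (e₀ l))) = _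
    rw [MulEquiv.symm_apply_apply]
  set ψ : G →* Cfsg.Out P8 := (QuotientGroup.mk' (Inn P8)).comp φ₀ with hψ
  have hin : ∀ l : L, φ₀ (l : G) = MulAut.conj (e₀ l) := fun l => by
    refine MulEquiv.ext fun k => ?_
    obtain ⟨m, rfl⟩ := e₀.surjective k
    rw [hap, MulAut.conj_apply, ← map_inv, ← map_mul, ← map_mul]
    exact congrArg e₀ (Subtype.ext (by simp [MulAut.conjNormal_apply]))
  have hker : ψ.ker = L := by
    refine le_antisymm (fun g hg => ?_) (fun g hg => ?_)
    · obtain ⟨k, hk⟩ := (QuotientGroup.eq_one_iff (φ₀ g)).1 hg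
      obtain ⟨l, rfl⟩ := e₀.surjective k
      have hd : φ₀ (g * (l : G)⁻¹) = 1 := by rw [map_mul, map_inv, hin, hk, mul_inv_cancel]
      have hgC : g * (l : G)⁻¹ ∈ Subgroup.centralizer (L : Set G) :=
        Subgroup.mem_centralizer_iff.2 fun x hx => by
          have h1 := hap (g * (l : G)⁻¹) ⟨x, hx⟩
          rw [hd, MulAut.one_apply] at h1
          have h2 := congrArg Subtype.val (e₀.injective h1.symm)
          rw [MulAut.conjNormal_apply] at h2
          exact (mul_inv_eq_iff_eq_mul.1 h2).symm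
      simpa using mul_mem (hC hgC) l.2
    · exact (QuotientGroup.eq_one_iff (φ₀ g)).2 ⟨e₀ ⟨g, hg⟩, (hin ⟨g, hg⟩).symm⟩
  have hH : ψ.range ≃* Equiv.Perm (Fin 3) :=
    (QuotientGroup.quotientKerEquivRange ψ).symm.trans
      ((QuotientGroup.quotientMulEquivOfEq hker).trans q)
  obtain ⟨j, hj⟩ := S5515.eq_stabilizer _ ((MulEquiv.subgroupMap e4 ψ.range).symm.trans hH)
  set a := e4 (tOut (ZMod 3)) with hadef
  set b := e4 (iOut (ZMod 3)) with hbdef
  obtain ⟨i, hai, hi⟩ := s4_pairs a b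
    (by rw [hadef, ← map_mul, ← map_mul, Triality.tOut_cube, map_one])
    (fun h => tOut_ne_one (e4.map_eq_one_iff.1 h))
    (by rw [hbdef, ← map_mul, Triality.iOut_sq, map_one])
    (fun h => iOut_ne_one (e4.map_eq_one_iff.1 h))
    (by rw [hadef, hbdef, ← map_mul, ← map_mul, Triality.tit])
  obtain ⟨x, hx⟩ := e4.surjective (Equiv.swap i j)
  induction x using QuotientGroup.induction_on with | _ f =>
  set φ : G →* MulAut P8 := (MulAut.conj f).toMonoidHom.comp φ₀ with hφ
  have hout : ∀ g, e4 (QuotientGroup.mk (φ g)) = Equiv.swap i j * e4 (ψ g) * (Equiv.swap i j)⁻¹ :=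
    fun g => by
    show e4 (QuotientGroup.mk (f * φ₀ g * f⁻¹)) = _
    rw [QuotientGroup.mk_mul, QuotientGroup.mk_mul, QuotientGroup.mk_inv, map_mul, map_mul, map_inv, hx]
    rfl
  have hmem : ∀ o : Cfsg.Out P8, o ∈ ψ.range ↔ e4 o j = j := fun o => by
    rw [← Equiv.Perm.smul_def, ← MulAction.mem_stabilizer_iff, ← hj]
    exact ⟨fun h => ⟨o, h, rfl⟩, fun ⟨o', ho', he⟩ => (e4.injective he) ▸ ho'⟩
  refine ⟨e₀.trans f, φ, fun g l => ?_, fun g => ?_, ?_⟩
  · show f (φ₀ g (f⁻¹ (f (e₀ l)))) = f (e₀ (MulAut.conjNormal g l))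
    rw [show f⁻¹ (f (e₀ l)) = e₀ l from f.symm_apply_apply _, hap]
  · have hfix : e4 (QuotientGroup.mk (φ g)) i = i := by
      rw [hout, Equiv.Perm.mul_apply, Equiv.Perm.mul_apply, Equiv.swap_inv, Equiv.swap_apply_left,
        (hmem _).1 ⟨g, rfl⟩, Equiv.swap_apply_right]
    have key : ∀ c d : ℕ, e4 (QuotientGroup.mk (φ g)) = a ^ c * b ^ d →
        ∃ k : MulAut P8, k ∈ Inn P8 ∧ ∃ c d : ℕ,
          φ g = k * (triality (ZMod 3) ^ c * graphAut (ZMod 3) ^ d) := fun c d h => by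
      refine ⟨φ g * (triality (ZMod 3) ^ c * graphAut (ZMod 3) ^ d)⁻¹, ?_, c, d, by group⟩
      refine (QuotientGroup.eq_one_iff _).1 (e4.injective ?_)
      rw [QuotientGroup.mk_mul, QuotientGroup.mk_inv, map_mul, map_inv, h, QuotientGroup.mk_mul,
        QuotientGroup.mk_pow, QuotientGroup.mk_pow, map_mul, map_pow, map_pow, map_one]
      exact mul_inv_cancel _
    rcases hi _ hfix with h | h | h | h | h | h
    · exact key 0 0 (by simpa using h)
    · exact key 1 0 (by simpa using h)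
    · exact key 2 0 (by simpa [pow_two] using h)
    · exact key 0 1 (by simpa using h)
    · exact key 1 1 (by simpa using h)
    · exact key 2 1 (by simpa [pow_two] using h)
  · have hsa : e4.symm ((Equiv.swap i j)⁻¹ * a * Equiv.swap i j) ∈ ψ.range := by
      rw [hmem, e4.apply_symm_apply, Equiv.Perm.mul_apply, Equiv.Perm.mul_apply, Equiv.swap_inv,
        Equiv.swap_apply_right, hai, Equiv.swap_apply_left]
    obtain ⟨g, hg⟩ := hsa
    have hmk : (QuotientGroup.mk (φ g) : Cfsg.Out P8) = QuotientGroup.mk (triality (ZMod 3)) := by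
      refine e4.injective ?_
      rw [hout, hg, e4.apply_symm_apply]
      show _ = a
      group
    obtain ⟨k, hk⟩ := QuotientGroup.eq.1 hmk
    obtain ⟨l, hl⟩ := (e₀.trans f).surjective k
    have hl' : φ (l : G) = MulAut.conj k := by
      refine MulEquiv.ext fun y => ?_
      obtain ⟨m, rfl⟩ := (e₀.trans f).surjective y
      rw [show φ (l : G) ((e₀.trans f) m) = (e₀.trans f) (MulAut.conjNormal (l : G) m) by
        show f (φ₀ (l : G) (f⁻¹ (f (e₀ m)))) = f (e₀ (MulAut.conjNormal (l : G) m))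
        rw [show f⁻¹ (f (e₀ m)) = e₀ m from f.symm_apply_apply _, hap],
        MulAut.conj_apply, ← hl, ← map_inv, ← map_mul, ← map_mul]
      exact congrArg (e₀.trans f) (Subtype.ext (by simp [MulAut.conjNormal_apply]))
    exact ⟨g * (l : G), by rw [map_mul, hl', hk, mul_inv_cancel_left]⟩

theorem map_conj_image {G : Type*} [Group G] {L : Subgroup G} [L.Normal] {e : L ≃* P8}
    {φ : G →* MulAut P8} (hφ : ∀ g l, φ g (e l) = e (MulAut.conjNormal g l)) (g : G) (A : Subgroup P8) :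
    (A.map (L.subtype.comp e.symm.toMonoidHom)).map (MulAut.conj g).toMonoidHom =
      (A.map (φ g).toMonoidHom).map (L.subtype.comp e.symm.toMonoidHom) := by
  rw [Subgroup.map_map, Subgroup.map_map]
  refine congrArg (fun h => A.map h) (MonoidHom.ext fun x => ?_)
  obtain ⟨l, rfl⟩ := e.surjective x
  show g * ((e.symm (e l) : L) : G) * g⁻¹ = ((e.symm (φ g (e l)) : L) : G)
  rw [hφ, e.symm_apply_apply, e.symm_apply_apply, MulAut.conjNormal_apply]

/-- Seven orbits. -/
theorem exists_seven {G : Type*} [Group G] (L : Subgroup G) [L.Normal] (e₀ : L ≃* P8)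
    (hC : Subgroup.centralizer (L : Set G) ≤ L) (q : G ⧸ L ≃* Equiv.Perm (Fin 3)) :
    ∃ Y : Fin 7 → Subgroup G, (∀ i, Y i ≤ L ∧ Nat.card (Y i) = 3) ∧
      (∀ i j, (∃ g : G, (Y i).map (MulAut.conj g).toMonoidHom = Y j) → i = j) ∧
      ∀ X : Subgroup G, X ≤ L → Nat.card X = 3 →
        ∃ i, ∃ g : G, X.map (MulAut.conj g).toMonoidHom = Y i := by
  obtain ⟨e, φ, hφ, hshape, hτ⟩ := exists_aut_rep L e₀ hC q
  set ι : P8 →* G := L.subtype.comp e.symm.toMonoidHom with hι
  have hιinj : Function.Injective ι := L.subtype_injective.comp e.symm.injective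
  have hιle : ∀ A : Subgroup P8, A.map ι ≤ L := fun A => by
    rintro _ ⟨x, -, rfl⟩
    exact (e.symm x).2
  have hkeep : ∀ g, Keeps (φ g) := fun g => by
    obtain ⟨k, hk, c, d, e'⟩ := hshape g
    rw [e']
    exact keeps_mul (keeps_inner hk) (keeps_mul (keeps_pow keeps_triality c) (keeps_pow keeps_graph d))
  refine ⟨fun i => (sub (orbRep i)).map ι, fun i => ⟨hιle _, ?_⟩, ?_, ?_⟩
  · exact (Nat.card_congr ((sub _).equivMapOfInjective ι hιinj).toEquiv.symm).trans
      (card_sub (orbRep_spec i i.2).1)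
  · rintro i j ⟨g, hg⟩
    rw [map_conj_image hφ] at hg
    have heq := Subgroup.map_injective hιinj hg
    obtain ⟨b, hb, hbo, hbr⟩ := hkeep g _ (orbRep_spec i i.2).1
    rw [heq] at hbr
    have := eq_of_rel (orbRep_spec j j.2).1 hb hbr
    refine Fin.ext ?_
    rw [← (orbRep_spec i i.2).2, ← (orbRep_spec j j.2).2, this, hbo]
  · intro X hXL hX
    have hXe : ((X.subgroupOf L).map e.toMonoidHom).map ι = X := by
      rw [Subgroup.map_map, hι]
      rw [show (L.subtype.comp e.symm.toMonoidHom).comp e.toMonoidHom = L.subtype from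
        MonoidHom.ext fun l => by simp]
      exact (Subgroup.subgroupOf_map_subtype X L).trans (inf_eq_left.2 hXL)
    have hcard : Nat.card ((X.subgroupOf L).map e.toMonoidHom) = 3 := by
      rw [← Nat.card_congr ((Subgroup.equivMapOfInjective _ ι hιinj)).toEquiv.symm, hXe, hX]
    obtain ⟨b, hb, k, hk⟩ := exists_conj_sub _ hcard
    -- a conjugation inside `P8` comes from `G`
    have hinner : ∀ k : P8, MulAut.conj k ∈ φ.range := fun k => by
      obtain ⟨l, rfl⟩ := e.surjective k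
      refine ⟨l, MulEquiv.ext fun y => ?_⟩
      obtain ⟨m, rfl⟩ := e.surjective y
      rw [hφ, MulAut.conj_apply, ← map_inv, ← map_mul, ← map_mul]
      exact congrArg e (Subtype.ext (by simp [MulAut.conjNormal_apply]))
    let GR : Subgroup P8 → Subgroup P8 → Prop := fun A B => ∃ g, A.map (φ g).toMonoidHom = B
    have gtrans : ∀ {A B C}, GR A B → GR B C → GR A C := fun ⟨g, hg⟩ ⟨g', hg'⟩ =>
      ⟨g' * g, by rw [map_mul, map_aut_mul, hg, hg']⟩
    have gsymm : ∀ {A B}, GR A B → GR B A := fun {A B} ⟨g, hg⟩ =>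
      ⟨g⁻¹, by rw [← hg, ← map_aut_mul, ← map_mul, inv_mul_cancel, map_one]; exact Subgroup.map_id A⟩
    have grel : ∀ {A B}, Rel A B → GR A B := fun ⟨k, hk⟩ => by
      obtain ⟨g, hg⟩ := hinner k
      exact ⟨g, by rw [hg]; exact hk⟩
    have gtau : ∀ a < 13, GR (sub a) (sub (tauIdx a)) := fun a ha => by
      obtain ⟨g, hg⟩ := hτ
      exact gtrans ⟨g, by rw [hg]⟩ (grel (sub_triality ha))
    obtain ⟨-, -, hlt, hcases⟩ := orb_facts b hb
    have hr := (orbRep_spec _ hlt).1
    have hrb : GR (sub (orbRep (orbIdx b))) (sub b) := by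
      rcases hcases with h | h | h <;> rw [congrArg sub h]
      · exact grel (Rel.refl _)
      · exact gtau _ hr
      · exact gtrans (gtau _ hr) (gtau _ (tauIdx_lt hr))
    obtain ⟨g, hg⟩ := gtrans (grel ⟨k, hk⟩) (gsymm hrb)
    refine ⟨⟨orbIdx b, hlt⟩, g, ?_⟩
    rw [← hXe, map_conj_image hφ, hg]

end Cfsg.Agent.OEightThree
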