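import Cfsg.Agent.Lib.OEightThree.Setup
import Mathlib.Algebra.Module.ZMod

/-
Elements of order three of `C`: on each factor of `Q` they are trivial modulo `⟨z⟩` or a transvection,
and on `Q1` they are never trivial.
-/

set_option autoImplicit false
set_option maxRecDepth 10000

namespace Cfsg.Agent.OEightThree.Setup

open scoped commutatorElement

variable {G : Type*} [Group G] [Finite G] (U : Setup G)

/-- A pair `b, a = [b,s]` in a factor. -/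
structure IsPair (W : Subgroup G) (s a b : G) : Prop where
  mem_a : a ∈ W
  mem_b : b ∈ W
  step : ⁅b, s⁆⁻¹ * a ∈ U.Zs
  fixed : ⁅a, s⁆ ∈ U.Zs
  ne : U.f b a ≠ 0

theorem commutator_mem {s x : G} (hs : U.InC s) (hx : x ∈ U.Q) : ⁅x, s⁆ ∈ U.Q := by
  rw [show ⁅x, s⁆ = x * (s * x⁻¹ * s⁻¹) by simp only [commutatorElement_def]; group]
  exact mul_mem hx (U.normal s hs _ (inv_mem hx))

theorem commutator_mul_mod {s x y : G} (hs : U.InC s) (hx : x ∈ U.Q) (hy : y ∈ U.Q) :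
    (⁅x, s⁆ * ⁅y, s⁆)⁻¹ * ⁅x * y, s⁆ ∈ U.Zs := by
  rw [show ⁅x * y, s⁆ = x * ⁅y, s⁆ * x⁻¹ * ⁅x, s⁆ by simp only [commutatorElement_def]; group]
  have hxs := U.commutator_mem hs hx
  have hys := U.commutator_mem hs hy
  rw [show x * ⁅y, s⁆ * x⁻¹ * ⁅x, s⁆ = ⁅x, ⁅y, s⁆⁆ * (⁅⁅y, s⁆, ⁅x, s⁆⁆ * (⁅x, s⁆ * ⁅y, s⁆)) by
    simp only [commutatorElement_def (g₁ := x) (g₂ := ⁅y, s⁆), commutatorElement_def (g₁ := ⁅y, s⁆) (g₂ := ⁅x, s⁆)]
    group]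
  have hc : ⁅x, ⁅y, s⁆⁆ * ⁅⁅y, s⁆, ⁅x, s⁆⁆ ∈ U.Zs := mul_mem (U.comm _ hx _ hys) (U.comm _ hys _ hxs)
  rw [← mul_assoc ⁅x, ⁅y, s⁆⁆, ← U.Zs_central hc (mul_mem hxs hys), inv_mul_cancel_left]
  exact hc

theorem card_sup_zpowers {b : G} (hb : b ∈ U.Q) (hbz : b ∉ U.Zs) : 9 ≤ Nat.card ↥(U.Zs ⊔ Subgroup.zpowers b) := by
  have hle : U.Zs ⊔ Subgroup.zpowers b ≤ U.Q := sup_le U.Zs_le (Subgroup.zpowers_le.2 hb)
  have h3 : IsPGroup 3 ↥(U.Zs ⊔ Subgroup.zpowers b) := fun x =>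
    ⟨1, Subtype.ext (by simpa using U.exp x (hle x.2))⟩
  have : Fact (Nat.Prime 3) := ⟨Nat.prime_three⟩
  obtain ⟨k, hk⟩ := IsPGroup.iff_card.1 h3
  rw [hk]
  have h1 : 3 ≤ 3 ^ k := by
    rw [← hk, ← U.card_Zs]
    exact Subgroup.card_le_of_le le_sup_left
  rcases k with - | - | k
  · norm_num at h1
  · refine absurd (Subgroup.eq_of_le_of_card_ge (le_sup_left : U.Zs ≤ U.Zs ⊔ Subgroup.zpowers b) ?_) fun h => hbz ?_
    · rw [hk, U.card_Zs]; norm_num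
    · rw [h]; exact Subgroup.mem_sup_right (Subgroup.mem_zpowers b)
  · calc (9 : ℕ) = 3 ^ 2 := by norm_num
      _ ≤ 3 ^ (k + 2) := Nat.pow_le_pow_right (by norm_num) (by omega)

theorem centralizer_in_factor {W : Subgroup G} (hWQ : W ≤ U.Q) (hW : Nat.card W = 27) (hZW : U.Zs ≤ W)
    (hna : ∀ a ∈ W, (∀ r ∈ W, U.f a r = 0) → a ∈ U.Zs) {b x : G} (hb : b ∈ W) (hbz : b ∉ U.Zs) (hx : x ∈ W)
    (h : U.f b x = 0) : ∃ j : ℕ, (b ^ j)⁻¹ * x ∈ U.Zs := by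
  have : Fact (Nat.Prime 3) := ⟨Nat.prime_three⟩
  set L := W ⊓ Subgroup.centralizer ({b} : Set G) with hL
  have hle : U.Zs ⊔ Subgroup.zpowers b ≤ L := sup_le (le_inf hZW fun a ha =>
    Subgroup.mem_centralizer_singleton_iff.2 (U.Zs_central ha (hWQ hb)).symm)
    (Subgroup.zpowers_le.2 ⟨hb, Subgroup.mem_centralizer_singleton_iff.2 rfl⟩)
  have hL9 : Nat.card L ≤ 9 := by
    have hd : Nat.card L ∣ 3 ^ 3 := by
      have := Subgroup.card_dvd_of_le (inf_le_left : L ≤ W)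
      rwa [hW] at this
    obtain ⟨k, hk, hk'⟩ := (Nat.dvd_prime_pow Nat.prime_three).1 hd
    rw [hk']
    rcases eq_or_lt_of_le hk with rfl | hk
    · exfalso
      have := Subgroup.eq_of_le_of_card_ge (inf_le_left : L ≤ W) (by rw [hW, hk']; norm_num)
      refine hbz (hna b hb fun r hr => ?_)
      rw [← this] at hr
      exact (U.f_zero (hWQ hb) (hWQ hr.1)).2 (Subgroup.mem_centralizer_singleton_iff.1 hr.2).symm
    · calc 3 ^ k ≤ 3 ^ 2 := Nat.pow_le_pow_right (by norm_num) (by omega)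
        _ = 9 := by norm_num
  have heq := Subgroup.eq_of_le_of_card_ge hle (hL9.trans (U.card_sup_zpowers (hWQ hb) hbz))
  have hxL : x ∈ L := ⟨hx, Subgroup.mem_centralizer_singleton_iff.2 ((U.f_zero (hWQ hb) (hWQ hx)).1 h).symm⟩
  rw [← heq] at hxL
  have hN : Subgroup.zpowers b ≤ Subgroup.normalizer (U.Zs : Set G) := Subgroup.zpowers_le.2
    (Subgroup.mem_normalizer_iff.2 fun a => ⟨fun ha => by
      rw [U.Zs_central ha (hWQ hb), mul_inv_cancel_right]; exact ha, fun ha => by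
      have := U.Zs_central ha (inv_mem (hWQ hb))
      rw [show a = b⁻¹ * (b * a * b⁻¹) * b by group, this, inv_mul_cancel_right]
      exact ha⟩)
  rw [sup_comm, ← SetLike.mem_coe, Subgroup.coe_mul_of_left_le_normalizer_right _ _ hN] at hxL
  obtain ⟨u, hu, a, ha, rfl⟩ := Set.mem_mul.1 hxL
  obtain ⟨j, rfl⟩ := (mem_powers_iff_mem_zpowers.2 hu : u ∈ Submonoid.powers b)
  exact ⟨j, by rwa [inv_mul_cancel_left]⟩

theorem exists_pair_or_triv {W : Subgroup G} (hWQ : W ≤ U.Q) (hW : Nat.card W = 27) (hZW : U.Zs ≤ W)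
    (hna : ∀ a ∈ W, (∀ r ∈ W, U.f a r = 0) → a ∈ U.Zs) {s : G} (hs : U.InC s) (hs3 : s ^ 3 ∈ U.Q)
    (hnW : ∀ x ∈ W, s * x * s⁻¹ ∈ W) :
    (∀ x ∈ W, ⁅x, s⁆ ∈ U.Zs) ∨ ∃ a b, U.IsPair W s a b := by
  classical
  by_cases htriv : ∀ x ∈ W, ⁅x, s⁆ ∈ U.Zs
  · exact Or.inl htriv
  right
  have hcW : ∀ x ∈ W, ⁅x, s⁆ ∈ W := fun x hx => by
    rw [show ⁅x, s⁆ = x * (s * x⁻¹ * s⁻¹) by simp only [commutatorElement_def]; group]
    exact mul_mem hx (hnW _ (inv_mem hx))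
  -- the third iterate is trivial
  have h3 : ∀ x ∈ W, ⁅⁅⁅x, s⁆, s⁆, s⁆ ∈ U.Zs := by
    intro x hx
    have : (U.Zs.subgroupOf U.Q).Normal := ⟨fun n hn g => by
      rw [Subgroup.mem_subgroupOf] at hn ⊢
      rw [Subgroup.coe_mul, Subgroup.coe_mul, Subgroup.coe_inv, U.Zs_central hn g.2, mul_inv_cancel_right]
      exact hn⟩
    let mk := QuotientGroup.mk' (U.Zs.subgroupOf U.Q)
    have hcomm : ∀ a b, mk a * mk b = mk b * mk a := fun a b => by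
      rw [← commutatorElement_eq_one_iff_mul_comm, ← map_commutatorElement]
      exact (QuotientGroup.eq_one_iff _).2 (Subgroup.mem_subgroupOf.2 (U.comm _ a.2 _ b.2))
    let σ : ↥U.Q →* ↥U.Q := MonoidHom.mk' (fun a => ⟨s * a * s⁻¹, U.normal s hs a a.2⟩)
      fun a b => Subtype.ext (by simp [mul_assoc])
    let X : ↥U.Q := ⟨x, hWQ hx⟩
    have hσ3 : mk (σ (σ (σ X))) = mk X := by
      rw [QuotientGroup.mk'_eq_mk']
      refine ⟨(σ (σ (σ X)))⁻¹ * X, ?_, mul_inv_cancel_left _ _⟩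
      rw [Subgroup.mem_subgroupOf]
      show (s * (s * (s * x * s⁻¹) * s⁻¹) * s⁻¹)⁻¹ * x ∈ U.Zs
      rw [show (s * (s * (s * x * s⁻¹) * s⁻¹) * s⁻¹)⁻¹ * x = ⁅s ^ 3, x⁻¹⁆ by
        simp only [commutatorElement_def, show s ^ 3 = s * s * s by rw [pow_three, mul_assoc]]; group; simp [zpow_ofNat, pow_three, mul_assoc]]
      exact U.comm _ hs3 _ (inv_mem (hWQ hx))
    let φ : ↥U.Q → ↥U.Q := fun a => a * (σ a)⁻¹
    have hφ : ∀ a : ↥U.Q, ((φ a : ↥U.Q) : G) = ⁅(a : G), s⁆ := fun a => by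
      simp [φ, σ, commutatorElement_def, mul_assoc]
    have hgoal : mk (φ (φ (φ X))) = 1 := by
      let _ : CommGroup (↥U.Q ⧸ U.Zs.subgroupOf U.Q) := { (inferInstance : Group _) with
        mul_comm := fun a b => by
          obtain ⟨a, rfl⟩ := QuotientGroup.mk'_surjective _ a
          obtain ⟨b, rfl⟩ := QuotientGroup.mk'_surjective _ b
          exact hcomm a b }
      have h1 : ∀ a, mk a ^ 3 = 1 := fun a => by
        rw [← map_pow]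
        exact (QuotientGroup.eq_one_iff _).2 (by
          rw [Subgroup.mem_subgroupOf, Subgroup.coe_pow, U.exp _ a.2]; exact one_mem _)
      calc mk (φ (φ (φ X))) = mk X * ((mk (σ X)) ^ 3)⁻¹ * (mk (σ (σ X))) ^ 3 * (mk (σ (σ (σ X))))⁻¹ := by
            simp only [φ, map_mul, map_inv]
            apply Additive.ofMul.injective
            simp only [ofMul_mul, ofMul_inv, ofMul_pow]
            abel
        _ = 1 := by rw [h1, h1, hσ3]; simp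
    have h' := Subgroup.mem_subgroupOf.1 ((QuotientGroup.eq_one_iff _).1 hgoal)
    rwa [hφ, hφ, hφ] at h'
  obtain ⟨b, hb, hb1, hb2⟩ : ∃ b ∈ W, ⁅b, s⁆ ∉ U.Zs ∧ ⁅⁅b, s⁆, s⁆ ∈ U.Zs := by
    push Not at htriv
    obtain ⟨x, hx, hx1⟩ := htriv
    by_cases hx2 : ⁅⁅x, s⁆, s⁆ ∈ U.Zs
    · exact ⟨x, hx, hx1, hx2⟩
    · exact ⟨_, hcW x hx, hx2, h3 x hx⟩
  refine ⟨⁅b, s⁆, b, hcW b hb, hb, by rw [inv_mul_cancel]; exact one_mem _, hb2, fun h0 => ?_⟩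
  have hbz : b ∉ U.Zs := fun h => hb1 (by
    rw [commutatorElement_eq_one_iff_mul_comm.2 (U.Zs_C h hs).symm]; exact one_mem _)
  obtain ⟨j, hj⟩ := U.centralizer_in_factor hWQ hW hZW hna hb hbz (hcW b hb) h0
  -- `φ b ≡ b ^ j`, so `φ φ b ≡ (φ b) ^ j`
  have hcz : ∀ u v : G, u ∈ U.Q → v ∈ U.Q → u⁻¹ * v ∈ U.Zs → (⁅u, s⁆ ∈ U.Zs ↔ ⁅v, s⁆ ∈ U.Zs) := by
    intro u v hu hv h
    have hcz' : ⁅u * (u⁻¹ * v), s⁆ = ⁅u, s⁆ := by
      have := U.Zs_C h hs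
      simp only [commutatorElement_def]
      calc u * (u⁻¹ * v) * s * (u * (u⁻¹ * v))⁻¹ * s⁻¹ = u * ((u⁻¹ * v) * s) * (u⁻¹ * v)⁻¹ * u⁻¹ * s⁻¹ := by group
        _ = _ := by rw [← this]; group
    rw [mul_inv_cancel_left] at hcz'
    rw [hcz']
  have hpow : ∀ n : ℕ, (⁅b, s⁆ ^ n)⁻¹ * ⁅b ^ n, s⁆ ∈ U.Zs := by
    intro n
    induction n with
    | zero => simp
    | succ n ih =>
      have h1 := U.commutator_mul_mod hs (pow_mem (hWQ hb) n) (hWQ hb)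
      rw [show (⁅b, s⁆ ^ (n + 1))⁻¹ * ⁅b ^ (n + 1), s⁆ = ⁅b, s⁆⁻¹ * ((⁅b, s⁆ ^ n)⁻¹ * ⁅b ^ n, s⁆) * ⁅b, s⁆ *
        ((⁅b ^ n, s⁆ * ⁅b, s⁆)⁻¹ * ⁅b ^ n * b, s⁆) by rw [pow_succ b, pow_succ]; group]
      refine mul_mem ?_ h1
      rw [U.Zs_central ih (inv_mem (U.commutator_mem hs (hWQ hb))), inv_mul_cancel_right]
      exact ih
  have h1 : ⁅b ^ j, s⁆ ∈ U.Zs :=
    (hcz _ _ (pow_mem (hWQ hb) j) (U.commutator_mem hs (hWQ hb)) hj).2 hb2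
  have h2 : ⁅b, s⁆ ^ j ∈ U.Zs := by
    have := mul_mem h1 (inv_mem (hpow j))
    rwa [mul_inv_rev, inv_inv, ← mul_assoc, mul_inv_cancel, one_mul] at this
  by_cases hj3 : 3 ∣ j
  · obtain ⟨k, rfl⟩ := hj3
    rw [pow_mul, U.exp _ (hWQ hb), one_pow, inv_one, one_mul] at hj
    exact hb1 hj
  · have : Fact (Nat.Prime 3) := ⟨Nat.prime_three⟩
    apply hb1
    have hco : Nat.Coprime (orderOf ⁅b, s⁆) j :=
      Nat.Coprime.coprime_dvd_left (orderOf_dvd_of_pow_eq_one (U.exp _ (U.commutator_mem hs (hWQ hb))))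
        (Nat.prime_three.coprime_iff_not_dvd.2 hj3)
    obtain ⟨m, hm⟩ := exists_pow_eq_self_of_coprime hco.symm
    rw [← hm]
    exact pow_mem h2 m

theorem factor_Q1 : U.Q1 ≤ U.Q ∧ Nat.card U.Q1 = 27 ∧ U.Zs ≤ U.Q1 ∧
    ∀ a ∈ U.Q1, (∀ r ∈ U.Q1, U.f a r = 0) → a ∈ U.Zs :=
  ⟨inf_le_left, U.card_Q1, U.Zs_le_Q1, fun a ha h => U.mem_Zs_of_f ha.1 fun q hq => by
    obtain ⟨u, hu, v, hv, rfl⟩ := U.exists_split hq
    rw [U.f_mul_right ha.1 hu.1 hv.1, h u hu, (U.mem_Q1.1 ha).2 v hv, add_zero]⟩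

theorem factor_Q2 : U.Q2 ≤ U.Q ∧ Nat.card U.Q2 = 27 ∧ U.Zs ≤ U.Q2 ∧
    ∀ a ∈ U.Q2, (∀ r ∈ U.Q2, U.f a r = 0) → a ∈ U.Zs :=
  ⟨inf_le_left, U.t_card, U.Zs_le_Q2, fun a ha h => U.mem_Zs_of_f ha.1 fun q hq => by
    obtain ⟨u, hu, v, hv, rfl⟩ := U.exists_split hq
    rw [U.f_mul_right ha.1 hu.1 hv.1, h v hv, U.f_swap hu.1 ha.1, (U.mem_Q1.1 hu).2 a ha]
    simp⟩

theorem sl23_comm_sq : ∀ S : SL23, S ^ 3 = 1 → S ≠ 1 →
    (quI * S * quI⁻¹ * S⁻¹) * (quI * S * quI⁻¹ * S⁻¹) = negI := by decide +kernel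

theorem not_triv_Q1 {s : G} (hs : U.InC s) (hε : U.ε s = 1) (h3 : (U.π s) ^ 3 = 1) (h1 : U.π s ≠ 1) :
    ∃ x ∈ U.Q1, ⁅x, s⁆ ∉ U.Zs := by
  by_contra hcon
  push Not at hcon
  let Tr : G → Prop := fun g => U.InC g ∧ ∀ x ∈ U.Q1, ⁅x, g⁆ ∈ U.Zs
  have hmul : ∀ g h, Tr g → Tr h → Tr (g * h) := fun g h hg hh => by
    refine ⟨U.inC_mul hg.1 hh.1, fun x hx => ?_⟩
    rw [show ⁅x, g * h⁆ = ⁅x, g⁆ * (g * ⁅x, h⁆ * g⁻¹) by simp only [commutatorElement_def]; group,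
      U.Zs_C (hh.2 x hx) hg.1, mul_inv_cancel_right]
    exact mul_mem (hg.2 x hx) (hh.2 x hx)
  have hinv : ∀ g, Tr g → Tr g⁻¹ := fun g hg => by
    refine ⟨U.inC_inv hg.1, fun x hx => ?_⟩
    rw [show ⁅x, g⁻¹⁆ = g⁻¹ * ⁅x, g⁆⁻¹ * g by simp only [commutatorElement_def]; group,
      U.Zs_C (inv_mem (hg.2 x hx)) (U.inC_inv hg.1), inv_mul_cancel_right]
    exact inv_mem (hg.2 x hx)
  have hconj : ∀ k g, U.InC k → Tr g → Tr (k * g * k⁻¹) := fun k g hk hg => by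
    refine ⟨U.inC_mul (U.inC_mul hk hg.1) (U.inC_inv hk), fun x hx => ?_⟩
    have h := hg.2 _ (by simpa using U.Q1_normal (U.inC_inv hk) hx : k⁻¹ * x * k ∈ U.Q1)
    rw [show ⁅x, k * g * k⁻¹⁆ = k * ⁅k⁻¹ * x * k, g⁆ * k⁻¹ by simp only [commutatorElement_def]; group,
      U.Zs_C h hk, mul_inv_cancel_right]
    exact h
  have hTs : Tr s := ⟨hs, hcon⟩
  obtain ⟨k, hk, hkπ, hkε⟩ := U.surj quI
  set c := k * s * k⁻¹ * s⁻¹ with hc
  have hTc : Tr c := hmul _ _ (hconj k s hk hTs) (hinv s hTs)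
  have hcπ : U.π (c * c) = negI ∧ U.ε (c * c) = 1 := by
    have hks := U.inC_mul hk hs
    have hksk := U.inC_mul hks (U.inC_inv hk)
    rw [U.π_mul _ _ hTc.1 hTc.1, U.ε_mul _ _ hTc.1 hTc.1, hc, U.π_mul _ _ hksk (U.inC_inv hs),
      U.ε_mul _ _ hksk (U.inC_inv hs), U.π_mul _ _ hks (U.inC_inv hk), U.ε_mul _ _ hks (U.inC_inv hk),
      U.π_mul _ _ hk hs, U.ε_mul _ _ hk hs, U.π_inv hk, U.ε_inv hk, U.π_inv hs, U.ε_inv hs, hkπ, hkε, hε]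
    exact ⟨sl23_comm_sq _ h3 h1, by simp⟩
  have hTcc := hmul c c hTc hTc
  have hq := U.mem_of_eq hTcc.1 U.inC_t (hcπ.1.trans U.t_π.symm) (hcπ.2.trans U.t_ε.symm)
  have hTt : Tr U.t := by
    have := hmul _ _ hTcc ⟨U.inC_Q hq, fun x hx => U.comm x hx.1 _ hq⟩
    rwa [mul_inv_cancel_left] at this
  have hall : U.Q1 ≤ U.Zs := fun x hx => by
    have h := mul_mem (hTt.2 x hx) (U.t_inverts hx)
    have hz := U.Zs_central (U.t_inverts hx) hx.1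
    have e : ⁅x, U.t⁆ = x * (U.t * x * U.t)⁻¹ := by
      simp only [commutatorElement_def, mul_inv_rev, U.t_inv]; group
    have h2 : x * x ∈ U.Zs := by
      rw [e] at h
      rw [show x * x = x * (U.t * x * U.t)⁻¹ * ((U.t * x * U.t) * x) by group]
      refine mul_mem (hTt.2 x hx |> fun h' => by rwa [e] at h') ?_
      rw [show U.t * x * U.t * x = x⁻¹ * (x * (U.t * x * U.t)) * x by group,
        U.Zs_central (U.t_inverts hx) (inv_mem hx.1), inv_mul_cancel_right]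
      exact U.t_inverts hx
    have : x = (x * x)⁻¹ * x ^ 3 := by rw [pow_three]; group
    rw [this, U.exp _ hx.1, mul_one]
    exact inv_mem h2
  have := Subgroup.card_le_of_le hall
  rw [U.card_Q1, U.card_Zs] at this
  norm_num at this

theorem exists_pair_Q1 {s : G} (hs : U.InC s) (hε : U.ε s = 1) (h3 : (U.π s) ^ 3 = 1) (h1 : U.π s ≠ 1) :
    ∃ a b, U.IsPair U.Q1 s a b := by
  have hs3 : s ^ 3 ∈ U.Q := by
    rw [← U.ker _ (U.inC_pow hs 3), U.π_pow hs, U.ε_pow hs, h3, hε, one_pow]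
    exact ⟨rfl, rfl⟩
  obtain ⟨h27, hQ, hZ, hna⟩ := U.factor_Q1
  refine (U.exists_pair_or_triv h27 hQ hZ hna hs hs3 fun x hx => U.Q1_normal hs hx).resolve_left fun h => ?_
  obtain ⟨x, hx, hx'⟩ := U.not_triv_Q1 hs hε h3 h1
  exact hx' (h x hx)

/-- The commutator map is linear: its pairing with the first element of a pair and with its partner. -/
theorem pair_formula {W : Subgroup G} (hW : W ≤ U.Q) (h27 : Nat.card W = 27) (hZW : U.Zs ≤ W)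
    (hna : ∀ a ∈ W, (∀ r ∈ W, U.f a r = 0) → a ∈ U.Zs) {s a b : G} (hs : U.InC s) (h : U.IsPair W s a b)
    {x : G} (hx : x ∈ W) : U.f b ⁅x, s⁆ = U.f x a ∧ U.f a ⁅x, s⁆ = 0 := by
  have hbz : b ∉ U.Zs := fun hb => h.ne (U.f_Zs_left hb (hW h.mem_a))
  set i := (U.f b x) * (U.f b a) with hi
  set x' := (a ^ i.val)⁻¹ * x with hx'
  have hx'W : x' ∈ W := mul_mem (inv_mem (pow_mem h.mem_a _)) hx
  have h0 : U.f b x' = 0 := by
    rw [hx', U.f_mul_right (hW h.mem_b) (inv_mem (pow_mem (hW h.mem_a) _)) (hW hx),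
      U.f_inv_right (hW h.mem_b) (pow_mem (hW h.mem_a) _), U.f_pow_right (hW h.mem_b) (hW h.mem_a),
      ZMod.natCast_zmod_val, hi]
    have key : ∀ u v : ZMod 3, v ≠ 0 → -(u * v * v) + u = 0 := by decide
    exact key _ _ h.ne
  obtain ⟨j, hj⟩ := U.centralizer_in_factor hW h27 hZW hna h.mem_b hbz hx'W h0
  have hxe : x = a ^ i.val * (b ^ j * ((b ^ j)⁻¹ * x')) := by rw [hx']; group
  have hcQ := fun {u : G} (hu : u ∈ U.Q) => U.commutator_mem hs hu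
  have hZs : ∀ u ∈ U.Zs, ⁅u, s⁆ = 1 := fun u hu =>
    commutatorElement_eq_one_iff_mul_comm.2 (U.Zs_C hu hs).symm
  have hfc : ∀ c ∈ U.Q, ∀ u ∈ U.Q, ∀ v ∈ U.Q, U.f c ⁅u * v, s⁆ = U.f c ⁅u, s⁆ + U.f c ⁅v, s⁆ := by
    intro c hc u hu v hv
    rw [← U.f_mul_right hc (hcQ hu) (hcQ hv)]
    exact U.f_congr_right hc (mul_mem (hcQ hu) (hcQ hv)) (U.commutator_mul_mod hs hu hv)
  have hfp : ∀ c ∈ U.Q, ∀ u ∈ U.Q, ∀ n : ℕ, U.f c ⁅u ^ n, s⁆ = n * U.f c ⁅u, s⁆ := by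
    intro c hc u hu n
    induction n with
    | zero => simp [U.f_Zs_right hc (one_mem _)]
    | succ n ih => rw [pow_succ, hfc c hc _ (pow_mem hu n) u hu, ih]; push_cast; ring
  have hval : ∀ c ∈ U.Q, U.f c ⁅x, s⁆ = (j : ZMod 3) * U.f c a := by
    intro c hc
    have hz' : (b ^ j)⁻¹ * x' ∈ U.Q := U.Zs_le hj
    rw [hxe, hfc c hc _ (pow_mem (hW h.mem_a) _) _ (mul_mem (pow_mem (hW h.mem_b) _) hz'),
      hfc c hc _ (pow_mem (hW h.mem_b) _) _ hz', hfp c hc a (hW h.mem_a), hfp c hc b (hW h.mem_b), hZs _ hj,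
      U.f_Zs_right hc h.fixed, U.f_Zs_right hc (one_mem _), ← U.f_congr_right hc (hcQ (hW h.mem_b)) h.step]
    ring
  refine ⟨?_, by rw [hval a (hW h.mem_a), U.f_self (hW h.mem_a), mul_zero]⟩
  have hz' : (b ^ j)⁻¹ * x' ∈ U.Q := U.Zs_le hj
  rw [hval b (hW h.mem_b), hxe, U.f_mul_left (pow_mem (hW h.mem_a) _) (mul_mem (pow_mem (hW h.mem_b) _) hz') (hW h.mem_a),
    U.f_mul_left (pow_mem (hW h.mem_b) _) hz' (hW h.mem_a), U.f_pow_left (hW h.mem_a) (hW h.mem_a),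
    U.f_pow_left (hW h.mem_b) (hW h.mem_a), U.f_self (hW h.mem_a), U.f_Zs_left hj (hW h.mem_a)]
  ring

end Cfsg.Agent.OEightThree.Setup
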