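import Cfsg.Agent.Lib.OEightThree.PairHyp
import Cfsg.Agent.Lib.OEightThree.Local
import Cfsg.Agent.Lib.Coprime.Factorization

/-
Basic facts on the pair group (helper3, S3372): the torus `T`, the three quaternion pieces, the
centralisers of the elements of `T`, the subgroups of order prime to three normalised by `T`.
-/

set_option autoImplicit false

namespace Cfsg.Agent.OEightThree

open Subgroup
open scoped Pointwise

/-- A subgroup of order `p ^ n` whose normaliser has no `p ^ (n + 1)` in its order is a Sylow subgroup. -/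
theorem exists_sylow_of_normalizer {G : Type*} [Group G] [Finite G] {p n : ℕ} [Fact p.Prime]
    (A : Subgroup G) (hA : Nat.card A = p ^ n)
    (hN : ¬ p ^ (n + 1) ∣ Nat.card (normalizer (A : Set G))) :
    ∃ P : Sylow p G, (P : Subgroup G) = A := by
  obtain ⟨P, hP⟩ := (IsPGroup.of_card hA).exists_le_sylow
  refine ⟨P, (eq_of_le_of_card_ge hP ?_).symm⟩
  obtain ⟨k, hk⟩ := IsPGroup.iff_card.1 P.2
  have hd := card_subgroup_dvd_card (P : Subgroup G)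
  rw [hk] at hd
  rw [hA, hk]
  rcases le_or_gt k n with h | h
  · exact Nat.pow_le_pow_right (Fact.out : p.Prime).pos h
  · exact absurd (Sylow.prime_pow_dvd_card_normalizer (dvd_trans (pow_dvd_pow p h) hd) hA) hN

/-- `u * a` has order prime to three only if `a` is trivial. -/
theorem eq_one_of_mul_pow_eq_one {G : Type*} [Group G] {R : Subgroup G} {u a : G} (hu : u ∈ R)
    (haR : ∀ i : ℕ, ∀ r ∈ R, a ^ i * r * (a ^ i)⁻¹ ∈ R) (ha3 : a ^ 3 = 1)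
    (hR : ∀ r ∈ R, r ^ 4 = 1) {n : ℕ} (hn : n.Coprime 3) (hx : (u * a) ^ n = 1) : a = 1 := by
  have key : ∀ k : ℕ, ∃ r ∈ R, (u * a) ^ k = r * a ^ k := by
    intro k
    induction k with
    | zero => exact ⟨1, one_mem R, by simp⟩
    | succ k ih =>
      obtain ⟨r, hr, he⟩ := ih
      refine ⟨r * (a ^ k * u * (a ^ k)⁻¹), mul_mem hr (haR k u hu), ?_⟩
      rw [pow_succ, he, pow_succ]
      group
  obtain ⟨r, hr, he⟩ := key n
  rw [hx] at he
  have haR' : a ^ n ∈ R := by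
    rw [eq_comm, mul_eq_one_iff_inv_eq] at he
    exact he ▸ inv_mem hr
  have h1 : (a ^ n) ^ 4 = 1 := hR _ haR'
  rw [← pow_mul] at h1
  have h2 := Nat.dvd_gcd (orderOf_dvd_of_pow_eq_one h1) (orderOf_dvd_of_pow_eq_one ha3)
  rw [(Nat.Coprime.mul_left hn (by norm_num : Nat.Coprime 4 3))] at h2
  exact orderOf_eq_one_iff.1 (Nat.dvd_one.1 h2)

namespace PairHyp

variable {X : Type*} [Group X] [Finite X] (H : PairHyp X)

/-- The torus. -/
abbrev T : Subgroup X := closure {H.c1, H.c3}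

/-- The central subgroup of order two. -/
abbrev Z : Subgroup X := zpowers H.t

/-- The element centralising `Rp`. -/
abbrev dp : X := H.c1 * H.c3

/-- The element centralising `Rm`. -/
abbrev dm : X := H.c1⁻¹ * H.c3

/-- The group generated by the involutions. -/
abbrev E : Subgroup X := closure {H.t, H.σ, H.s}

theorem c1_mem : H.c1 ∈ H.T := subset_closure (by simp)

theorem c3_mem : H.c3 ∈ H.T := subset_closure (by simp)

theorem dp_mem : H.dp ∈ H.T := mul_mem H.c1_mem H.c3_mem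

theorem dm_mem : H.dm ∈ H.T := mul_mem (inv_mem H.c1_mem) H.c3_mem

theorem σ_inv : H.σ⁻¹ = H.σ := inv_eq_of_mul_eq_one_right H.σ_sq

theorem s_inv : H.s⁻¹ = H.s := inv_eq_of_mul_eq_one_right H.s_sq

theorem c1_inv : H.c1⁻¹ = H.c1 ^ 2 := inv_eq_of_mul_eq_one_right (by rw [← pow_succ', H.c1_cube])

theorem c3_inv : H.c3⁻¹ = H.c3 ^ 2 := inv_eq_of_mul_eq_one_right (by rw [← pow_succ', H.c3_cube])

theorem mem_Z {z : X} (hz : z ∈ H.Z) : z = 1 ∨ z = H.t := by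
  obtain ⟨i, rfl⟩ := mem_zpowers_iff.1 hz
  rcases Int.even_or_odd' i with ⟨k, rfl | rfl⟩
  · exact Or.inl (by rw [zpow_mul, zpow_ofNat, pow_two, H.t_sq, one_zpow])
  · exact Or.inr (by rw [zpow_add_one, zpow_mul, zpow_ofNat, pow_two, H.t_sq, one_zpow, one_mul])

theorem t_mem : H.t ∈ H.Z := mem_zpowers _

theorem Z_comm {z : X} (hz : z ∈ H.Z) (g : X) : Commute z g := commute_of_mem_zpowers H.t_central hz g

theorem Z_sq {z : X} (hz : z ∈ H.Z) : z * z = 1 := sq_of_mem_zpowers H.t_sq hz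

theorem card_Z : Nat.card H.Z = 2 := by
  rw [Nat.card_zpowers]
  exact orderOf_eq_prime (by rw [pow_two, H.t_sq]) H.t_ne

theorem Z_normal : H.Z.Normal := ⟨fun z hz g => by
  rw [← (H.Z_comm hz g).eq, mul_inv_cancel_right]; exact hz⟩

theorem mem_T {a : X} (ha : a ∈ H.T) : ∃ i j : ℕ, i < 3 ∧ j < 3 ∧ a = H.c1 ^ i * H.c3 ^ j := by
  have hmod : ∀ i j : ℕ, ∃ i' j' : ℕ, i' < 3 ∧ j' < 3 ∧ H.c1 ^ i * H.c3 ^ j = H.c1 ^ i' * H.c3 ^ j' :=
    fun i j => ⟨i % 3, j % 3, Nat.mod_lt _ (by norm_num), Nat.mod_lt _ (by norm_num), by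
      rw [← pow_eq_pow_mod i H.c1_cube, ← pow_eq_pow_mod j H.c3_cube]⟩
  induction ha using closure_induction with
  | mem x hx =>
    rcases hx with rfl | rfl
    · exact ⟨1, 0, by norm_num, by norm_num, by simp⟩
    · exact ⟨0, 1, by norm_num, by norm_num, by simp⟩
  | one => exact ⟨0, 0, by norm_num, by norm_num, by simp⟩
  | mul x y _ _ hx hy =>
    obtain ⟨i, j, -, -, rfl⟩ := hx
    obtain ⟨k, l, -, -, rfl⟩ := hy
    obtain ⟨i', j', hi, hj, e⟩ := hmod (i + k) (j + l)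
    refine ⟨i', j', hi, hj, ?_⟩
    rw [← e, pow_add, pow_add]
    calc H.c1 ^ i * H.c3 ^ j * (H.c1 ^ k * H.c3 ^ l) = H.c1 ^ i * (H.c3 ^ j * H.c1 ^ k) * H.c3 ^ l := by
          group
      _ = H.c1 ^ i * H.c1 ^ k * (H.c3 ^ j * H.c3 ^ l) := by
          rw [((H.c_comm.symm.pow_left j).pow_right k).eq]; group
  | inv x _ hx =>
    obtain ⟨i, j, -, -, rfl⟩ := hx
    obtain ⟨i', j', hi, hj, e⟩ := hmod (2 * i) (2 * j)
    refine ⟨i', j', hi, hj, ?_⟩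
    rw [← e, mul_inv_rev, ← inv_pow, ← inv_pow, c1_inv, c3_inv, ← pow_mul, ← pow_mul,
      ((H.c_comm.symm.pow_left _).pow_right _).eq]

theorem T_comm {a b : X} (ha : a ∈ H.T) (hb : b ∈ H.T) : Commute a b := by
  obtain ⟨i, j, -, -, rfl⟩ := H.mem_T ha
  obtain ⟨k, l, -, -, rfl⟩ := H.mem_T hb
  exact Commute.mul_left
    (Commute.mul_right ((Commute.refl H.c1).pow_pow i k) (H.c_comm.pow_pow i l))
    (Commute.mul_right (H.c_comm.symm.pow_pow j k) ((Commute.refl H.c3).pow_pow j l))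

theorem T_cube {a : X} (ha : a ∈ H.T) : a ^ 3 = 1 := by
  obtain ⟨i, j, -, -, rfl⟩ := H.mem_T ha
  rw [(H.c_comm.pow_pow i j).mul_pow, ← pow_mul, ← pow_mul, mul_comm i, mul_comm j, pow_mul, pow_mul,
    H.c1_cube, H.c3_cube, one_pow, one_pow, one_mul]

theorem exp_eq {i j k l : ℕ} (hi : i < 3) (hj : j < 3) (hk : k < 3) (hl : l < 3)
    (h : H.c1 ^ i * H.c3 ^ j = H.c1 ^ k * H.c3 ^ l) : i = k ∧ j = l := by
  let f : Fin 3 × Fin 3 → H.T := fun p => ⟨H.c1 ^ (p.1 : ℕ) * H.c3 ^ (p.2 : ℕ),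
    mul_mem (pow_mem H.c1_mem _) (pow_mem H.c3_mem _)⟩
  have hs : Function.Surjective f := fun a => by
    obtain ⟨i, j, hi, hj, e⟩ := H.mem_T a.2
    exact ⟨(⟨i, hi⟩, ⟨j, hj⟩), Subtype.ext e.symm⟩
  have hb := (Nat.bijective_iff_surjective_and_card f).2
    ⟨hs, by rw [H.T_card, Nat.card_prod, Nat.card_fin]⟩
  have := hb.1 (a₁ := (⟨i, hi⟩, ⟨j, hj⟩)) (a₂ := (⟨k, hk⟩, ⟨l, hl⟩)) (Subtype.ext h)
  simpa [Fin.ext_iff] using this

theorem c1_ne : H.c1 ≠ 1 := fun h => by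
  have := H.exp_eq (i := 1) (j := 0) (k := 0) (l := 0) (by norm_num) (by norm_num) (by norm_num)
    (by norm_num) (by simp [h])
  omega

theorem c3_ne : H.c3 ≠ 1 := fun h => by
  have := H.exp_eq (i := 0) (j := 1) (k := 0) (l := 0) (by norm_num) (by norm_num) (by norm_num)
    (by norm_num) (by simp [h])
  omega

theorem dp_ne : H.dp ≠ 1 := fun h => by
  have := H.exp_eq (i := 1) (j := 1) (k := 0) (l := 0) (by norm_num) (by norm_num) (by norm_num)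
    (by norm_num) (by simpa using h)
  omega

theorem T_isPGroup : IsPGroup 3 H.T := IsPGroup.of_card (n := 2) (H.T_card.trans (by norm_num))

theorem T_not_cyclic : ¬ IsCyclic H.T := fun hc => by
  have h : Monoid.exponent H.T = 9 := H.T_card ▸ IsCyclic.exponent_eq_card
  have h3 : Monoid.exponent H.T ∣ 3 :=
    Monoid.exponent_dvd_of_forall_pow_eq_one fun a => Subtype.ext (H.T_cube a.2)
  rw [h] at h3
  omega

theorem T_sq_ne {a : X} (ha : a ∈ H.T) (h : a * a = 1) : a = 1 := by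
  have h3 := H.T_cube ha
  rwa [pow_succ, pow_two, h, one_mul] at h3

/-- Up to inversion there are four non-trivial elements in `T`. -/
theorem T_cases {a : X} (ha : a ∈ H.T) (ha1 : a ≠ 1) :
    ∃ d, (d = H.c1 ∨ d = H.c3 ∨ d = H.dp ∨ d = H.dm) ∧ (a = d ∨ a = d⁻¹) := by
  obtain ⟨i, j, hi, hj, rfl⟩ := H.mem_T ha
  interval_cases i <;> interval_cases j
  · simp at ha1
  · exact ⟨_, Or.inr (Or.inl rfl), Or.inl (by simp)⟩
  · exact ⟨_, Or.inr (Or.inl rfl), Or.inr (by simp [c3_inv])⟩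
  · exact ⟨_, Or.inl rfl, Or.inl (by simp)⟩
  · exact ⟨_, Or.inr (Or.inr (Or.inl rfl)), Or.inl (by simp [dp])⟩
  · refine ⟨_, Or.inr (Or.inr (Or.inr rfl)), Or.inr ?_⟩
    rw [dm, mul_inv_rev, inv_inv, pow_one, c3_inv, (H.c_comm.pow_right 2).eq]
  · exact ⟨_, Or.inl rfl, Or.inr (by simp [c1_inv])⟩
  · exact ⟨_, Or.inr (Or.inr (Or.inr rfl)), Or.inl (by simp [dm, c1_inv])⟩
  · refine ⟨_, Or.inr (Or.inr (Or.inl rfl)), Or.inr ?_⟩
    rw [dp, mul_inv_rev, c1_inv, c3_inv, (H.c_comm.symm.pow_pow 2 2).eq]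

theorem centralizer_inv (d : X) : centralizer ({d⁻¹} : Set X) = centralizer ({d} : Set X) := by
  ext g
  rw [mem_centralizer_singleton_iff, mem_centralizer_singleton_iff]
  refine ⟨fun h => ?_, fun h => Commute.inv_right h⟩
  have h' : Commute g d⁻¹⁻¹ := Commute.inv_right h
  rwa [inv_inv] at h'

/-! ### The three pieces -/

/-- What the three pieces `Rp`, `Rm`, `Rc` share. -/
structure Leg (R : Subgroup X) : Prop where
  card : Nat.card R = 2 ∨ Nat.card R = 8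
  t_mem : H.t ∈ R
  sq : ∀ u ∈ R, u * u ∈ H.Z
  c3_conj : ∀ u ∈ R, H.c3 * u * H.c3⁻¹ ∈ R
  fpf : ∀ u ∈ R, u * (H.c3 * u * H.c3⁻¹) * (H.c3 ^ 2 * u * (H.c3 ^ 2)⁻¹) ∈ H.Z

theorem legP : H.Leg H.Rp := ⟨Or.inr H.p_card, H.t_p, H.p_sq, H.p_c3, H.p_fpf⟩

theorem legM : H.Leg H.Rm := ⟨Or.inr H.m_card, H.t_m, H.m_sq, H.m_c3, H.m_fpf⟩

theorem legC : H.Leg H.Rc :=
  ⟨H.c_card.imp id And.left, H.t_c, H.c_sq, H.c_c3, H.c_fpf⟩

variable {H}

theorem Leg.Z_le {R : Subgroup X} (hR : H.Leg R) : H.Z ≤ R := zpowers_le.2 hR.t_mem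

theorem Leg.pow_four {R : Subgroup X} (hR : H.Leg R) {u : X} (hu : u ∈ R) : u ^ 4 = 1 := by
  rw [show u ^ 4 = u * u * (u * u) by simp [pow_succ, mul_assoc]]
  exact H.Z_sq (hR.sq u hu)

theorem Leg.isPGroup {R : Subgroup X} (hR : H.Leg R) : IsPGroup 2 R := fun u =>
  ⟨2, Subtype.ext (by rw [coe_pow]; exact hR.pow_four u.2)⟩

theorem Leg.comm_mem {R : Subgroup X} (hR : H.Leg R) {a b : X} (ha : a ∈ R) (hb : b ∈ R) :
    a * b * a⁻¹ * b⁻¹ ∈ H.Z := by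
  have h1 : (a * a)⁻¹ * (b * b)⁻¹ ∈ H.Z := mul_mem (inv_mem (hR.sq a ha)) (inv_mem (hR.sq b hb))
  have e : a * b * a⁻¹ * b⁻¹ = (a * b) * (a * b) * (b⁻¹ * ((a * a)⁻¹ * (b * b)⁻¹) * b) := by group
  rw [e, ← (H.Z_comm h1 b⁻¹).eq, inv_mul_cancel_right]
  exact mul_mem (hR.sq _ (mul_mem ha hb)) h1

theorem Leg.c3_pow_conj {R : Subgroup X} (hR : H.Leg R) (i : ℕ) :
    ∀ u ∈ R, H.c3 ^ i * u * (H.c3 ^ i)⁻¹ ∈ R := by
  induction i with
  | zero => simp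
  | succ i ih =>
    intro u hu
    rw [show H.c3 ^ (i + 1) * u * (H.c3 ^ (i + 1))⁻¹ = H.c3 * (H.c3 ^ i * u * (H.c3 ^ i)⁻¹) * H.c3⁻¹ by
      rw [pow_succ']; group]
    exact hR.c3_conj _ (ih u hu)

/-- What is fixed by `c3` modulo `t` lies in `⟨t⟩`. -/
theorem Leg.fixed {R : Subgroup X} (hR : H.Leg R) {u : X} (hu : u ∈ R)
    (h : u⁻¹ * (H.c3 * u * H.c3⁻¹) ∈ H.Z) : u ∈ H.Z := by
  have hc := H.Z_comm h
  set z := u⁻¹ * (H.c3 * u * H.c3⁻¹)
  have e1 : H.c3 * u * H.c3⁻¹ = u * z := (mul_inv_cancel_left _ _).symm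
  have e2 : H.c3 ^ 2 * u * (H.c3 ^ 2)⁻¹ = u * z * z := by
    calc H.c3 ^ 2 * u * (H.c3 ^ 2)⁻¹ = H.c3 * (H.c3 * u * H.c3⁻¹) * H.c3⁻¹ := by rw [pow_two]; group
      _ = H.c3 * (u * z) * H.c3⁻¹ := by rw [e1]
      _ = (H.c3 * u * H.c3⁻¹) * (H.c3 * z * H.c3⁻¹) := by group
      _ = u * z * z := by rw [e1, ← (hc H.c3).eq, mul_inv_cancel_right]
  have h3 := hR.fpf u hu
  rw [e2, e1, mul_assoc u z z, H.Z_sq h, mul_one] at h3
  -- `u * (u * z) * u` lies in `⟨t⟩`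
  have h4 : u * (u * z) * u = (u * u) * u * z := by
    rw [mul_assoc u (u * z), mul_assoc u z u, (hc u).eq]; group
  rw [h4] at h3
  have h5 := mul_mem (mul_mem (inv_mem (hR.sq u hu)) h3) (inv_mem h)
  rwa [show (u * u)⁻¹ * (u * u * u * z) * z⁻¹ = u by group] at h5

/-- The same for the elements commuting with `c3`. -/
theorem Leg.fixed_comm {R : Subgroup X} (hR : H.Leg R) {u : X} (hu : u ∈ R) (h : Commute u H.c3) :
    u ∈ H.Z :=
  hR.fixed hu (by rw [← h.eq, mul_inv_cancel_right, inv_mul_cancel]; exact one_mem _)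

/-- A subgroup of a piece invariant under `c3` is `⟨t⟩` or the piece. -/
theorem Leg.between {R Q : Subgroup X} (hR : H.Leg R) (hQR : Q ≤ R) (htQ : H.t ∈ Q)
    (hQ : ∀ u ∈ Q, H.c3 * u * H.c3⁻¹ ∈ Q) : Q ≤ H.Z ∨ Q = R := by
  by_cases h : Q ≤ H.Z
  · exact Or.inl h
  refine Or.inr (eq_of_le_of_card_ge hQR ?_)
  obtain ⟨u, huQ, hu⟩ := SetLike.not_le_iff_exists.1 h
  have hd := card_dvd_of_le hQR
  have hZQ : Nat.card H.Z ∣ Nat.card Q := card_dvd_of_le (zpowers_le.2 htQ)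
  rw [H.card_Z] at hZQ
  rcases hR.card with hc | hc
  · rw [hc]
    exact Nat.le_of_dvd Nat.card_pos hZQ
  rw [hc] at hd ⊢
  by_contra hlt
  push Not at hlt
  have hle4 : Nat.card Q ≤ 4 := by
    have := Nat.le_of_dvd (by norm_num) hd
    obtain ⟨k, hk⟩ := hd
    interval_cases (Nat.card Q) <;> omega
  -- five elements
  classical
  have hne : ∀ {z : X}, z ∈ H.Z → u ≠ z := fun hz e => hu (e ▸ hz)
  have hv : H.c3 * u * H.c3⁻¹ ∈ Q := hQ u huQ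
  have hvZ : H.c3 * u * H.c3⁻¹ ∉ H.Z := fun hz => hu (by
    have := (H.Z_normal).conj_mem _ hz H.c3⁻¹
    simpa [mul_assoc] using this)
  have hvu : ∀ {z : X}, z ∈ H.Z → H.c3 * u * H.c3⁻¹ ≠ u * z := fun hz e =>
    hu (hR.fixed (hQR huQ) (by rw [e, inv_mul_cancel_left]; exact hz))
  have h5 : Nat.card ({1, H.t, u, u * H.t, H.c3 * u * H.c3⁻¹} : Set X) = 5 := by
    rw [Nat.card_coe_set_eq, Set.ncard_insert_of_notMem, Set.ncard_insert_of_notMem,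
      Set.ncard_insert_of_notMem, Set.ncard_pair]
    · exact fun e => hvu H.t_mem e.symm
    · simp only [Set.mem_insert_iff, Set.mem_singleton_iff, not_or]
      exact ⟨fun e => H.t_ne (mul_eq_left.1 e.symm), fun e => hvu (one_mem _) (by rw [mul_one, ← e])⟩
    · simp only [Set.mem_insert_iff, Set.mem_singleton_iff, not_or]
      exact ⟨fun e => hne H.t_mem e.symm, fun e => hne (one_mem _) (mul_eq_right.1 e.symm),
        fun e => hvZ (e ▸ H.t_mem)⟩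
    · simp only [Set.mem_insert_iff, Set.mem_singleton_iff, not_or]
      refine ⟨fun e => H.t_ne e.symm, fun e => hne (one_mem _) e.symm, fun e => hu ?_,
        fun e => hvZ (e ▸ one_mem _)⟩
      rw [mul_eq_one_iff_eq_inv.1 e.symm]
      exact inv_mem H.t_mem
  have h5' : Nat.card ({1, H.t, u, u * H.t, H.c3 * u * H.c3⁻¹} : Set X) ≤ Nat.card (Q : Set X) :=
    Nat.card_mono (Set.toFinite _) (by
      rintro x (rfl | rfl | rfl | rfl | rfl)
      exacts [one_mem Q, htQ, huQ, mul_mem huQ htQ, hv])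
  rw [h5] at h5'
  exact absurd (h5'.trans hle4) (by norm_num)

variable (H)

theorem c1_conj_p {u : X} (hu : u ∈ H.Rp) : H.c1 * u * H.c1⁻¹ = H.c3⁻¹ * u * H.c3 := by
  have h := (H.p_fix u hu).eq
  calc H.c1 * u * H.c1⁻¹ = H.c3⁻¹ * (H.c3 * H.c1) * u * H.c1⁻¹ := by group
    _ = H.c3⁻¹ * (u * (H.c1 * H.c3)) * H.c1⁻¹ := by rw [← H.c_comm.eq, mul_assoc _ _ u, h]
    _ = H.c3⁻¹ * u * H.c3 := by rw [H.c_comm.eq]; group

theorem c1_conj_m {u : X} (hu : u ∈ H.Rm) : H.c1 * u * H.c1⁻¹ = H.c3 * u * H.c3⁻¹ := by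
  have h := (H.m_fix u hu).eq
  calc H.c1 * u * H.c1⁻¹ = H.c1 * (u * (H.c1⁻¹ * H.c3)) * H.c3⁻¹ := by group
    _ = H.c3 * u * H.c3⁻¹ := by rw [h]; group

theorem c1_conj_c {u : X} (hu : u ∈ H.Rc) : H.c1 * u * H.c1⁻¹ = u := by
  rw [← (H.c_fix u hu).eq, mul_inv_cancel_right]

theorem T_le_normalizer_of {R : Subgroup X} (hR : H.Leg R)
    (h : ∀ u ∈ R, H.c1 * u * H.c1⁻¹ ∈ R) : H.T ≤ normalizer (R : Set X) :=
  (closure_le _).2 (by
    rintro _ (rfl | rfl)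
    · exact Coprime.mem_normalizer_of_forall h
    · exact Coprime.mem_normalizer_of_forall hR.c3_conj)

theorem T_norm_p : H.T ≤ normalizer (H.Rp : Set X) := H.T_le_normalizer_of H.legP fun u hu => by
  rw [H.c1_conj_p hu, c3_inv]
  nth_rewrite 2 [show H.c3 = (H.c3 ^ 2)⁻¹ by rw [← c3_inv, inv_inv]]
  exact H.legP.c3_pow_conj 2 u hu

theorem T_norm_m : H.T ≤ normalizer (H.Rm : Set X) := H.T_le_normalizer_of H.legM fun u hu => by
  rw [H.c1_conj_m hu]; exact H.m_c3 u hu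

theorem T_norm_c : H.T ≤ normalizer (H.Rc : Set X) := H.T_le_normalizer_of H.legC fun u hu => by
  rw [H.c1_conj_c hu]; exact hu

theorem dp_conj_c {u : X} (hu : u ∈ H.Rc) : H.dp * u * H.dp⁻¹ = H.c3 * u * H.c3⁻¹ := by
  rw [show H.dp = H.c3 * H.c1 from H.c_comm.eq]
  calc H.c3 * H.c1 * u * (H.c3 * H.c1)⁻¹ = H.c3 * (H.c1 * u * H.c1⁻¹) * H.c3⁻¹ := by group
    _ = _ := by rw [H.c1_conj_c hu]

theorem σ_conj_m {u : X} (hu : u ∈ H.Rm) : H.σ * u * H.σ ∈ H.Rp := by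
  let f : H.Rp → H.Rm := fun v => ⟨_, H.σ_pm v v.2⟩
  have hf : Function.Injective f := fun a b h =>
    Subtype.ext (mul_left_cancel (mul_right_cancel (congrArg Subtype.val h)))
  have hb := (Nat.bijective_iff_injective_and_card f).2 ⟨hf, by rw [H.p_card, H.m_card]⟩
  obtain ⟨v, hv⟩ := hb.2 ⟨u, hu⟩
  have hv' : H.σ * v * H.σ = u := congrArg Subtype.val hv
  rw [← hv', show H.σ * (H.σ * v * H.σ) * H.σ = (H.σ * H.σ) * v * (H.σ * H.σ) by group, H.σ_sq,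
    one_mul, mul_one]
  exact v.2

theorem s_conj_m (h2 : H.two) {u : X} (hu : u ∈ H.Rm) : H.s * u * H.s ∈ H.Rp := by
  let f : H.Rp → H.Rm := fun v => ⟨_, H.s_pm h2 v v.2⟩
  have hf : Function.Injective f := fun a b h =>
    Subtype.ext (mul_left_cancel (mul_right_cancel (congrArg Subtype.val h)))
  have hb := (Nat.bijective_iff_injective_and_card f).2 ⟨hf, by rw [H.p_card, H.m_card]⟩
  obtain ⟨v, hv⟩ := hb.2 ⟨u, hu⟩
  have hv' : H.s * v * H.s = u := congrArg Subtype.val hv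
  rw [← hv', show H.s * (H.s * v * H.s) * H.s = (H.s * H.s) * v * (H.s * H.s) by group, H.s_sq,
    one_mul, mul_one]
  exact v.2

theorem m_four {u : X} (hu : u ∈ H.Rm) (hn : u ∉ H.Z) : u * u = H.t := by
  have hv := H.p_four _ (H.σ_conj_m hu) fun hz => hn (by
    have := (H.Z_normal).conj_mem _ hz H.σ
    rwa [σ_inv, show H.σ * (H.σ * u * H.σ) * H.σ = (H.σ * H.σ) * u * (H.σ * H.σ) by group, H.σ_sq,
      one_mul, mul_one] at this)
  calc u * u = (H.σ * H.σ) * u * (H.σ * H.σ) * u * (H.σ * H.σ) := by simp [H.σ_sq]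
    _ = H.σ * (H.σ * u * H.σ * (H.σ * u * H.σ)) * H.σ := by group
    _ = H.t := by rw [hv, ← (H.t_central H.σ).eq, mul_assoc, H.σ_sq, mul_one]

theorem p_inf_m {u : X} (hp : u ∈ H.Rp) (hm : u ∈ H.Rm) : u ∈ H.Z := by
  refine H.legP.fixed_comm hp ?_
  have h : Commute u (H.c1 * H.c3 * (H.c1⁻¹ * H.c3)) := (H.p_fix u hp).mul_right (H.m_fix u hm)
  have e : H.c1 * H.c3 * (H.c1⁻¹ * H.c3) = H.c3 ^ 2 := by
    rw [H.c_comm.eq, pow_two]; group
  rw [e] at h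
  have h2 := h.pow_right 2
  rwa [show (H.c3 ^ 2) ^ 2 = H.c3 by rw [← pow_mul, pow_succ, H.c3_cube, one_mul]] at h2

theorem p_inf_c {u : X} (hp : u ∈ H.Rp) (hc : u ∈ H.Rc) : u ∈ H.Z := by
  refine H.legP.fixed_comm hp ?_
  have h : Commute u (H.c1⁻¹ * (H.c1 * H.c3)) := (H.c_fix u hc).inv_right.mul_right (H.p_fix u hp)
  rwa [inv_mul_cancel_left] at h

theorem center_p {u : X} (hu : u ∈ H.Rp) (h : ∀ v ∈ H.Rp, Commute u v) : u ∈ H.Z := by
  by_contra hn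
  have hv := H.p_c3 u hu
  have huv : u * (H.c3 * u * H.c3⁻¹) ∈ H.Z := by
    by_contra hn'
    have h1 := H.p_four _ (mul_mem hu hv) hn'
    have h2 : u * (H.c3 * u * H.c3⁻¹) * (u * (H.c3 * u * H.c3⁻¹)) =
        (u * u) * ((H.c3 * u * H.c3⁻¹) * (H.c3 * u * H.c3⁻¹)) := by
      rw [mul_assoc u _ (u * _), ← mul_assoc (H.c3 * u * H.c3⁻¹) u, ← (h _ hv).eq]
      group
    rw [h1, show H.c3 * u * H.c3⁻¹ * (H.c3 * u * H.c3⁻¹) = H.c3 * (u * u) * H.c3⁻¹ by group,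
      H.p_four u hu hn, ← (H.t_central H.c3).eq, mul_inv_cancel_right, H.t_sq] at h2
    exact H.t_ne h2
  refine hn (H.legP.fixed hu ?_)
  rw [show u⁻¹ * (H.c3 * u * H.c3⁻¹) = u⁻¹ * u⁻¹ * (u * (H.c3 * u * H.c3⁻¹)) by group, ← mul_inv_rev]
  exact mul_mem (inv_mem (H.p_sq u hu)) huv

/-! ### The involutions and the normaliser of `T` -/

theorem mem_E {e : X} (he : e ∈ H.E) : ∃ z ∈ H.Z, ∃ i j : ℕ, i < 2 ∧ j < 2 ∧ e = z * H.s ^ i * H.σ ^ j := by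
  have hs2 : H.s ^ 2 = 1 := by rw [pow_two, H.s_sq]
  have hσ2 : H.σ ^ 2 = 1 := by rw [pow_two, H.σ_sq]
  induction he using closure_induction with
  | mem x hx =>
    rcases hx with rfl | rfl | rfl
    · exact ⟨_, H.t_mem, 0, 0, by norm_num, by norm_num, by simp⟩
    · exact ⟨1, one_mem _, 0, 1, by norm_num, by norm_num, by simp⟩
    · exact ⟨1, one_mem _, 1, 0, by norm_num, by norm_num, by simp⟩
  | one => exact ⟨1, one_mem _, 0, 0, by norm_num, by norm_num, by simp⟩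
  | mul x y _ _ hx hy =>
    obtain ⟨z, hz, i, j, -, -, rfl⟩ := hx
    obtain ⟨w, hw, k, l, -, -, rfl⟩ := hy
    refine ⟨z * w, mul_mem hz hw, (i + k) % 2, (j + l) % 2, Nat.mod_lt _ two_pos, Nat.mod_lt _ two_pos, ?_⟩
    rw [← pow_eq_pow_mod _ hs2, ← pow_eq_pow_mod _ hσ2, pow_add, pow_add]
    calc z * H.s ^ i * H.σ ^ j * (w * H.s ^ k * H.σ ^ l)
        = z * (H.s ^ i * H.σ ^ j * w) * H.s ^ k * H.σ ^ l := by group
      _ = z * (w * (H.s ^ i * H.σ ^ j)) * H.s ^ k * H.σ ^ l := by rw [(H.Z_comm hw _).eq]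
      _ = z * w * H.s ^ i * (H.σ ^ j * H.s ^ k) * H.σ ^ l := by group
      _ = z * w * (H.s ^ i * H.s ^ k) * (H.σ ^ j * H.σ ^ l) := by
          rw [(H.s_σ.symm.pow_pow j k).eq]; group
  | inv x _ hx =>
    obtain ⟨z, hz, i, j, hi, hj, rfl⟩ := hx
    refine ⟨z, hz, i, j, hi, hj, inv_eq_of_mul_eq_one_right ?_⟩
    calc z * H.s ^ i * H.σ ^ j * (z * H.s ^ i * H.σ ^ j)
        = z * (H.s ^ i * H.σ ^ j * z) * H.s ^ i * H.σ ^ j := by group
      _ = (z * z) * H.s ^ i * (H.σ ^ j * H.s ^ i) * H.σ ^ j := by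
          rw [← (H.Z_comm hz _).eq]; group
      _ = H.s ^ i * H.s ^ i * (H.σ ^ j * H.σ ^ j) := by
          rw [H.Z_sq hz, one_mul, (H.s_σ.symm.pow_pow j i).eq]; group
      _ = 1 := by
          rw [← pow_add, ← pow_add, ← two_mul, ← two_mul, pow_mul, pow_mul, hs2, hσ2, one_pow, one_pow,
            mul_one]

theorem E_sq {e : X} (he : e ∈ H.E) : e * e = 1 := by
  obtain ⟨z, hz, i, j, hi, hj, rfl⟩ := H.mem_E he
  have hc : ∀ a b : X, Commute a b → a * a = 1 → b * b = 1 → a * b * (a * b) = 1 := fun a b hab ha hb => by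
    rw [mul_assoc a b, ← mul_assoc b a, ← hab.eq, mul_assoc a b b, hb, mul_one, ha]
  refine hc _ _ ((H.Z_comm hz _).mul_left (H.s_σ.pow_pow i j)) (hc _ _ (H.Z_comm hz _) (H.Z_sq hz) ?_) ?_
  · interval_cases i <;> simp [H.s_sq]
  · interval_cases j <;> simp [H.σ_sq]

theorem E_isPGroup : IsPGroup 2 H.E := fun e =>
  ⟨1, Subtype.ext (by rw [coe_pow, pow_one, pow_two]; exact H.E_sq e.2)⟩

theorem σ_conj_c1 : H.σ * H.c1 * H.σ⁻¹ = H.c1 := by rw [σ_inv]; exact H.σ_c1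

theorem σ_conj_c3 : H.σ * H.c3 * H.σ⁻¹ = H.c3⁻¹ := by rw [σ_inv]; exact H.σ_c3

theorem s_conj_c3 : H.s * H.c3 * H.s⁻¹ = H.c3 := by rw [s_inv]; exact H.s_c3

theorem s_conj_c1 : H.s * H.c1 * H.s⁻¹ = H.c1 ∨ H.two ∧ H.s * H.c1 * H.s⁻¹ = H.c1⁻¹ := by
  by_cases h : H.two
  · exact Or.inr ⟨h, by rw [s_inv]; exact H.s_c1 h⟩
  · exact Or.inl (by rw [H.s_one h]; simp)

theorem E_norm_T : H.E ≤ normalizer (H.T : Set X) := by
  have key : ∀ g, g * H.c1 * g⁻¹ ∈ H.T → g * H.c3 * g⁻¹ ∈ H.T → g ∈ normalizer (H.T : Set X) := by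
    intro g h1 h3
    refine Coprime.mem_normalizer_of_forall fun x hx => ?_
    obtain ⟨i, j, -, -, rfl⟩ := H.mem_T hx
    rw [show g * (H.c1 ^ i * H.c3 ^ j) * g⁻¹ = (g * H.c1 ^ i * g⁻¹) * (g * H.c3 ^ j * g⁻¹) by group,
      ← conj_pow, ← conj_pow]
    exact mul_mem (pow_mem h1 i) (pow_mem h3 j)
  refine (closure_le _).2 ?_
  rintro _ (rfl | rfl | rfl)
  · refine key _ ?_ ?_ <;> rw [(H.t_central _).eq, mul_inv_cancel_right]
    exacts [H.c1_mem, H.c3_mem]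
  · refine key _ ?_ ?_
    · rw [σ_conj_c1]; exact H.c1_mem
    · rw [σ_conj_c3]; exact inv_mem H.c3_mem
  · refine key _ ?_ ?_
    · rcases H.s_conj_c1 with h | ⟨-, h⟩ <;> rw [h]
      exacts [H.c1_mem, inv_mem H.c1_mem]
    · rw [s_conj_c3]; exact H.c3_mem

theorem mem_normalizer_T {g : X} (hg : g ∈ normalizer (H.T : Set X)) :
    ∃ a ∈ H.T, ∃ e ∈ H.E, g = a * e := by
  have hle : closure ({H.c1, H.c3, H.t, H.σ, H.s} : Set X) ≤ H.T ⊔ H.E := (closure_le _).2 (by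
    rintro _ (rfl | rfl | rfl | rfl | rfl)
    exacts [mem_sup_left H.c1_mem, mem_sup_left H.c3_mem, mem_sup_right (subset_closure (by simp)),
      mem_sup_right (subset_closure (by simp)), mem_sup_right (subset_closure (by simp))])
  obtain ⟨a, ha, e, he, rfl⟩ := (Coprime.mem_sup_iff H.E_norm_T).1 (hle (H.norm_T hg))
  exact ⟨a, ha, e, he, rfl⟩

theorem exists_sylow_T : ∃ S : Sylow 3 X, (S : Subgroup X) = H.T := by
  have : Fact (Nat.Prime 3) := ⟨Nat.prime_three⟩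
  refine exists_sylow_of_normalizer (n := 2) H.T (H.T_card.trans (by norm_num)) fun h => ?_
  obtain ⟨k, hk⟩ := IsPGroup.iff_card.1 H.E_isPGroup
  have hcop : (Nat.card H.T).Coprime (Nat.card H.E) := by
    rw [H.T_card, hk]
    exact Nat.Coprime.pow_right k (by norm_num)
  have hle : normalizer (H.T : Set X) ≤ H.T ⊔ H.E := fun g hg => by
    obtain ⟨a, ha, e, he, rfl⟩ := H.mem_normalizer_T hg
    exact mul_mem_sup ha he
  have hd := h.trans (card_dvd_of_le hle)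
  rw [Coprime.card_sup_of_coprime H.E_norm_T hcop, H.T_card, hk] at hd
  have h' := (Nat.Coprime.dvd_of_dvd_mul_right (Nat.Coprime.pow (2 + 1) k (by norm_num)) hd)
  exact absurd (Nat.le_of_dvd (by norm_num) h') (by norm_num)

/-! ### Centralisers -/

theorem cent_dp {g : X} (hg : g ∈ centralizer ({H.dp} : Set X)) :
    ∃ u ∈ H.Rp, ∃ a ∈ H.T, g = u * a := by
  have h := H.cent_p hg
  rw [sup_comm] at h
  obtain ⟨u, hu, a, ha, rfl⟩ := (Coprime.mem_sup_iff H.T_norm_p).1 h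
  exact ⟨u, hu, a, ha, rfl⟩

theorem cent_dm {g : X} (hg : g ∈ centralizer ({H.dm} : Set X)) :
    ∃ u ∈ H.Rm, ∃ a ∈ H.T, g = u * a := by
  have h := H.cent_m hg
  rw [sup_comm] at h
  obtain ⟨u, hu, a, ha, rfl⟩ := (Coprime.mem_sup_iff H.T_norm_m).1 h
  exact ⟨u, hu, a, ha, rfl⟩

theorem cent_c3' {g : X} (hg : g ∈ centralizer ({H.c3} : Set X)) :
    ∃ a ∈ H.T, ∃ z ∈ H.Z, g = a * z ∨ g = a * (z * H.s) := by
  have hle : closure ({H.t, H.s} : Set X) ≤ H.E := closure_mono (by intro x hx; aesop)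
  have hs : closure ({H.c1, H.c3, H.t, H.s} : Set X) ≤ H.T ⊔ closure {H.t, H.s} := (closure_le _).2 (by
    rintro _ (rfl | rfl | rfl | rfl)
    exacts [mem_sup_left H.c1_mem, mem_sup_left H.c3_mem, mem_sup_right (subset_closure (by simp)),
      mem_sup_right (subset_closure (by simp))])
  obtain ⟨a, ha, e, he, rfl⟩ := (Coprime.mem_sup_iff (hle.trans H.E_norm_T)).1 (hs (H.cent_c3 hg))
  refine ⟨a, ha, ?_⟩
  have key : ∀ x, x ∈ closure ({H.t, H.s} : Set X) → ∃ z ∈ H.Z, x = z ∨ x = z * H.s := by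
    intro x hx
    induction hx using closure_induction with
    | mem y hy =>
      rcases hy with rfl | rfl
      · exact ⟨_, H.t_mem, Or.inl rfl⟩
      · exact ⟨1, one_mem _, Or.inr (one_mul _).symm⟩
    | one => exact ⟨1, one_mem _, Or.inl rfl⟩
    | mul y w _ _ hy hw =>
      obtain ⟨z, hz, h | h⟩ := hy <;> obtain ⟨v, hv, h' | h'⟩ := hw <;> rw [h, h']
      · exact ⟨z * v, mul_mem hz hv, Or.inl rfl⟩
      · exact ⟨z * v, mul_mem hz hv, Or.inr (mul_assoc _ _ _).symm⟩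
      · exact ⟨z * v, mul_mem hz hv, Or.inr (by rw [mul_assoc, ← (H.Z_comm hv H.s).eq, mul_assoc])⟩
      · exact ⟨z * v, mul_mem hz hv, Or.inl (by
          rw [mul_assoc, ← mul_assoc H.s v, ← (H.Z_comm hv H.s).eq, mul_assoc v, H.s_sq, mul_one])⟩
    | inv y _ hy =>
      obtain ⟨z, hz, h | h⟩ := hy <;> rw [h]
      · exact ⟨z⁻¹, inv_mem hz, Or.inl rfl⟩
      · exact ⟨z⁻¹, inv_mem hz, Or.inr (by
          rw [mul_inv_rev, s_inv, (H.Z_comm (inv_mem hz) H.s).eq])⟩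
  obtain ⟨z, hz, h | h⟩ := key e he
  · exact ⟨z, hz, Or.inl (by rw [h])⟩
  · exact ⟨z, hz, Or.inr (by rw [h])⟩

theorem σ_norm_c : H.σ ∈ normalizer (H.Rc : Set X) :=
  Coprime.mem_normalizer_of_forall fun u hu => by rw [σ_inv]; exact H.σ_c u hu

theorem s_norm_c : H.s ∈ normalizer (H.Rc : Set X) :=
  Coprime.mem_normalizer_of_forall fun u hu => by rw [s_inv]; exact H.s_c u hu

theorem cent_c1' {g : X} (hg : g ∈ centralizer ({H.c1} : Set X)) :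
    ∃ r ∈ H.Rc, ∃ a ∈ H.T, g = r * a ∨ g = r * (a * H.σ) := by
  have hn : H.T ⊔ zpowers H.σ ≤ normalizer (H.Rc : Set X) :=
    sup_le H.T_norm_c (zpowers_le.2 H.σ_norm_c)
  have hs : closure ({H.c1, H.c3, H.t, H.σ} : Set X) ⊔ H.Rc ≤ H.Rc ⊔ (H.T ⊔ zpowers H.σ) :=
    sup_le ((closure_le _).2 (by
      rintro _ (rfl | rfl | rfl | rfl)
      exacts [mem_sup_right (mem_sup_left H.c1_mem), mem_sup_right (mem_sup_left H.c3_mem),
        mem_sup_left H.t_c, mem_sup_right (mem_sup_right (mem_zpowers _))])) le_sup_left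
  obtain ⟨r, hr, x, hx, rfl⟩ := (Coprime.mem_sup_iff hn).1 (hs (H.cent_c1 hg))
  obtain ⟨a, ha, e, he, rfl⟩ := (Coprime.mem_sup_iff
    (zpowers_le.2 (H.E_norm_T (subset_closure (by simp))) : zpowers H.σ ≤ normalizer (H.T : Set X))).1 hx
  refine ⟨r, hr, a, ha, ?_⟩
  obtain ⟨i, rfl⟩ := mem_zpowers_iff.1 he
  rcases Int.even_or_odd' i with ⟨k, rfl | rfl⟩
  · exact Or.inl (by rw [zpow_mul, zpow_ofNat, pow_two, H.σ_sq, one_zpow, mul_one])
  · exact Or.inr (by rw [zpow_add_one, zpow_mul, zpow_ofNat, pow_two, H.σ_sq, one_zpow, one_mul])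

theorem cent_T {g : X} (hg : g ∈ centralizer (H.T : Set X)) : g ∈ H.T ⊔ H.Z := by
  obtain ⟨u, hu, a, ha, rfl⟩ := H.cent_dp (mem_centralizer_singleton_iff.2 (hg _ H.dp_mem).symm)
  rw [sup_comm]
  refine mul_mem_sup (H.legP.fixed_comm hu ?_) ha
  have h : Commute (u * a) H.c3 := (hg _ H.c3_mem).symm
  have h2 := h.mul_left ((H.T_comm ha H.c3_mem).inv_left)
  rwa [mul_inv_cancel_right] at h2

/-! ### Subgroups of order prime to three normalised by `T` -/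

variable {Q : Subgroup X} (hQ : (Nat.card Q).Coprime 3) (hTQ : H.T ≤ normalizer (Q : Set X))
include hQ

theorem pow_card_eq_one_mem {x : X} (hx : x ∈ Q) : x ^ Nat.card Q = 1 :=
  congrArg Subtype.val (pow_card_eq_one' (x := (⟨x, hx⟩ : Q)))

theorem eq_one_of_mul_mem {R : Subgroup X} (hR : H.Leg R) (hTR : H.T ≤ normalizer (R : Set X))
    {u a : X} (hu : u ∈ R) (ha : a ∈ H.T) (hx : u * a ∈ Q) : a = 1 :=
  eq_one_of_mul_pow_eq_one hu (fun i r hr => (mem_normalizer_iff.1 (hTR (pow_mem ha i)) r).1 hr)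
    (H.T_cube ha) (fun r hr => hR.pow_four hr) hQ (pow_card_eq_one_mem hQ hx)

theorem mem_p_of_dp {x : X} (hx : x ∈ Q) (hd : x ∈ centralizer ({H.dp} : Set X)) : x ∈ H.Rp := by
  obtain ⟨u, hu, a, ha, rfl⟩ := H.cent_dp hd
  rwa [H.eq_one_of_mul_mem hQ H.legP H.T_norm_p hu ha hx, mul_one]

theorem mem_m_of_dm {x : X} (hx : x ∈ Q) (hd : x ∈ centralizer ({H.dm} : Set X)) : x ∈ H.Rm := by
  obtain ⟨u, hu, a, ha, rfl⟩ := H.cent_dm hd
  rwa [H.eq_one_of_mul_mem hQ H.legM H.T_norm_m hu ha hx, mul_one]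

include hTQ

theorem mem_Z_of_c3 {x : X} (hx : x ∈ Q) (hd : x ∈ centralizer ({H.c3} : Set X)) : x ∈ H.Z := by
  obtain ⟨a, ha, z, hz, rfl | rfl⟩ := H.cent_c3' hd
  · rw [← (H.Z_comm hz a).eq] at hx ⊢
    rwa [H.eq_one_of_mul_mem hQ H.legP H.T_norm_p (H.legP.Z_le hz) ha hx, mul_one]
  · rcases H.s_conj_c1 with h | ⟨-, h⟩
    · -- then `s` is trivial
      by_cases h2 : H.two
      · exfalso
        rw [s_inv, H.s_c1 h2] at h
        exact H.c1_ne (H.T_sq_ne H.c1_mem (mul_eq_one_iff_eq_inv.2 h.symm))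
      · rw [H.s_one h2, mul_one] at hx ⊢
        rw [← (H.Z_comm hz a).eq] at hx ⊢
        rwa [H.eq_one_of_mul_mem hQ H.legP H.T_norm_p (H.legP.Z_le hz) ha hx, mul_one]
    · exfalso
      have hq : H.c1 * (a * (z * H.s)) * H.c1⁻¹ * (a * (z * H.s))⁻¹ ∈ Q :=
        mul_mem ((mem_normalizer_iff.1 (hTQ H.c1_mem) _).1 hx) (inv_mem hx)
      have e : H.c1 * (a * (z * H.s)) * H.c1⁻¹ * (a * (z * H.s))⁻¹ = H.c1 ^ 2 := by
        have h' : H.s * H.c1⁻¹ * H.s⁻¹ = H.c1 := by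
          rw [← inv_inj, show (H.s * H.c1⁻¹ * H.s⁻¹)⁻¹ = H.s * H.c1 * H.s⁻¹ by group, h]
        calc H.c1 * (a * (z * H.s)) * H.c1⁻¹ * (a * (z * H.s))⁻¹
            = H.c1 * a * (z * (H.s * H.c1⁻¹ * H.s⁻¹) * z⁻¹) * a⁻¹ := by group
          _ = H.c1 * (a * H.c1) * a⁻¹ := by rw [h', (H.Z_comm hz H.c1).eq]; group
          _ = H.c1 ^ 2 := by rw [(H.T_comm ha H.c1_mem).eq, pow_two]; group
      rw [e] at hq
      have h1 := H.eq_one_of_mul_mem hQ H.legP H.T_norm_p (one_mem _) (pow_mem H.c1_mem 2)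
        (by rwa [one_mul])
      exact H.c1_ne (H.T_sq_ne H.c1_mem (by rw [← pow_two, h1]))

theorem mem_c_of_c1 {x : X} (hx : x ∈ Q) (hd : x ∈ centralizer ({H.c1} : Set X)) : x ∈ H.Rc := by
  obtain ⟨r, hr, a, ha, rfl | rfl⟩ := H.cent_c1' hd
  · rwa [H.eq_one_of_mul_mem hQ H.legC H.T_norm_c hr ha hx, mul_one]
  · exfalso
    have hq : H.c3 * (r * (a * H.σ)) * H.c3⁻¹ * (r * (a * H.σ))⁻¹ ∈ Q :=
      mul_mem ((mem_normalizer_iff.1 (hTQ H.c3_mem) _).1 hx) (inv_mem hx)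
    have hσ : H.σ * H.c3⁻¹ * H.σ⁻¹ = H.c3 := by
      rw [← inv_inj, show (H.σ * H.c3⁻¹ * H.σ⁻¹)⁻¹ = H.σ * H.c3 * H.σ⁻¹ by group, σ_conj_c3]
    have e : H.c3 * (r * (a * H.σ)) * H.c3⁻¹ * (r * (a * H.σ))⁻¹ =
        (H.c3 * r * H.c3⁻¹ * (H.c3 ^ 2 * r⁻¹ * (H.c3 ^ 2)⁻¹)) * H.c3 ^ 2 := by
      calc H.c3 * (r * (a * H.σ)) * H.c3⁻¹ * (r * (a * H.σ))⁻¹
          = (H.c3 * r * H.c3⁻¹) * (H.c3 * (a * (H.σ * H.c3⁻¹ * H.σ⁻¹) * a⁻¹)) * r⁻¹ := by group
        _ = (H.c3 * r * H.c3⁻¹) * H.c3 ^ 2 * r⁻¹ := by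
            rw [hσ, (H.T_comm ha H.c3_mem).eq]; group
        _ = _ := by group
    rw [e] at hq
    have h1 := H.eq_one_of_mul_mem hQ H.legC H.T_norm_c
      (mul_mem (H.c_c3 r hr) (H.legC.c3_pow_conj 2 _ (inv_mem hr))) (pow_mem H.c3_mem 2) hq
    exact H.c3_ne (H.T_sq_ne H.c3_mem (by rw [← pow_two, h1]))

/-- A subgroup of order prime to three normalised by `T` is generated by its intersections with the pieces. -/
theorem le_of_legs {W : Subgroup X} (hZ : H.Z ≤ W) (hp : ∀ u ∈ Q, u ∈ H.Rp → u ∈ W)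
    (hm : ∀ u ∈ Q, u ∈ H.Rm → u ∈ W) (hc : ∀ u ∈ Q, u ∈ H.Rc → u ∈ W) : Q ≤ W := by
  suffices h : Q ≤ W ⊓ Q from h.trans inf_le_left
  have : IsMulCommutative H.T := ⟨⟨fun a b => Subtype.ext (H.T_comm a.2 b.2)⟩⟩
  refine Coprime.le_of_noncyclic H.T_not_cyclic hTQ ?_ fun a ha ha1 x hx => ?_
  · rw [H.T_card, show (9 : ℕ) = 3 ^ 2 by norm_num]
    exact (hQ.pow_right 2).symm
  obtain ⟨hxQ, hxa⟩ := mem_inf.1 hx
  refine mem_inf.2 ⟨?_, hxQ⟩
  obtain ⟨d, hd, hda⟩ := H.T_cases ha ha1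
  have hxd : x ∈ centralizer ({d} : Set X) := by
    rcases hda with rfl | rfl
    · exact hxa
    · rwa [centralizer_inv] at hxa
  rcases hd with rfl | rfl | rfl | rfl
  · exact hc x hxQ (H.mem_c_of_c1 hQ hTQ hxQ hxd)
  · exact hZ (H.mem_Z_of_c3 hQ hTQ hxQ hxd)
  · exact hp x hxQ (H.mem_p_of_dp hQ hxQ hxd)
  · exact hm x hxQ (H.mem_m_of_dm hQ hxQ hxd)

end PairHyp

end Cfsg.Agent.OEightThree
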