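import Cfsg.Agent.Lib.OEightThree.PairBase
import Cfsg.Agent.Lib.TwoFusion.Transfer
import Mathlib.GroupTheory.Transfer

/-
Piece (A) on the pair group (helper3, S3372): `Rp` commutes with `Rm` or with `Rc`.
-/

set_option autoImplicit false

namespace Cfsg.Agent.OEightThree.PairHyp

open Subgroup
open scoped Pointwise

variable {X : Type*} [Group X] [Finite X] (H : PairHyp X)

theorem E_cases {e : X} (he : e ∈ H.E) :
    ∃ z ∈ H.Z, e = z ∨ e = z * H.σ ∨ (H.two ∧ (e = z * H.s ∨ e = z * (H.s * H.σ))) := by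
  obtain ⟨z, hz, i, j, hi, hj, rfl⟩ := H.mem_E he
  refine ⟨z, hz, ?_⟩
  by_cases h2 : H.two
  · interval_cases i <;> interval_cases j <;> simp [h2, mul_assoc]
  · interval_cases i <;> interval_cases j <;> simp [H.s_one h2]

theorem Z_conj {z : X} (hz : z ∈ H.Z) (g x : X) : z * g * x * (z * g)⁻¹ = g * x * g⁻¹ := by
  rw [show z * g * x * (z * g)⁻¹ = z * (g * x * g⁻¹) * z⁻¹ by group, (H.Z_comm hz _).eq,
    mul_inv_cancel_right]

/-- The elements normalising `T` keep the lines of `c1` and `c3`. -/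
theorem normalizer_T_act {g : X} (hg : g ∈ normalizer (H.T : Set X)) :
    (g * H.c1 * g⁻¹ = H.c1 ∨ g * H.c1 * g⁻¹ = H.c1⁻¹) ∧
      (g * H.c3 * g⁻¹ = H.c3 ∨ g * H.c3 * g⁻¹ = H.c3⁻¹) := by
  obtain ⟨a, ha, e, he, rfl⟩ := H.mem_normalizer_T hg
  have key : ∀ c ∈ H.T, (e * c * e⁻¹ = c ∨ e * c * e⁻¹ = c⁻¹) →
      (a * e * c * (a * e)⁻¹ = c ∨ a * e * c * (a * e)⁻¹ = c⁻¹) := by
    intro c hc h
    rw [show a * e * c * (a * e)⁻¹ = a * (e * c * e⁻¹) * a⁻¹ by group]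
    rcases h with h | h <;> rw [h]
    · exact Or.inl (by rw [(H.T_comm ha hc).eq, mul_inv_cancel_right])
    · exact Or.inr (by rw [(H.T_comm ha (inv_mem hc)).eq, mul_inv_cancel_right])
  have hZ : ∀ {z}, z ∈ H.Z → ∀ x, z * x * z⁻¹ = x := fun hz x => by
    rw [(H.Z_comm hz x).eq, mul_inv_cancel_right]
  obtain ⟨z, hz, rfl | rfl | ⟨h2, rfl | rfl⟩⟩ := H.E_cases he
  · exact ⟨key _ H.c1_mem (Or.inl (hZ hz _)), key _ H.c3_mem (Or.inl (hZ hz _))⟩
  · exact ⟨key _ H.c1_mem (Or.inl (by rw [H.Z_conj hz, σ_conj_c1])),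
      key _ H.c3_mem (Or.inr (by rw [H.Z_conj hz, σ_conj_c3]))⟩
  · exact ⟨key _ H.c1_mem (Or.inr (by rw [H.Z_conj hz, s_inv]; exact H.s_c1 h2)),
      key _ H.c3_mem (Or.inl (by rw [H.Z_conj hz, s_conj_c3]))⟩
  · refine ⟨key _ H.c1_mem (Or.inr ?_), key _ H.c3_mem (Or.inr ?_)⟩
    · rw [H.Z_conj hz, show H.s * H.σ * H.c1 * (H.s * H.σ)⁻¹ = H.s * (H.σ * H.c1 * H.σ⁻¹) * H.s⁻¹ by group,
        σ_conj_c1, s_inv, H.s_c1 h2]
    · rw [H.Z_conj hz, show H.s * H.σ * H.c3 * (H.s * H.σ)⁻¹ = H.s * (H.σ * H.c3 * H.σ⁻¹) * H.s⁻¹ by group,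
        σ_conj_c3, ← conj_inv, s_conj_c3]

theorem c1_not_mem : H.c1 ∉ zpowers H.c3 := fun h => by
  obtain ⟨n, hn⟩ := mem_powers_iff_mem_zpowers.2 h
  have hn' : H.c3 ^ n = H.c1 := hn
  rw [pow_eq_pow_mod n H.c3_cube] at hn'
  have := H.exp_eq (i := 1) (j := 0) (k := 0) (l := n % 3) (by norm_num) (by norm_num) (by norm_num)
    (Nat.mod_lt _ (by norm_num)) (by simpa using hn'.symm)
  omega

theorem σ_not_mem : H.σ ∉ H.Z := fun h => by
  have h1 := H.σ_c3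
  rw [(H.Z_comm h H.c3).eq, mul_assoc, H.σ_sq, mul_one] at h1
  exact H.c3_ne (H.T_sq_ne H.c3_mem (mul_eq_one_iff_eq_inv.2 h1))

theorem s_not_mem (h2 : H.two) : H.s ∉ H.Z := fun h => by
  have h1 := H.s_c1 h2
  rw [(H.Z_comm h H.c1).eq, mul_assoc, H.s_sq, mul_one] at h1
  exact H.c1_ne (H.T_sq_ne H.c1_mem (mul_eq_one_iff_eq_inv.2 h1))

/-- An involution outside `⟨t⟩` centralises no subgroup of order nine. -/
theorem not_nine {x : X} (hx : x * x = 1) (hxZ : x ∉ H.Z) :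
    ¬ 9 ∣ Nat.card (centralizer ({x} : Set X)) := by
  intro h
  have : Fact (Nat.Prime 3) := ⟨Nat.prime_three⟩
  obtain ⟨B, hB⟩ := Sylow.exists_subgroup_card_pow_prime (G := centralizer ({x} : Set X)) 3 (n := 2)
    (by norm_num; exact h)
  set B' := B.map (centralizer ({x} : Set X)).subtype
  have hB' : Nat.card B' = 3 ^ 2 := by rw [card_map_of_injective (Subgroup.subtype_injective _), hB]
  obtain ⟨P, hP⟩ := (IsPGroup.of_card hB').exists_le_sylow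
  obtain ⟨S, hS⟩ := H.exists_sylow_T
  obtain ⟨g, hg⟩ := MulAction.exists_smul_eq X S P
  have hPc : Nat.card (P : Subgroup X) = 9 := by
    rw [← hg, Sylow.coe_subgroup_smul]
    exact (Coprime.card_conj g (S : Subgroup X)).trans (hS ▸ H.T_card)
  have hPB : (P : Subgroup X) = B' := (eq_of_le_of_card_ge hP (by rw [hPc, hB']; norm_num)).symm
  have hT : ∀ a ∈ H.T, Commute (g⁻¹ * x * g) a := fun a ha => by
    have h1 : MulAut.conj g a ∈ MulAut.conj g • (S : Subgroup X) :=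
      smul_mem_pointwise_smul _ _ _ (hS ▸ ha)
    rw [← Sylow.pointwise_smul_def, show MulAut.conj g • S = g • S from rfl, hg, hPB] at h1
    have h2 := mem_centralizer_singleton_iff.1 (map_subtype_le _ h1)
    rw [MulAut.conj_apply] at h2
    calc g⁻¹ * x * g * a = g⁻¹ * (x * (g * a * g⁻¹)) * g := by group
      _ = g⁻¹ * ((g * a * g⁻¹) * x) * g := by rw [h2]
      _ = a * (g⁻¹ * x * g) := by group
  have hmem := H.cent_T (mem_centralizer_iff.2 fun a ha => (hT a ha).eq.symm)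
  have := H.Z_normal
  obtain ⟨a, ha, z, hz, he⟩ := mem_sup_of_normal_right.1 hmem
  have hsq : (g⁻¹ * x * g) * (g⁻¹ * x * g) = 1 := by
    rw [show g⁻¹ * x * g * (g⁻¹ * x * g) = g⁻¹ * (x * x) * g by group, hx, mul_one, inv_mul_cancel]
  rw [← he, mul_assoc a z, ← mul_assoc z a z, (H.Z_comm hz a).eq, mul_assoc a z z, H.Z_sq hz, mul_one] at hsq
  rw [H.T_sq_ne ha hsq, one_mul] at he
  have h3 := H.Z_normal.conj_mem _ hz g
  rw [he, show g * (g⁻¹ * x * g) * g⁻¹ = x by group] at h3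
  exact hxZ h3

/-- The involutions `σ` and `s` are not fused, even modulo `t`. -/
theorem not_conj (h2 : H.two) {g z : X} (hz : z ∈ H.Z) : g * H.σ * g⁻¹ ≠ z * H.s := by
  intro he
  have : Fact (Nat.Prime 3) := ⟨Nat.prime_three⟩
  set C := centralizer ({H.s} : Set X)
  have hx : g * H.c1 * g⁻¹ ∈ C := by
    refine mem_centralizer_singleton_iff.2 ?_
    have h : Commute (g * H.c1 * g⁻¹) (z * H.s) := he ▸ (by
      have hc : Commute H.c1 H.σ := by
        have := H.σ_c1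
        calc H.c1 * H.σ = H.σ * H.c1 * H.σ * H.σ := by rw [this]
          _ = H.σ * H.c1 := by rw [mul_assoc, H.σ_sq, mul_one]
      exact hc.map (MulAut.conj g).toMonoidHom)
    have h' := (H.Z_comm (inv_mem hz) (g * H.c1 * g⁻¹)).symm.mul_right h
    rwa [inv_mul_cancel_left] at h'
  have hc3C : H.c3 ∈ C := mem_centralizer_singleton_iff.2 (mul_inv_eq_iff_eq_mul.1 H.s_conj_c3).symm
  have ho : ∀ y : X, y ^ 3 = 1 → y ≠ 1 → ∀ hy : y ∈ C, ∃ P : Sylow 3 C, (P : Subgroup C) = zpowers ⟨y, hy⟩ := by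
    intro y hy3 hy1 hy
    refine exists_sylow_of_normalizer (n := 1) _ ?_ fun hd => ?_
    · rw [Nat.card_zpowers, ← Subgroup.orderOf_coe, pow_one]
      exact orderOf_eq_prime hy3 hy1
    · exact H.not_nine H.s_sq (H.s_not_mem h2) ((hd.trans (card_subgroup_dvd_card _)).trans (dvd_refl _))
  have hx3 : (g * H.c1 * g⁻¹) ^ 3 = 1 := by rw [conj_pow, H.c1_cube, mul_one, mul_inv_cancel]
  have hx1 : g * H.c1 * g⁻¹ ≠ 1 := fun h => H.c1_ne (conj_eq_one_iff.1 h)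
  obtain ⟨P, hP⟩ := ho _ hx3 hx1 hx
  obtain ⟨Q, hQ⟩ := ho _ H.c3_cube H.c3_ne hc3C
  obtain ⟨h, hh⟩ := MulAction.exists_smul_eq C P Q
  have h1 : MulAut.conj h (⟨_, hx⟩ : C) ∈ MulAut.conj h • (P : Subgroup C) :=
    smul_mem_pointwise_smul _ _ _ (hP ▸ mem_zpowers _)
  rw [← Sylow.pointwise_smul_def, show MulAut.conj h • P = h • P from rfl, hh, hQ] at h1
  obtain ⟨i, hi⟩ := mem_zpowers_iff.1 h1
  have hi' : H.c3 ^ i = (h : X) * (g * H.c1 * g⁻¹) * (h : X)⁻¹ := by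
    have := congrArg Subtype.val hi
    rw [SubgroupClass.coe_zpow] at this
    exact this
  obtain ⟨S, hS⟩ := H.exists_sylow_T
  have : IsMulCommutative (S : Subgroup X) :=
    ⟨⟨fun a b => Subtype.ext (H.T_comm (hS.le a.2) (hS.le b.2))⟩⟩
  have e : ((h : X) * g)⁻¹⁻¹ * H.c1 * ((h : X) * g)⁻¹ = H.c3 ^ i := by rw [hi']; group
  obtain ⟨n, hn, hn2⟩ := S.conj_eq_normalizer_conj_of_mem H.c1 ((h : X) * g)⁻¹ (hS.ge H.c1_mem)
    (e ▸ hS.ge (zpow_mem H.c3_mem i))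
  have hn' : n⁻¹ ∈ normalizer (H.T : Set X) := inv_mem (hS ▸ hn)
  rw [e] at hn2
  have hmem : n⁻¹ * H.c1 * n⁻¹⁻¹ ∈ zpowers H.c3 := by
    rw [inv_inv, ← hn2]; exact zpow_mem (mem_zpowers _) i
  rcases (H.normalizer_T_act hn').1 with hh' | hh' <;> rw [hh'] at hmem
  · exact H.c1_not_mem hmem
  · exact H.c1_not_mem (inv_mem_iff.1 hmem)

/-- An element moving `dp` to itself or its inverse normalises `T` up to an element of `Rp`. -/
theorem exists_mul_mem_normalizer_T {g : X} (hg : g * H.dp * g⁻¹ = H.dp ∨ g * H.dp * g⁻¹ = H.dp⁻¹) :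
    ∃ u ∈ H.Rp, u * g ∈ normalizer (H.T : Set X) := by
  have : Fact (Nat.Prime 3) := ⟨Nat.prime_three⟩
  set C := centralizer ({H.dp} : Set X)
  have hTC : H.T ≤ C := fun a ha => mem_centralizer_singleton_iff.2 (H.T_comm ha H.dp_mem).eq
  obtain ⟨S, hS⟩ := H.exists_sylow_T
  have hgC : ((g • S : Sylow 3 X) : Subgroup X) ≤ C := by
    intro x hx
    rw [Sylow.coe_subgroup_smul, Coprime.mem_conj] at hx
    have h : Commute (g⁻¹ * x * g) H.dp := H.T_comm (hS.le hx) H.dp_mem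
    have h' := h.map (MulAut.conj g).toMonoidHom
    simp only [MulEquiv.coe_toMonoidHom, MulAut.conj_apply] at h'
    rw [show g * (g⁻¹ * x * g) * g⁻¹ = x by group] at h'
    refine mem_centralizer_singleton_iff.2 ?_
    rcases hg with e | e <;> rw [e] at h'
    · exact h'.eq
    · simpa using h'.inv_right.eq
  obtain ⟨c, hc⟩ := MulAction.exists_smul_eq C ((g • S).subtype hgC) (S.subtype (hS ▸ hTC))
  obtain ⟨a, ha, u, hu, hcu⟩ : ∃ a ∈ H.T, ∃ u ∈ H.Rp, a * u = (c : X) := by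
    obtain ⟨u, hu, a, ha, he⟩ := H.cent_dp c.2
    exact ⟨a, ha, a⁻¹ * u * a⁻¹⁻¹, (mem_normalizer_iff.1 (H.T_norm_p (inv_mem ha)) u).1 hu,
      by rw [he]; group⟩
  refine ⟨u, hu, ?_⟩
  have hn : (c : X) * g ∈ normalizer (H.T : Set X) := Coprime.mem_normalizer_of_forall fun x hx => by
    have hx' : g * x * g⁻¹ ∈ ((g • S : Sylow 3 X) : Subgroup X) := by
      rw [Sylow.coe_subgroup_smul, Coprime.conj_mem_conj]; exact hS.ge hx
    have h1 : MulAut.conj c (⟨_, hgC hx'⟩ : C) ∈ MulAut.conj c • (((g • S).subtype hgC : Sylow 3 C) : Subgroup C) :=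
      smul_mem_pointwise_smul _ _ _ hx'
    rw [← Sylow.pointwise_smul_def, show MulAut.conj c • (g • S).subtype hgC = c • (g • S).subtype hgC from rfl,
      hc] at h1
    have h2 : (c : X) * (g * x * g⁻¹) * (c : X)⁻¹ ∈ (S : Subgroup X) := h1
    rw [show (c : X) * g * x * ((c : X) * g)⁻¹ = (c : X) * (g * x * g⁻¹) * (c : X)⁻¹ by group]
    exact hS.le h2
  rw [show u * g = a⁻¹ * (a * u * g) by group, hcu]
  exact mul_mem (le_normalizer (inv_mem ha)) hn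

theorem exists_not_Z : ∃ u ∈ H.Rp, u ∉ H.Z := by
  by_contra! h
  have := card_le_of_le (show H.Rp ≤ H.Z from h)
  rw [H.p_card, H.card_Z] at this
  omega

/-- Nothing centralising `Rp` inverts `dp`. -/
theorem no_inv {g : X} (hgC : g ∈ centralizer (H.Rp : Set X)) : g * H.dp * g⁻¹ ≠ H.dp⁻¹ := by
  intro hg
  obtain ⟨u, hu, hx⟩ := H.exists_mul_mem_normalizer_T (Or.inr hg)
  set x := u * g
  have hdp : x * H.dp * x⁻¹ = H.dp⁻¹ := by
    rw [show x * H.dp * x⁻¹ = u * (g * H.dp * g⁻¹) * u⁻¹ by simp [x, mul_assoc], hg,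
      (H.p_fix u hu).inv_right.eq, mul_inv_cancel_right]
  have h3 : x * H.c3 * x⁻¹ = H.c3⁻¹ := by
    have e : x * H.dp * x⁻¹ = (x * H.c1 * x⁻¹) * (x * H.c3 * x⁻¹) := by
      rw [show H.dp = H.c1 * H.c3 from rfl]; group
    rw [hdp, show H.dp⁻¹ = H.c1 ^ 2 * H.c3 ^ 2 by
      rw [show H.dp = H.c1 * H.c3 from rfl, mul_inv_rev, c1_inv, c3_inv,
        (H.c_comm.symm.pow_pow 2 2).eq]] at e
    rcases (H.normalizer_T_act hx).2 with h | h
    · exfalso
      rw [h] at e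
      rcases (H.normalizer_T_act hx).1 with h' | h' <;> rw [h'] at e
      · have := H.exp_eq (i := 2) (j := 2) (k := 1) (l := 1) (by norm_num) (by norm_num) (by norm_num)
          (by norm_num) (by simpa using e)
        omega
      · rw [c1_inv] at e
        have := H.exp_eq (i := 2) (j := 2) (k := 2) (l := 1) (by norm_num) (by norm_num) (by norm_num)
          (by norm_num) (by simpa using e)
        omega
    · exact h
  obtain ⟨w, hw, hwZ⟩ := H.exists_not_Z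
  have hconj : ∀ v ∈ H.Rp, ∃ z ∈ H.Z, x * v * x⁻¹ = z * v := fun v hv => by
    refine ⟨u * v * u⁻¹ * v⁻¹, H.legP.comm_mem hu hv, ?_⟩
    rw [show x * v * x⁻¹ = u * (g * v * g⁻¹) * u⁻¹ by simp [x, mul_assoc],
      show g * v * g⁻¹ = v by rw [← hgC v hv, mul_inv_cancel_right]]
    group
  obtain ⟨z1, hz1, h1⟩ := hconj _ (H.p_c3 w hw)
  obtain ⟨z2, hz2, h2⟩ := hconj _ hw
  have e : x * (H.c3 * w * H.c3⁻¹) * x⁻¹ = z2 * (H.c3⁻¹ * w * H.c3) := by
    calc x * (H.c3 * w * H.c3⁻¹) * x⁻¹ = (x * H.c3 * x⁻¹) * (x * w * x⁻¹) * (x * H.c3 * x⁻¹)⁻¹ := by group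
      _ = H.c3⁻¹ * (z2 * w) * H.c3 := by rw [h3, h2, inv_inv]
      _ = H.c3⁻¹ * z2 * w * H.c3 := by group
      _ = z2 * (H.c3⁻¹ * w * H.c3) := by rw [← (H.Z_comm hz2 H.c3⁻¹).eq]; group
  rw [h1] at e
  have hv : H.c3⁻¹ * w * H.c3 ∈ H.Rp := by
    have := H.legP.c3_pow_conj 2 w hw
    rwa [← c3_inv, inv_inv] at this
  have hvZ : H.c3⁻¹ * w * H.c3 ∈ H.Z → False := fun hz => hwZ (by
    have := H.Z_normal.conj_mem _ hz H.c3
    rwa [show H.c3 * (H.c3⁻¹ * w * H.c3) * H.c3⁻¹ = w by group] at this)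
  refine hvZ (H.legP.fixed hv ?_)
  rw [show H.c3 * (H.c3⁻¹ * w * H.c3) * H.c3⁻¹ = w by group]
  -- `w` is `c3⁻¹ * (c3⁻¹ * w * c3) * c3` modulo `t`
  have e2 : H.c3⁻¹ * w * H.c3 = z2⁻¹ * z1 * (H.c3 * w * H.c3⁻¹) := by rw [mul_assoc z2⁻¹, e, inv_mul_cancel_left]
  have hz : z2⁻¹ * z1 ∈ H.Z := mul_mem (inv_mem hz2) hz1
  -- conjugate by `c3`
  have e3 : w = z2⁻¹ * z1 * (H.c3 ^ 2 * w * (H.c3 ^ 2)⁻¹) := by
    calc w = H.c3 * (H.c3⁻¹ * w * H.c3) * H.c3⁻¹ := by group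
      _ = H.c3 * (z2⁻¹ * z1) * (H.c3 * w * H.c3⁻¹) * H.c3⁻¹ := by rw [e2]; group
      _ = z2⁻¹ * z1 * (H.c3 ^ 2 * w * (H.c3 ^ 2)⁻¹) := by
        rw [← (H.Z_comm hz H.c3).eq, pow_two]; group
  rw [← c3_inv, inv_inv] at e3
  nth_rewrite 2 [e3]
  rw [← mul_assoc, ← (H.Z_comm hz _).eq, mul_assoc, inv_mul_cancel, mul_one]
  exact hz

theorem τ_sq : H.s * H.σ * (H.s * H.σ) = 1 := by
  rw [mul_assoc, ← mul_assoc H.σ, ← H.s_σ.eq, mul_assoc H.s H.σ, H.σ_sq, mul_one, H.s_sq]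

theorem τ_c3 : H.s * H.σ * H.c3 * (H.s * H.σ) = H.c3⁻¹ := by
  calc H.s * H.σ * H.c3 * (H.s * H.σ) = H.s * H.σ * H.c3 * (H.σ * H.s) := by rw [H.s_σ.eq]
    _ = H.s * (H.σ * H.c3 * H.σ) * H.s⁻¹ := by rw [s_inv]; group
    _ = H.c3⁻¹ := by rw [H.σ_c3, ← conj_inv, s_conj_c3]

theorem τ_p (h2 : H.two) {u : X} (hu : u ∈ H.Rp) : H.s * H.σ * u * (H.s * H.σ) ∈ H.Rp := by
  rw [show H.s * H.σ * u * (H.s * H.σ) = H.s * H.σ * u * (H.σ * H.s) by rw [H.s_σ.eq],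
    show H.s * H.σ * u * (H.σ * H.s) = H.s * (H.σ * u * H.σ) * H.s by group]
  exact H.s_conj_m h2 (H.σ_pm u hu)

theorem τ_inv : (H.s * H.σ)⁻¹ = H.s * H.σ := inv_eq_of_mul_eq_one_right H.τ_sq

theorem τ_norm_p (h2 : H.two) : H.s * H.σ ∈ normalizer (H.Rp : Set X) :=
  Coprime.mem_normalizer_of_forall fun u hu => by rw [τ_inv]; exact H.τ_p h2 hu

theorem mem_zpowers_τ {x : X} (hx : x ∈ zpowers (H.s * H.σ)) : x = 1 ∨ x = H.s * H.σ := by
  obtain ⟨i, rfl⟩ := mem_zpowers_iff.1 hx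
  rcases Int.even_or_odd' i with ⟨k, rfl | rfl⟩
  · exact Or.inl (by rw [zpow_mul, zpow_ofNat, pow_two, τ_sq, one_zpow])
  · exact Or.inr (by rw [zpow_add_one, zpow_mul, zpow_ofNat, pow_two, τ_sq, one_zpow, one_mul])

/-- The normaliser of `Rp` when its centraliser is as small as possible. -/
theorem normalizer_p_le (hsmall : ∀ x ∈ centralizer (H.Rp : Set X), ∃ z ∈ H.Z, ∃ i : ℕ, x = z * H.dp ^ i)
    {g : X} (hg : g ∈ normalizer (H.Rp : Set X)) :
    g ∈ H.Rp ⊔ H.T ∨ (H.two ∧ g ∈ H.Rp ⊔ H.T ⊔ zpowers (H.s * H.σ)) := by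
  have hdpC : H.dp ∈ centralizer (H.Rp : Set X) :=
    mem_centralizer_iff.2 fun v hv => (H.p_fix v hv).eq
  obtain ⟨z, hz, i, hi⟩ := hsmall (g * H.dp * g⁻¹) (mem_centralizer_iff.2 fun v hv => by
    have h1 : Commute (g⁻¹ * v * g) H.dp := H.p_fix _ ((mem_normalizer_iff''.1 hg v).1 hv)
    calc v * (g * H.dp * g⁻¹) = g * (g⁻¹ * v * g * H.dp) * g⁻¹ := by group
      _ = g * (H.dp * (g⁻¹ * v * g)) * g⁻¹ := by rw [h1.eq]
      _ = g * H.dp * g⁻¹ * v := by group)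
  have hd3 : H.dp ^ 3 = 1 := H.T_cube H.dp_mem
  have h3 : z = 1 := by
    have h := congrArg (· ^ 3) hi
    simp only [conj_pow, hd3, mul_one, mul_inv_cancel] at h
    rw [(H.Z_comm hz _).mul_pow, ← pow_mul, mul_comm i, pow_mul, hd3, one_pow, mul_one, pow_succ,
      pow_two, H.Z_sq hz, one_mul] at h
    exact h.symm
  rw [h3, one_mul, pow_eq_pow_mod i hd3] at hi
  have hor : g * H.dp * g⁻¹ = H.dp ∨ g * H.dp * g⁻¹ = H.dp⁻¹ := by
    have : i % 3 < 3 := Nat.mod_lt _ (by norm_num)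
    interval_cases h : i % 3
    · exact absurd (conj_eq_one_iff.1 (hi.trans (pow_zero _))) H.dp_ne
    · exact Or.inl (hi.trans (pow_one _))
    · exact Or.inr (hi.trans (inv_eq_of_mul_eq_one_right (by rw [← pow_succ', hd3])).symm)
  obtain ⟨u, hu, hug⟩ := H.exists_mul_mem_normalizer_T hor
  obtain ⟨a, ha, e, he, hae⟩ := H.mem_normalizer_T hug
  have hge : g = u⁻¹ * a * e := by rw [mul_assoc, ← hae, inv_mul_cancel_left]
  have hua : u⁻¹ * a ∈ H.Rp ⊔ H.T := mul_mem_sup (inv_mem hu) ha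
  have heN : e ∈ normalizer (H.Rp : Set X) := by
    rw [show e = a⁻¹ * u * g by rw [hge]; group]
    exact mul_mem (mul_mem (inv_mem (H.T_norm_p ha)) (le_normalizer hu)) hg
  obtain ⟨w, hw, hwZ⟩ := H.exists_not_Z
  have hbad : ∀ {y z : X}, z ∈ H.Z → z * y ∈ normalizer (H.Rp : Set X) → y * w * y⁻¹ ∈ H.Rm → False := by
    intro y z hz hy hm
    have hp : y * w * y⁻¹ ∈ H.Rp := by
      rw [← H.Z_conj hz]; exact (mem_normalizer_iff.1 hy w).1 hw
    have h := H.Z_normal.conj_mem _ (H.p_inf_m hp hm) y⁻¹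
    rw [show y⁻¹ * (y * w * y⁻¹) * y⁻¹⁻¹ = w by group] at h
    exact hwZ h
  obtain ⟨z, hz, rfl | rfl | ⟨h2, rfl | rfl⟩⟩ := H.E_cases he
  · exact Or.inl (hge ▸ mul_mem hua (mem_sup_left (H.legP.Z_le hz)))
  · exact (hbad hz heN (by rw [σ_inv]; exact H.σ_pm w hw)).elim
  · exact (hbad hz heN (by rw [s_inv]; exact H.s_pm h2 w hw)).elim
  · refine Or.inr ⟨h2, hge ▸ mul_mem (mem_sup_left hua) ?_⟩
    exact mul_mem (mem_sup_left (mem_sup_left (H.legP.Z_le hz))) (mem_sup_right (mem_zpowers _))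

/-- The centraliser of `Rp` is larger than `⟨t⟩ × ⟨dp⟩`. -/
theorem false_of_small
    (hsmall : ∀ x ∈ centralizer (H.Rp : Set X), ∃ z ∈ H.Z, ∃ i : ℕ, x = z * H.dp ^ i) : False := by
  have : Fact (Nat.Prime 2) := ⟨Nat.prime_two⟩
  have h72 : Nat.card (H.Rp ⊔ H.T : Subgroup X) = 72 := by
    rw [Coprime.card_sup_of_coprime H.T_norm_p (by rw [H.p_card, H.T_card]; norm_num), H.p_card, H.T_card]
  have hA := fun {g : X} => H.normalizer_p_le hsmall (g := g)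
  by_cases h2 : H.two
  swap
  · obtain ⟨P, hP⟩ := exists_sylow_of_normalizer (p := 2) (n := 3) H.Rp (H.p_card.trans (by norm_num))
      fun h => by
        have hd := h.trans (card_dvd_of_le fun g hg => (hA hg).resolve_right fun hh => h2 hh.1)
        rw [h72] at hd
        norm_num at hd
    obtain ⟨Q, hQ⟩ := (IsPGroup.of_card (p := 2) (n := 1) (show Nat.card (zpowers H.σ) = 2 ^ 1 by
      rw [Nat.card_zpowers, pow_one]
      exact orderOf_eq_prime (by rw [pow_two, H.σ_sq]) fun h => H.σ_not_mem (h ▸ one_mem _))).exists_le_sylow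
    obtain ⟨g, hg⟩ := MulAction.exists_smul_eq X Q P
    have h1 : MulAut.conj g H.σ ∈ MulAut.conj g • (Q : Subgroup X) :=
      smul_mem_pointwise_smul _ _ _ (hQ (mem_zpowers _))
    rw [← Sylow.pointwise_smul_def, show MulAut.conj g • Q = g • Q from rfl, hg, hP, MulAut.conj_apply] at h1
    have hz : g * H.σ * g⁻¹ ∈ H.Z := by
      by_contra hn
      have h4 := H.p_four _ h1 hn
      rw [show g * H.σ * g⁻¹ * (g * H.σ * g⁻¹) = g * (H.σ * H.σ) * g⁻¹ by group, H.σ_sq, mul_one,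
        mul_inv_cancel] at h4
      exact H.t_ne h4.symm
    have h5 := H.Z_normal.conj_mem _ hz g⁻¹
    rw [show g⁻¹ * (g * H.σ * g⁻¹) * g⁻¹⁻¹ = H.σ by group] at h5
    exact H.σ_not_mem h5
  set τ := H.s * H.σ with hτdef
  have hτN : zpowers τ ≤ normalizer (H.Rp : Set X) := zpowers_le.2 (H.τ_norm_p h2)
  have hτp : τ ∉ H.Rp := fun h => by
    have h1 : τ * H.dp = H.dp * τ := (H.p_fix τ h).eq
    have e : τ * H.dp * τ⁻¹ = H.dp⁻¹ := by
      rw [τ_inv, show H.dp = H.c1 * H.c3 from rfl,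
        show τ * (H.c1 * H.c3) * τ = (τ * H.c1 * τ) * (τ * τ)⁻¹ * (τ * H.c3 * τ) by group, τ_sq,
        inv_one, mul_one, τ_c3, mul_inv_rev, ← (H.c_comm.inv_inv).eq]
      congr 1
      calc τ * H.c1 * τ = H.s * H.σ * H.c1 * (H.σ * H.s) := by rw [hτdef, H.s_σ.eq]
        _ = H.s * (H.σ * H.c1 * H.σ) * H.s := by group
        _ = H.c1⁻¹ := by rw [H.σ_c1, H.s_c1 h2]
    rw [h1, mul_inv_cancel_right] at e
    exact H.dp_ne (H.T_sq_ne H.dp_mem (mul_eq_one_iff_eq_inv.2 e))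
  have hcτ : Nat.card (zpowers τ) = 2 := by
    rw [Nat.card_zpowers]
    exact orderOf_eq_prime (by rw [pow_two, τ_sq]) fun h => hτp (h ▸ one_mem _)
  set P2 := H.Rp ⊔ zpowers τ
  have hmem : ∀ {x : X}, x ∈ P2 → x ∈ H.Rp ∨ ∃ r ∈ H.Rp, x = r * τ := by
    intro x hx
    obtain ⟨r, hr, y, hy, rfl⟩ := (Coprime.mem_sup_iff hτN).1 hx
    rcases H.mem_zpowers_τ hy with rfl | rfl
    · exact Or.inl (by rwa [mul_one])
    · exact Or.inr ⟨r, hr, rfl⟩
  have h16 : Nat.card P2 = 2 ^ 4 := by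
    have h := Coprime.card_mul_inf H.Rp (zpowers τ)
    have hi : H.Rp ⊓ zpowers τ = ⊥ := (eq_bot_iff_forall _).2 fun x hx => by
      obtain ⟨hxp, hxτ⟩ := mem_inf.1 hx
      exact (H.mem_zpowers_τ hxτ).resolve_right fun e => hτp (by rw [e] at hxp; exact hxp)
    rw [hi, card_bot, mul_one, H.p_card, hcτ,
      ← Subgroup.coe_mul_of_right_le_normalizer_left H.Rp (zpowers τ) hτN] at h
    exact h.trans (by norm_num)
  have hL3 : ∀ r ∈ H.Rp, r * τ * (r * τ) ∈ H.Z → r * τ * (r * τ) = 1 := fun r hr h =>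
    sq_eq_one_of_inverting H.t_central H.t_sq H.τ_sq H.c3_cube H.τ_c3 (H.p_sq r hr) (H.p_fpf r hr) h
  have hNP : normalizer (P2 : Set X) ≤ normalizer (H.Rp : Set X) := fun g hg =>
    Coprime.mem_normalizer_of_forall fun u hu => by
      by_cases huZ : u ∈ H.Z
      · exact H.legP.Z_le (H.Z_normal.conj_mem u huZ g)
      rcases hmem ((mem_normalizer_iff.1 hg u).1 (mem_sup_left hu)) with h | ⟨r, hr, he⟩
      · exact h
      · exfalso
        have hsq : r * τ * (r * τ) = H.t := by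
          rw [← he, show g * u * g⁻¹ * (g * u * g⁻¹) = g * (u * u) * g⁻¹ by group, H.p_four u hu huZ,
            ← (H.t_central g).eq, mul_inv_cancel_right]
        exact H.t_ne (hsq.symm.trans (hL3 r hr (hsq ▸ H.t_mem)))
  obtain ⟨P, hP⟩ := exists_sylow_of_normalizer (p := 2) (n := 4) P2 h16 fun h => by
    have hle : normalizer (P2 : Set X) ≤ H.Rp ⊔ H.T ⊔ zpowers τ := hNP.trans fun g hg =>
      (hA hg).elim (fun h => mem_sup_left h) fun h => h.2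
    have hd := h.trans (card_dvd_of_le hle)
    have hTτ : zpowers τ ≤ normalizer ((H.Rp ⊔ H.T : Subgroup X) : Set X) := zpowers_le.2
      (Coprime.mem_normalizer_of_forall fun x hx => by
        obtain ⟨r, hr, a, ha, rfl⟩ := (Coprime.mem_sup_iff H.T_norm_p).1 hx
        rw [show τ * (r * a) * τ⁻¹ = (τ * r * τ⁻¹) * (τ * a * τ⁻¹) by group]
        refine mul_mem_sup ((mem_normalizer_iff.1 (H.τ_norm_p h2) r).1 hr) ?_
        exact (mem_normalizer_iff.1 (H.E_norm_T (mul_mem (subset_closure (by simp)) (subset_closure (by simp)))) a).1 ha)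
    have hc := Coprime.card_mul_inf (H.Rp ⊔ H.T) (zpowers τ)
    rw [h72, hcτ, ← Subgroup.coe_mul_of_right_le_normalizer_left _ (zpowers τ) hTτ] at hc
    have hd2 := hd.trans (Dvd.intro _ hc)
    norm_num at hd2
  -- the involutions of `P2` outside `⟨t⟩` are fused to `τ` modulo `t`
  have hclass : ∀ x : X, x * x = 1 → x ∉ H.Z → ∃ g, ∃ z ∈ H.Z, g * x * g⁻¹ = z * τ := by
    intro x hx hxZ
    obtain ⟨Q, hQ⟩ := (IsPGroup.of_card (p := 2) (n := 1) (show Nat.card (zpowers x) = 2 ^ 1 by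
      rw [Nat.card_zpowers, pow_one]
      exact orderOf_eq_prime (by rw [pow_two, hx]) fun h => hxZ (h ▸ one_mem _))).exists_le_sylow
    obtain ⟨g, hg⟩ := MulAction.exists_smul_eq X Q P
    have h1 : MulAut.conj g x ∈ MulAut.conj g • (Q : Subgroup X) :=
      smul_mem_pointwise_smul _ _ _ (hQ (mem_zpowers _))
    rw [← Sylow.pointwise_smul_def, show MulAut.conj g • Q = g • Q from rfl, hg, hP, MulAut.conj_apply] at h1
    have hy2 : g * x * g⁻¹ * (g * x * g⁻¹) = 1 := by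
      rw [show g * x * g⁻¹ * (g * x * g⁻¹) = g * (x * x) * g⁻¹ by group, hx, mul_one, mul_inv_cancel]
    have hyZ : g * x * g⁻¹ ∉ H.Z := fun h => hxZ (by
      have h5 := H.Z_normal.conj_mem _ h g⁻¹
      rwa [show g⁻¹ * (g * x * g⁻¹) * g⁻¹⁻¹ = x by group] at h5)
    rcases hmem h1 with hp | ⟨r, hr, he⟩
    · exact absurd ((H.p_four _ hp hyZ).symm.trans hy2) H.t_ne
    have hτr : τ * r * τ = r⁻¹ := by
      refine eq_inv_of_mul_eq_one_right ?_
      rw [show r * (τ * r * τ) = r * τ * (r * τ) by simp only [mul_assoc], ← he]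
      exact hy2
    set u := H.c3 * r * H.c3⁻¹ with hudef
    set w := H.c3 ^ 2 * r * (H.c3 ^ 2)⁻¹ with hwdef
    have hτu : τ * u⁻¹ * τ = w := by
      have hτc : τ * H.c3 * τ⁻¹ = H.c3⁻¹ := by rw [τ_inv]; exact H.τ_c3
      calc τ * u⁻¹ * τ = τ * u⁻¹ * τ⁻¹ := by rw [τ_inv]
        _ = (τ * H.c3 * τ⁻¹) * (τ * r * τ⁻¹)⁻¹ * (τ * H.c3 * τ⁻¹)⁻¹ := by rw [hudef]; group
        _ = w := by rw [hτc, τ_inv, hτr, hwdef, ← c3_inv, inv_inv, inv_inv]
    have hzuw : r * u * w ∈ H.Z := H.p_fpf r hr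
    refine ⟨u⁻¹ * g, (r * u * w)⁻¹ * (r * r), mul_mem (inv_mem hzuw) (H.p_sq r hr), ?_⟩
    have hz := mul_mem (inv_mem hzuw) (H.p_sq r hr)
    have hutu : u * τ * u⁻¹ = u * w * τ := by
      calc u * τ * u⁻¹ = u * (τ * u⁻¹ * τ) * (τ)⁻¹ := by group
        _ = u * w * τ := by rw [hτu, τ_inv]
    have hr' : r = (r * u * w)⁻¹ * (r * r) * (u * w) := by
      rw [mul_assoc, mul_assoc r r (u * w), ← mul_assoc (r * u * w)⁻¹, (H.Z_comm (inv_mem hzuw) r).eq,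
        mul_assoc, ← mul_assoc r u w, inv_mul_cancel, mul_one]
    calc u⁻¹ * g * x * (u⁻¹ * g)⁻¹ = u⁻¹ * (g * x * g⁻¹) * u := by group
      _ = u⁻¹ * ((r * u * w)⁻¹ * (r * r) * (u * w) * τ) * u := by rw [he, ← hr']
      _ = u⁻¹ * ((r * u * w)⁻¹ * (r * r) * (u * τ * u⁻¹)) * u := by rw [hutu]; group
      _ = u⁻¹ * ((r * u * w)⁻¹ * (r * r)) * u * τ := by group
      _ = _ := by rw [← (H.Z_comm hz u⁻¹).eq, inv_mul_cancel_right]
  obtain ⟨g, z, hz, hσ⟩ := hclass H.σ H.σ_sq H.σ_not_mem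
  obtain ⟨h, z', hz', hs⟩ := hclass H.s H.s_sq (H.s_not_mem h2)
  refine H.not_conj h2 (mul_mem hz (inv_mem hz')) (g := h⁻¹ * g) ?_
  calc h⁻¹ * g * H.σ * (h⁻¹ * g)⁻¹ = h⁻¹ * (g * H.σ * g⁻¹) * h := by group
    _ = h⁻¹ * (z * τ) * h := by rw [hσ]
    _ = h⁻¹ * (z * z'⁻¹ * (z' * τ)) * h := by group
    _ = z * z'⁻¹ * (h⁻¹ * (z' * τ) * h) := by
        rw [← mul_assoc h⁻¹, ← (H.Z_comm (mul_mem hz (inv_mem hz')) h⁻¹).eq]; group
    _ = z * z'⁻¹ * H.s := by rw [← hs]; group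

theorem T_norm_centralizer_p : H.T ≤ normalizer ((centralizer (H.Rp : Set X) : Subgroup X) : Set X) :=
  fun a ha => Coprime.mem_normalizer_of_forall fun x hx => mem_centralizer_iff.2 fun v hv => by
    have h : a⁻¹ * v * a * x = x * (a⁻¹ * v * a) :=
      mem_centralizer_iff.1 hx _ ((mem_normalizer_iff''.1 (H.T_norm_p ha) v).1 hv)
    calc v * (a * x * a⁻¹) = a * (a⁻¹ * v * a * x) * a⁻¹ := by group
      _ = a * (x * (a⁻¹ * v * a)) * a⁻¹ := by rw [h]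
      _ = a * x * a⁻¹ * v := by group

/-- What commutes with `Rp` and `dp`. -/
theorem cent_p_dp {x : X} (hx : x ∈ centralizer (H.Rp : Set X))
    (hd : x ∈ centralizer ({H.dp} : Set X)) : ∃ z ∈ H.Z, ∃ i : ℕ, x = z * H.dp ^ i := by
  obtain ⟨u, hu, a, ha, rfl⟩ := H.cent_dp hd
  obtain ⟨i, j, hi, hj, hij⟩ := H.mem_T ha
  obtain ⟨w, hw, hwZ⟩ := H.exists_not_Z
  -- `a` moves `w` as a power of `c3`
  have e : a = H.dp ^ i * H.c3 ^ (j + 2 * i) := by
    rw [show H.dp = H.c1 * H.c3 from rfl, H.c_comm.mul_pow, mul_assoc, ← pow_add, hij]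
    congr 1
    rw [pow_eq_pow_mod (i + (j + 2 * i)) H.c3_cube, pow_eq_pow_mod j H.c3_cube]
    congr 1
    omega
  have hdw : ∀ v ∈ H.Rp, Commute (H.dp ^ i) v := fun v hv => ((H.p_fix v hv).pow_right i).symm
  have key : ∀ v ∈ H.Rp, ∃ z ∈ H.Z, H.c3 ^ (j + 2 * i) * v * (H.c3 ^ (j + 2 * i))⁻¹ = z * v := by
    intro v hv
    set v' := H.c3 ^ (j + 2 * i) * v * (H.c3 ^ (j + 2 * i))⁻¹
    have hv' : v' ∈ H.Rp := H.legP.c3_pow_conj _ v hv
    have h1 : u * a * v * (u * a)⁻¹ = v := by rw [← hx v hv, mul_inv_cancel_right]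
    have h2 : u * a * v * (u * a)⁻¹ = u * v' * u⁻¹ := by
      rw [e, show u * (H.dp ^ i * H.c3 ^ (j + 2 * i)) * v * (u * (H.dp ^ i * H.c3 ^ (j + 2 * i)))⁻¹ =
        u * (H.dp ^ i * v' * (H.dp ^ i)⁻¹) * u⁻¹ by simp only [v']; group,
        (hdw _ hv').eq, mul_inv_cancel_right]
    rw [h2] at h1
    have h3 := H.legP.comm_mem hu hv'
    refine ⟨_, inv_mem h3, ?_⟩
    rw [h1]
    group
  have hk : (j + 2 * i) % 3 = 0 := by
    by_contra hk
    obtain ⟨z, hz, h⟩ := key w hw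
    rw [pow_eq_pow_mod _ H.c3_cube] at h
    have hlt : (j + 2 * i) % 3 < 3 := Nat.mod_lt _ (by norm_num)
    interval_cases hm : (j + 2 * i) % 3
    · exact hk rfl
    · rw [pow_one] at h
      exact hwZ (H.legP.fixed hw (by rw [h, (H.Z_comm hz w).eq, inv_mul_cancel_left]; exact hz))
    · rw [← c3_inv, inv_inv] at h
      refine hwZ (H.legP.fixed hw ?_)
      have e2 : w = z * (H.c3 * w * H.c3⁻¹) := by
        calc w = H.c3 * (H.c3⁻¹ * w * H.c3) * H.c3⁻¹ := by group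
          _ = H.c3 * z * w * H.c3⁻¹ := by rw [h]; group
          _ = _ := by rw [← (H.Z_comm hz H.c3).eq]; group
      rw [show H.c3 * w * H.c3⁻¹ = z⁻¹ * w by rw [eq_inv_mul_iff_mul_eq]; exact e2.symm,
        (H.Z_comm (inv_mem hz) w).eq, inv_mul_cancel_left]
      exact inv_mem hz
  have ea : a = H.dp ^ i := by
    rw [e, pow_eq_pow_mod _ H.c3_cube, hk, pow_zero, mul_one]
  subst ea
  refine ⟨u, H.center_p hu fun v hv => ?_, i, rfl⟩
  have h1 : Commute (u * H.dp ^ i) v := (hx v hv).symm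
  have h2 := h1.mul_left (hdw v hv).inv_left
  rwa [mul_inv_cancel_right] at h2

/-- The complement in the centraliser of `Rp`. -/
theorem exists_complement :
    ∃ L : Subgroup X, L ≤ centralizer (H.Rp : Set X) ∧ (Nat.card L).Coprime 3 ∧
      H.T ≤ normalizer (L : Set X) ∧ H.Z ≤ L ∧
      ∀ x ∈ centralizer (H.Rp : Set X), ∃ l ∈ L, ∃ i : ℕ, x = l * H.dp ^ i := by
  have : Fact (Nat.Prime 3) := ⟨Nat.prime_three⟩
  set C0 := centralizer (H.Rp : Set X)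
  let d0 : C0 := ⟨H.dp, mem_centralizer_iff.2 fun v hv => (H.p_fix v hv).eq⟩
  have ho : orderOf d0 = 3 := by
    rw [← Subgroup.orderOf_coe]
    exact orderOf_eq_prime (H.T_cube H.dp_mem) H.dp_ne
  have hN : normalizer ((zpowers d0 : Subgroup C0) : Set C0) ≤ centralizer ((zpowers d0 : Subgroup C0) : Set C0) := by
    intro g hg
    obtain ⟨n, hn⟩ := mem_powers_iff_mem_zpowers.2 ((mem_normalizer_iff.1 hg d0).1 (mem_zpowers _))
    have hn' : (g : X) * H.dp * (g : X)⁻¹ = H.dp ^ (n % 3) := by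
      rw [← pow_eq_pow_mod n (H.T_cube H.dp_mem)]
      exact (congrArg Subtype.val hn).symm
    have hc : Commute (g : X) H.dp := by
      have : n % 3 < 3 := Nat.mod_lt _ (by norm_num)
      interval_cases h : n % 3
      · exact absurd (conj_eq_one_iff.1 (hn'.trans (pow_zero _))) H.dp_ne
      · rw [pow_one, mul_inv_eq_iff_eq_mul] at hn'
        exact hn'
      · exact absurd (hn'.trans (inv_eq_of_mul_eq_one_right
          (by rw [← pow_succ', H.T_cube H.dp_mem])).symm) (H.no_inv g.2)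
    refine mem_centralizer_iff.2 fun y hy => ?_
    obtain ⟨m, rfl⟩ := mem_zpowers_iff.1 hy
    have hc' : Commute g d0 := Subtype.ext hc.eq
    exact ((hc'.zpow_right m).symm).eq
  have hle : normalizer ((zpowers d0 : Subgroup C0) : Set C0) ≤ (H.Z ⊔ zpowers H.dp).subgroupOf C0 := fun g hg => by
    have h := mem_centralizer_iff.1 (hN hg) d0 (mem_zpowers _)
    obtain ⟨z, hz, i, hi⟩ := H.cent_p_dp g.2 (mem_centralizer_singleton_iff.2 (congrArg Subtype.val h).symm)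
    rw [mem_subgroupOf, hi]
    exact mul_mem_sup hz (pow_mem (mem_zpowers _) i)
  obtain ⟨P, hP⟩ := exists_sylow_of_normalizer (p := 3) (n := 1) (zpowers d0)
    (by rw [Nat.card_zpowers, ho, pow_one]) fun h => by
      have hd := h.trans (card_dvd_of_le hle)
      rw [← inf_subgroupOf_right, Nat.card_congr (subgroupOfEquivOfLe inf_le_right).toEquiv] at hd
      have hd' := hd.trans (card_dvd_of_le inf_le_left)
      have hzd : zpowers H.dp ≤ normalizer (H.Z : Set X) := by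
        rw [normalizer_eq_top_iff.2 H.Z_normal]; exact le_top
      rw [Coprime.card_sup_of_coprime hzd (by
        rw [H.card_Z, Nat.card_zpowers, orderOf_eq_prime (H.T_cube H.dp_mem) H.dp_ne]; norm_num),
        H.card_Z, Nat.card_zpowers, orderOf_eq_prime (H.T_cube H.dp_mem) H.dp_ne] at hd'
      norm_num at hd'
  have hPC : normalizer ((P : Subgroup C0) : Set C0) ≤ centralizer ((P : Subgroup C0) : Set C0) := by
    rw [hP]; exact hN
  set ψ := MonoidHom.transferSylow P hPC with hψ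
  have hcomp := MonoidHom.ker_transferSylow_isComplement' P hPC
  set L := ψ.ker.map C0.subtype with hL
  have hLC : L ≤ C0 := map_subtype_le _
  have hcard : (Nat.card L).Coprime 3 := by
    rw [hL, card_map_of_injective C0.subtype_injective, ← hcomp.index_eq_card]
    exact ((Nat.Prime.coprime_iff_not_dvd Nat.prime_three).2 P.not_dvd_index).symm
  have hP3 : Nat.card (P : Subgroup C0) = 3 := by rw [hP, Nat.card_zpowers, ho]
  have hmem : ∀ x ∈ C0, ∀ n : ℕ, n.Coprime 3 → x ^ n = 1 → x ∈ L := by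
    intro x hx n hn hxn
    refine ⟨⟨x, hx⟩, ?_, rfl⟩
    refine TwoFusion.eq_one_of_pow_eq_one_of_coprime (m := n) (n := 3) ?_ ?_ hn
    · rw [← map_pow, show (⟨x, hx⟩ : C0) ^ n = 1 from Subtype.ext hxn, map_one]
    · have h := pow_card_eq_one' (x := ψ (⟨x, hx⟩ : C0))
      rwa [hP3] at h
  refine ⟨L, hLC, hcard, fun a ha => Coprime.mem_normalizer_of_forall fun x hx => ?_, ?_, fun x hx => ?_⟩
  · refine hmem _ ((mem_normalizer_iff.1 (H.T_norm_centralizer_p ha) x).1 (hLC hx)) _ hcard ?_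
    rw [conj_pow, pow_card_eq_one_mem hcard hx, mul_one, mul_inv_cancel]
  · refine zpowers_le.2 (hmem _ (mem_centralizer_iff.2 fun v _ => ((H.t_central v).eq).symm) 2 (by norm_num) ?_)
    rw [pow_two, H.t_sq]
  · have htop : ψ.ker ⊔ (P : Subgroup C0) = ⊤ := hcomp.sup_eq_top
    obtain ⟨l, hl, p, hp, he⟩ := mem_sup_of_normal_left.1 (htop ▸ mem_top (⟨x, hx⟩ : C0))
    obtain ⟨i, rfl⟩ := mem_powers_iff_mem_zpowers.2 (hP ▸ hp)
    exact ⟨l, ⟨l, hl, rfl⟩, i, (congrArg Subtype.val he).symm⟩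

/-- (A): `Rp` commutes with `Rm`, or with a large `Rc`. -/
theorem commute_or : (∀ u ∈ H.Rp, ∀ v ∈ H.Rm, Commute u v) ∨
    ((∀ u ∈ H.Rc, ∀ v ∈ H.Rp, Commute u v) ∧ Nat.card H.Rc = 8) := by
  obtain ⟨L, hLC, hL3, hTL, hZL, hdec⟩ := H.exists_complement
  have hc3 : ∀ {R : Subgroup X}, H.Leg R → ∀ u ∈ L ⊓ R, H.c3 * u * H.c3⁻¹ ∈ L ⊓ R := fun hR u hu =>
    mem_inf.2 ⟨(mem_normalizer_iff.1 (hTL H.c3_mem) u).1 (mem_inf.1 hu).1, hR.c3_conj u (mem_inf.1 hu).2⟩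
  rcases H.legM.between (Q := L ⊓ H.Rm) inf_le_right (mem_inf.2 ⟨hZL H.t_mem, H.t_m⟩) (hc3 H.legM)
    with hm | hm
  swap
  · refine Or.inl fun u hu v hv => ?_
    exact (mem_centralizer_iff.1 (hLC (mem_inf.1 (hm.ge hv)).1) u hu)
  rcases H.c_card with hc2 | ⟨hc8, -⟩
  swap
  · rcases H.legC.between (Q := L ⊓ H.Rc) inf_le_right (mem_inf.2 ⟨hZL H.t_mem, H.t_c⟩) (hc3 H.legC)
      with hc | hc
    swap
    · refine Or.inr ⟨fun u hu v hv => ?_, hc8⟩
      exact (mem_centralizer_iff.1 (hLC (mem_inf.1 (hc.ge hu)).1) v hv).symm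
    refine (H.false_of_small fun x hx => ?_).elim
    have hLZ : L ≤ H.Z := H.le_of_legs hL3 hTL le_rfl
      (fun u hu hp => H.center_p hp fun v hv => (mem_centralizer_iff.1 (hLC hu) v hv).symm)
      (fun u hu hm' => hm (mem_inf.2 ⟨hu, hm'⟩)) (fun u hu hc' => hc (mem_inf.2 ⟨hu, hc'⟩))
    obtain ⟨l, hl, i, hi⟩ := hdec x hx
    exact ⟨l, hLZ hl, i, hi⟩
  refine (H.false_of_small fun x hx => ?_).elim
  have hcZ : H.Rc = H.Z := (eq_of_le_of_card_ge H.legC.Z_le (by rw [hc2, H.card_Z])).symm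
  have hLZ : L ≤ H.Z := H.le_of_legs hL3 hTL le_rfl
    (fun u hu hp => H.center_p hp fun v hv => (mem_centralizer_iff.1 (hLC hu) v hv).symm)
    (fun u hu hm' => hm (mem_inf.2 ⟨hu, hm'⟩)) (fun u _ hc' => hcZ ▸ hc')
  obtain ⟨l, hl, i, hi⟩ := hdec x hx
  exact ⟨l, hLZ hl, i, hi⟩

end Cfsg.Agent.OEightThree.PairHyp
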