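import Cfsg.Agent.EqLemmas
import Mathlib

/-
The local configuration of the pair group `X = C(t,e)/⟨e⟩` in the recognition of `Ω⁺₈(2)` extensions:
`T = ⟨c₁,c₃⟩` of order nine with centralisers of its elements, the groups `Rp, Rm` and a possible `Rc`.
-/

set_option autoImplicit false

namespace Cfsg.Agent.OEightThree

/-- The hypotheses on the pair group. -/
structure PairHyp (X : Type*) [Group X] [Finite X] where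
  two : Prop
  t : X
  c1 : X
  c3 : X
  σ : X
  s : X
  Rp : Subgroup X
  Rm : Subgroup X
  Rc : Subgroup X
  t_ne : t ≠ 1
  t_sq : t * t = 1
  t_central : ∀ g, Commute t g
  c1_cube : c1 ^ 3 = 1
  c3_cube : c3 ^ 3 = 1
  c_comm : Commute c1 c3
  T_card : Nat.card ↥(Subgroup.closure ({c1, c3} : Set X)) = 9
  σ_sq : σ * σ = 1
  σ_c1 : σ * c1 * σ = c1
  σ_c3 : σ * c3 * σ = c3⁻¹
  s_one : ¬ two → s = 1
  s_sq : s * s = 1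
  s_c1 : two → s * c1 * s = c1⁻¹
  s_c3 : s * c3 * s = c3
  s_σ : Commute s σ
  p_card : Nat.card Rp = 8
  m_card : Nat.card Rm = 8
  c_card : Nat.card Rc = 2 ∨ (Nat.card Rc = 8 ∧ two)
  t_p : t ∈ Rp
  t_m : t ∈ Rm
  t_c : t ∈ Rc
  p_sq : ∀ u ∈ Rp, u * u ∈ Subgroup.zpowers t
  p_four : ∀ u ∈ Rp, u ∉ Subgroup.zpowers t → u * u = t
  m_sq : ∀ u ∈ Rm, u * u ∈ Subgroup.zpowers t
  c_sq : ∀ u ∈ Rc, u * u ∈ Subgroup.zpowers t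
  p_c3 : ∀ u ∈ Rp, c3 * u * c3⁻¹ ∈ Rp
  m_c3 : ∀ u ∈ Rm, c3 * u * c3⁻¹ ∈ Rm
  c_c3 : ∀ u ∈ Rc, c3 * u * c3⁻¹ ∈ Rc
  p_fix : ∀ u ∈ Rp, Commute u (c1 * c3)
  m_fix : ∀ u ∈ Rm, Commute u (c1⁻¹ * c3)
  c_fix : ∀ u ∈ Rc, Commute u c1
  p_fpf : ∀ u ∈ Rp, u * (c3 * u * c3⁻¹) * (c3 ^ 2 * u * (c3 ^ 2)⁻¹) ∈ Subgroup.zpowers t
  m_fpf : ∀ u ∈ Rm, u * (c3 * u * c3⁻¹) * (c3 ^ 2 * u * (c3 ^ 2)⁻¹) ∈ Subgroup.zpowers t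
  c_fpf : ∀ u ∈ Rc, u * (c3 * u * c3⁻¹) * (c3 ^ 2 * u * (c3 ^ 2)⁻¹) ∈ Subgroup.zpowers t
  σ_pm : ∀ u ∈ Rp, σ * u * σ ∈ Rm
  σ_c : ∀ u ∈ Rc, σ * u * σ ∈ Rc
  s_pm : two → ∀ u ∈ Rp, s * u * s ∈ Rm
  s_c : ∀ u ∈ Rc, s * u * s ∈ Rc
  cent_p : Subgroup.centralizer ({c1 * c3} : Set X) ≤ Subgroup.closure ({c1, c3} : Set X) ⊔ Rp
  cent_m : Subgroup.centralizer ({c1⁻¹ * c3} : Set X) ≤ Subgroup.closure ({c1, c3} : Set X) ⊔ Rm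
  cent_c3 : Subgroup.centralizer ({c3} : Set X) ≤ Subgroup.closure ({c1, c3, t, s} : Set X)
  cent_c1 : Subgroup.centralizer ({c1} : Set X) ≤ Subgroup.closure ({c1, c3, t, σ} : Set X) ⊔ Rc
  norm_T : Subgroup.normalizer ((Subgroup.closure ({c1, c3} : Set X) : Subgroup X) : Set X) ≤
    Subgroup.closure ({c1, c3, t, σ, s} : Set X)

end Cfsg.Agent.OEightThree
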