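import Cfsg.Agent.Lib.OEightThree.Mono

/-
For a singular vector `x` of `E` the elements of order dividing four commuting with `t`, `v x` and the part of
`E` orthogonal to `x` form a quaternion group `R x` of order eight; the centraliser of these is `E_x R x ⟨j⟩`.
-/

set_option autoImplicit false
set_option maxRecDepth 20000
set_option maxHeartbeats 1000000

namespace Cfsg.Agent.OEightThree

theorem sl23_q8 : (∀ A : SL23, A ^ 4 = 1 → A * A = 1 ∨ A * A = negI) ∧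
    (∀ A B : SL23, A ^ 4 = 1 → B ^ 4 = 1 → (A * B) ^ 4 = 1) ∧
    (∀ A : SL23, (A ^ 4 = 1 → A ^ 9 = A) ∧ ((A = 1 ∨ A = negI) → A ^ 4 = 1)) := by decide +kernel

theorem sl23_three_q8 : ∀ S A : SL23, S ^ 3 = 1 → S ≠ 1 → A ^ 4 = 1 →
    (A = 1 ∨ A = negI ∨ A * (S * A * S⁻¹) = S * S * A * (S * S)⁻¹ ∨
      A * (S * A * S⁻¹) = negI * (S * S * A * (S * S)⁻¹)) ∧
    (A * (S * A * S⁻¹) * (S ^ 2 * A * (S ^ 2)⁻¹) = 1 ∨ A * (S * A * S⁻¹) * (S ^ 2 * A * (S ^ 2)⁻¹) = negI) := by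
  decide +kernel

theorem sl23_split : ∀ S A : SL23, S ^ 3 = 1 → S ≠ 1 → ∃ i : Fin 3, (A * S ^ i.val) ^ 4 = 1 := by decide +kernel

theorem perp_zv : ∀ y : V4, y 0 = 0 → dot zv y = 0 → ∃ c d : ZMod 3, y = c • zv + d • a2v := by decide +kernel

theorem zv_a2v : zv 0 = 0 ∧ a2v 0 = 0 ∧ dot zv a2v = 0 ∧ dot zv zv = 0 ∧ jv 0 = 0 ∧ fT zv = zv ∧ fT a2v = a2v ∧
    fT jv = jv ∧ fU a2v = -a2v ∧ fU zv = zv ∧ cJ a2v = 0 := by decide +kernel

theorem sl23_three_q8' : ∀ S A : SL23, S ^ 3 = 1 → S ≠ 1 → A ^ 4 = 1 →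
    A * (S ^ 2 * A * (S ^ 2)⁻¹) * ((S ^ 2) ^ 2 * A * ((S ^ 2) ^ 2)⁻¹) = 1 ∨
      A * (S ^ 2 * A * (S ^ 2)⁻¹) * ((S ^ 2) ^ 2 * A * ((S ^ 2) ^ 2)⁻¹) = negI := by
  decide +kernel

theorem perp_zv_mul : ∀ y : V4, y 0 = 0 → ∃ c d : ZMod 3, y = c • zv + d • a2v + cJ y • jv := by decide +kernel

theorem dot_zv_cJ : ∀ y : V4, dot zv y = -cJ y := by decide +kernel

theorem fC_ne_fU : ∀ e : Fin 2, ∀ p r : Fin 3, fC e 0 p r av = fU av → fC e 0 p r a2v = fU a2v → False := by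
  decide +kernel

theorem a2v_neg_ne : ∀ m : ZMod 3, -a2v = a2v + m • zv → False := by decide +kernel

theorem fix_fT_zero : ∀ x : V4, fT x = x ↔ x 0 = 0 := by decide +kernel

theorem sign_transport : ∀ x : V4, x 0 = 0 → qf x = 0 → x ≠ 0 → ∃ a b c : Fin 2,
    (sgC 0)^[a.val] ((sgC 1)^[b.val] ((sgC 2)^[c.val] zv)) = x := by decide +kernel

namespace FrameData

variable {G : Type*} [Group G] [Finite G] (F : FrameData G)

/-- The generating set of `R x`. -/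
def Rset (x : V4) : Set G :=
  {g | g ^ 4 = 1 ∧ Commute g F.U.t ∧ Commute g (F.v x) ∧ ∀ y, y 0 = 0 → dot x y = 0 → Commute g (F.v y)}

/-- The quaternion group at the singular vector `x`. -/
def R (x : V4) : Subgroup G := Subgroup.closure (F.Rset x)

theorem v_comm_t {x : V4} (hx : x 0 = 0) : Commute (F.v x) F.U.t := by
  have e := F.t_act x
  rw [(fix_fT_zero x).2 hx] at e
  exact (mul_inv_eq_iff_eq_mul.1 e).symm

theorem inC_of_comm {g : G} (h : Commute g (F.v zv)) : F.U.InC g := by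
  rw [F.v_z] at h; exact h

theorem a2_not_Zs : F.v a2v ∉ F.U.Zs := fun h => by
  obtain ⟨k, hk⟩ := F.U.exists_exp h
  rw [← F.v_z, ← F.v_smul] at hk
  exact (show ∀ k : ZMod 3, a2v ≠ k • zv by decide +kernel) k (F.v_inj hk)

theorem Q2_fix {g : G} (hg : F.U.InC g) (hε : F.U.ε g = 1) (hπ : F.U.π g ^ 4 = 1) :
    ∃ s m : ZMod 3, s ≠ 0 ∧ g * F.v a2v * g⁻¹ = F.v (s • a2v + m • zv) := by
  obtain ⟨hQ2, c2, z2, n2⟩ := F.U.factor_Q2
  set u := F.v a2v with hu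
  have huQ : u ∈ F.U.Q := F.v_mem_Q_iff.2 zv_a2v.2.2.2.2.2.2.2.2.2.2
  have hu2 : u ∈ F.U.Q2 := F.U.mem_Q2.2 ⟨huQ, (F.v_comm_t zv_a2v.2.1).eq⟩
  have huz : u ∉ F.U.Zs := fun h => by
    obtain ⟨k, hk⟩ := F.U.exists_exp h
    rw [hu, ← F.v_z, ← F.v_smul] at hk
    exact (show ∀ k : ZMod 3, a2v ≠ k • zv by decide +kernel) k (F.v_inj hk)
  set L := g * u * g⁻¹ with hL
  have hLQ : L ∈ F.U.Q := F.U.normal g hg u huQ
  have hL2 : L ∈ F.U.Q2 := F.U.Q2_normal hg hu2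
  -- the square acts trivially
  obtain ⟨k, hk, hkC, hkπ, hkε, hku⟩ : ∃ k, k * u * k⁻¹ = u ∧ F.U.InC k ∧ F.U.π k = F.U.π g * F.U.π g ∧
      F.U.ε k = 1 ∧ True := by
    rcases sl23_q8.1 _ hπ with h | h
    · exact ⟨1, by simp, F.U.inC_one, by rw [F.U.π_one, h], F.U.ε_one, trivial⟩
    · refine ⟨F.U.t, ?_, F.U.inC_t, by rw [F.U.t_π, h], F.U.t_ε, trivial⟩
      rw [hu, (F.v_comm_t zv_a2v.2.1).eq.symm, mul_inv_cancel_right]
  have hggC := F.U.inC_mul hg hg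
  have hq := F.U.mem_of_eq hkC hggC (by rw [hkπ, F.U.π_mul _ _ hg hg])
    (by rw [hkε, F.U.ε_mul _ _ hg hg, hε, one_mul])
  have hgL : g * L * g⁻¹ = u * F.U.z ^ (F.U.f (k⁻¹ * (g * g)) u).val := by
    have e : g * L * g⁻¹ = k * ((k⁻¹ * (g * g)) * u * (k⁻¹ * (g * g))⁻¹) * k⁻¹ := by rw [hL]; group
    rw [e, F.U.conj_eq hq huQ]
    have hz := F.U.Zs_C (F.U.mem_Zs_pow (n := (F.U.f (k⁻¹ * (g * g)) u).val)) (F.U.inC_inv hkC)
    calc k * (u * F.U.z ^ (F.U.f (k⁻¹ * (g * g)) u).val) * k⁻¹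
        = k * u * (F.U.z ^ (F.U.f (k⁻¹ * (g * g)) u).val * k⁻¹) := by group
      _ = _ := by rw [← hz, ← mul_assoc, hk]
  have hf0 : F.U.f u L = 0 := by
    have h1 := F.U.f_conj hg huQ hLQ
    rw [← hL, hgL, F.U.f_mul_right hLQ huQ (F.U.Zs_le F.U.mem_Zs_pow), F.U.f_Zs_right hLQ F.U.mem_Zs_pow, add_zero,
      F.U.f_swap huQ hLQ] at h1
    exact (show ∀ w : ZMod 3, -w = w → w = 0 by decide) _ h1
  obtain ⟨j, hj⟩ := F.U.centralizer_in_factor hQ2 c2 z2 n2 hu2 huz hL2 hf0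
  obtain ⟨m, hm⟩ := F.U.exists_exp hj
  have hLeq : L = F.v ((j : ZMod 3) • a2v + m • zv) := by
    have hpow : u ^ j = F.v ((j : ZMod 3) • a2v) := by
      rw [F.v_smul, ← hu, ZMod.val_natCast]
      exact pow_eq_pow_mod j (F.v_cube a2v)
    rw [F.v_add, ← hpow, F.v_smul, F.v_z, ← hm]
    group
  refine ⟨(j : ZMod 3), m, fun h0 => huz ?_, hLeq⟩
  rw [h0, zero_smul, zero_add, F.v_smul, F.v_z] at hLeq
  have e := F.U.Zs_C (F.U.mem_Zs_pow (n := m.val)) (F.U.inC_inv hg)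
  have : u = F.U.z ^ m.val := by
    calc u = g⁻¹ * L * g := by rw [hL]; group
      _ = _ := by rw [hLeq, e, inv_mul_cancel_right]
  rw [this]; exact F.U.mem_Zs_pow

theorem q8_fix {g : G} (hg : F.U.InC g) (hε : F.U.ε g = 1) (hπ : F.U.π g ^ 4 = 1) :
    ∃ m : ZMod 3, g * F.v a2v * g⁻¹ = F.v (a2v + m • zv) := by
  have hzc : ∀ {h : G}, F.U.InC h → ∀ m : ZMod 3, h * F.v (m • zv) * h⁻¹ = F.v (m • zv) := fun {h} hh m => by
    rw [F.v_smul, F.v_z, (Commute.pow_right hh _).eq, mul_inv_cancel_right]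
  have hjC := F.v_C jv
  have hjfix : ∀ (i : ℕ) (y : V4), F.v jv ^ i * F.v y * (F.v jv ^ i)⁻¹ = F.v y := fun i y => by
    rw [(Commute.pow_left (F.v_comm jv y : Commute (F.v jv) (F.v y)) i).eq, mul_inv_cancel_right]
  -- the sign
  have sgn : ∀ h : G, F.U.InC h → F.U.ε h = 1 → F.U.π h ^ 4 = 1 → ∀ h' : G, F.U.InC h' → F.U.π h' = F.U.π h →
      F.U.ε h' = 1 → ∀ s m : ZMod 3, h * F.v a2v * h⁻¹ = F.v (s • a2v + m • zv) →
      ∃ m' : ZMod 3, h' * F.v a2v * h'⁻¹ = F.v (s • a2v + m' • zv) := by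
    intro h hh hhε _ h' hh' hπ' hε' s m e
    have hq := F.U.mem_of_eq hh hh' hπ'.symm (hhε.trans hε'.symm)
    have huQ : F.v a2v ∈ F.U.Q := F.v_mem_Q_iff.2 zv_a2v.2.2.2.2.2.2.2.2.2.2
    refine ⟨m + F.U.f (h⁻¹ * h') (F.v a2v), ?_⟩
    calc h' * F.v a2v * h'⁻¹ = h * ((h⁻¹ * h') * F.v a2v * (h⁻¹ * h')⁻¹) * h⁻¹ := by group
      _ = h * (F.v a2v * F.v ((F.U.f (h⁻¹ * h') (F.v a2v)) • zv)) * h⁻¹ := by
          rw [F.U.conj_eq hq huQ, F.v_smul, F.v_z]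
      _ = (h * F.v a2v * h⁻¹) * (h * F.v ((F.U.f (h⁻¹ * h') (F.v a2v)) • zv) * h⁻¹) := by group
      _ = _ := by rw [e, hzc hh, ← F.v_add]; congr 1; module
  obtain ⟨s, m, hs0, hs⟩ := F.Q2_fix hg hε hπ
  refine ⟨m, ?_⟩
  suffices s = 1 by rw [hs, this, one_smul]
  set j := F.v jv
  have hjε : F.U.ε j = 1 := F.eps_v jv
  have conjj : ∀ i : ℕ, F.U.InC (j ^ i * g * (j ^ i)⁻¹) ∧ F.U.ε (j ^ i * g * (j ^ i)⁻¹) = 1 ∧
      F.U.π (j ^ i * g * (j ^ i)⁻¹) = F.U.π j ^ i * F.U.π g * (F.U.π j ^ i)⁻¹ ∧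
      j ^ i * g * (j ^ i)⁻¹ * F.v a2v * (j ^ i * g * (j ^ i)⁻¹)⁻¹ = F.v (s • a2v + m • zv) := by
    intro i
    have hji := F.U.inC_pow hjC i
    have h1 := F.U.inC_mul hji hg
    refine ⟨F.U.inC_mul h1 (F.U.inC_inv hji), ?_, ?_, ?_⟩
    · rw [F.U.ε_mul _ _ h1 (F.U.inC_inv hji), F.U.ε_mul _ _ hji hg, F.U.ε_inv hji, F.U.ε_pow hjC, hjε, hε]; simp
    · rw [F.U.π_mul _ _ h1 (F.U.inC_inv hji), F.U.π_mul _ _ hji hg, F.U.π_inv hji, F.U.π_pow hjC]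
    · have hjinv : (j ^ i)⁻¹ * F.v a2v * j ^ i = F.v a2v := by
        have := hjfix i a2v
        calc (j ^ i)⁻¹ * F.v a2v * j ^ i = (j ^ i)⁻¹ * (j ^ i * F.v a2v * (j ^ i)⁻¹) * j ^ i := by rw [this]
          _ = _ := by group
      calc _ = j ^ i * (g * ((j ^ i)⁻¹ * F.v a2v * j ^ i) * g⁻¹) * (j ^ i)⁻¹ := by group
        _ = _ := by rw [hjinv, hs, hjfix]
  obtain ⟨hk1C, hk1ε, hk1π, hk1⟩ := conjj 1
  obtain ⟨hk2C, hk2ε, hk2π, hk2⟩ := conjj 2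
  rw [pow_one] at hk1C hk1ε hk1π hk1
  set p := g * (j * g * j⁻¹) with hp
  have hpC := F.U.inC_mul hg hk1C
  have hpε : F.U.ε p = 1 := by rw [hp, F.U.ε_mul _ _ hg hk1C, hε, hk1ε, one_mul]
  have hpπ : F.U.π p = F.U.π g * (F.U.π j * F.U.π g * (F.U.π j)⁻¹) := by
    rw [hp, F.U.π_mul _ _ hg hk1C, hk1π, pow_one]
  obtain ⟨mp, hpa⟩ : ∃ mp : ZMod 3, p * F.v a2v * p⁻¹ = F.v ((s * s) • a2v + mp • zv) := by
    refine ⟨m + s * m, ?_⟩
    calc p * F.v a2v * p⁻¹ = g * ((j * g * j⁻¹) * F.v a2v * (j * g * j⁻¹)⁻¹) * g⁻¹ := by rw [hp]; group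
      _ = g * (F.v a2v ^ s.val * F.v (m • zv)) * g⁻¹ := by rw [hk1, F.v_add, F.v_smul]
      _ = (g * F.v a2v * g⁻¹) ^ s.val * (g * F.v (m • zv) * g⁻¹) := by rw [conj_pow]; group
      _ = _ := by rw [hs, ← F.v_smul, hzc hg, ← F.v_add]; congr 1; module
  have hcases : ∀ h', F.U.InC h' → F.U.ε h' = 1 → F.U.π h' = F.U.π p → ∀ mh : ZMod 3,
      h' * F.v a2v * h'⁻¹ = F.v (s • a2v + mh • zv) → s = 1 := by
    intro h' hC' hε' hπ' mh e
    obtain ⟨m', e'⟩ := sgn p hpC hpε (by rw [hpπ]; exact sl23_q8.2.1 _ _ hπ (by rw [conj_pow, hπ]; group))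
      h' hC' hπ' hε' _ _ hpa
    rw [e] at e'
    exact (show ∀ s a b : ZMod 3, s ≠ 0 → s • a2v + a • zv = (s * s) • a2v + b • zv → s = 1 by decide +kernel)
      _ _ _ hs0 (F.v_inj e')
  have hS3 : F.U.π j ^ 3 = 1 := F.pi_jv_cube
  have base : ∀ h', F.U.InC h' → F.U.ε h' = 1 → F.U.π h' = F.U.π g → Commute h' (F.v a2v) → s = 1 := by
    intro h' hC' hε' hπ' hcomm
    obtain ⟨m', e'⟩ := sgn g hg hε hπ h' hC' hπ' hε' _ _ hs
    rw [hcomm.eq, mul_inv_cancel_right] at e'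
    exact (show ∀ s a : ZMod 3, a2v = s • a2v + a • zv → s = 1 by decide +kernel) _ _ (F.v_inj e')
  rcases (sl23_three_q8 _ _ hS3 F.j_pi hπ).1 with h | h | h | h
  · exact base 1 F.U.inC_one F.U.ε_one (by rw [F.U.π_one, h]) (Commute.one_left _)
  · exact base F.U.t F.U.inC_t F.U.t_ε (by rw [F.U.t_π, h]) (F.v_comm_t zv_a2v.2.1).symm
  · refine hcases _ hk2C hk2ε ?_ _ hk2
    rw [hk2π, hpπ, h, pow_two]
  · refine hcases (F.U.t * (j ^ 2 * g * (j ^ 2)⁻¹)) (F.U.inC_mul F.U.inC_t hk2C) ?_ ?_ m ?_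
    · rw [F.U.ε_mul _ _ F.U.inC_t hk2C, F.U.t_ε, hk2ε, one_mul]
    · rw [F.U.π_mul _ _ F.U.inC_t hk2C, hk2π, F.U.t_π, hpπ, h, pow_two]
    · calc _ = F.U.t * ((j ^ 2 * g * (j ^ 2)⁻¹) * F.v a2v * (j ^ 2 * g * (j ^ 2)⁻¹)⁻¹) * F.U.t⁻¹ := by group
        _ = _ := by
          rw [hk2, ← (F.v_comm_t (by simp [zv_a2v.1, zv_a2v.2.1] : (s • a2v + m • zv) 0 = 0)).eq,
            mul_inv_cancel_right]

/-- A lift of an element of `Q₈` commuting with `t` and `a₂`, of order dividing four. -/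
theorem exists_lift {A : SL23} (hA : A ^ 4 = 1) : ∃ g, g ∈ F.Rset zv ∧ F.U.π g = A := by
  obtain ⟨g1, hg1, hπ1, hε1⟩ := F.U.surj A
  obtain ⟨q, hq, hqt⟩ := F.U.exists_commute_t hg1
  set g0 := q * g1
  have hC0 : F.U.InC g0 := F.U.inC_mul (F.U.inC_Q hq) hg1
  have hq1 := (F.U.ker q (F.U.inC_Q hq)).2 hq
  have hπ0 : F.U.π g0 = A := by rw [F.U.π_mul _ _ (F.U.inC_Q hq) hg1, hq1.1, one_mul, hπ1]
  have hε0 : F.U.ε g0 = 1 := by rw [F.U.ε_mul _ _ (F.U.inC_Q hq) hg1, hq1.2, one_mul, hε1]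
  set g := g0 ^ 9 with hg
  have hgC : F.U.InC g := F.U.inC_pow hC0 9
  have hgπ : F.U.π g = A := by rw [hg, F.U.π_pow hC0, hπ0]; exact (sl23_q8.2.2 A).1 hA
  have hgt : Commute g F.U.t := hqt.pow_left 9
  obtain ⟨m, hm⟩ := F.q8_fix hC0 hε0 (hπ0.symm ▸ hA)
  have hga : Commute g (F.v a2v) := by
    have hpow : ∀ n : ℕ, g0 ^ n * F.v a2v * (g0 ^ n)⁻¹ = F.v (a2v + ((n : ZMod 3) * m) • zv) := by
      intro n
      induction n with
      | zero => simp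
      | succ n ih =>
        calc g0 ^ (n + 1) * F.v a2v * (g0 ^ (n + 1))⁻¹ = g0 * (g0 ^ n * F.v a2v * (g0 ^ n)⁻¹) * g0⁻¹ := by
              rw [pow_succ']; group
          _ = (g0 * F.v a2v * g0⁻¹) * (g0 * F.v (((n : ZMod 3) * m) • zv) * g0⁻¹) := by
              rw [ih, F.v_add]; group
          _ = _ := by
              rw [hm, F.v_smul (((n : ZMod 3) * m)), F.v_z, (Commute.pow_right hC0 _).eq, mul_inv_cancel_right,
                ← F.v_z, ← F.v_smul, ← F.v_add]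
              congr 1
              push_cast
              module
    have e := hpow 9
    rw [show ((9 : ℕ) : ZMod 3) = 0 from rfl, zero_mul, zero_smul, add_zero] at e
    exact mul_inv_eq_iff_eq_mul.1 e
  -- the fourth power
  have h4Q : g ^ 4 ∈ F.U.Q := (F.U.ker _ (F.U.inC_pow hgC 4)).1
    ⟨by rw [F.U.π_pow hgC, hgπ, hA], by rw [F.U.ε_pow hgC, hg, F.U.ε_pow hC0, hε0]; simp⟩
  have hz : ∀ y, y 0 = 0 → dot zv y = 0 → Commute g (F.v y) := by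
    intro y h0 hd
    obtain ⟨c, d, rfl⟩ := perp_zv y h0 hd
    rw [F.v_add, F.v_smul, F.v_smul, F.v_z]
    exact (Commute.pow_right hgC _).mul_right (hga.pow_right _)
  refine ⟨g ^ 9, ⟨?_, hgt.pow_left 9, ?_, fun y h0 hd => (hz y h0 hd).pow_left 9⟩, ?_⟩
  · rw [← pow_mul, show 9 * 4 = 4 * (3 * 3) by norm_num, pow_mul, pow_mul, F.U.exp _ h4Q, one_pow]
  · exact (hz zv zv_a2v.1 zv_a2v.2.2.2.1).pow_left 9
  · rw [F.U.π_pow hgC, hgπ]; exact (sl23_q8.2.2 A).1 hA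

theorem Rset_C {g : G} (hg : g ∈ F.Rset zv) :
    F.U.InC g ∧ F.U.ε g = 1 ∧ F.U.π g ^ 4 = 1 ∧ Commute g (F.v a2v) := by
  obtain ⟨h4, ht, hz, hy⟩ := hg
  have hC := F.inC_of_comm hz
  have ha := hy a2v zv_a2v.2.1 zv_a2v.2.2.1
  have hπ : F.U.π g ^ 4 = 1 := by rw [← F.U.π_pow hC, h4, F.U.π_one]
  refine ⟨hC, ?_, hπ, ha⟩
  by_contra hε
  obtain ⟨h, hh1, hh2, hh3⟩ := F.exists_swap ⟨g, hC, hε⟩
  have hhC : F.U.InC h := by
    have e := hh3 zv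
    rw [zv_a2v.2.2.2.2.2.2.2.2.2.1, F.v_z] at e
    exact mul_inv_eq_iff_eq_mul.1 e
  have hhε : F.U.ε h ≠ 1 := fun he => by
    obtain ⟨e, u, p, r, hact, -, -, hu⟩ := F.act_C hhC (F.mem_norm hh3)
    obtain rfl := hu he
    have e' := F.act_unique hact hh3
    exact fC_ne_fU e p r (congrFun e' av) (congrFun e' a2v)
  have hgh : F.U.InC (g * h) := F.U.inC_mul hC hhC
  have hε' : F.U.ε (g * h) = 1 := by
    rw [F.U.ε_mul _ _ hC hhC]
    exact (show ∀ a b : Two, a ≠ 1 → b ≠ 1 → a * b = 1 by decide) _ _ hε hhε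
  have hπh : F.U.π h ^ 4 = 1 := by
    rw [← F.U.π_pow hhC, show (4 : ℕ) = 2 * 2 from rfl, pow_mul, pow_two h, hh1, one_pow, F.U.π_one]
  have hπ' : F.U.π (g * h) ^ 4 = 1 := by rw [F.U.π_mul _ _ hC hhC]; exact sl23_q8.2.1 _ _ hπ hπh
  obtain ⟨m, hm⟩ := F.q8_fix hgh hε' hπ'
  refine a2v_neg_ne m (F.v_inj ?_)
  rw [← hm, show g * h * F.v a2v * (g * h)⁻¹ = g * (h * F.v a2v * h⁻¹) * g⁻¹ by group, hh3,
    zv_a2v.2.2.2.2.2.2.2.2.1, F.v_neg, (ha.inv_right).eq, mul_inv_cancel_right]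

theorem exists_R : ∃ P : Subgroup G, (P : Set G) = F.Rset zv ∧ Nat.card P = 8 := by
  have : Fact (Nat.Prime 2) := ⟨Nat.prime_two⟩
  have h1 : (1 : G) ∈ F.Rset zv :=
    ⟨one_pow 4, Commute.one_left _, Commute.one_left _, fun _ _ _ => Commute.one_left _⟩
  -- the pairs with equal image
  have inj : ∀ g ∈ F.Rset zv, ∀ h : G, h ∈ F.Rset zv → F.U.π g = F.U.π h → g = h := by
    intro g hg h hh e
    obtain ⟨hgC, hgε, -, hga⟩ := F.Rset_C hg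
    obtain ⟨hhC, hhε, -, hha⟩ := F.Rset_C hh
    set q := g⁻¹ * h with hq
    have hqQ : q ∈ F.U.Q := F.U.mem_of_eq hgC hhC e (hgε.trans hhε.symm)
    have hqt : Commute q F.U.t := hg.2.1.inv_left.mul_left hh.2.1
    have hqa : Commute q (F.v a2v) := hga.inv_left.mul_left hha
    obtain ⟨hQ2, c2, z2, n2⟩ := F.U.factor_Q2
    have huQ : F.v a2v ∈ F.U.Q := F.v_mem_Q_iff.2 zv_a2v.2.2.2.2.2.2.2.2.2.2
    have hu2 : F.v a2v ∈ F.U.Q2 := F.U.mem_Q2.2 ⟨huQ, (F.v_comm_t zv_a2v.2.1).eq⟩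
    have huz : F.v a2v ∉ F.U.Zs := fun h => by
      obtain ⟨k, hk⟩ := F.U.exists_exp h
      rw [← F.v_z, ← F.v_smul] at hk
      exact (show ∀ k : ZMod 3, a2v ≠ k • zv by decide +kernel) k (F.v_inj hk)
    obtain ⟨j, hj⟩ := F.U.centralizer_in_factor hQ2 c2 z2 n2 hu2 huz (F.U.mem_Q2.2 ⟨hqQ, hqt.eq⟩)
      ((F.U.f_zero huQ hqQ).2 hqa.eq.symm)
    have hgq : Commute g q := by
      have : Commute g ((F.v a2v) ^ j * ((F.v a2v ^ j)⁻¹ * q)) := by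
        refine (hga.pow_right j).mul_right ?_
        obtain ⟨m, hm⟩ := F.U.exists_exp hj
        rw [hm]; exact Commute.pow_right hgC _
      rwa [mul_inv_cancel_left] at this
    have hh4 : q ^ 4 = 1 := by
      have := hgq.mul_pow 4
      rw [show g * q = h by rw [hq, mul_inv_cancel_left], hh.1, hg.1, one_mul] at this
      exact this.symm
    have hq3 := F.U.exp q hqQ
    have hq1 : q = 1 := by rwa [show (4 : ℕ) = 3 + 1 from rfl, pow_add, hq3, one_mul, pow_one] at hh4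
    rw [hq, inv_mul_eq_one] at hq1
    exact hq1
  have hmul : ∀ g ∈ F.Rset zv, ∀ h ∈ F.Rset zv, g * h ∈ F.Rset zv := by
    intro g hg h hh
    let W : Subgroup G :=
      { carrier := {x | F.U.InC x ∧ Commute x F.U.t ∧ Commute x (F.v a2v) ∧ F.U.ε x = 1 ∧ F.U.π x ^ 4 = 1}
        one_mem' := ⟨F.U.inC_one, Commute.one_left _, Commute.one_left _, F.U.ε_one, by rw [F.U.π_one, one_pow]⟩
        mul_mem' := fun {x y} hx hy => ⟨F.U.inC_mul hx.1 hy.1, hx.2.1.mul_left hy.2.1, hx.2.2.1.mul_left hy.2.2.1,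
          by rw [F.U.ε_mul _ _ hx.1 hy.1, hx.2.2.2.1, hy.2.2.2.1, one_mul],
          by rw [F.U.π_mul _ _ hx.1 hy.1]; exact sl23_q8.2.1 _ _ hx.2.2.2.2 hy.2.2.2.2⟩
        inv_mem' := fun {x} hx => ⟨F.U.inC_inv hx.1, hx.2.1.inv_left, hx.2.2.1.inv_left,
          by rw [F.U.ε_inv hx.1, hx.2.2.2.1, inv_one],
          by rw [F.U.π_inv hx.1, inv_pow, hx.2.2.2.2, inv_one]⟩ }
    let P8 : Subgroup SL23 :=
      { carrier := {A | A ^ 4 = 1}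
        one_mem' := one_pow 4
        mul_mem' := fun {A B} hA hB => sl23_q8.2.1 A B hA hB
        inv_mem' := fun {A} (hA : A ^ 4 = 1) => show A⁻¹ ^ 4 = 1 by rw [inv_pow, hA, inv_one] }
    let φ : W →* P8 := MonoidHom.mk' (fun x => ⟨F.U.π x, x.2.2.2.2.2⟩) fun x y =>
      Subtype.ext (F.U.π_mul _ _ x.2.1 y.2.1)
    have hker : φ.ker ≤ Subgroup.center W := by
      intro q hq
      refine Subgroup.mem_center_iff.2 fun x => Subtype.ext ?_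
      have hqπ : F.U.π q = 1 := congrArg Subtype.val (MonoidHom.mem_ker.1 hq)
      have hqQ : (q : G) ∈ F.U.Q := (F.U.ker _ q.2.1).1 ⟨hqπ, q.2.2.2.2.1⟩
      have huQ : F.v a2v ∈ F.U.Q := F.v_mem_Q_iff.2 zv_a2v.2.2.2.2.2.2.2.2.2.2
      obtain ⟨hQ2, c2, z2, n2⟩ := F.U.factor_Q2
      obtain ⟨j, hj⟩ := F.U.centralizer_in_factor hQ2 c2 z2 n2
        (F.U.mem_Q2.2 ⟨huQ, (F.v_comm_t zv_a2v.2.1).eq⟩) (F.a2_not_Zs) (F.U.mem_Q2.2 ⟨hqQ, q.2.2.1.eq⟩)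
        ((F.U.f_zero huQ hqQ).2 q.2.2.2.1.eq.symm)
      have : Commute (x : G) ((F.v a2v) ^ j * ((F.v a2v ^ j)⁻¹ * q)) := by
        refine (Commute.pow_right x.2.2.2.1 j).mul_right ?_
        obtain ⟨m, hm⟩ := F.U.exists_exp hj
        rw [hm]; exact Commute.pow_right x.2.1 _
      rwa [mul_inv_cancel_left] at this
    have h8 : Nat.card P8 = 8 := by
      show Nat.card {A : SL23 // A ^ 4 = 1} = 8
      rw [Nat.card_eq_fintype_card]; decide +kernel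
    have hdvd : (Subgroup.center W).index ∣ 8 := by
      refine dvd_trans (Subgroup.index_dvd_of_le hker) ?_
      rw [Subgroup.index_ker, ← h8]
      exact Subgroup.card_subgroup_dvd_card _
    have hpow : ∀ x : G, ∀ hx : x ∈ F.Rset zv, (⟨x, (F.Rset_C hx).1, hx.2.1, (F.Rset_C hx).2.2.2, (F.Rset_C hx).2.1,
        (F.Rset_C hx).2.2.1⟩ : W) ^ 8 = 1 := fun x hx => Subtype.ext (by
      show x ^ 8 = 1
      rw [show (8 : ℕ) = 4 * 2 from rfl, pow_mul, hx.1, one_pow])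
    obtain ⟨d, hd⟩ := hdvd
    set gW : W := ⟨g, (F.Rset_C hg).1, hg.2.1, (F.Rset_C hg).2.2.2, (F.Rset_C hg).2.1, (F.Rset_C hg).2.2.1⟩
    set hW : W := ⟨h, (F.Rset_C hh).1, hh.2.1, (F.Rset_C hh).2.2.2, (F.Rset_C hh).2.1, (F.Rset_C hh).2.2.1⟩
    have h8gh : (gW * hW) ^ 8 = 1 := by
      rw [hd, pow_mul]
      have hm : (MonoidHom.transferCenterPow W) (gW * hW) =
          MonoidHom.transferCenterPow W gW * MonoidHom.transferCenterPow W hW := map_mul _ _ _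
      have hv := congrArg Subtype.val hm
      simp only [MonoidHom.transferCenterPow_apply, Subgroup.coe_mul] at hv
      have hg8 : gW ^ ((Subgroup.center W).index * d) = 1 := hd ▸ hpow g hg
      have hh8 : hW ^ ((Subgroup.center W).index * d) = 1 := hd ▸ hpow h hh
      have hc : Commute (gW ^ (Subgroup.center W).index) (hW ^ (Subgroup.center W).index) :=
        (Subgroup.mem_center_iff.1 (MonoidHom.transferCenterPow W gW).2 _).symm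
      rw [hv, hc.mul_pow, ← pow_mul, ← pow_mul, hg8, hh8, one_mul]
    have hghW := (gW * hW).2
    have hC : F.U.InC (g * h) := hghW.1
    have hqQ : (g * h) ^ 4 ∈ F.U.Q := (F.U.ker _ (F.U.inC_pow hC 4)).1
      ⟨by rw [F.U.π_pow hC]; exact hghW.2.2.2.2, by
        rw [F.U.ε_pow hC, show F.U.ε (g * h) = 1 from hghW.2.2.2.1, one_pow]⟩
    have h3 := F.U.exp _ hqQ
    have h2 : ((g * h) ^ 4) ^ 2 = 1 := by rw [← pow_mul]; exact congrArg Subtype.val h8gh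
    have h4 : (g * h) ^ 4 = 1 := by
      calc (g * h) ^ 4 = ((g * h) ^ 4) ^ 3 * (((g * h) ^ 4) ^ 2)⁻¹ := by group
        _ = 1 := by rw [h3, h2]; group
    exact ⟨h4, hghW.2.1, hg.2.2.1.mul_left hh.2.2.1, fun y h0 hd => (hg.2.2.2 y h0 hd).mul_left (hh.2.2.2 y h0 hd)⟩
  let P : Subgroup G :=
    { carrier := F.Rset zv
      one_mem' := h1
      mul_mem' := fun {a b} ha hb => hmul a ha b hb
      inv_mem' := fun {a} ⟨h4, ht, hz, hy⟩ => ⟨by rw [inv_pow, h4, inv_one], ht.inv_left, hz.inv_left,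
        fun y h0 hd => (hy y h0 hd).inv_left⟩ }
  refine ⟨P, rfl, ?_⟩
  have hbij : Function.Bijective (fun g : P => (⟨F.U.π g, (F.Rset_C g.2).2.2.1⟩ : {A : SL23 // A ^ 4 = 1})) :=
    ⟨fun a b e => Subtype.ext (inj a a.2 b b.2 (congrArg Subtype.val e)), fun ⟨A, hA⟩ => by
      obtain ⟨g, hg, hgπ⟩ := F.exists_lift hA
      exact ⟨⟨g, hg⟩, Subtype.ext hgπ⟩⟩
  rw [Nat.card_congr (Equiv.ofBijective _ hbij), Nat.card_eq_fintype_card]
  decide +kernel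

theorem mem_R_zv {g : G} : g ∈ F.R zv ↔ g ∈ F.Rset zv := by
  obtain ⟨P, hP, -⟩ := F.exists_R
  rw [show F.R zv = P by rw [FrameData.R, ← hP, Subgroup.closure_eq], ← SetLike.mem_coe, hP]

theorem card_R_zv : Nat.card (F.R zv) = 8 := by
  obtain ⟨P, hP, hc⟩ := F.exists_R
  rw [show F.R zv = P by rw [FrameData.R, ← hP, Subgroup.closure_eq], hc]

theorem pi_inj {g h : G} (hg : g ∈ F.Rset zv) (hh : h ∈ F.Rset zv) (e : F.U.π g = F.U.π h) : g = h := by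
  obtain ⟨hgC, hgε, -, hga⟩ := F.Rset_C hg
  obtain ⟨hhC, hhε, -, hha⟩ := F.Rset_C hh
  have hq : g⁻¹ * h ∈ F.U.Q := F.U.mem_of_eq hgC hhC e (hgε.trans hhε.symm)
  have hP := mul_mem (inv_mem (F.mem_R_zv.2 hg)) (F.mem_R_zv.2 hh)
  have h4 := (F.mem_R_zv.1 hP).1
  have h3 := F.U.exp _ hq
  rw [show (4 : ℕ) = 3 + 1 from rfl, pow_add, h3, one_mul, pow_one, inv_mul_eq_one] at h4
  exact h4

theorem t_mem_zv : F.U.t ∈ F.Rset zv := by
  refine ⟨?_, Commute.refl _, (F.v_comm_t zv_a2v.1).symm, fun y h0 _ => (F.v_comm_t h0).symm⟩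
  rw [show (4 : ℕ) = 2 * 2 from rfl, pow_mul, pow_two F.U.t, F.U.t_sq, one_pow]

theorem central_pm {g : G} (hg : g ∈ F.Rset zv) (h : F.U.π g = 1 ∨ F.U.π g = negI) :
    g ∈ Subgroup.zpowers F.U.t := by
  rcases h with h | h
  · rw [F.pi_inj hg (F.mem_R_zv.1 (one_mem _)) (by rw [h, F.U.π_one])]; exact one_mem _
  · rw [F.pi_inj hg F.t_mem_zv (by rw [h, F.U.t_π])]; exact Subgroup.mem_zpowers _

theorem sq_zv {g : G} (hg : g ∈ F.R zv) :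
    g * g ∈ Subgroup.zpowers F.U.t ∧ (g ∉ Subgroup.zpowers F.U.t → g * g = F.U.t) := by
  have hg' := F.mem_R_zv.1 hg
  obtain ⟨hC, -, hπ, -⟩ := F.Rset_C hg'
  have hgg := F.mem_R_zv.1 (mul_mem hg hg)
  have hc := sl23_q8.1 _ hπ
  refine ⟨F.central_pm hgg (by rw [F.U.π_mul _ _ hC hC]; exact hc), fun hn => ?_⟩
  rcases hc with h | h
  · refine absurd (F.central_pm hg' ?_) hn
    exact (show ∀ A : SL23, A * A = 1 → A = 1 ∨ A = negI by decide +kernel) _ h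
  · exact F.pi_inj hgg F.t_mem_zv (by rw [F.U.π_mul _ _ hC hC, h, F.U.t_π])

theorem conj_j_zv {g : G} (hg : g ∈ F.Rset zv) (w : V4) (hw : w 0 = 0) :
    F.v w * g * (F.v w)⁻¹ ∈ F.Rset zv := by
  obtain ⟨h4, ht, hz, hy⟩ := hg
  have key : ∀ {x : G}, Commute g x → Commute (F.v w) x → Commute (F.v w * g * (F.v w)⁻¹) x :=
    fun h1 h2 => (h2.mul_left h1).mul_left h2.inv_left
  exact ⟨by rw [conj_pow, h4]; group, key ht (F.v_comm_t hw), key hz (F.v_comm _ _),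
    fun y h0 hd => key (hy y h0 hd) (F.v_comm _ _)⟩

theorem fpf_zv {g : G} (hg : g ∈ F.R zv) {w : V4} (hw : w 0 = 0) (hd : dot zv w ≠ 0) :
    g * (F.v w * g * (F.v w)⁻¹) * (F.v w ^ 2 * g * (F.v w ^ 2)⁻¹) ∈ Subgroup.zpowers F.U.t := by
  have hg' := F.mem_R_zv.1 hg
  obtain ⟨hgC, -, hπ, -⟩ := F.Rset_C hg'
  have h2 : F.v w ^ 2 = F.v (w + w) := by rw [pow_two, F.v_add]
  have hw2 : (w + w) 0 = 0 := by simp [hw]
  have m1 := F.conj_j_zv hg' w hw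
  have m2 : F.v w ^ 2 * g * (F.v w ^ 2)⁻¹ ∈ F.Rset zv := by rw [h2]; exact F.conj_j_zv hg' _ hw2
  have hm := F.mem_R_zv.1 (mul_mem (mul_mem hg (F.mem_R_zv.2 m1)) (F.mem_R_zv.2 m2))
  refine F.central_pm hm ?_
  have hwC := F.v_C w
  have h2C := F.U.inC_pow hwC 2
  rw [F.U.π_mul _ _ (F.U.inC_mul hgC (F.Rset_C m1).1) (F.Rset_C m2).1, F.U.π_mul _ _ hgC (F.Rset_C m1).1,
    F.U.π_mul _ _ (F.U.inC_mul hwC hgC) (F.U.inC_inv hwC), F.U.π_mul _ _ hwC hgC, F.U.π_inv hwC,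
    F.U.π_mul _ _ (F.U.inC_mul h2C hgC) (F.U.inC_inv h2C), F.U.π_mul _ _ h2C hgC, F.U.π_inv h2C, F.U.π_pow hwC,
    F.pi_v]
  have hne : cJ w ≠ 0 := fun h0 => hd (by rw [dot_zv_cJ, h0, neg_zero])
  rcases zmod3_val _ hne with e | e <;> rw [e]
  · rw [pow_one]; exact (sl23_three_q8 _ _ F.pi_jv_cube F.j_pi hπ).2
  · exact sl23_three_q8' _ _ F.pi_jv_cube F.j_pi hπ

theorem cent_zv {g : G} {y : V4} (hy : y 0 = 0) (hd : dot zv y = 0) (hn : ∀ c : ZMod 3, y ≠ c • zv)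
    (ht : Commute g F.U.t) (hz : Commute g (F.v zv)) (hgy : Commute g (F.v y)) :
    ∃ w r, w 0 = 0 ∧ r ∈ F.R zv ∧ g = r * F.v w := by
  have hC := F.inC_of_comm hz
  obtain ⟨c, d, rfl⟩ := perp_zv y hy hd
  have hd0 : d ≠ 0 := fun h => hn c (by simp [h])
  have ha : Commute g (F.v a2v) := by
    have h1 : Commute g (F.v (c • zv)) := by rw [F.v_smul]; exact hz.pow_right _
    have h2 : Commute g (F.v (d • a2v)) := by
      have := h1.inv_right.mul_right hgy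
      rwa [F.v_add, inv_mul_cancel_left] at this
    have h3 : Commute g (F.v (d • a2v) ^ d.val) := h2.pow_right _
    rwa [← F.v_smul, smul_smul, (show ∀ d : ZMod 3, d ≠ 0 → d * d = 1 by decide) d hd0, one_smul] at h3
  -- the complement of order two
  have hε : F.U.ε g = 1 := by
    by_contra hε
    obtain ⟨h, hh1, hh2, hh3⟩ := F.exists_swap ⟨g, hC, hε⟩
    have hhC : F.U.InC h := by
      have e := hh3 zv
      rw [zv_a2v.2.2.2.2.2.2.2.2.2.1, F.v_z] at e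
      exact mul_inv_eq_iff_eq_mul.1 e
    have hhε : F.U.ε h ≠ 1 := fun he => by
      obtain ⟨e, u, p, r, hact, -, -, hu⟩ := F.act_C hhC (F.mem_norm hh3)
      obtain rfl := hu he
      have e' := F.act_unique hact hh3
      exact fC_ne_fU e p r (congrFun e' av) (congrFun e' a2v)
    have hgh : F.U.InC (g * h) := F.U.inC_mul hC hhC
    have hε' : F.U.ε (g * h) = 1 := by
      rw [F.U.ε_mul _ _ hC hhC]
      exact (show ∀ a b : Two, a ≠ 1 → b ≠ 1 → a * b = 1 by decide) _ _ hε hhε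
    obtain ⟨i, hi⟩ := sl23_split _ (F.U.π (g * h)) F.pi_jv_cube F.j_pi
    set k := g * h * F.v jv ^ i.val with hk
    have hjC := F.U.inC_pow (F.v_C jv) i.val
    obtain ⟨m, hm⟩ := F.q8_fix (F.U.inC_mul hgh hjC)
      (by rw [F.U.ε_mul _ _ hgh hjC, hε', F.U.ε_pow (F.v_C jv), F.eps_v, one_pow, one_mul])
      (by rw [F.U.π_mul _ _ hgh hjC, F.U.π_pow (F.v_C jv)]; exact hi)
    refine a2v_neg_ne m (F.v_inj ?_)
    rw [← hm]
    symm
    calc k * F.v a2v * k⁻¹ = g * h * (F.v jv ^ i.val * F.v a2v * (F.v jv ^ i.val)⁻¹) * h⁻¹ * g⁻¹ := by rw [hk]; group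
      _ = g * (h * F.v a2v * h⁻¹) * g⁻¹ := by
          rw [(Commute.pow_left (F.v_comm jv a2v : Commute (F.v jv) (F.v a2v)) i.val).eq, mul_inv_cancel_right]
          group
      _ = _ := by rw [hh3, zv_a2v.2.2.2.2.2.2.2.2.1, F.v_neg, (ha.inv_right).eq, mul_inv_cancel_right]
  obtain ⟨i, hi⟩ := sl23_split _ (F.U.π g) F.pi_jv_cube F.j_pi
  set k := g * F.v jv ^ i.val with hk
  have hjC := F.U.inC_pow (F.v_C jv) i.val
  have hkC := F.U.inC_mul hC hjC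
  have hkπ : F.U.π k ^ 4 = 1 := by rw [F.U.π_mul _ _ hC hjC, F.U.π_pow (F.v_C jv)]; exact hi
  obtain ⟨r, hr, hrπ⟩ := F.exists_lift hkπ
  obtain ⟨hrC, hrε, -, hra⟩ := F.Rset_C hr
  set q := r⁻¹ * k with hq
  have hqQ : q ∈ F.U.Q := F.U.mem_of_eq hrC hkC hrπ
    (by rw [hrε, F.U.ε_mul _ _ hC hjC, hε, F.U.ε_pow (F.v_C jv), F.eps_v, one_pow, one_mul])
  have huQ : F.v a2v ∈ F.U.Q := F.v_mem_Q_iff.2 zv_a2v.2.2.2.2.2.2.2.2.2.2
  have hqt : Commute q F.U.t := hr.2.1.inv_left.mul_left (ht.mul_left ((F.v_comm_t zv_a2v.2.2.2.2.1).pow_left _))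
  have hqa : Commute q (F.v a2v) :=
    hra.inv_left.mul_left (ha.mul_left (Commute.pow_left (F.v_comm jv a2v : Commute (F.v jv) (F.v a2v)) _))
  obtain ⟨hQ2, c2, z2, n2⟩ := F.U.factor_Q2
  obtain ⟨j, hj⟩ := F.U.centralizer_in_factor hQ2 c2 z2 n2
    (F.U.mem_Q2.2 ⟨huQ, (F.v_comm_t zv_a2v.2.1).eq⟩) F.a2_not_Zs (F.U.mem_Q2.2 ⟨hqQ, hqt.eq⟩)
    ((F.U.f_zero huQ hqQ).2 hqa.eq.symm)
  obtain ⟨m, hm⟩ := F.U.exists_exp hj
  refine ⟨(j : ZMod 3) • a2v + m • zv - ((i.val : ZMod 3)) • jv, r, ?_, F.mem_R_zv.2 hr, ?_⟩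
  · simp [zv_a2v.1, zv_a2v.2.1, zv_a2v.2.2.2.2.1]
  · have hpow : ∀ (n : ℕ) (x : V4), F.v ((n : ZMod 3) • x) = F.v x ^ n := fun n x => by
      rw [F.v_smul, ZMod.val_natCast]; exact (pow_eq_pow_mod n (F.v_cube x)).symm
    rw [sub_eq_add_neg, F.v_add, F.v_neg, F.v_add, hpow, hpow, F.v_smul, F.v_z, ← hm, mul_inv_cancel_left]
    rw [hq, hk]; group

theorem act_Rset {n : G} {f : V4 → V4} (hn : F.Act n f) (ht : Commute n F.U.t) {x : V4} {g : G}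
    (hg : g ∈ F.Rset x) : n * g * n⁻¹ ∈ F.Rset (f x) := by
  obtain ⟨h4, hgt, hgx, hy⟩ := hg
  have key : ∀ {u : G}, Commute g u → Commute (n * g * n⁻¹) (n * u * n⁻¹) := fun h => by
    simpa using h.map (MulAut.conj n).toMonoidHom
  refine ⟨by rw [conj_pow, h4]; group, ?_, by rw [← hn]; exact key hgx, fun y h0 hd => ?_⟩
  · have := key hgt
    rwa [ht.eq, mul_inv_cancel_right] at this
  · obtain ⟨f', hf', hl, hr⟩ := F.act_inv hn
    have h0' : f' y 0 = 0 := by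
      rw [← fix_fT_zero, ← F.comm_fT hf' ht.inv_left, (fix_fT_zero y).2 h0]
    rw [← hr y, ← hn]
    exact key (hy _ h0' (by rw [← F.act_dot hn, hr]; exact hd))

theorem exists_sign_to {x : V4} (h0 : x 0 = 0) (hq : qf x = 0) (hx : x ≠ 0) :
    ∃ n f, F.Act n f ∧ Commute n F.U.t ∧ f zv = x ∧ ∀ y : V4, y 0 = 0 → f y 0 = 0 := by
  obtain ⟨a, b, c, e⟩ := sign_transport x h0 hq hx
  obtain ⟨h1, -, t1, a1⟩ := F.exists_sign 0
  obtain ⟨h2, -, t2, a2⟩ := F.exists_sign 1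
  obtain ⟨h3, -, t3, a3⟩ := F.exists_sign 2
  have hact := F.act_mul (F.act_pow a1 a.val) (F.act_mul (F.act_pow a2 b.val) (F.act_pow a3 c.val))
  have ht := (t1.pow_left a.val).mul_left ((t2.pow_left b.val).mul_left (t3.pow_left c.val))
  exact ⟨_, _, hact, ht, e, fun y hy => by
    rw [← fix_fT_zero, ← F.comm_fT hact ht, (fix_fT_zero y).2 hy]⟩

theorem map_R {n : G} {f : V4 → V4} (hn : F.Act n f) (ht : Commute n F.U.t) (x : V4) :
    (F.R x).map (MulAut.conj n).toMonoidHom = F.R (f x) := by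
  refine le_antisymm ?_ ?_
  · rw [FrameData.R, MonoidHom.map_closure, FrameData.R, Subgroup.closure_le]
    rintro _ ⟨g, hg, rfl⟩
    exact Subgroup.subset_closure (F.act_Rset hn ht hg)
  · conv_lhs => rw [FrameData.R]
    rw [Subgroup.closure_le]
    intro g hg
    obtain ⟨f', hf', hl, -⟩ := F.act_inv hn
    have h := F.act_Rset hf' ht.inv_left hg
    rw [hl, inv_inv] at h
    exact ⟨n⁻¹ * g * n, Subgroup.subset_closure h, by simp [mul_assoc]⟩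

/-- The properties of `R x`. -/
theorem R_spec {x : V4} (h0 : x 0 = 0) (hq : qf x = 0) (hx : x ≠ 0) :
    Nat.card (F.R x) = 8 ∧ F.U.t ∈ F.R x ∧
    (∀ g ∈ F.R x, Commute g F.U.t ∧ g * g ∈ Subgroup.zpowers F.U.t ∧
      (g ∉ Subgroup.zpowers F.U.t → g * g = F.U.t) ∧
      (∀ y, y 0 = 0 → dot x y = 0 → Commute g (F.v y)) ∧
      ∀ w, w 0 = 0 → F.v w * g * (F.v w)⁻¹ ∈ F.R x ∧ (dot x w ≠ 0 →
        g * (F.v w * g * (F.v w)⁻¹) * (F.v w ^ 2 * g * (F.v w ^ 2)⁻¹) ∈ Subgroup.zpowers F.U.t)) ∧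
    ∀ g y, y 0 = 0 → dot x y = 0 → (∀ c : ZMod 3, y ≠ c • x) → Commute g F.U.t → Commute g (F.v x) →
      Commute g (F.v y) → ∃ w r, w 0 = 0 ∧ r ∈ F.R x ∧ g = r * F.v w := by
  obtain ⟨n, f, hn, ht, hfz, hf0⟩ := F.exists_sign_to h0 hq hx
  obtain ⟨f', hf', hl, hr⟩ := F.act_inv hn
  have hmap := F.map_R hn ht zv
  rw [hfz] at hmap
  have hf'0 : ∀ y : V4, y 0 = 0 → f' y 0 = 0 := fun y hy => by
    rw [← fix_fT_zero, ← F.comm_fT hf' ht.inv_left, (fix_fT_zero y).2 hy]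
  have hd : ∀ y, dot zv (f' y) = dot x y := fun y => by rw [← F.act_dot hn, hfz, hr]
  have htn : n * F.U.t * n⁻¹ = F.U.t := by rw [ht.eq, mul_inv_cancel_right]
  have conj_tt : ∀ {u : G}, u ∈ Subgroup.zpowers F.U.t → n * u * n⁻¹ ∈ Subgroup.zpowers F.U.t := by
    intro u hu
    obtain ⟨k, rfl⟩ := Subgroup.mem_zpowers_iff.1 hu
    rw [(ht.zpow_right k).eq, mul_inv_cancel_right]
    exact Subgroup.zpow_mem_zpowers _ k
  have hvy : ∀ y, F.v y = n * F.v (f' y) * n⁻¹ := fun y => by rw [hn, hr]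
  refine ⟨?_, ?_, ?_, ?_⟩
  · rw [← hmap, Subgroup.card_map_of_injective (MulAut.conj n).injective, F.card_R_zv]
  · rw [← hmap]; exact ⟨F.U.t, F.mem_R_zv.2 F.t_mem_zv, htn⟩
  · intro g hg
    rw [← hmap] at hg
    obtain ⟨u, hu, rfl⟩ := hg
    simp only [MulEquiv.coe_toMonoidHom, MulAut.conj_apply]
    have hu' := F.mem_R_zv.1 hu
    have key : ∀ {p : G}, Commute u p → Commute (n * u * n⁻¹) (n * p * n⁻¹) := fun h => by
      simpa using h.map (MulAut.conj n).toMonoidHom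
    refine ⟨?_, ?_, fun hno => ?_, fun y hy0 hy => ?_, fun w hw => ⟨?_, fun hw' => ?_⟩⟩
    · have := key hu'.2.1
      rwa [htn] at this
    · rw [show n * u * n⁻¹ * (n * u * n⁻¹) = n * (u * u) * n⁻¹ by group]
      exact conj_tt (F.sq_zv hu).1
    · rw [show n * u * n⁻¹ * (n * u * n⁻¹) = n * (u * u) * n⁻¹ by group,
        (F.sq_zv hu).2 (fun h => hno (conj_tt h)), htn]
    · rw [hvy y]
      exact key (hu'.2.2.2 _ (hf'0 y hy0) (by rw [hd]; exact hy))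
    · rw [← hmap, hvy w]
      exact ⟨F.v (f' w) * u * (F.v (f' w))⁻¹, F.mem_R_zv.2 (F.conj_j_zv hu' _ (hf'0 w hw)), by simp [mul_assoc]⟩
    · have := conj_tt (F.fpf_zv hu (hf'0 w hw) (by rw [hd]; exact hw'))
      rw [hvy w, conj_pow]
      convert this using 1
      group
  · intro g y hy0 hy hyn hgt hgx hgy
    have key : ∀ {p : G}, Commute g (n * p * n⁻¹) → Commute (n⁻¹ * g * n) p := fun h => by
      simpa [mul_assoc] using h.map (MulAut.conj n⁻¹).toMonoidHom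
    obtain ⟨w, r, hw, hr', e⟩ := F.cent_zv (g := n⁻¹ * g * n) (y := f' y) (hf'0 y hy0) (by rw [hd]; exact hy)
      (fun c hc => hyn c (by rw [← hr y, hc, F.act_smul hn, hfz])) (key (by rw [htn]; exact hgt))
      (key (by rw [hn, hfz]; exact hgx)) (key (by rw [hn, hr]; exact hgy))
    refine ⟨f w, n * r * n⁻¹, hf0 w hw, hmap ▸ ⟨r, hr', rfl⟩, ?_⟩
    rw [← hn, show n * r * n⁻¹ * (n * F.v w * n⁻¹) = n * (r * F.v w) * n⁻¹ by group, ← e]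
    group

end FrameData

end Cfsg.Agent.OEightThree
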