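import Cfsg.Agent.Lib.OEightThree.Chain

/-
`Setup`: `Pre` with the involution `t`; the pairing `f` on `Q`, the two factors `Q1`, `Q2` of `Q`, and elements of
order three of `C` commuting with `t`.
-/

set_option autoImplicit false
set_option maxRecDepth 10000

namespace Cfsg.Agent.OEightThree

open scoped commutatorElement

/-- The data of `C` with the involution `t`. -/
structure Setup (G : Type*) [Group G] extends Pre G where
  t : G
  t_C : t * z = z * t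
  t_sq : t * t = 1
  t_π : π t = negI
  t_ε : ε t = 1
  t_card : Nat.card ↥(Q ⊓ Subgroup.centralizer ({t} : Set G)) = 27

variable {G : Type*} [Group G] [Finite G]

theorem Chain.exists_setup {P : Pre G} (c : Chain P) : ∃ U : Setup G, U.toPre = P := by
  obtain ⟨t, h1, h2, h3, h4⟩ := P.exists_t
  exact ⟨⟨P, t, h1, h2, h3, h4, c.card_fixed h1 h2 h3 h4⟩, rfl⟩

namespace Setup

variable (U : Setup G)

/-- The subgroup `⟨z⟩`. -/
abbrev Zs : Subgroup G := Subgroup.zpowers U.z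

/-- The fixed points of `t`. -/
abbrev Q2 : Subgroup G := U.Q ⊓ Subgroup.centralizer ({U.t} : Set G)

/-- The centraliser of `Q2`. -/
abbrev Q1 : Subgroup G := U.Q ⊓ Subgroup.centralizer (U.Q2 : Set G)

theorem z_order : orderOf U.z = 3 := orderOf_eq_prime (hp := ⟨Nat.prime_three⟩) (U.exp _ U.z_mem) U.z_ne

theorem Zs_le : U.Zs ≤ U.Q := Subgroup.zpowers_le.2 U.z_mem

theorem Zs_central {a q : G} (ha : a ∈ U.Zs) (hq : q ∈ U.Q) : q * a = a * q := by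
  obtain ⟨k, rfl⟩ := Subgroup.mem_zpowers_iff.1 ha
  exact (Commute.zpow_right (U.z_comm q hq) k).eq

theorem Zs_C {a g : G} (ha : a ∈ U.Zs) (hg : U.InC g) : g * a = a * g := by
  obtain ⟨k, rfl⟩ := Subgroup.mem_zpowers_iff.1 ha
  exact (Commute.zpow_right hg k).eq

theorem zpow_mod (k : ℕ) : U.z ^ k = U.z ^ ((k : ZMod 3)).val := by
  rw [ZMod.val_natCast, pow_eq_pow_mod k (n := 3)]
  exact U.exp _ U.z_mem

theorem exists_exp {a : G} (ha : a ∈ U.Zs) : ∃ k : ZMod 3, a = U.z ^ k.val := by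
  obtain ⟨k, hk⟩ := Subgroup.mem_zpowers_iff.1 ha
  refine ⟨(k : ZMod 3), ?_⟩
  rw [← hk, ← zpow_mod_orderOf, U.z_order, ← zpow_natCast U.z ((k : ZMod 3)).val]
  congr 1
  exact (ZMod.val_intCast k).symm

theorem exp_inj {k l : ZMod 3} (h : U.z ^ k.val = U.z ^ l.val) : k = l := by
  refine ZMod.val_injective 3 (pow_injOn_Iio_orderOf ?_ ?_ h) <;> simp [U.z_order, ZMod.val_lt]

open Classical in
/-- The commutator pairing. -/
noncomputable def f (a b : G) : ZMod 3 :=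
  if h : ⁅a, b⁆ ∈ U.Zs then (U.exists_exp h).choose else 0

theorem f_spec {a b : G} (ha : a ∈ U.Q) (hb : b ∈ U.Q) : ⁅a, b⁆ = U.z ^ (U.f a b).val := by
  have h : ⁅a, b⁆ ∈ U.Zs := U.comm a ha b hb
  rw [f, dif_pos h]
  exact (U.exists_exp h).choose_spec

theorem f_eq {a b : G} {k : ZMod 3} (ha : a ∈ U.Q) (hb : b ∈ U.Q) (h : ⁅a, b⁆ = U.z ^ k.val) : U.f a b = k :=
  U.exp_inj ((U.f_spec ha hb).symm.trans h)

theorem f_zero {a b : G} (ha : a ∈ U.Q) (hb : b ∈ U.Q) : U.f a b = 0 ↔ a * b = b * a := by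
  rw [← commutatorElement_eq_one_iff_mul_comm, U.f_spec ha hb]
  exact ⟨fun h => by simp [h], fun h => U.exp_inj (by simpa using h)⟩

theorem f_mul_left {a a' b : G} (ha : a ∈ U.Q) (ha' : a' ∈ U.Q) (hb : b ∈ U.Q) :
    U.f (a * a') b = U.f a b + U.f a' b := by
  refine U.f_eq (mul_mem ha ha') hb ?_
  have h1 : ⁅a * a', b⁆ = a * ⁅a', b⁆ * a⁻¹ * ⁅a, b⁆ := by simp only [commutatorElement_def]; group
  rw [h1, U.Zs_central (U.comm a' ha' b hb) ha, mul_inv_cancel_right, U.f_spec ha hb, U.f_spec ha' hb, ← pow_add,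
    U.zpow_mod]
  simp [add_comm]

theorem f_swap {a b : G} (ha : a ∈ U.Q) (hb : b ∈ U.Q) : U.f b a = -U.f a b := by
  refine U.f_eq hb ha ?_
  rw [← commutatorElement_inv, U.f_spec ha hb, inv_eq_iff_mul_eq_one, ← pow_add, U.zpow_mod]
  simp

theorem f_mul_right {a b b' : G} (ha : a ∈ U.Q) (hb : b ∈ U.Q) (hb' : b' ∈ U.Q) :
    U.f a (b * b') = U.f a b + U.f a b' := by
  rw [U.f_swap (mul_mem hb hb') ha, U.f_mul_left hb hb' ha, U.f_swap hb ha, U.f_swap hb' ha, neg_add]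

theorem f_self {a : G} (ha : a ∈ U.Q) : U.f a a = 0 := (U.f_zero ha ha).2 rfl

theorem f_Zs_left {a b : G} (ha : a ∈ U.Zs) (hb : b ∈ U.Q) : U.f a b = 0 :=
  (U.f_zero (U.Zs_le ha) hb).2 (U.Zs_central ha hb).symm

theorem f_Zs_right {a b : G} (ha : a ∈ U.Q) (hb : b ∈ U.Zs) : U.f a b = 0 :=
  (U.f_zero ha (U.Zs_le hb)).2 (U.Zs_central hb ha)

theorem f_pow_left {a b : G} (ha : a ∈ U.Q) (hb : b ∈ U.Q) (n : ℕ) : U.f (a ^ n) b = n * U.f a b := by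
  induction n with
  | zero => rw [pow_zero, U.f_Zs_left (one_mem _) hb]; simp
  | succ n ih => rw [pow_succ, U.f_mul_left (pow_mem ha n) ha hb, ih]; push_cast; ring

theorem f_pow_right {a b : G} (ha : a ∈ U.Q) (hb : b ∈ U.Q) (n : ℕ) : U.f a (b ^ n) = n * U.f a b := by
  rw [U.f_swap (pow_mem hb n) ha, U.f_pow_left hb ha, U.f_swap ha hb]; ring

theorem f_inv_left {a b : G} (ha : a ∈ U.Q) (hb : b ∈ U.Q) : U.f a⁻¹ b = -U.f a b := by
  refine eq_neg_of_add_eq_zero_left ?_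
  rw [← U.f_mul_left (inv_mem ha) ha hb, inv_mul_cancel, U.f_Zs_left (one_mem _) hb]

theorem f_inv_right {a b : G} (ha : a ∈ U.Q) (hb : b ∈ U.Q) : U.f a b⁻¹ = -U.f a b := by
  rw [U.f_swap (inv_mem hb) ha, U.f_inv_left hb ha, U.f_swap ha hb]; simp

theorem f_congr_left {a a' b : G} (ha : a ∈ U.Q) (hb : b ∈ U.Q) (h : a⁻¹ * a' ∈ U.Zs) : U.f a' b = U.f a b := by
  rw [show a' = a * (a⁻¹ * a') by group, U.f_mul_left ha (U.Zs_le h) hb, U.f_Zs_left h hb, add_zero]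

theorem f_congr_right {a b b' : G} (ha : a ∈ U.Q) (hb : b ∈ U.Q) (h : b⁻¹ * b' ∈ U.Zs) : U.f a b' = U.f a b := by
  rw [show b' = b * (b⁻¹ * b') by group, U.f_mul_right ha hb (U.Zs_le h), U.f_Zs_right ha h, add_zero]

theorem f_conj {g a b : G} (hg : U.InC g) (ha : a ∈ U.Q) (hb : b ∈ U.Q) :
    U.f (g * a * g⁻¹) (g * b * g⁻¹) = U.f a b := by
  refine U.f_eq (U.normal g hg a ha) (U.normal g hg b hb) ?_
  have hz : U.z ^ (U.f a b).val ∈ U.Zs := pow_mem (Subgroup.mem_zpowers _) _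
  rw [show ⁅g * a * g⁻¹, g * b * g⁻¹⁆ = g * ⁅a, b⁆ * g⁻¹ by simp only [commutatorElement_def]; group, U.f_spec ha hb, U.Zs_C hz hg, mul_inv_cancel_right]

theorem mem_Zs_of_f {a : G} (ha : a ∈ U.Q) (h : ∀ q ∈ U.Q, U.f a q = 0) : a ∈ U.Zs :=
  U.centre a ha fun q hq => (U.f_zero ha hq).1 (h q hq)

theorem t_inv : U.t⁻¹ = U.t := inv_eq_of_mul_eq_one_right U.t_sq

theorem inC_t : U.InC U.t := U.t_C

theorem t_conj_mem {q : G} (hq : q ∈ U.Q) : U.t * q * U.t ∈ U.Q := by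
  simpa [U.t_inv] using U.normal U.t U.inC_t q hq

theorem t_conj_t (q : G) : U.t * (U.t * q * U.t) * U.t = q := by
  calc U.t * (U.t * q * U.t) * U.t = (U.t * U.t) * q * (U.t * U.t) := by group
    _ = q := by rw [U.t_sq, one_mul, mul_one]

theorem mem_Q2 {q : G} : q ∈ U.Q2 ↔ q ∈ U.Q ∧ q * U.t = U.t * q := by
  simp [Q2, Subgroup.mem_centralizer_singleton_iff]

theorem mem_Q1 {q : G} : q ∈ U.Q1 ↔ q ∈ U.Q ∧ ∀ r ∈ U.Q2, U.f q r = 0 := by
  simp only [Q1, Subgroup.mem_inf, Subgroup.mem_centralizer_iff, SetLike.mem_coe]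
  refine and_congr_right fun hq => forall₂_congr fun r hr => ?_
  exact ((U.f_zero hq hr.1).trans eq_comm).symm

theorem Zs_le_Q2 : U.Zs ≤ U.Q2 := Subgroup.zpowers_le.2 (U.mem_Q2.2 ⟨U.z_mem, U.t_C.symm⟩)

theorem Zs_le_Q1 : U.Zs ≤ U.Q1 := fun _ ha =>
  U.mem_Q1.2 ⟨U.Zs_le ha, fun _ hr => U.f_Zs_left ha hr.1⟩

/-- An element of `Q` commuting with `t` modulo `⟨z⟩` commutes with `t`. -/
theorem mem_Q2_of_mod {q : G} (hq : q ∈ U.Q) (h : q⁻¹ * (U.t * q * U.t) ∈ U.Zs) : q ∈ U.Q2 := by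
  refine U.mem_Q2.2 ⟨hq, ?_⟩
  obtain ⟨n, hn, hfix⟩ := exists_fixed_of_coset (fun n hn => U.exp n (U.Zs_le hn)) U.t_sq h
  have hn2 := U.mem_Q2.1 (U.Zs_le_Q2 hn)
  have h1 : U.t * q * U.t = q := by
    refine mul_right_cancel (b := n) ?_
    calc U.t * q * U.t * n = U.t * (q * n) * U.t := by rw [mul_assoc _ U.t n, ← hn2.2]; group
      _ = q * n := hfix
  calc q * U.t = U.t * q * U.t * U.t := by rw [h1]
    _ = _ := by rw [mul_assoc, U.t_sq, mul_one]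

theorem f_t {a b : G} (ha : a ∈ U.Q) (hb : b ∈ U.Q) : U.f (U.t * a * U.t) (U.t * b * U.t) = U.f a b := by
  simpa [U.t_inv] using U.f_conj U.inC_t ha hb

theorem inf_le : U.Q1 ⊓ U.Q2 ≤ U.Zs := by
  rintro a ⟨ha1, ha2⟩
  obtain ⟨haQ, hat⟩ := U.mem_Q2.1 ha2
  refine U.mem_Zs_of_f haQ fun q hq => ?_
  have hta : U.t * a * U.t = a := by rw [← hat, mul_assoc, U.t_sq, mul_one]
  have h1 : U.f a (U.t * q * U.t) = U.f a q := by
    conv_lhs => rw [← hta]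
    exact U.f_t haQ hq
  have hm : q * (U.t * q * U.t) ∈ U.Q2 := by
    refine U.mem_Q2_of_mod (mul_mem hq (U.t_conj_mem hq)) ?_
    have h2 : U.t * (q * (U.t * q * U.t)) * U.t = (U.t * q * U.t) * q := by
      calc U.t * (q * (U.t * q * U.t)) * U.t = (U.t * q * U.t) * q * (U.t * U.t) := by group
        _ = _ := by rw [U.t_sq, mul_one]
    rw [h2, show (q * (U.t * q * U.t))⁻¹ * (U.t * q * U.t * q) = ⁅(U.t * q * U.t)⁻¹, q⁻¹⁆ by
      simp [commutatorElement_def, mul_assoc]]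
    exact U.comm _ (inv_mem (U.t_conj_mem hq)) _ (inv_mem hq)
  have h3 := (U.mem_Q1.1 ha1).2 _ hm
  rw [U.f_mul_right haQ hq (U.t_conj_mem hq), h1] at h3
  exact (show ∀ x : ZMod 3, x + x = 0 → x = 0 by decide) _ h3

theorem card_Zs : Nat.card U.Zs = 3 := by rw [Nat.card_zpowers, U.z_order]

theorem card_Q1 : Nat.card U.Q1 = 27 := by
  have : Fact (Nat.Prime 3) := ⟨Nat.prime_three⟩
  have h := Extraspecial.relIndex_centralizer_eq U.Q U.Q2 U.Zs U.card_Zs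
    (fun k hk g hg => (U.Zs_central hk ((sup_le (a := U.Q) le_rfl inf_le_left : U.Q ⊔ U.Q2 ≤ U.Q) hg)).symm) (fun a ha b hb => U.comm a ha b hb.1)
  have he : U.Q2 ⊓ Subgroup.centralizer (U.Q : Set G) = U.Zs := by
    refine le_antisymm (fun a ha => U.centre a ha.1.1 fun r hr => (Subgroup.mem_centralizer_iff.1 ha.2 r hr).symm)
      (le_inf U.Zs_le_Q2 fun a ha => Subgroup.mem_centralizer_iff.2 fun r hr => U.Zs_central ha hr)
  rw [he] at h
  have h1 := Subgroup.card_mul_index ((U.Q1).subgroupOf U.Q)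
  have h2 := Subgroup.card_mul_index (U.Zs.subgroupOf U.Q2)
  rw [Nat.card_congr (Subgroup.subgroupOfEquivOfLe (inf_le_left : U.Q1 ≤ U.Q)).toEquiv, U.card] at h1
  rw [Nat.card_congr (Subgroup.subgroupOfEquivOfLe U.Zs_le_Q2).toEquiv, U.card_Zs, U.t_card] at h2
  change Nat.card U.Q1 * U.Q1.relIndex U.Q = 243 at h1
  change 3 * U.Zs.relIndex U.Q2 = 27 at h2
  change U.Q1.relIndex U.Q = U.Zs.relIndex U.Q2 at h
  rw [h, show U.Zs.relIndex U.Q2 = 9 by omega] at h1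
  omega

theorem exists_split {q : G} (hq : q ∈ U.Q) : ∃ a ∈ U.Q1, ∃ b ∈ U.Q2, q = a * b := by
  let φ : ↥U.Q1 × ↥U.Q2 →* G := MonoidHom.noncommCoprod U.Q1.subtype U.Q2.subtype fun a b =>
    (Subgroup.mem_centralizer_iff.1 a.2.2 b b.2).symm
  have hle : φ.range ≤ U.Q := by
    rintro _ ⟨⟨a, b⟩, rfl⟩
    exact mul_mem a.2.1 b.2.1
  have hk : Nat.card φ.ker ≤ 3 := by
    rw [← U.card_Zs]
    have hmem : ∀ x : φ.ker, ((x.1.1 : U.Q1) : G) ∈ U.Zs := fun x => by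
      refine U.inf_le ⟨x.1.1.2, ?_⟩
      have h : ((x.1.1 : U.Q1) : G) * (x.1.2 : G) = 1 := x.2
      rw [eq_inv_of_mul_eq_one_left h]
      exact Subgroup.inv_mem _ x.1.2.2
    let ψ : φ.ker → U.Zs := fun x => ⟨_, hmem x⟩
    refine Nat.card_le_card_of_injective ψ fun x x' h => ?_
    have h' : ((x.1.1 : U.Q1) : G) = (x'.1.1 : G) := congrArg (fun u : U.Zs => (u : G)) h
    have e : ((x.1.1 : U.Q1) : G) * (x.1.2 : G) = 1 := x.2
    have e' : ((x'.1.1 : U.Q1) : G) * (x'.1.2 : G) = 1 := x'.2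
    rw [← h'] at e'
    exact Subtype.ext (Prod.ext (Subtype.ext h') (Subtype.ext (mul_left_cancel (e.trans e'.symm))))
  have heq : φ.range = U.Q := by
    refine Subgroup.eq_of_le_of_card_ge hle ?_
    have h := Subgroup.card_mul_index φ.ker
    rw [Subgroup.index_ker, Nat.card_prod, U.card_Q1, U.t_card] at h
    rw [U.card]
    nlinarith
  obtain ⟨⟨a, b⟩, hab⟩ := heq.symm ▸ hq
  exact ⟨a, a.2, b, b.2, hab.symm⟩

theorem t_inverts {a : G} (ha : a ∈ U.Q1) : a * (U.t * a * U.t) ∈ U.Zs := by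
  have haQ := ha.1
  refine U.inf_le ⟨mul_mem ha ?_, ?_⟩
  · refine U.mem_Q1.2 ⟨U.t_conj_mem haQ, fun r hr => ?_⟩
    have hr' : U.t * r * U.t = r := by rw [← (U.mem_Q2.1 hr).2, mul_assoc, U.t_sq, mul_one]
    rw [← hr', U.f_t haQ hr.1, (U.mem_Q1.1 ha).2 r hr]
  · refine U.mem_Q2_of_mod (mul_mem haQ (U.t_conj_mem haQ)) ?_
    have h2 : U.t * (a * (U.t * a * U.t)) * U.t = (U.t * a * U.t) * a := by
      calc U.t * (a * (U.t * a * U.t)) * U.t = (U.t * a * U.t) * a * (U.t * U.t) := by group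
        _ = _ := by rw [U.t_sq, mul_one]
    rw [h2, show (a * (U.t * a * U.t))⁻¹ * (U.t * a * U.t * a) = ⁅(U.t * a * U.t)⁻¹, a⁻¹⁆ by
      simp [commutatorElement_def, mul_assoc]]
    exact U.comm _ (inv_mem (U.t_conj_mem haQ)) _ (inv_mem haQ)

theorem exists_commute_t {g : G} (hg : U.InC g) : ∃ q ∈ U.Q, Commute (q * g) U.t := by
  set n := U.t * (g * U.t * g⁻¹) with hn
  have hC : U.InC (g * U.t * g⁻¹) := U.inC_mul (U.inC_mul hg U.inC_t) (U.inC_inv hg)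
  have hnQ : n ∈ U.Q := by
    rw [← U.ker _ (U.inC_mul U.inC_t hC), U.π_mul _ _ U.inC_t hC, U.ε_mul _ _ U.inC_t hC,
      U.π_mul _ _ (U.inC_mul hg U.inC_t) (U.inC_inv hg), U.ε_mul _ _ (U.inC_mul hg U.inC_t) (U.inC_inv hg),
      U.π_mul _ _ hg U.inC_t, U.ε_mul _ _ hg U.inC_t, U.π_inv hg, U.ε_inv hg, U.t_π, U.t_ε,
      ← negI_central, mul_inv_cancel_right, sl23_facts.2.2.2.2.2.2.1]
    simp
  have htn : U.t * n = g * U.t * g⁻¹ := by rw [hn, ← mul_assoc, U.t_sq, one_mul]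
  have h2 : U.t * n * (U.t * n) = 1 := by
    rw [htn, show g * U.t * g⁻¹ * (g * U.t * g⁻¹) = g * (U.t * U.t) * g⁻¹ by group, U.t_sq]
    group
  obtain ⟨e, he, hen⟩ := exists_conj_invol U.exp hnQ U.t_sq h2
  refine ⟨e⁻¹, inv_mem he, ?_⟩
  rw [htn] at hen
  show e⁻¹ * g * U.t = U.t * (e⁻¹ * g)
  calc e⁻¹ * g * U.t = e⁻¹ * (g * U.t * g⁻¹) * g := by group
    _ = _ := by rw [← hen]; group

theorem Q2_normal {g a : G} (hg : U.InC g) (ha : a ∈ U.Q2) : g * a * g⁻¹ ∈ U.Q2 := by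
  obtain ⟨q, hq, hqt⟩ := U.exists_commute_t hg
  obtain ⟨haQ, hat⟩ := U.mem_Q2.1 ha
  have hb : g * a * g⁻¹ ∈ U.Q := U.normal g hg a haQ
  have hb2 : q * g * a * (q * g)⁻¹ ∈ U.Q2 :=
    U.mem_Q2.2 ⟨U.normal _ (U.inC_mul (U.inC_Q hq) hg) a haQ,
      ((hqt.mul_left (hat : Commute a U.t)).mul_left hqt.inv_left).eq⟩
  have hz : (q * g * a * (q * g)⁻¹)⁻¹ * (g * a * g⁻¹) ∈ U.Zs := by
    have := U.comm q hq _ (inv_mem hb)
    rw [show (q * g * a * (q * g)⁻¹)⁻¹ * (g * a * g⁻¹) = ⁅q, (g * a * g⁻¹)⁻¹⁆ by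
      simp only [commutatorElement_def]; group]
    exact this
  have := mul_mem hb2 (U.Zs_le_Q2 hz)
  rwa [mul_inv_cancel_left] at this

theorem Q1_normal {g a : G} (hg : U.InC g) (ha : a ∈ U.Q1) : g * a * g⁻¹ ∈ U.Q1 := by
  refine U.mem_Q1.2 ⟨U.normal g hg a ha.1, fun r hr => ?_⟩
  have hr' := U.Q2_normal (U.inC_inv hg) hr
  rw [inv_inv] at hr'
  rw [show r = g * (g⁻¹ * r * g) * g⁻¹ by group, U.f_conj hg ha.1 hr'.1, (U.mem_Q1.1 ha).2 _ hr']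

end Setup

end Cfsg.Agent.OEightThree
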