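import Cfsg.Agent.Lib.OEightThree.LocalTop
import Cfsg.Agent.Lib.Coprime.InvolutionEigen
import Cfsg.Agent.Lib.TwoFusion.Transfer
import Cfsg.Agent.Lib.U62Rec.HypTransfer

/-
Top of the recognition of `Ω⁺₈(2)` extensions (helper3, S3372, piece B).

* `eq_top_of_eight`    : the monomial group `Sym(3)^3` with all centralisers of its three-elements is everything;
* `exists_index_three` : a character of order three constant on fused classes gives index three;
* `exists_index_two_of_extremal`, `exists_index_two_of_card` : Thompson transfer, extremal form.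
-/

set_option autoImplicit false
set_option maxRecDepth 4000

namespace Cfsg.Agent.OEightThree

open Equiv Subgroup Cfsg.Agent.ThreeCubed
open scoped Pointwise

section Transfer

variable {W : Type*} [Group W] [Finite W]

/-- B2: a character of `M` constant on the fused elements of a Sylow subgroup extends to index three. -/
theorem exists_index_three (M : Subgroup W) (S : Sylow 3 W) (hSM : (S : Subgroup W) ≤ M)
    (χ : M →* Multiplicative (ZMod 3)) (hχ : ∃ m, χ m ≠ 1)
    (hfus : ∀ x, ∀ hx : x ∈ S, ∀ y, ∀ hy : y ∈ S, (∃ g : W, g * x * g⁻¹ = y) →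
      χ ⟨x, hSM hx⟩ = χ ⟨y, hSM hy⟩) :
    ∃ N : Subgroup W, N.Normal ∧ N.index = 3 ∧ N.subgroupOf M = χ.ker := by
  have : Fact (Nat.Prime 3) := ⟨Nat.prime_three⟩
  have hidx : ¬ 3 ∣ M.index := fun h => S.not_dvd_index (h.trans (index_dvd_of_le hSM))
  have h3 : Nat.card (Multiplicative (ZMod 3)) = 3 := by
    rw [Nat.card_congr Multiplicative.toAdd, Nat.card_zmod]
  let ψ : W →* Multiplicative (ZMod 3) := MonoidHom.transfer χ
  -- the two homomorphisms agree on the Sylow subgroup
  have hS : ∀ (x : W) (hx : x ∈ S), ψ x = χ ⟨x, hSM hx⟩ ^ M.index := by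
    intro x hx
    refine TwoFusion.transfer_eq_pow_of_controlled χ ⟨x, hSM hx⟩ fun k a hm => ?_
    obtain ⟨n, hn⟩ := S.2 ⟨x, hx⟩
    have hn' : x ^ 3 ^ n = 1 := by simpa [Subtype.ext_iff] using hn
    obtain ⟨l, hl, hlS⟩ := exists_conj_mem_sylow S hSM hm ⟨n, by
      rw [conj_pow, ← pow_mul, mul_comm, pow_mul, hn', one_pow, mul_one, mul_inv_cancel]⟩
    have h := hfus (x ^ k) (pow_mem hx k) _ hlS ⟨l * a, by group⟩
    rw [show (⟨l * (a * x ^ k * a⁻¹) * l⁻¹, hSM hlS⟩ : M) =
      ⟨l, hl⟩ * ⟨a * x ^ k * a⁻¹, hm⟩ * ⟨l, hl⟩⁻¹ from Subtype.ext rfl, map_mul, map_mul, map_inv,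
      mul_inv_cancel_comm] at h
    rw [← map_pow]
    exact h.symm
  -- so they agree on `M`
  let d : M →* Multiplicative (ZMod 3) := ψ.comp M.subtype / (powMonoidHom M.index).comp χ
  have hd : d.ker = ⊤ := by
    have h1 : (S : Subgroup W).subgroupOf M ≤ d.ker := fun z hz => by
      rw [MonoidHom.mem_ker, MonoidHom.div_apply, div_eq_one, MonoidHom.comp_apply,
        MonoidHom.comp_apply, powMonoidHom_apply]
      exact hS z hz
    have h2 : ¬ 3 ∣ d.ker.index := fun h => by
      refine S.not_dvd_index (h.trans ((index_dvd_of_le h1).trans ?_))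
      exact ⟨M.index, (relIndex_mul_index hSM).symm⟩
    have h3' : d.ker.index ∣ 3 := by
      rw [index_ker]
      have h := card_subgroup_dvd_card d.range
      rwa [h3] at h
    exact index_eq_one.1 (((Nat.dvd_prime Nat.prime_three).1 h3').resolve_right fun h => h2 (by rw [h]))
  have hM : ∀ m : M, ψ m = χ m ^ M.index := fun m => by
    have h : d m = 1 := MonoidHom.mem_ker.1 (hd ▸ mem_top m)
    exact div_eq_one.1 h
  have hiff : ∀ m : M, ψ m = 1 ↔ χ m = 1 := fun m => by
    rw [hM m]
    refine ⟨fun h => ?_, fun h => by rw [h, one_pow]⟩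
    refine TwoFusion.eq_one_of_pow_eq_one_of_coprime h (n := 3) ?_
      ((Nat.Prime.coprime_iff_not_dvd Nat.prime_three).2 hidx).symm
    have h' := pow_card_eq_one' (x := χ m)
    rwa [h3] at h'
  refine ⟨ψ.ker, inferInstance, ?_, ?_⟩
  · rw [index_ker]
    refine (((Nat.dvd_prime Nat.prime_three).1 (by have h' := card_subgroup_dvd_card ψ.range; rwa [h3] at h'))).resolve_left fun h => ?_
    obtain ⟨m, hm⟩ := hχ
    refine hm ((hiff m).1 ?_)
    exact mem_bot.1 (card_eq_one.1 h ▸ MonoidHom.mem_range.2 ⟨(m : W), rfl⟩)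
  · ext m
    rw [mem_subgroupOf, MonoidHom.mem_ker, MonoidHom.mem_ker]
    exact hiff m

/-- B3: Thompson transfer, extremal form. -/
theorem exists_index_two_of_extremal (P : Sylow 2 W) (Pp : Subgroup W) (hle : Pp ≤ (P : Subgroup W))
    (hi : Pp.relIndex (P : Subgroup W) = 2) {s : W} (hs : orderOf s = 2) (hsP : s ∈ P) (hsn : s ∉ Pp)
    (hno : ∀ g : W, g * s * g⁻¹ ∈ Pp → ∃ x ∈ P, Commute x s ∧ g * x * g⁻¹ ∉ P) :
    ∃ N : Subgroup W, N.Normal ∧ N.index = 2 ∧ s ∉ N := by
  rcases U62Rec.transfer_extremal P Pp hle hi s hs hsP hsn with h | ⟨g, hg, hx⟩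
  · exact h
  · obtain ⟨x, hxP, hxs, hgx⟩ := hno g hg
    exact absurd (hx x hxP hxs) hgx

/-- B3, with orders of centralisers in `P`. -/
theorem exists_index_two_of_card (P : Sylow 2 W) (Pp : Subgroup W) (hle : Pp ≤ (P : Subgroup W))
    (hi : Pp.relIndex (P : Subgroup W) = 2) {s : W} (hs : orderOf s = 2) (hsP : s ∈ P) (hsn : s ∉ Pp)
    (hno : ∀ w ∈ Pp, IsConj s w → Nat.card ↥((P : Subgroup W) ⊓ centralizer {w}) <
      Nat.card ↥((P : Subgroup W) ⊓ centralizer {s})) :
    ∃ N : Subgroup W, N.Normal ∧ N.index = 2 ∧ s ∉ N := by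
  refine exists_index_two_of_extremal P Pp hle hi hs hsP hsn fun g hg => ?_
  by_contra! hall
  refine (hno _ hg (isConj_iff.2 ⟨g, rfl⟩)).not_ge ?_
  rw [← Coprime.card_conj g ((P : Subgroup W) ⊓ centralizer {s})]
  refine card_le_of_le fun z hz => ?_
  obtain ⟨hzP, hzs⟩ := mem_inf.1 (Coprime.mem_conj.1 hz)
  have hcs : Commute (g⁻¹ * z * g) s := mem_centralizer_singleton_iff.1 hzs
  have hz' := hall _ hzP hcs
  rw [show g * (g⁻¹ * z * g) * g⁻¹ = z by group] at hz'
  refine mem_inf.2 ⟨hz', mem_centralizer_singleton_iff.2 ?_⟩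
  calc z * (g * s * g⁻¹) = g * ((g⁻¹ * z * g) * s) * g⁻¹ := by group
    _ = g * (s * (g⁻¹ * z * g)) * g⁻¹ := by rw [hcs.eq]
    _ = g * s * g⁻¹ * z := by group

end Transfer

section Model

/-- The subgroup `{1, swp}` of `Sym(3)`. -/
def swpGrp : Subgroup P3 where
  carrier := {a | a = 1 ∨ a = swp}
  one_mem' := Or.inl rfl
  mul_mem' := by
    rintro a b (rfl | rfl) (rfl | rfl) <;> simp [swp]
  inv_mem' := by
    rintro a (rfl | rfl) <;> simp [swp]

theorem mem_swpGrp {a : P3} : a ∈ swpGrp ↔ a = 1 ∨ a = swp := Iff.rfl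

theorem card_swpGrp : Nat.card swpGrp = 2 := by
  rw [Nat.card_congr (Equiv.subtypeEquivRight (fun a => mem_swpGrp (a := a))), Nat.card_eq_fintype_card]
  decide

theorem card_P3 : Nat.card P3 = 6 := by
  rw [Nat.card_eq_fintype_card, Fintype.card_perm]
  rfl

theorem card_alt : Nat.card (alternatingGroup (Fin 3)) = 3 := by
  rw [nat_card_alternatingGroup, Nat.card_fin]
  rfl

/-- A product subgroup of the triples. -/
abbrev triples (H : Fin 3 → Subgroup P3) : Subgroup (Fin 3 → P3) := Subgroup.pi Set.univ H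

theorem mem_triples {H : Fin 3 → Subgroup P3} {p : Fin 3 → P3} :
    p ∈ triples H ↔ ∀ k, p k ∈ H k :=
  ⟨fun h k => h k (Set.mem_univ k), fun h k _ => h k⟩

theorem card_triples (H : Fin 3 → Subgroup P3) :
    Nat.card (triples H) = Nat.card (H 0) * Nat.card (H 1) * Nat.card (H 2) := by
  rw [Nat.card_congr ((Equiv.subtypeEquivRight (fun p => mem_triples)).trans
    (Equiv.subtypePiEquivPi (p := fun k a => a ∈ H k))), Nat.card_pi, Fin.prod_univ_three]

theorem swp_comm : ∀ a : P3, a * swp = swp * a → a = 1 ∨ a = swp := by decide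

theorem sign_of_cube : ∀ a : P3, a * a * a = 1 → Perm.sign a = 1 := by decide

theorem eq_one_of_swp_comm : ∀ a : P3, Perm.sign a = 1 → a * swp = swp * a → a = 1 := by decide

theorem sign_of_rot_comm : ∀ a : P3, a * rot = rot * a → Perm.sign a = 1 := by decide

theorem swp_conj : ∀ q : P3, q * swp * q⁻¹ = 1 ∨ q * swp * q⁻¹ = swp → q * swp * q⁻¹ = swp ∧ (q = 1 ∨ q = swp) := by
  decide

/-- The rotation in one coordinate. -/
abbrev rotAt (i : Fin 3) : Fin 3 → P3 := Pi.mulSingle i rot

/-- The transposition in one coordinate. -/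
abbrev swpAt (i : Fin 3) : Fin 3 → P3 := Pi.mulSingle i swp

/-- The sign-one triples. -/
abbrev altTriples : Subgroup (Fin 3 → P3) := triples fun _ => alternatingGroup (Fin 3)

theorem card_altTriples : Nat.card altTriples = 27 := by
  rw [card_triples, card_alt]

theorem rotAt_mem (i : Fin 3) : rotAt i ∈ altTriples := mem_triples.2 fun k => by
  rw [Perm.mem_alternatingGroup]
  rcases eq_or_ne k i with rfl | h
  · simp only [rotAt, Pi.mulSingle_eq_same]; exact sign_rot
  · simp only [rotAt, Pi.mulSingle_eq_of_ne h, map_one]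

theorem rotAt_ne_one (i : Fin 3) : rotAt i ≠ 1 := fun h => rot_ne_one (by
  simpa using congrFun h i)

variable {W : Type*} [Group W] [Finite W] (φ : (Fin 3 → P3) →* W)

/-- The image of the sign-one triples. -/
abbrev base : Subgroup W := altTriples.map φ

variable {φ}

theorem base_comm {u v : W} (hu : u ∈ base φ) (hv : v ∈ base φ) : Commute u v := by
  obtain ⟨p, hp, rfl⟩ := hu
  obtain ⟨q, hq, rfl⟩ := hv
  refine Commute.map (funext fun k => ?_) φ
  exact comm_of_sign _ _ (Perm.mem_alternatingGroup.1 (mem_triples.1 hp k))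
    (Perm.mem_alternatingGroup.1 (mem_triples.1 hq k))

theorem base_cube {u : W} (hu : u ∈ base φ) : u ^ 3 = 1 := by
  obtain ⟨p, hp, rfl⟩ := hu
  rw [← map_pow, show p ^ 3 = 1 from funext fun k => ?_, map_one]
  rw [Pi.pow_apply, Pi.one_apply, pow_succ, pow_two]
  exact cube_of_sign _ (Perm.mem_alternatingGroup.1 (mem_triples.1 hp k))

theorem mem_base_of_cube (hinj : Function.Injective φ) {m : W} (hm : m ∈ φ.range) (h3 : m ^ 3 = 1) :
    m ∈ base φ := by
  obtain ⟨q, rfl⟩ := hm
  refine mem_map_of_mem _ (mem_triples.2 fun k => Perm.mem_alternatingGroup.2 (sign_of_cube _ ?_))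
  have h := congrFun (hinj (by rw [map_pow, h3, map_one] : φ (q ^ 3) = φ 1)) k
  rwa [Pi.pow_apply, Pi.one_apply, pow_succ, pow_two] at h

/-- The base is a trivial intersection subgroup: a conjugation moving one of its elements into it is in `M`. -/
theorem mem_range_of_conj_base (hinj : Function.Injective φ)
    (hN : normalizer ((base φ : Subgroup W) : Set W) ≤ φ.range)
    (hC : ∀ e ∈ base φ, e ≠ 1 → centralizer ({e} : Set W) ≤ φ.range) {g t : W} (ht : t ∈ base φ)
    (ht1 : t ≠ 1) (hgt : g * t * g⁻¹ ∈ base φ) : g ∈ φ.range := by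
  refine hN (Coprime.mem_normalizer_of_forall fun u hu => ?_)
  refine mem_base_of_cube hinj (hC _ hgt (fun h => ht1 (conj_eq_one_iff.1 h))
    (mem_centralizer_singleton_iff.2 ?_)) (by rw [conj_pow, base_cube hu, mul_one, mul_inv_cancel])
  exact ((base_comm hu ht).map (MulAut.conj g).toMonoidHom).eq

/-- The centraliser of an involution with two free coordinates lies in `M`. -/
theorem centralizer_swpAt_le (hinj : Function.Injective φ)
    (hN : normalizer ((base φ : Subgroup W) : Set W) ≤ φ.range)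
    (hC : ∀ e ∈ base φ, e ≠ 1 → centralizer ({e} : Set W) ≤ φ.range) (i : Fin 3) :
    centralizer ({φ (swpAt i)} : Set W) ≤ φ.range := by
  classical
  set Q := centralizer ({φ (swpAt i)} : Set W) with hQ
  let A0 : Fin 3 → Subgroup P3 := fun k => if k = i then ⊥ else alternatingGroup (Fin 3)
  let C0 : Fin 3 → Subgroup P3 := fun k => if k = i then swpGrp else ⊤
  have hA0 : ∀ {p}, p ∈ triples A0 → p i = 1 ∧ ∀ k, Perm.sign (p k) = 1 := by
    intro p hp
    refine ⟨by simpa [A0] using mem_triples.1 hp i, fun k => ?_⟩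
    have := mem_triples.1 hp k
    rcases eq_or_ne k i with rfl | h
    · rw [show p k = 1 by simpa [A0] using this, map_one]
    · exact Perm.mem_alternatingGroup.1 (by simpa [A0, h] using this)
  have hA0' : ∀ {p}, p i = 1 → (∀ k, k ≠ i → Perm.sign (p k) = 1) → p ∈ triples A0 := by
    intro p hpi hp
    refine mem_triples.2 fun k => ?_
    rcases eq_or_ne k i with rfl | h
    · simp [A0, hpi]
    · simpa [A0, h] using Perm.mem_alternatingGroup.2 (hp k h)
  have hAbase : (triples A0).map φ ≤ base φ := map_mono fun p hp =>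
    mem_triples.2 fun k => Perm.mem_alternatingGroup.2 ((hA0 hp).2 k)
  have hAQ : (triples A0).map φ ≤ Q := by
    rintro _ ⟨p, hp, rfl⟩
    refine mem_centralizer_singleton_iff.2 ((Commute.map (funext fun k => ?_) φ).eq)
    rcases eq_or_ne k i with rfl | h
    · simp [(hA0 hp).1]
    · simp [Pi.mulSingle_eq_of_ne h]
  have hcomp : ∀ {q}, φ q ∈ Q → q i = 1 ∨ q i = swp := by
    intro q hq
    have h : φ (q * swpAt i) = φ (swpAt i * q) := by
      rw [map_mul, map_mul]; exact mem_centralizer_singleton_iff.1 hq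
    exact swp_comm _ (by simpa using congrFun (hinj h) i)
  have hMQ : φ.range ⊓ Q = (triples C0).map φ := by
    refine le_antisymm ?_ ?_
    · rintro z hz
      obtain ⟨⟨q, rfl⟩, hzQ⟩ := mem_inf.1 hz
      refine mem_map_of_mem _ (mem_triples.2 fun k => ?_)
      rcases eq_or_ne k i with rfl | h
      · simpa [C0, mem_swpGrp] using hcomp hzQ
      · simp [C0, h]
    · rintro _ ⟨q, hq, rfl⟩
      refine mem_inf.2 ⟨⟨q, rfl⟩, mem_centralizer_singleton_iff.2 ((Commute.map (funext fun k => ?_) φ).eq)⟩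
      rcases eq_or_ne k i with rfl | h
      · rcases (show q k = 1 ∨ q k = swp by simpa [C0, mem_swpGrp] using mem_triples.1 hq k) with e | e <;>
          simp [e]
      · simp [Pi.mulSingle_eq_of_ne h]
  let K : Subgroup Q := zpowers ⟨φ (swpAt i), mem_centralizer_singleton_iff.2 rfl⟩
  have hKn : K.Normal := ⟨fun z hz g => by
    obtain ⟨n, rfl⟩ := mem_zpowers_iff.1 hz
    have h : Commute g ⟨φ (swpAt i), mem_centralizer_singleton_iff.2 rfl⟩ :=
      Subtype.ext (mem_centralizer_singleton_iff.1 g.2)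
    rw [(h.zpow_right n).eq, mul_inv_cancel_right]
    exact hz⟩
  have hsne : φ (swpAt i) ≠ 1 := fun h => by
    have e : swp = 1 := by simpa using congrFun (hinj (h.trans (map_one φ).symm)) i
    exact absurd e (by decide)
  have hK2 : Nat.card K = 2 := by
    rw [Nat.card_zpowers, ← Subgroup.orderOf_coe]
    refine orderOf_eq_prime ?_ hsne
    rw [← map_pow, show swpAt i ^ 2 = 1 from by
      rw [← Pi.mulSingle_pow, show swp ^ 2 = 1 by decide, Pi.mulSingle_one], map_one]
  have hdec : ∀ g : Q, ∀ q, φ q = g → (∀ k, k ≠ i → Perm.sign (q k) = 1) →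
      g ∈ K ⊔ ((triples A0).map φ).subgroupOf Q := by
    intro g q hq hs
    rcases hcomp (hq ▸ g.2) with e | e
    · exact mem_sup_right (mem_subgroupOf.2 ⟨q, hA0' e hs, hq⟩)
    · have hk : (⟨φ (swpAt i), mem_centralizer_singleton_iff.2 rfl⟩ : Q)⁻¹ * g ∈
          ((triples A0).map φ).subgroupOf Q := by
        refine mem_subgroupOf.2 ⟨(swpAt i)⁻¹ * q, hA0' (by simp [e]) (fun k h => ?_), ?_⟩
        · simpa [Pi.mulSingle_eq_of_ne h] using hs k h
        · simp [map_mul, map_inv, hq]
      have := mul_mem_sup (mem_zpowers (⟨φ (swpAt i), mem_centralizer_singleton_iff.2 rfl⟩ : Q)) hk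
      rwa [mul_inv_cancel_left] at this
  have hj : i + 1 ≠ i := by fin_cases i <;> decide
  have hrotA : rotAt (i + 1) ∈ triples A0 :=
    hA0' (by simp [Pi.mulSingle_eq_of_ne hj.symm]) (fun k _ =>
      Perm.mem_alternatingGroup.1 (mem_triples.1 (rotAt_mem (i + 1)) k))
  have htop := eq_top_of_klein (G := Q) (M := φ.range.subgroupOf Q) (K := K)
    (T := ((triples A0).map φ).subgroupOf Q) ?_ ?_ ?_ ?_ ?_ ?_ ?_ ?_ ?_ ?_ ?_
  · exact fun g hg => mem_subgroupOf.1 (htop ▸ mem_top (⟨g, hg⟩ : Q))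
  · exact zpowers_le.2 (mem_subgroupOf.2 ⟨_, rfl⟩)
  · rw [hK2]; decide
  · exact fun a ha b hb => Subtype.ext (base_comm (hAbase ha) (hAbase hb)).eq
  · exact fun a ha => Subtype.ext (by rw [coe_pow]; exact base_cube (hAbase ha))
  · rw [Nat.card_congr (subgroupOfEquivOfLe hAQ).toEquiv, card_map_of_injective hinj, card_triples]
    have hcA : ∀ k, Nat.card (A0 k) = if k = i then 1 else 3 := fun k => by
      dsimp only [A0]; split_ifs; exacts [card_bot, card_alt]
    rw [hcA, hcA, hcA]
    fin_cases i <;> decide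
  · exact fun a ha => mem_subgroupOf.2 (map_le_range φ _ ha)
  · intro g hg
    refine mem_subgroupOf.2 ?_
    have ha : φ (rotAt (i + 1)) ∈ (triples A0).map φ := mem_map_of_mem _ hrotA
    refine mem_range_of_conj_base hinj hN hC (hAbase ha) (fun h => rotAt_ne_one _
      (hinj (h.trans (map_one φ).symm))) (hAbase ?_)
    have := (mem_normalizer_iff.1 hg ⟨_, hAQ ha⟩).1 (mem_subgroupOf.2 ha)
    exact this
  · intro a ha ha1 g hg
    refine mem_subgroupOf.2 (hC _ (hAbase ha) (fun h => ha1 (Subtype.ext h))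
      (mem_centralizer_singleton_iff.2 ?_))
    exact congrArg Subtype.val (mem_centralizer_singleton_iff.1 hg)
  · rw [← inf_subgroupOf_right, Nat.card_congr (subgroupOfEquivOfLe inf_le_right).toEquiv, hMQ,
      card_map_of_injective hinj, card_triples, hK2]
    fin_cases i <;> simp [C0, card_swpGrp, card_P3, -Nat.card_eq_fintype_card]
  · intro m hm
    obtain ⟨q, hq⟩ := mem_subgroupOf.1 hm
    refine mem_sup_right (mem_subgroupOf.2 ⟨q * q, hA0' ?_ (fun k _ => ?_), by simp [hq]⟩)
    · rcases hcomp (hq ▸ m.2) with e | e <;> simp [e, show swp * swp = 1 by decide]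
    · rw [Pi.mul_apply, map_mul, Int.units_mul_self]
  · intro g hg
    have hga : ∀ a ∈ (triples A0).map φ, Commute a (g : W) := fun a ha => by
      exact congrArg Subtype.val (hg (⟨a, hAQ ha⟩ : Q) (mem_subgroupOf.2 ha))
    obtain ⟨q, hq⟩ := hC _ (hAbase (mem_map_of_mem _ hrotA)) (fun h => rotAt_ne_one _
      (hinj (h.trans (map_one φ).symm)))
      (mem_centralizer_singleton_iff.2 (hga _ (mem_map_of_mem _ hrotA)).symm.eq)
    refine hdec g q hq fun k hk => sign_of_rot_comm _ ?_
    have hr : rotAt k ∈ triples A0 := hA0' (by simp [Pi.mulSingle_eq_of_ne hk.symm]) (fun l _ =>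
      Perm.mem_alternatingGroup.1 (mem_triples.1 (rotAt_mem k) l))
    have h := (hga _ (mem_map_of_mem _ hr)).symm.eq
    rw [← hq, ← map_mul, ← map_mul] at h
    simpa using congrFun (hinj h) k

/-- The images of a coordinate involution in the two-group of transpositions. -/
theorem eq_swpAt_of_conj (hinj : Function.Injective φ)
    (hN : normalizer ((base φ : Subgroup W) : Set W) ≤ φ.range)
    (hC : ∀ e ∈ base φ, e ≠ 1 → centralizer ({e} : Set W) ≤ φ.range) {g : W} {i j : Fin 3}
    {p : Fin 3 → P3} (hp : ∀ k, p k ∈ swpGrp) (hj : p j = 1)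
    (hg : g * φ (swpAt i) * g⁻¹ = φ p) : p = swpAt i := by
  have he : φ (rotAt j) ∈ base φ := mem_map_of_mem _ (rotAt_mem j)
  have he1 : φ (rotAt j) ≠ 1 := fun h => rotAt_ne_one _ (hinj (h.trans (map_one φ).symm))
  have hpe : Commute (φ p) (φ (rotAt j)) := Commute.map (funext fun k => by
    rcases eq_or_ne k j with rfl | h
    · simp [hj]
    · simp [Pi.mulSingle_eq_of_ne h]) φ
  have hcen : g⁻¹ * φ (rotAt j) * g ∈ φ.range := by
    refine centralizer_swpAt_le hinj hN hC i (mem_centralizer_singleton_iff.2 ?_)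
    calc g⁻¹ * φ (rotAt j) * g * φ (swpAt i) = g⁻¹ * (φ (rotAt j) * (g * φ (swpAt i) * g⁻¹)) * g := by
          group
      _ = g⁻¹ * (g * φ (swpAt i) * g⁻¹ * φ (rotAt j)) * g := by rw [hg, hpe.eq]
      _ = φ (swpAt i) * (g⁻¹ * φ (rotAt j) * g) := by group
  have hcb : g⁻¹ * φ (rotAt j) * g ∈ base φ := mem_base_of_cube hinj hcen (by
    have h := conj_pow (a := g⁻¹) (b := φ (rotAt j)) (i := 3)
    rw [inv_inv] at h
    rw [h, base_cube he, mul_one, inv_mul_cancel])
  obtain ⟨q, rfl⟩ := mem_range_of_conj_base hinj hN hC hcb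
    (fun h => he1 (by simpa [mul_assoc] using congrArg (fun z => g * z * g⁻¹) h))
    (by rw [show g * (g⁻¹ * φ (rotAt j) * g) * g⁻¹ = φ (rotAt j) by group]; exact he)
  rw [← map_inv, ← map_mul, ← map_mul] at hg
  have h := hinj hg
  funext k
  rcases eq_or_ne k i with rfl | hk
  · have e : q k * swp * (q k)⁻¹ = p k := by simpa using congrFun h k
    have h2 := swp_conj (q k) (by rw [e]; exact hp k)
    simp only [swpAt, Pi.mulSingle_eq_same]
    rw [← e, h2.1]
  · have e := congrFun h k
    simp [Pi.mulSingle_eq_of_ne hk] at e ⊢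
    exact e.symm

/-- B1 for a model. -/
theorem range_eq_top_of_model (hinj : Function.Injective φ)
    (hN : normalizer ((base φ : Subgroup W) : Set W) ≤ φ.range)
    (hC : ∀ e ∈ base φ, e ≠ 1 → centralizer ({e} : Set W) ≤ φ.range) : φ.range = ⊤ := by
  classical
  have : Fact (Nat.Prime 2) := ⟨Nat.prime_two⟩
  set D := (triples fun _ => swpGrp).map φ with hD
  have hD8 : Nat.card D = 2 ^ 3 := by
    rw [hD, card_map_of_injective hinj, card_triples, card_swpGrp]; norm_num
  have hsD : ∀ k, φ (swpAt k) ∈ D := fun k => mem_map_of_mem _ (mem_triples.2 fun l => by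
    rcases eq_or_ne l k with rfl | h
    · simp [mem_swpGrp]
    · simp [mem_swpGrp, Pi.mulSingle_eq_of_ne h])
  -- the two-group is its own normaliser
  have hND : normalizer (D : Set W) = D := by
    refine le_antisymm (fun x hx => ?_) le_normalizer
    have himg : ∀ k : Fin 3, (x * φ (swpAt k) * x⁻¹ = φ (swpAt k)) ∨
        x * φ (swpAt k) * x⁻¹ = φ fun _ => swp := by
      intro k
      obtain ⟨p, hp, hpe⟩ := (mem_normalizer_iff.1 hx _).1 (hsD k)
      by_cases h : ∃ j, p j = 1
      · obtain ⟨j, hj⟩ := h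
        exact Or.inl (by rw [← hpe, eq_swpAt_of_conj hinj hN hC (mem_triples.1 hp) hj hpe.symm])
      · push Not at h
        refine Or.inr (hpe.symm.trans ?_)
        congr 1
        exact funext fun j => (mem_triples.1 hp j).resolve_left (h j)
    obtain ⟨k, hk⟩ : ∃ k, x * φ (swpAt k) * x⁻¹ = φ (swpAt k) := by
      rcases himg 0 with h | h
      · exact ⟨0, h⟩
      rcases himg 1 with h' | h'
      · exact ⟨1, h'⟩
      exfalso
      have e := congrFun (hinj (mul_left_cancel (mul_right_cancel (h.trans h'.symm)))) 0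
      simp at e
      exact absurd e (by decide)
    obtain ⟨q, rfl⟩ := centralizer_swpAt_le hinj hN hC k
      (mem_centralizer_singleton_iff.2 (mul_inv_eq_iff_eq_mul.1 hk))
    refine mem_map_of_mem _ (mem_triples.2 fun l => ?_)
    obtain ⟨p, hp, hpe⟩ := (mem_normalizer_iff.1 hx _).1 (hsD l)
    rw [← map_inv, ← map_mul, ← map_mul] at hpe
    have e : q l * swp * (q l)⁻¹ = p l := by simpa using (congrFun (hinj hpe) l).symm
    exact (swp_conj (q l) (by rw [e]; exact mem_triples.1 hp l)).2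
  obtain ⟨P, hP⟩ : ∃ P : Sylow 2 W, (P : Subgroup W) = D := by
    obtain ⟨P, hP⟩ := (IsPGroup.of_card (p := 2) (n := 3) hD8).exists_le_sylow
    refine ⟨P, (eq_of_le_of_card_ge hP ?_).symm⟩
    obtain ⟨n, hn⟩ := IsPGroup.iff_card.1 P.2
    have hd := card_subgroup_dvd_card (P : Subgroup W)
    rw [hn] at hd
    rw [hD8, hn]
    rcases le_or_gt n 3 with h | h
    · exact Nat.pow_le_pow_right (by norm_num) h
    · exfalso
      have h16 := Sylow.prime_pow_dvd_card_normalizer (dvd_trans (pow_dvd_pow 2 h) hd) hD8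
      rw [hND, hD8] at h16
      norm_num at h16
  have hPC : normalizer ((P : Subgroup W) : Set W) ≤ centralizer ((P : Subgroup W) : Set W) := by
    rw [hP, hND]
    intro a ha b hb
    obtain ⟨p, hp, rfl⟩ := ha
    obtain ⟨q, hq, rfl⟩ := hb
    refine (Commute.map (funext fun k => ?_) φ).eq
    rcases mem_triples.1 hp k with e | e <;> rcases mem_triples.1 hq k with e' | e' <;> simp [e, e']
  set τ := MonoidHom.transferSylow P hPC with hτ
  set O := τ.ker with hO
  have hcomp := MonoidHom.ker_transferSylow_isComplement' P hPC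
  have hOodd : Odd (Nat.card O) := by
    rw [← hcomp.index_eq_card]
    exact Nat.not_even_iff_odd.1 fun h => P.not_dvd_index (even_iff_two_dvd.1 h)
  have hTO : base φ ≤ O := fun t ht => by
    refine TwoFusion.eq_one_of_pow_eq_one_of_coprime (m := 3) (n := 2 ^ 3) ?_ ?_ (by norm_num)
    · rw [← map_pow, base_cube ht, map_one]
    · rw [← hD8, ← hP]
      exact pow_card_eq_one'
  have hOM : O ⊓ φ.range ≤ base φ := by
    intro m hm
    obtain ⟨hmO, q, rfl⟩ := mem_inf.1 hm
    refine mem_map_of_mem _ (mem_triples.2 fun k => Perm.mem_alternatingGroup.2 ?_)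
    have hpow : φ q ^ Nat.card O = 1 := congrArg Subtype.val (pow_card_eq_one' (x := (⟨φ q, hmO⟩ : O)))
    rw [← map_pow] at hpow
    have e := congrArg (fun p => Perm.sign (p k)) (hinj (hpow.trans (map_one φ).symm))
    simp only [Pi.pow_apply, map_pow, Pi.one_apply, map_one] at e
    rcases Int.units_eq_one_or (Perm.sign (q k)) with h | h
    · exact h
    · rw [h, hOodd.neg_one_pow] at e
      exact absurd e (by decide)
  have hCs : ∀ i, O ⊓ centralizer ({φ (swpAt i)} : Set W) ≤ base φ := fun i z hz =>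
    hOM (mem_inf.2 ⟨(mem_inf.1 hz).1, centralizer_swpAt_le hinj hN hC i (mem_inf.1 hz).2⟩)
  -- the four-group on two coordinates
  set A0 : Fin 3 → Subgroup P3 := fun k => if k = 2 then ⊥ else swpGrp with hA0
  set A := (triples A0).map φ with hA
  have hAswp : ∀ {p}, p ∈ triples A0 → ∀ k, p k ∈ swpGrp := fun {p} hp k => by
    have := mem_triples.1 hp k
    rcases eq_or_ne k 2 with rfl | h
    · rw [show p 2 = 1 by simpa [hA0] using this]; exact one_mem _
    · simpa [hA0, h] using this
  have hAD : A ≤ D := map_mono fun p hp => mem_triples.2 (hAswp hp)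
  have hA4 : Nat.card A = 4 := by
    rw [hA, card_map_of_injective hinj, card_triples]
    simp [hA0, card_swpGrp, -Nat.card_eq_fintype_card]
  have hDc : ∀ a ∈ D, ∀ b ∈ D, a * b = b * a := fun a ha b hb => by
    rw [← hP] at ha hb
    exact hPC (le_normalizer hb) a ha
  have hAc : IsMulCommutative A := ⟨⟨fun a b => Subtype.ext (hDc a (hAD a.2) b (hAD b.2))⟩⟩
  have hAnc : ¬ IsCyclic A := fun hcyc => by
    have h : Monoid.exponent A = 4 := hA4 ▸ IsCyclic.exponent_eq_card
    have h2 : Monoid.exponent A ∣ 2 := Monoid.exponent_dvd_of_forall_pow_eq_one fun a => Subtype.ext (by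
      obtain ⟨p, hp, hpe⟩ := a.2
      rw [coe_pow, ← hpe, ← map_pow, show p ^ 2 = 1 from funext fun k => ?_, map_one, coe_one]
      rw [Pi.pow_apply, Pi.one_apply]
      rcases hAswp hp k with e | e <;> rw [e] <;> decide)
    rw [h] at h2
    omega
  have hOn : O.Normal := inferInstanceAs τ.ker.Normal
  have hOT : O ≤ base φ := by
    refine Coprime.le_of_noncyclic hAnc (by rw [normalizer_eq_top]; exact le_top) ?_ fun a ha ha1 => ?_
    · rw [hA4, show (4 : ℕ) = 2 ^ 2 by norm_num]
      exact ((Nat.coprime_two_left).2 hOodd).pow_left 2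
    obtain ⟨p, hp, rfl⟩ := ha
    have hp2 : p 2 = 1 := by simpa [hA0] using mem_triples.1 hp 2
    have hext : ∀ r : Fin 3 → P3, p 0 = r 0 → p 1 = r 1 → r 2 = 1 → p = r := fun r h0 h1 h2 => by
      funext k; fin_cases k
      · exact h0
      · exact h1
      · exact hp2.trans h2.symm
    rcases hAswp hp 0 with h0 | h0 <;> rcases hAswp hp 1 with h1 | h1
    · exact absurd (by rw [hext 1 h0 h1 rfl, map_one]) ha1
    · rw [hext (swpAt 1) (by simp [h0]) (by simp [h1]) (by simp)]; exact hCs 1
    · rw [hext (swpAt 0) (by simp [h0]) (by simp [h1]) (by simp)]; exact hCs 0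
    -- the involution on the last coordinate inverts the centraliser of `p`
    set Y := O ⊓ centralizer ({φ p} : Set W) with hY
    have hps : Commute (φ (swpAt 2)) (φ p) := hDc _ (hsD 2) _ (hAD ⟨p, hp, rfl⟩)
    have hconj : ∀ y : Y, φ (swpAt 2) * y * (φ (swpAt 2))⁻¹ ∈ Y := fun y => by
      refine mem_inf.2 ⟨hOn.conj_mem _ (mem_inf.1 y.2).1 _, ?_⟩
      have hs : φ (swpAt 2) ∈ centralizer ({φ p} : Set W) := mem_centralizer_singleton_iff.2 hps.eq
      exact mul_mem (mul_mem hs (mem_inf.1 y.2).2) (inv_mem hs)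
    let f : Y →* Y :=
      { toFun := fun y => ⟨_, hconj y⟩
        map_one' := Subtype.ext (by simp)
        map_mul' := fun a b => Subtype.ext (by simp [mul_assoc]) }
    have hs2 : φ (swpAt 2) * φ (swpAt 2) = 1 := by
      rw [← map_mul, ← Pi.mulSingle_mul, show swp * swp = 1 by decide, Pi.mulSingle_one, map_one]
    have hf2 : ∀ y, f (f y) = y := fun y => Subtype.ext (by
      show φ (swpAt 2) * (φ (swpAt 2) * y * (φ (swpAt 2))⁻¹) * (φ (swpAt 2))⁻¹ = y
      rw [inv_eq_of_mul_eq_one_right hs2]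
      simp [← mul_assoc, hs2]
      rw [mul_assoc, hs2, mul_one])
    have hfix : ∀ y, f y = y → y = 1 := fun y hy => by
      have hys : Commute (y : W) (φ (swpAt 2)) :=
        (mul_inv_eq_iff_eq_mul.1 (congrArg Subtype.val hy)).symm
      obtain ⟨q, hq, hqe⟩ := hCs 2 (mem_inf.2 ⟨(mem_inf.1 y.2).1, mem_centralizer_singleton_iff.2 hys.eq⟩)
      have hyp := mem_centralizer_singleton_iff.1 (mem_inf.1 y.2).2
      rw [← hqe, ← map_mul, ← map_mul] at hyp
      have hys' := hys.eq
      rw [← hqe, ← map_mul, ← map_mul] at hys'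
      refine Subtype.ext (hqe.symm.trans ?_)
      rw [show q = 1 from funext fun k => eq_one_of_swp_comm _
        (Perm.mem_alternatingGroup.1 (mem_triples.1 hq k)) ?_, map_one, coe_one]
      fin_cases k
      · simpa [h0] using congrFun (hinj hyp) 0
      · simpa [h1] using congrFun (hinj hyp) 1
      · simpa using congrFun (hinj hys') 2
    have hab : ∀ u v : Y, u * v = v * u := fun u v => by
      have h := InvolutionEigen.inverts_of_fpf f hf2 hfix (u * v)
      rw [map_mul, InvolutionEigen.inverts_of_fpf f hf2 hfix u,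
        InvolutionEigen.inverts_of_fpf f hf2 hfix v, ← mul_inv_rev, inv_inj] at h
      exact h.symm
    have heY : φ (rotAt 2) ∈ Y := mem_inf.2 ⟨hTO (mem_map_of_mem _ (rotAt_mem 2)),
      mem_centralizer_singleton_iff.2 ((Commute.map (funext fun k => by
        fin_cases k <;> simp [hp2]) φ).eq)⟩
    intro y hy
    refine hOM (mem_inf.2 ⟨(mem_inf.1 hy).1, hC _ (mem_map_of_mem _ (rotAt_mem 2))
      (fun h => rotAt_ne_one _ (hinj (h.trans (map_one φ).symm))) (mem_centralizer_singleton_iff.2 ?_)⟩)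
    exact congrArg Subtype.val (hab ⟨y, hy⟩ ⟨_, heY⟩)
  refine eq_top_of_le_card _ ?_
  have hWc := hcomp.card_mul
  have hP8 : Nat.card (P : Subgroup W) = 2 ^ 3 := hP.symm ▸ hD8
  rw [← hWc, hP8, Nat.card_congr (MonoidHom.ofInjective hinj).toEquiv.symm,
    Nat.card_eq_fintype_card (α := Fin 3 → P3)]
  refine le_trans (Nat.mul_le_mul_right _ ((card_le_of_le hOT).trans (le_of_eq ?_))) ?_
    (b := 27 * 2 ^ 3)
  · rw [card_map_of_injective hinj, card_altTriples]
  · simp [Fintype.card_perm, show Nat.factorial 3 = 6 from rfl]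

theorem coord_mul : ∀ a b : P3,
    ((if Perm.sign (a * b) = 1 then (a * b) 0 else (a * b) 1 : Fin 3) : ℕ) =
      (((if Perm.sign a = 1 then a 0 else a 1 : Fin 3) : ℕ) +
        (if Perm.sign a = 1 then 1 else 2) * ((if Perm.sign b = 1 then b 0 else b 1 : Fin 3) : ℕ)) % 3 := by
  decide

/-- The homomorphism on one factor. -/
theorem exists_factor_hom {c s : W} (hc : c ^ 3 = 1) (hs : s ^ 2 = 1) (hinv : s * c * s = c⁻¹) :
    ∃ f : P3 →* W, f rot = c ∧ f swp = s ∧ ∀ z, Commute z c → Commute z s → ∀ a, Commute z (f a) := by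
  let k : P3 → ℕ := fun a => ((if Perm.sign a = 1 then a 0 else a 1 : Fin 3) : ℕ)
  let e : P3 → ℕ := fun a => if Perm.sign a = 1 then 0 else 1
  have hk : ∀ a b, k (a * b) = (k a + (if Perm.sign a = 1 then 1 else 2) * k b) % 3 := coord_mul
  have he : ∀ a b, e (a * b) = (e a + e b) % 2 := fun a b => by
    simp only [e, map_mul]
    rcases Int.units_eq_one_or (Perm.sign a) with h | h <;>
      rcases Int.units_eq_one_or (Perm.sign b) with h' | h' <;> simp [h, h']
  have hsc : ∀ n : ℕ, s * c ^ n = c ^ (2 * n) * s := by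
    intro n
    have h1 : s * c * s⁻¹ = c ^ 2 := by
      rw [inv_eq_of_mul_eq_one_right (by rw [← pow_two, hs] : s * s = 1), hinv]
      exact inv_eq_of_mul_eq_one_right (by rw [← pow_succ', hc])
    rw [pow_mul, ← h1, conj_pow, inv_mul_cancel_right]
  let f : P3 →* W := MonoidHom.mk' (fun a => c ^ k a * s ^ e a) fun a b => by
    rw [hk, he, ← pow_eq_pow_mod _ hc, ← pow_eq_pow_mod _ hs]
    rcases Int.units_eq_one_or (Perm.sign a) with h | h
    · simp only [e, if_pos h, zero_add, pow_zero, mul_one, one_mul]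
      rw [pow_add, mul_assoc]
    · have h' : ¬ Perm.sign a = 1 := by rw [h]; decide
      simp only [e, if_neg h', pow_add, pow_one]
      rw [mul_assoc, mul_assoc, ← mul_assoc (c ^ (2 * k b)) s, ← hsc]
      group
  refine ⟨f, ?_, ?_, fun z hzc hzs a => (hzc.pow_right _).mul_right (hzs.pow_right _)⟩
  · show c ^ k rot * s ^ e rot = c
    rw [show k rot = 1 by decide, show e rot = 0 by decide, pow_one, pow_zero, mul_one]
  · show c ^ k swp * s ^ e swp = s
    rw [show k swp = 0 by decide, show e swp = 1 by decide, pow_one, pow_zero, one_mul]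

/-- B1: the monomial group with all the local subgroups is the whole group. -/
theorem eq_top_of_eight (M : Subgroup W) (c σ : Fin 3 → W) (hc3 : ∀ i, c i ^ 3 = 1)
    (hσ2 : ∀ i, σ i ^ 2 = 1) (hcc : ∀ i j, Commute (c i) (c j)) (hσσ : ∀ i j, Commute (σ i) (σ j))
    (hinv : ∀ i, σ i * c i * σ i = (c i)⁻¹) (hfix : ∀ i j, i ≠ j → σ i * c j * σ i = c j)
    (h27 : Nat.card (closure (Set.range c)) = 27) (h216 : Nat.card M = 216)
    (hgen : M = closure (Set.range c ∪ Set.range σ))
    (hN : normalizer ((closure (Set.range c) : Subgroup W) : Set W) ≤ M)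
    (hC : ∀ e ∈ closure (Set.range c), e ≠ 1 → centralizer ({e} : Set W) ≤ M) : M = ⊤ := by
  classical
  choose f hfr hfs hfc using fun i => exists_factor_hom (hc3 i) (hσ2 i) (hinv i)
  have hσc : ∀ i j, i ≠ j → Commute (σ i) (c j) := fun i j hij => by
    have hi : σ i * σ i = 1 := by rw [← pow_two, hσ2]
    calc σ i * c j = σ i * c j * (σ i * σ i) := by rw [hi, mul_one]
      _ = (σ i * c j * σ i) * σ i := by group
      _ = c j * σ i := by rw [hfix i j hij]
  let φ : (Fin 3 → P3) →* W := MonoidHom.noncommPiCoprod f fun i j hij a b => by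
    refine (hfc j (f i a) ?_ ?_ b)
    · exact (hfc i (c j) (hcc j i) (hσc i j hij).symm a).symm
    · exact (hfc i (σ j) (hσc j i hij.symm) (hσσ j i) a).symm
  have hφc : ∀ i, φ (rotAt i) = c i := fun i => by
    exact (MonoidHom.noncommPiCoprod_mulSingle (ϕ := f) i rot).trans (hfr i)
  have hφσ : ∀ i, φ (swpAt i) = σ i := fun i => by
    exact (MonoidHom.noncommPiCoprod_mulSingle (ϕ := f) i swp).trans (hfs i)
  have hle : M ≤ φ.range := hgen ▸ (closure_le _).2 (by
    rintro _ (⟨i, rfl⟩ | ⟨i, rfl⟩)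
    · exact ⟨_, hφc i⟩
    · exact ⟨_, hφσ i⟩)
  have h216' : Nat.card (Fin 3 → P3) = 216 := by
    rw [Nat.card_pi, Fin.prod_univ_three, card_P3]; all_goals norm_num
  have hr : Nat.card φ.range ≤ 216 := h216' ▸
    Nat.card_le_card_of_surjective φ.rangeRestrict φ.rangeRestrict_surjective
  have hMr : M = φ.range := eq_of_le_of_card_ge hle (h216 ▸ hr)
  have hinj : Function.Injective φ := by
    have hb := (Nat.bijective_iff_surjective_and_card φ.rangeRestrict).2
      ⟨φ.rangeRestrict_surjective, by rw [h216', ← hMr, h216]⟩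
    exact fun a b h => hb.1 (Subtype.ext h)
  have hbase : closure (Set.range c) = base φ := eq_of_le_of_card_ge ((closure_le _).2 (by
      rintro _ ⟨i, rfl⟩
      exact ⟨_, rotAt_mem i, hφc i⟩))
    (by rw [h27, card_map_of_injective hinj, card_altTriples])
  rw [hbase] at hN hC
  rw [hMr] at hN hC ⊢
  exact range_eq_top_of_model hinj hN hC

end Model

end Cfsg.Agent.OEightThree
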